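import Groth.Agent.Chev.Descent
import Groth.Agent.S14584
import Groth.Agent.AdjRep.ToGL

/-!
# The largest connected affine subgroup
-/

set_option autoImplicit false
set_option backward.isDefEq.respectTransparency false

universe u

open CategoryTheory CategoryTheory.Limits MonoidalCategory CartesianMonoidalCategory MonObj GrpObj AlgebraicGeometry

noncomputable section

namespace Groth.Agent.Chev

variable {k : Type u} [Field k]

/-- Homomorphisms from connected affine groups factor through a kernel with proper quotient. -/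
theorem exists_factor_affPart {G L Q H : Over (Spec (CommRingCat.of k))} [GrpObj G] [GrpObj L] [GrpObj Q] [GrpObj H]
    {l : L ⟶ G} {q : G ⟶ Q} [IsMonHom q] [IsProper Q.hom] (hker : AlgGrp.IsKernel l q) (h : H ⟶ G) [IsMonHom h]
    [Smooth H.hom] [IsAffine H.left] [ConnectedSpace H.left] : ∃ f : H ⟶ L, f ≫ l = h :=
  ⟨hker.lift h (toUnit H) (by rw [eq_one_of_affine_of_proper' (h ≫ q), Hom.one_def]), hker.lift_fst _ _ _⟩

/-- A lift of a homomorphism through a closed subgroup is a homomorphism. -/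
theorem isMonHom_of_comp {A B C : Over (Spec (CommRingCat.of k))} [GrpObj A] [GrpObj B] [GrpObj C] (f : A ⟶ B)
    (g : B ⟶ C) [IsMonHom g] [Mono g] [IsMonHom (f ≫ g)] : IsMonHom f := by
  have h1 := IsMonHom.one_hom (f ≫ g)
  have h2 := IsMonHom.mul_hom (f ≫ g)
  refine ⟨?_, ?_⟩
  · rw [← cancel_mono g, Category.assoc, h1, IsMonHom.one_hom g]
  · rw [← cancel_mono g, Category.assoc, Category.assoc, h2, IsMonHom.mul_hom g,
      MonoidalCategory.tensorHom_comp_tensorHom_assoc]

/-- Conjugation by a rational point. -/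
def conjPt {G : Over (Spec (CommRingCat.of k))} [GrpObj G] (z : RP G) : G ⟶ G :=
  (toUnit G ≫ z) * 𝟙 G * (toUnit G ≫ z)⁻¹

theorem comp_conjPt {G : Over (Spec (CommRingCat.of k))} [GrpObj G] (z : RP G) {T : Over (Spec (CommRingCat.of k))}
    (x : T ⟶ G) : x ≫ conjPt z = (toUnit T ≫ z) * x * (toUnit T ≫ z)⁻¹ := by
  simp only [conjPt, MonObj.comp_mul, GrpObj.comp_inv, Category.comp_id, comp_toUnit_assoc]

instance isMonHom_conjPt {G : Over (Spec (CommRingCat.of k))} [GrpObj G] (z : RP G) : IsMonHom (conjPt z) := by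
  refine ⟨?_, ?_⟩
  · rw [show η[G] = (1 : 𝟙_ _ ⟶ G) by rw [Hom.one_def, toUnit_unit, Category.id_comp], comp_conjPt]
    simp
  · rw [show μ[G] = fst G G * snd G G from Eq.symm (by rw [Hom.mul_def, lift_fst_snd, Category.id_comp]),
      MonObj.comp_mul, comp_conjPt]
    simp only [← Category.assoc, tensorHom_fst, tensorHom_snd]
    rw [comp_conjPt, comp_conjPt]
    group

/-- The preimage of a connected affine normal subgroup of a quotient by one is one. -/
theorem exists_preimage {G L Q H : Over (Spec (CommRingCat.of k))} [GrpObj G] [GrpObj L] [GrpObj Q] [GrpObj H]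
    [Smooth G.hom] [QuasiCompact G.hom] [Smooth L.hom] [IsAffine L.left] [ConnectedSpace L.left]
    [LocallyOfFiniteType Q.hom] [QuasiCompact Q.hom] (l : L ⟶ G) [IsMonHom l] [IsClosedImmersion l.left]
    (q : G ⟶ Q) [IsMonHom q] [Flat q.left] [Surjective q.left] (hker : AlgGrp.IsKernel l q)
    (h : H ⟶ Q) [IsMonHom h] [IsClosedImmersion h.left] [Smooth H.hom] [IsAffine H.left] [ConnectedSpace H.left]
    (hhn : AlgGrp.IsNormalHom h) :
    ∃ (P : Over (Spec (CommRingCat.of k))) (_ : GrpObj P) (iP : P ⟶ G) (p : P ⟶ H), IsMonHom iP ∧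
      IsClosedImmersion iP.left ∧ Smooth P.hom ∧ IsAffine P.left ∧ ConnectedSpace P.left ∧ AlgGrp.IsNormalHom iP ∧
      Surjective p.left ∧ p ≫ h = iP ≫ q := by
  haveI : Mono h := GrpField.SchImg.mono_of_isClosedImmersion h
  haveI : IsSeparated G.hom := GrpField.isSeparated_hom G
  let P : Over (Spec (CommRingCat.of k)) := Over.mk (pullback.fst q.left h.left ≫ G.hom)
  let iP : P ⟶ G := Over.homMk (pullback.fst q.left h.left) rfl
  let p : P ⟶ H := Over.homMk (pullback.snd q.left h.left) (by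
    show pullback.snd q.left h.left ≫ H.hom = pullback.fst q.left h.left ≫ G.hom
    rw [← Over.w h, ← pullback.condition_assoc, Over.w q])
  haveI : IsClosedImmersion iP.left := inferInstanceAs (IsClosedImmersion (pullback.fst q.left h.left))
  haveI : Mono iP := GrpField.SchImg.mono_of_isClosedImmersion iP
  have hp : p ≫ h = iP ≫ q := Over.OverMorphism.ext pullback.condition.symm
  have hsq : IsPullback iP p q h := by
    refine IsPullback.mk' hp.symm (fun T φ φ' e₁ _ => (cancel_mono iP).1 e₁) fun T a b e => ?_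
    refine ⟨Over.homMk (pullback.lift a.left b.left (congrArg (fun x => x.left) e)) ?_,
      Over.OverMorphism.ext (pullback.lift_fst _ _ _), Over.OverMorphism.ext (pullback.lift_snd _ _ _)⟩
    show pullback.lift _ _ _ ≫ pullback.fst _ _ ≫ G.hom = _
    rw [pullback.lift_fst_assoc, Over.w]
  haveI : Surjective p.left := MorphismProperty.pullback_snd _ _ ‹Surjective q.left›
  haveI : Flat p.left := MorphismProperty.pullback_snd _ _ ‹Flat q.left›
  obtain ⟨hP, hPm⟩ := GrpField.SchImg.exists_grpObj_of_div iP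
    ⟨hsq.lift η[G] η[H] (by rw [IsMonHom.one_hom, IsMonHom.one_hom]), hsq.lift_fst _ _ _⟩
    fun T a b => ⟨hsq.lift ((a ≫ iP)⁻¹ * (b ≫ iP)) ((a ≫ p)⁻¹ * (b ≫ p)) (by
      rw [MonObj.mul_comp, GrpObj.inv_comp, MonObj.mul_comp, GrpObj.inv_comp]
      simp only [Category.assoc, hp]), hsq.lift_fst _ _ _⟩
  haveI := hPm
  haveI : IsMonHom (p ≫ h) := by rw [hp]; infer_instance
  haveI := isMonHom_of_comp p h
  have hPn : AlgGrp.IsNormalHom iP := fun T g x => by
    obtain ⟨y, hy⟩ := hhn T (g ≫ q) (x ≫ p)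
    exact ⟨hsq.lift _ y (by rw [MonObj.mul_comp, MonObj.mul_comp, GrpObj.inv_comp, Category.assoc, ← hp,
      ← Category.assoc, hy]), (hsq.lift_fst _ _ _).symm⟩
  haveI : LocallyOfFiniteType P.hom := by rw [← Over.w iP]; infer_instance
  haveI : QuasiCompact P.hom := by rw [← Over.w iP]; infer_instance
  haveI : QuasiCompact H.hom := by
    haveI : IsAffineHom H.hom := isAffineHom_of_isAffine H.hom
    infer_instance
  haveI : QuasiCompact L.hom := by
    haveI : IsAffineHom L.hom := isAffineHom_of_isAffine L.hom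
    infer_instance
  have hlq : l ≫ q = 1 := by rw [hker.w, Hom.one_def]
  let l' : L ⟶ P := hsq.lift l 1 (by rw [hlq, MonObj.one_comp])
  have hl' : l' ≫ iP = l := hsq.lift_fst _ _ _
  haveI : IsMonHom (l' ≫ iP) := by rw [hl']; infer_instance
  haveI := isMonHom_of_comp l' iP
  have hker' : AlgGrp.IsKernel l' p := by
    have hlp : l' ≫ p = toUnit L ≫ η[H] := by rw [hsq.lift_snd, Hom.one_def]
    refine IsPullback.mk' hlp (fun T φ φ' e₁ _ => hker.hom_ext (by rw [← hl', ← Category.assoc, e₁, Category.assoc])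
      (toUnit_unique _ _)) fun T a b e => ?_
    have e' : (a ≫ iP) ≫ q = toUnit T ≫ η[Q] := by
      rw [Category.assoc, ← hp, ← Category.assoc, e, Category.assoc, IsMonHom.one_hom, toUnit_unique b (toUnit T)]
    exact ⟨hker.lift _ _ e', by rw [← cancel_mono iP, Category.assoc, hl', hker.lift_fst], toUnit_unique _ _⟩
  obtain ⟨h1, h2, h3⟩ := S7982.result k L P H l' p hker'
  exact ⟨P, hP, iP, p, hPm, inferInstance, h2 inferInstance inferInstance, h1 inferInstance inferInstance,
    h3 inferInstance inferInstance, hPn, inferInstance, hp⟩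

variable [IsAlgClosed k]

/-- The largest connected affine normal subgroup of a possibly disconnected group. -/
theorem exists_affPart (G : Over (Spec (CommRingCat.of k))) [GrpObj G] [Smooth G.hom] [QuasiCompact G.hom] :
    ∃ (N : Over (Spec (CommRingCat.of k))) (_ : GrpObj N) (i : N ⟶ G), IsMonHom i ∧ IsClosedImmersion i.left ∧
      Smooth N.hom ∧ ConnectedSpace N.left ∧ IsAffine N.left ∧ AlgGrp.IsNormalHom i ∧
      ∀ (H : Over (Spec (CommRingCat.of k))) [GrpObj H] (h : H ⟶ G) [IsMonHom h]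
        [Smooth H.hom] [ConnectedSpace H.left] [IsAffine H.left], ∃ f : H ⟶ N, f ≫ i = h := by
  obtain ⟨G₀, hG₀, c, hcm, hcc, hcs, hirr, hcr⟩ := exists_component G
  haveI := hcm; haveI := hcc; haveI := hcs; haveI := hirr
  haveI : QuasiCompact G₀.hom := by rw [← Over.w c]; infer_instance
  haveI : ConnectedSpace G₀.left := inferInstance
  haveI : Mono c := GrpField.SchImg.mono_of_isClosedImmersion c
  obtain ⟨L, hL, l, Q, hQ, q, hlm, hlc, hla, hls, hlcon, -, hqm, -, -, hker, hQp, -, -⟩ := exists_structure G₀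
  haveI := hlm; haveI := hlc; haveI := hla; haveI := hls; haveI := hlcon; haveI := hqm; haveI := hQp
  have huniv : ∀ (H : Over (Spec (CommRingCat.of k))) [GrpObj H] (h : H ⟶ G) [IsMonHom h]
      [Smooth H.hom] [ConnectedSpace H.left] [IsAffine H.left], ∃ f : H ⟶ L, f ≫ l ≫ c = h := by
    intro H _ h _ _ _ _
    haveI : IsReduced H.left := isReduced_of_smooth H
    obtain ⟨h₀, hh₀⟩ := exists_lift_range h c (by
      rw [hcr]
      refine (isConnected_range h.left.continuous).subset_connectedComponent ⟨SubGen.rpt (1 : RP H), ?_⟩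
      rw [SubGen.map_rpt, MonObj.one_comp]
      exact GrpComp.one_apply _)
    haveI : IsMonHom (h₀ ≫ c) := by rw [hh₀]; infer_instance
    haveI := isMonHom_of_comp h₀ c
    obtain ⟨f, hf⟩ := exists_factor_affPart hker h₀
    exact ⟨f, by rw [reassoc_of% hf, hh₀]⟩
  haveI : IsClosedImmersion (l ≫ c).left := by rw [Over.comp_left]; infer_instance
  refine ⟨L, hL, l ≫ c, inferInstance, inferInstance, hls, hlcon, hla, ?_,
    fun H _ h _ _ _ _ => huniv H h⟩
  haveI : Smooth (G ⊗ L).hom := by
    haveI : Smooth (Limits.pullback.fst G.hom L.hom) := MorphismProperty.pullback_fst _ _ hls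
    exact inferInstanceAs (Smooth (Limits.pullback.fst G.hom L.hom ≫ G.hom))
  haveI : IsReduced (G ⊗ L).left := isReduced_of_smooth (G ⊗ L)
  haveI : JacobsonSpace (G ⊗ L).left := LocallyOfFiniteType.jacobsonSpace (G ⊗ L).hom
  let w : G ⊗ L ⟶ G := fst G L * (snd G L ≫ l ≫ c) * (fst G L)⁻¹
  have hw : Set.range w.left ⊆ Set.range (l ≫ c).left := by
    have hcl : IsClosed (w.left ⁻¹' Set.range (l ≫ c).left) :=
      (l ≫ c).left.isClosedEmbedding.isClosed_range.preimage w.left.continuous
    suffices Set.univ ⊆ w.left ⁻¹' Set.range (l ≫ c).left by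
      rintro _ ⟨x, rfl⟩; exact this (Set.mem_univ x)
    rw [← closure_closedPoints (X := (G ⊗ L).left)]
    refine closure_minimal (fun x hx => ?_) hcl
    obtain ⟨z, rfl⟩ := SubGen.exists_rpt hx
    obtain ⟨f, hf⟩ := huniv L ((l ≫ c) ≫ conjPt (z ≫ fst G L))
    refine ⟨SubGen.rpt ((z ≫ snd G L) ≫ f), ?_⟩
    rw [SubGen.map_rpt, SubGen.map_rpt]
    congr 1
    rw [Category.assoc _ f, hf, ← Category.assoc, comp_conjPt, show toUnit (𝟙_ (Over (Spec (CommRingCat.of k)))) = 𝟙 _ from
      toUnit_unique _ _, Category.id_comp]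
    simp only [w, MonObj.comp_mul, GrpObj.comp_inv, Category.assoc]
  obtain ⟨w', hw'⟩ := exists_lift_range w (l ≫ c) hw
  intro T g x
  refine ⟨lift g x ≫ w', ?_⟩
  rw [Category.assoc, hw']
  simp only [w, MonObj.comp_mul, GrpObj.comp_inv, lift_fst, lift_snd_assoc, Category.assoc]

/-- A smooth connected group with one point is trivial. -/
theorem isIso_hom_of_subsingleton (H : Over (Spec (CommRingCat.of k))) [GrpObj H] [Smooth H.hom]
    [Subsingleton H.left] : IsIso H.hom := by
  haveI := GrpField.isClosedImmersion_eta H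
  haveI : IsReduced H.left := isReduced_of_smooth H
  haveI : Surjective η[H].left :=
    ⟨fun y => ⟨(IsLocalRing.closedPoint k : (Spec (CommRingCat.of k)).carrier), Subsingleton.elim _ _⟩⟩
  haveI := isIso_of_isClosedImmersion_of_surjective η[H].left
  haveI : IsIso (η[H].left ≫ H.hom) := by
    rw [Over.w η[H]]; exact inferInstanceAs (IsIso (𝟙 (Spec (CommRingCat.of k))))
  exact IsIso.of_isIso_comp_left η[H].left H.hom

/-- The quotient by the largest connected affine normal subgroup has none. -/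
theorem isIso_of_quotient_affPart {G N Q H : Over (Spec (CommRingCat.of k))} [GrpObj G] [GrpObj N] [GrpObj Q] [GrpObj H]
    [Smooth G.hom] [QuasiCompact G.hom] [Smooth N.hom] [IsAffine N.left] [ConnectedSpace N.left]
    [LocallyOfFiniteType Q.hom] [QuasiCompact Q.hom] (i : N ⟶ G) [IsMonHom i] [IsClosedImmersion i.left]
    (hmax : ∀ (N' : Over (Spec (CommRingCat.of k))) [GrpObj N'] (i' : N' ⟶ G) [IsMonHom i'] [IsClosedImmersion i'.left]
      [Smooth N'.hom] [ConnectedSpace N'.left] [IsAffine N'.left], AlgGrp.IsNormalHom i' → ∃ f : N' ⟶ N, f ≫ i = i')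
    (q : G ⟶ Q) [IsMonHom q] [Flat q.left] [Surjective q.left] (hker : AlgGrp.IsKernel i q)
    (h : H ⟶ Q) [IsMonHom h] [IsClosedImmersion h.left] [Smooth H.hom] [IsAffine H.left] [ConnectedSpace H.left]
    (hhn : AlgGrp.IsNormalHom h) : IsIso H.hom := by
  obtain ⟨P, hP, iP, p, hPm, hPc, hPs, hPa, hPcon, hPn, hps, hp⟩ := exists_preimage i q hker h hhn
  haveI := hPm; haveI := hPc; haveI := hPs; haveI := hPa; haveI := hPcon; haveI := hps
  obtain ⟨f, hf⟩ := hmax P iP hPn
  haveI : Mono h := GrpField.SchImg.mono_of_isClosedImmersion h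
  have hp1 : p = 1 := by
    rw [← cancel_mono h, hp, ← hf, Category.assoc, hker.w, comp_toUnit_assoc, ← Hom.one_def, MonObj.one_comp]
  haveI : Subsingleton H.left := by
    refine ⟨fun a b => ?_⟩
    have key : ∀ a : H.left, a = SubGen.rpt (1 : RP H) := fun a => by
      obtain ⟨x, rfl⟩ := p.left.surjective a
      rw [hp1, Hom.one_def, Over.comp_left, Scheme.Hom.comp_apply]
      exact (SubGen.apply_eq_rpt (η[H] : RP H) _).trans (by rw [Hom.one_def, toUnit_unit, Category.id_comp])
    rw [key a, key b]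
  exact isIso_hom_of_subsingleton H

/-- The quotient by the affine part is the Albanese morphism. -/
theorem existsUnique_desc_affPart {G N A B : Over (Spec (CommRingCat.of k))} [GrpObj G] [GrpObj N] [GrpObj A] [GrpObj B]
    [Smooth G.hom] [QuasiCompact G.hom] [ConnectedSpace G.left] [Smooth N.hom] [IsAffine N.left] [ConnectedSpace N.left]
    (i : N ⟶ G) [IsMonHom i] [IsProper A.hom] (α : G ⟶ A) [IsMonHom α] [Surjective α.left] [Flat α.left]
    (hker : AlgGrp.IsKernel i α) [IsProper B.hom] [Smooth B.hom] [ConnectedSpace B.left] (f : G ⟶ B) :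
    ∃! g : A ⟶ B, α ≫ g = f := by
  haveI := geometricallyIntegral_of_group (A := G)
  haveI := geometricallyIntegral_of_group (A := B)
  haveI : IsCommMonObj B := isCommMonObj_of_isProper_of_geometricallyIntegral B
  haveI : IsSeparated G.hom := GrpField.isSeparated_hom G
  haveI : QuasiCompact α.left := by
    haveI : QuasiCompact (α.left ≫ A.hom) := by rw [Over.w]; infer_instance
    exact QuasiCompact.of_comp _ A.hom
  haveI : EffectiveEpi α.left := inferInstance
  let c : RP B := η[G] ≫ f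
  let φ : G ⟶ B := f * (toUnit G ≫ c)⁻¹
  have hφ : ∀ {T : Over (Spec (CommRingCat.of k))} (g : T ⟶ G), g ≫ φ = (g ≫ f) * (toUnit T ≫ c)⁻¹ := fun g => by
    rw [MonObj.comp_mul, GrpObj.comp_inv, comp_toUnit_assoc]
  have h1 : ∀ {T : Over (Spec (CommRingCat.of k))}, (1 : T ⟶ G) ≫ φ = 1 := by
    intro T; rw [hφ, Hom.one_def, Category.assoc]; exact (mul_inv_cancel _).trans Hom.one_def
  have hη : lift η[G] η[G] ≫ μ[G] = (1 : 𝟙_ _ ⟶ G) := by
    rw [← Hom.mul_def, show η[G] = (1 : 𝟙_ _ ⟶ G) by rw [Hom.one_def, toUnit_unit, Category.id_comp], _root_.mul_one]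
  have hl : lift (toUnit G ≫ η[G]) (𝟙 G) ≫ μ[G] = 𝟙 G := by rw [← Hom.mul_def, ← Hom.one_def, _root_.one_mul]
  have hr : lift (𝟙 G) (toUnit G ≫ η[G]) ≫ μ[G] = 𝟙 G := by rw [← Hom.mul_def, ← Hom.one_def, _root_.mul_one]
  have hmul := Groth.Agent.S14584.result k G G B η η (μ[G] ≫ φ)
  rw [reassoc_of% hη, reassoc_of% hl, reassoc_of% hr, h1, MonObj.comp_one, inv_one, _root_.one_mul,
    _root_.mul_comm] at hmul
  haveI : IsMonHom φ := by
    refine ⟨?_, ?_⟩
    · rw [show η[G] = (1 : 𝟙_ _ ⟶ G) by rw [Hom.one_def, toUnit_unit, Category.id_comp], h1, Hom.one_def,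
        toUnit_unit, Category.id_comp]
    · rw [hmul, Hom.mul_def]
      congr 1
  obtain ⟨d, hd⟩ := AdjRep.exists_desc i α hker φ (eq_one_of_affine_of_proper' (i ≫ φ))
  refine ⟨d * (toUnit A ≫ c), ?_, fun g hg => ?_⟩
  · show α ≫ (d * (toUnit A ≫ c)) = f
    rw [MonObj.comp_mul, hd, comp_toUnit_assoc, inv_mul_cancel_right]
  · haveI : Epi α := (Over.forget _).epi_of_epi_map (inferInstanceAs (Epi α.left))
    rw [← cancel_epi α, hg, MonObj.comp_mul, hd, comp_toUnit_assoc, inv_mul_cancel_right]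

end Groth.Agent.Chev
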