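import Groth.Agent.Chev.FieldDefn
import Groth.Agent.Chev.AffPart
import Groth.Agent.AlgSpLib.PureMono
import Groth.Agent.AlgSpLib.FibreNoeth

/-!
# Descent of closed subgroups to a finite level
-/

set_option autoImplicit false
set_option backward.isDefEq.respectTransparency false

universe u

open CategoryTheory CategoryTheory.Limits MonoidalCategory CartesianMonoidalCategory MonObj GrpObj AlgebraicGeometry
open scoped CategoryTheory.Obj

noncomputable section

namespace Groth.Agent.Chev

open AVDeg (bcK specMap)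

/-- Flat surjective quasi-compact morphisms are schematically dominant. -/
theorem isSchemeTheoreticallyDominant_of_flat {X Y : Scheme.{u}} (f : X ⟶ Y) [Flat f] [Surjective f]
    [QuasiCompact f] : IsSchemeTheoreticallyDominant f := by
  refine (isSchemeTheoreticallyDominant_iff f).2 ?_
  refine Scheme.IdealSheafData.ext (funext fun U => ?_)
  rw [Scheme.Hom.ker_apply, Scheme.IdealSheafData.ideal_bot, Pi.bot_apply, eq_bot_iff]
  intro s hs
  rw [Ideal.mem_bot]
  refine TopCat.Presheaf.section_ext Y.sheaf U.1 s 0 fun y hy => ?_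
  obtain ⟨x, rfl⟩ := f.surjective y
  show Y.presheaf.germ U.1 (f x) hy s = Y.presheaf.germ U.1 (f x) hy 0
  rw [map_zero]
  have h1 : (Y.presheaf.germ U.1 (f x) hy ≫ f.stalkMap x).hom s = 0 := by
    rw [Scheme.Hom.germ_stalkMap, CommRingCat.comp_apply]
    exact (congrArg _ hs).trans (map_zero _)
  have hinj : Function.Injective (f.stalkMap x).hom := by
    algebraize [(f.stalkMap x).hom]
    haveI : Module.FaithfullyFlat (Y.presheaf.stalk (f x)) (X.presheaf.stalk x) := by
      haveI : Module.Flat (Y.presheaf.stalk (f x)) (X.presheaf.stalk x) := Flat.stalkMap f x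
      haveI : IsLocalHom (algebraMap (Y.presheaf.stalk (f x)) (X.presheaf.stalk x)) :=
        inferInstanceAs (IsLocalHom (f.stalkMap x).hom)
      exact Module.FaithfullyFlat.of_flat_of_isLocalHom
    exact FaithfulSMul.algebraMap_injective (Y.presheaf.stalk (f x)) (X.presheaf.stalk x)
  exact hinj (h1.trans (map_zero _).symm)

/-- Factorisation through a closed subscheme descends along schematically dominant morphisms. -/
theorem exists_factor_of_schDom {Z Y T T' : Scheme.{u}} (i : Z ⟶ Y) [IsClosedImmersion i] (d : T ⟶ Y)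
    (h : T' ⟶ T) [IsSchemeTheoreticallyDominant h] (z : T' ⟶ Z) (hz : z ≫ i = h ≫ d) :
    ∃ w : T ⟶ Z, w ≫ i = d := by
  let P := pullback.fst d i
  have hP : P.ker ≤ (𝟙 T : T ⟶ T).ker := by
    refine le_trans ?_ bot_le
    rw [← h.ker_eq_bot]
    conv_rhs => rw [← pullback.lift_fst h z hz.symm]
    exact Scheme.Hom.le_ker_comp _ _
  exact ⟨IsClosedImmersion.lift P (𝟙 T) hP ≫ pullback.snd d i, by
    rw [Category.assoc, ← pullback.condition, IsClosedImmersion.lift_fac_assoc, Category.id_comp]⟩

variable {k : Type u} [Field k] (K : Type u) [Field K] [Algebra k K]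

theorem isSchemeTheoreticallyDominant_fst (X : Over (Spec (CommRingCat.of k))) :
    IsSchemeTheoreticallyDominant (pullback.fst X.hom (specMap k K)) := by
  haveI : Flat (specMap k K) := AlgSpLib.flat_of_field _
  haveI : Flat (pullback.fst X.hom (specMap k K)) := MorphismProperty.pullback_fst _ _ ‹_›
  haveI : QuasiCompact (pullback.fst X.hom (specMap k K)) := MorphismProperty.pullback_fst _ _ inferInstance
  exact isSchemeTheoreticallyDominant_of_flat _

theorem bcMap_fst {A B : Over (Spec (CommRingCat.of k))} (f : A ⟶ B) :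
    ((Over.pullback (specMap k K)).map f).left ≫ pullback.fst B.hom (specMap k K) =
      pullback.fst A.hom (specMap k K) ≫ f.left :=
  pullback.lift_fst _ _ _

/-- Factorisation through a closed subscheme can be checked after a field extension. -/
theorem exists_factor_of_bc {Y Z T : Over (Spec (CommRingCat.of k))} (i : Z ⟶ Y) [IsClosedImmersion i.left]
    (d : T ⟶ Y) (w : (Over.pullback (specMap k K)).obj T ⟶ (Over.pullback (specMap k K)).obj Z)
    (hw : w ≫ (Over.pullback (specMap k K)).map i = (Over.pullback (specMap k K)).map d) :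
    ∃ w₀ : T ⟶ Z, w₀ ≫ i = d := by
  haveI := isSchemeTheoreticallyDominant_fst K T
  obtain ⟨v, hv⟩ := exists_factor_of_schDom i.left d.left (pullback.fst T.hom (specMap k K))
    (w.left ≫ pullback.fst Z.hom (specMap k K)) (by
      rw [Category.assoc, ← bcMap_fst, ← Category.assoc, ← Over.comp_left, hw, bcMap_fst])
  exact ⟨Over.homMk v (by rw [← Over.w i, reassoc_of% hv, Over.w]), Over.OverMorphism.ext hv⟩

/-- A closed subscheme equal to the pullback of its image descends. -/
theorem exists_desc_closed {Y : Over (Spec (CommRingCat.of k))} {Z : Over (Spec (CommRingCat.of K))}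
    (z : Z ⟶ bcK k K Y) [IsClosedImmersion z.left]
    (h : z.left.ker ≤ (z.left.ker.map (pullback.fst Y.hom (specMap k K))).comap (pullback.fst Y.hom (specMap k K))) :
    ∃ (Z₀ : Over (Spec (CommRingCat.of k))) (z₀ : Z₀ ⟶ Y) (e : Z ≅ bcK k K Z₀),
      IsClosedImmersion z₀.left ∧ e.hom ≫ (Over.pullback (specMap k K)).map z₀ = z := by
  let π : (bcK k K Y).left ⟶ Y.left := pullback.fst Y.hom (specMap k K)
  let J := z.left.ker.map π
  let Z₀ : Over (Spec (CommRingCat.of k)) := Over.mk (J.subschemeι ≫ Y.hom)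
  let z₀ : Z₀ ⟶ Y := Over.homMk J.subschemeι rfl
  haveI : IsClosedImmersion z₀.left := inferInstanceAs (IsClosedImmersion J.subschemeι)
  let F := Over.pullback (specMap k K)
  haveI : QuasiCompact z.left := inferInstance
  have hJ : J = (z.left ≫ π).ker := Scheme.IdealSheafData.map_ker z.left π
  have hsq : IsPullback (F.map z₀).left (pullback.fst Z₀.hom (specMap k K)) π z₀.left := by
    refine IsPullback.of_right ?_ (bcMap_fst K z₀) (IsPullback.of_hasPullback Y.hom (specMap k K)).flip
    rw [show (F.map z₀).left ≫ pullback.snd Y.hom (specMap k K) = pullback.snd Z₀.hom (specMap k K) from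
      pullback.lift_snd _ _ _, Over.w z₀]
    exact (IsPullback.of_hasPullback Z₀.hom (specMap k K)).flip
  haveI : IsClosedImmersion (F.map z₀).left :=
    MorphismProperty.of_isPullback (P := @IsClosedImmersion) hsq.flip ‹IsClosedImmersion z₀.left›
  have hker : (F.map z₀).left.ker = J.comap π := by
    conv_rhs => rw [← J.ker_subschemeι, ← Scheme.IdealSheafData.ker_fst_of_isClosedImmersion]
    rw [← hsq.isoPullback_hom_fst, Scheme.Hom.ker_comp_of_isIso]
    rfl
  have heq : (F.map z₀).left.ker = z.left.ker := by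
    rw [hker]; exact le_antisymm (Scheme.IdealSheafData.comap_map_le _ _) h
  haveI := IsClosedImmersion.isIso_lift (F.map z₀).left z.left heq
  let f : Z ⟶ bcK k K Z₀ := Over.homMk (IsClosedImmersion.lift (F.map z₀).left z.left heq.le) (by
    rw [← Over.w (F.map z₀), ← Category.assoc, IsClosedImmersion.lift_fac, Over.w])
  haveI : IsIso f.left := inferInstanceAs (IsIso (IsClosedImmersion.lift (F.map z₀).left z.left heq.le))
  haveI : IsIso ((Over.forget (Spec (CommRingCat.of K))).map f) := ‹IsIso f.left›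
  haveI : IsIso f := isIso_of_reflects_iso f (Over.forget _)
  exact ⟨Z₀, z₀, asIso f, inferInstance, Over.OverMorphism.ext (IsClosedImmersion.lift_fac _ _ _)⟩

theorem bcMap_inv {A B : Over (Spec (CommRingCat.of k))} [GrpObj B] (u : A ⟶ B) :
    (Over.pullback (specMap k K)).map u⁻¹ = ((Over.pullback (specMap k K)).map u)⁻¹ :=
  eq_inv_of_mul_eq_one_left (by rw [← Functor.map_mul, inv_mul_cancel, bcMap_one])

/-- A closed subgroup descends as a subgroup. -/
theorem exists_desc_subgroup {Y : Over (Spec (CommRingCat.of k))} [GrpObj Y]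
    {Z : Over (Spec (CommRingCat.of K))} [GrpObj Z] (z : Z ⟶ bcK k K Y) [IsMonHom z] [IsClosedImmersion z.left]
    (h : z.left.ker ≤ (z.left.ker.map (pullback.fst Y.hom (specMap k K))).comap (pullback.fst Y.hom (specMap k K))) :
    ∃ (Z₀ : Over (Spec (CommRingCat.of k))) (_ : GrpObj Z₀) (z₀ : Z₀ ⟶ Y) (e : Z ≅ bcK k K Z₀),
      IsMonHom z₀ ∧ IsMonHom e.hom ∧ IsClosedImmersion z₀.left ∧
      e.hom ≫ (Over.pullback (specMap k K)).map z₀ = z := by
  obtain ⟨Z₀, z₀, e, hc, he⟩ := exists_desc_closed K z h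
  haveI := hc
  let F := Over.pullback (specMap k K)
  have he' : F.map z₀ = e.inv ≫ z := by rw [Iso.eq_inv_comp]; exact he
  obtain ⟨u, hu⟩ := exists_factor_of_bc K z₀ (1 : 𝟙_ _ ⟶ Y) ((1 : _ ⟶ Z) ≫ e.hom) (by
    rw [Category.assoc, he, MonObj.one_comp, bcMap_one])
  obtain ⟨d, hd⟩ := exists_factor_of_bc K z₀ ((fst Z₀ Z₀ ≫ z₀)⁻¹ * (snd Z₀ Z₀ ≫ z₀))
    (((F.map (fst Z₀ Z₀) ≫ e.inv)⁻¹ * (F.map (snd Z₀ Z₀) ≫ e.inv)) ≫ e.hom) (by
      rw [Category.assoc, he, MonObj.mul_comp, GrpObj.inv_comp, Category.assoc, Category.assoc, ← he',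
        Functor.map_mul, bcMap_inv, F.map_comp, F.map_comp])
  obtain ⟨hgrp, hm⟩ := GrpField.SchImg.exists_grpObj_of_div z₀
    ⟨u, by rw [hu, Hom.one_def, toUnit_unit, Category.id_comp]⟩ fun T k₁ k₂ => ⟨lift k₁ k₂ ≫ d, by
      rw [Category.assoc, hd, MonObj.comp_mul, GrpObj.comp_inv, lift_fst_assoc, lift_snd_assoc]⟩
  haveI := hm
  letI := hgrp
  haveI : IsMonHom (e.hom ≫ F.map z₀) := by rw [he]; infer_instance
  haveI : Mono z := GrpField.SchImg.mono_of_isClosedImmersion z
  haveI : Mono (F.map z₀) := by rw [he']; infer_instance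
  exact ⟨Z₀, hgrp, z₀, e, hm, isMonHom_of_comp e.hom (F.map z₀), hc, he⟩

end Groth.Agent.Chev
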