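import Groth.Agent.Chev.AntiAff
import Groth.Agent.Chev.LevelDesc
import Groth.Agent.Chev.AffPart
import Groth.Agent.GrpField.SchImgSmooth
import Groth.Agent.GrpField.SurjSmooth
import Groth.Agent.GrpField.Irreducible
import Groth.Agent.S7982
import Groth.Agent.RedR1.Surj

/-!
# Largest smooth connected normal subgroups with an extension-stable property
-/

set_option autoImplicit false
set_option backward.isDefEq.respectTransparency false

universe u

open CategoryTheory CategoryTheory.Limits MonoidalCategory CartesianMonoidalCategory MonObj GrpObj AlgebraicGeometry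

noncomputable section

namespace Groth.Agent.Chev

variable {k : Type u} [Field k]

/-- The preimage of a smooth connected normal subgroup of a quotient. -/
theorem exists_preimage_smooth {G L Q H : Over (Spec (CommRingCat.of k))} [GrpObj G] [GrpObj L] [GrpObj Q] [GrpObj H]
    [LocallyOfFiniteType G.hom] [QuasiCompact G.hom] [Smooth L.hom] [ConnectedSpace L.left]
    [LocallyOfFiniteType Q.hom] [QuasiCompact Q.hom] (l : L ⟶ G) [IsMonHom l] [IsClosedImmersion l.left]
    (q : G ⟶ Q) [IsMonHom q] [Flat q.left] [Surjective q.left] (hker : AlgGrp.IsKernel l q)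
    (h : H ⟶ Q) [IsMonHom h] [IsClosedImmersion h.left] [Smooth H.hom] [ConnectedSpace H.left]
    (hhn : AlgGrp.IsNormalHom h) :
    ∃ (P : Over (Spec (CommRingCat.of k))) (_ : GrpObj P) (iP : P ⟶ G) (p : P ⟶ H) (l' : L ⟶ P), IsMonHom iP ∧
      IsClosedImmersion iP.left ∧ Smooth P.hom ∧ ConnectedSpace P.left ∧ AlgGrp.IsNormalHom iP ∧
      IsMonHom p ∧ Flat p.left ∧ Surjective p.left ∧ IsMonHom l' ∧ p ≫ h = iP ≫ q ∧ l' ≫ iP = l ∧
      AlgGrp.IsKernel l' p := by
  haveI : Mono h := GrpField.SchImg.mono_of_isClosedImmersion h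
  haveI : IsSeparated G.hom := GrpField.isSeparated_hom G
  let P : Over (Spec (CommRingCat.of k)) := Over.mk (pullback.fst q.left h.left ≫ G.hom)
  let iP : P ⟶ G := Over.homMk (pullback.fst q.left h.left) rfl
  let p : P ⟶ H := Over.homMk (pullback.snd q.left h.left) (by
    show pullback.snd q.left h.left ≫ H.hom = pullback.fst q.left h.left ≫ G.hom
    rw [← Over.w h, ← pullback.condition_assoc, Over.w q])
  haveI : IsClosedImmersion iP.left := inferInstanceAs (IsClosedImmersion (pullback.fst q.left h.left))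
  haveI : Mono iP := GrpField.SchImg.mono_of_isClosedImmersion iP
  have hp : p ≫ h = iP ≫ q := Over.OverMorphism.ext pullback.condition.symm
  have hsq : IsPullback iP p q h := by
    refine IsPullback.mk' hp.symm (fun T φ φ' e₁ _ => (cancel_mono iP).1 e₁) fun T a b e => ?_
    refine ⟨Over.homMk (pullback.lift a.left b.left (congrArg (fun x => x.left) e)) ?_,
      Over.OverMorphism.ext (pullback.lift_fst _ _ _), Over.OverMorphism.ext (pullback.lift_snd _ _ _)⟩
    show pullback.lift _ _ _ ≫ pullback.fst _ _ ≫ G.hom = _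
    rw [pullback.lift_fst_assoc, Over.w]
  haveI : Surjective p.left := MorphismProperty.pullback_snd _ _ ‹Surjective q.left›
  haveI : Flat p.left := MorphismProperty.pullback_snd _ _ ‹Flat q.left›
  obtain ⟨hP, hPm⟩ := GrpField.SchImg.exists_grpObj_of_div iP
    ⟨hsq.lift η[G] η[H] (by rw [IsMonHom.one_hom, IsMonHom.one_hom]), hsq.lift_fst _ _ _⟩
    fun T a b => ⟨hsq.lift ((a ≫ iP)⁻¹ * (b ≫ iP)) ((a ≫ p)⁻¹ * (b ≫ p)) (by
      rw [MonObj.mul_comp, GrpObj.inv_comp, MonObj.mul_comp, GrpObj.inv_comp]
      simp only [Category.assoc, hp]), hsq.lift_fst _ _ _⟩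
  haveI := hPm
  haveI : IsMonHom (p ≫ h) := by rw [hp]; infer_instance
  haveI := isMonHom_of_comp p h
  have hPn : AlgGrp.IsNormalHom iP := fun T g x => by
    obtain ⟨y, hy⟩ := hhn T (g ≫ q) (x ≫ p)
    exact ⟨hsq.lift _ y (by rw [MonObj.mul_comp, MonObj.mul_comp, GrpObj.inv_comp, Category.assoc, ← hp,
      ← Category.assoc, hy]), (hsq.lift_fst _ _ _).symm⟩
  haveI : LocallyOfFiniteType P.hom := by rw [← Over.w iP]; infer_instance
  haveI : QuasiCompact P.hom := by rw [← Over.w iP]; infer_instance
  haveI : QuasiCompact H.hom := by rw [← Over.w h]; infer_instance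
  haveI : QuasiCompact L.hom := by rw [← Over.w l]; infer_instance
  have hlq : l ≫ q = 1 := by rw [hker.w, Hom.one_def]
  let l' : L ⟶ P := hsq.lift l 1 (by rw [hlq, MonObj.one_comp])
  have hl' : l' ≫ iP = l := hsq.lift_fst _ _ _
  haveI : IsMonHom (l' ≫ iP) := by rw [hl']; infer_instance
  haveI := isMonHom_of_comp l' iP
  have hker' : AlgGrp.IsKernel l' p := by
    have hlp : l' ≫ p = toUnit L ≫ η[H] := by rw [hsq.lift_snd, Hom.one_def]
    refine IsPullback.mk' hlp (fun T φ φ' e₁ _ => hker.hom_ext (by rw [← hl', ← Category.assoc, e₁, Category.assoc])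
      (toUnit_unique _ _)) fun T a b e => ?_
    have e' : (a ≫ iP) ≫ q = toUnit T ≫ η[Q] := by
      rw [Category.assoc, ← hp, ← Category.assoc, e, Category.assoc, IsMonHom.one_hom, toUnit_unique b (toUnit T)]
    exact ⟨hker.lift _ _ e', by rw [← cancel_mono iP, Category.assoc, hl', hker.lift_fst], toUnit_unique _ _⟩
  obtain ⟨-, h2, h3⟩ := S7982.result k L P H l' p hker'
  exact ⟨P, hP, iP, p, l', hPm, inferInstance, h2 inferInstance inferInstance,
    h3 inferInstance inferInstance, hPn, inferInstance, inferInstance, inferInstance, inferInstance, hp, hl', hker'⟩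

/-- The image of a smooth connected normal subgroup in a quotient. -/
theorem exists_image_normal {G H' Q : Over (Spec (CommRingCat.of k))} [GrpObj G] [GrpObj H'] [GrpObj Q]
    [LocallyOfFiniteType G.hom] [QuasiCompact G.hom] [LocallyOfFiniteType Q.hom] [QuasiCompact Q.hom]
    (q : G ⟶ Q) [IsMonHom q] [Flat q.left] [Surjective q.left]
    (j' : H' ⟶ G) [IsMonHom j'] [IsClosedImmersion j'.left] [Smooth H'.hom] [ConnectedSpace H'.left]
    (hn : AlgGrp.IsNormalHom j') :
    ∃ (K : Over (Spec (CommRingCat.of k))) (_ : GrpObj K) (i : K ⟶ Q) (g : H' ⟶ K), IsMonHom i ∧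
      IsClosedImmersion i.left ∧ Smooth K.hom ∧ ConnectedSpace K.left ∧ AlgGrp.IsNormalHom i ∧
      IsMonHom g ∧ Flat g.left ∧ Surjective g.left ∧ g ≫ i = j' ≫ q := by
  haveI : LocallyOfFiniteType H'.hom := by rw [← Over.w j']; infer_instance
  haveI : QuasiCompact H'.hom := by rw [← Over.w j']; infer_instance
  haveI : IsSeparated Q.hom := GrpField.isSeparated_hom Q
  haveI : QuasiCompact q.left := by
    haveI : QuasiCompact (q.left ≫ Q.hom) := by rw [Over.w]; infer_instance
    exact QuasiCompact.of_comp _ Q.hom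
  haveI : QuasiCompact (j' ≫ q).left := by rw [Over.comp_left]; infer_instance
  obtain ⟨K, hK, i, g, him, hgm, hgi, hic, hgd, hgq, hgs⟩ := GrpField.SchImg.exists_image (j' ≫ q)
  haveI := him; haveI := hgm; haveI := hic; haveI := hgd; haveI := hgq; haveI := hgs
  haveI : LocallyOfFiniteType K.hom := by rw [← Over.w i]; infer_instance
  haveI := GrpField.SchImg.geometricallyReduced_of_smooth H'.hom
  haveI := GrpField.SchImg.geometricallyReduced_of_schDom g
  letI : GrpObj (Over.mk K.hom) := hK
  haveI : Smooth K.hom := smooth_of_grpObj K.hom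
  haveI : ConnectedSpace K.left := g.left.surjective.connectedSpace g.left.continuous
  haveI : IsReduced K.left := SmoothRed.isReduced_of_smooth_scheme K.hom
  haveI : Flat g.left := GrpField.flat_of_surjective_reduced g
  refine ⟨K, hK, i, g, him, hic, inferInstance, inferInstance, ?_, hgm, inferInstance, hgs, hgi⟩
  let d : G ⊗ H' ⟶ Q ⊗ K := q ⊗ₘ g
  haveI : IsSchemeTheoreticallyDominant d.left := by
    haveI : Surjective d.left := RedR1.surjective_tensorHom q g
    haveI : Flat d.left := RedR1.flat_tensorHom q g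
    haveI : QuasiCompact (G ⊗ H').hom :=
      inferInstanceAs (QuasiCompact (Limits.pullback.fst G.hom H'.hom ≫ G.hom))
    haveI : IsSeparated K.hom := by rw [← Over.w i]; infer_instance
    haveI : IsSeparated (Q ⊗ K).hom :=
      inferInstanceAs (IsSeparated (Limits.pullback.fst Q.hom K.hom ≫ Q.hom))
    haveI : QuasiCompact d.left := by
      haveI : QuasiCompact (d.left ≫ (Q ⊗ K).hom) := by rw [Over.w d]; infer_instance
      exact QuasiCompact.of_comp _ (Q ⊗ K).hom
    exact isSchemeTheoreticallyDominant_of_flat d.left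
  obtain ⟨w, hw⟩ := hn (G ⊗ H') (fst G H') (snd G H')
  obtain ⟨l, hl⟩ := GrpField.SchImg.exists_factor d i (fst Q K * (snd Q K ≫ i) * (fst Q K)⁻¹) (w ≫ g) (by
    have h1 := congrArg (· ≫ q) hw
    simp only [MonObj.mul_comp, GrpObj.inv_comp, Category.assoc] at h1
    rw [Category.assoc, hgi, ← h1, MonObj.comp_mul, MonObj.comp_mul, GrpObj.comp_inv]
    simp only [d, tensorHom_fst, tensorHom_snd_assoc, hgi])
  intro T x y
  refine ⟨lift x y ≫ l, ?_⟩
  rw [Category.assoc, hl, MonObj.comp_mul, MonObj.comp_mul, GrpObj.comp_inv, lift_fst, lift_snd_assoc]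

/-- The dimension of a group of finite type over any field is finite. -/
theorem exists_natDim' (G : Over (Spec (CommRingCat.of k))) [GrpObj G] [LocallyOfFiniteType G.hom] :
    ∃ d : ℕ, topologicalKrullDim G.left = d := by
  haveI : IsLocallyNoetherian G.left := LocallyOfFiniteType.isLocallyNoetherian G.hom
  haveI : IsSeparated G.hom := GrpField.isSeparated_hom G
  haveI := GrpField.isClosedImmersion_eta G
  let t : (Spec (CommRingCat.of k)).carrier := IsLocalRing.closedPoint k
  let w := η[G].left t
  have hw : IsClosed ({w} : Set G.left) := by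
    rw [show ({w} : Set G.left) = η[G].left '' {t} from Set.image_singleton.symm]
    refine η[G].left.isClosedEmbedding.isClosedMap _ ?_
    rw [show ({t} : Set (Spec (CommRingCat.of k)).carrier) = Set.univ from
      Set.eq_univ_of_forall fun x => Subsingleton.elim (α := PrimeSpectrum k) x t]
    exact isClosed_univ
  rw [← GrpField.coheight_eq_topologicalKrullDim G hw]
  obtain ⟨n, hn⟩ : ∃ n : ℕ, (n : ℕ∞) = Order.coheight w := ENat.ne_top_iff_exists.1 fun ht => by
    have h' := ringKrullDim_stalk_eq_coheight w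
    rw [ht] at h'
    exact (ringKrullDim_lt_top (R := G.left.presheaf.stalk w)).ne h'
  exact ⟨n, by rw [← hn]; rfl⟩

end Groth.Agent.Chev
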