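import Groth.Agent.Chev.SADesc
import Groth.Agent.Chev.LargestNormal
import Groth.Agent.AVDeg.Deg
import Groth.Agent.ClosedRep.GeomIntegral

/-!
# The largest semi-abelian subgroup of a commutative group
-/

set_option autoImplicit false
set_option linter.style.haveILetI false
set_option backward.isDefEq.respectTransparency false
set_option maxHeartbeats 1000000
set_option synthInstance.maxHeartbeats 400000
universe u

open CategoryTheory Limits MonoidalCategory CartesianMonoidalCategory MonObj GrpObj AlgebraicGeometry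
open AlgGrp
open scoped CategoryTheory.Obj

noncomputable section

namespace Groth.Agent.Chev

open AVDeg (bcK specMap)

variable {k : Type u} [Field k]

/-- An extension of semi-abelian varieties is semi-abelian, over any field. -/
theorem isSA_of_extension' {G' G G'' : Over (Spec (CommRingCat.of k))} [GrpObj G'] [GrpObj G] [GrpObj G'']
    [Smooth G'.hom] [QuasiCompact G'.hom] [ConnectedSpace G'.left]
    [Smooth G.hom] [QuasiCompact G.hom] [ConnectedSpace G.left]
    [Smooth G''.hom] [QuasiCompact G''.hom]
    (j : G' ⟶ G) [IsMonHom j] [IsClosedImmersion j.left]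
    (p : G ⟶ G'') [IsMonHom p] [Surjective p.left] [Flat p.left] (hex : AlgGrp.IsKernel j p)
    (h' : IsSA G') (h'' : IsSA G'') : IsSA G := by
  let K := AlgebraicClosure k
  let w := specMap k K
  let F := Over.pullback w
  haveI : Mono j := GrpField.SchImg.mono_of_isClosedImmersion j
  haveI : Smooth (F.obj G').hom := inferInstanceAs (Smooth (pullback.snd G'.hom w))
  haveI : Smooth (F.obj G).hom := inferInstanceAs (Smooth (pullback.snd G.hom w))
  haveI : Smooth (F.obj G'').hom := inferInstanceAs (Smooth (pullback.snd G''.hom w))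
  haveI : QuasiCompact (F.obj G').hom := inferInstanceAs (QuasiCompact (pullback.snd G'.hom w))
  haveI : QuasiCompact (F.obj G).hom := inferInstanceAs (QuasiCompact (pullback.snd G.hom w))
  haveI : QuasiCompact (F.obj G'').hom := inferInstanceAs (QuasiCompact (pullback.snd G''.hom w))
  haveI : ConnectedSpace (F.obj G').left := connectedSpace_bcK K (X := G')
  haveI : ConnectedSpace (F.obj G).left := connectedSpace_bcK K (X := G)
  haveI : IsClosedImmersion (F.map j).left :=
    MorphismProperty.baseChange_map (P := @IsClosedImmersion) w j ‹_›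
  haveI : Surjective (F.map p).left := MorphismProperty.baseChange_map (P := @Surjective) w p ‹_›
  haveI : Flat (F.map p).left := MorphismProperty.baseChange_map (P := @Flat) w p ‹_›
  exact isSA_of_algClosure K G
    (isSA_of_extension (F.map j) (F.map p) (isKernel_bc w j p hex) (h'.bc w) (h''.bc w))

/-- The product of smooth connected groups is connected. -/
theorem connectedSpace_prod (G H : Over (Spec (CommRingCat.of k))) [GrpObj G] [Smooth G.hom] [ConnectedSpace G.left]
    [Smooth H.hom] [ConnectedSpace H.left] : ConnectedSpace (G ⊗ H).left := by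
  haveI : GeometricallyConnected G.hom :=
    Rigid.geometricallyConnected_of_section G.hom η[G].left (Over.w η[G])
  let p := Limits.pullback.snd G.hom H.hom
  haveI : GeometricallyConnected p := inferInstanceAs (GeometricallyConnected (Limits.pullback.snd G.hom H.hom))
  haveI : UniversallyOpen p := inferInstanceAs (UniversallyOpen (Limits.pullback.snd G.hom H.hom))
  exact GeometricallyConnected.connectedSpace (f := p) p.isOpenMap

/-- The product of semi-abelian varieties is semi-abelian. -/
theorem isSA_prod {G H : Over (Spec (CommRingCat.of k))} [GrpObj G] [GrpObj H] [Smooth G.hom] [QuasiCompact G.hom]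
    [ConnectedSpace G.left] [Smooth H.hom] [QuasiCompact H.hom] [ConnectedSpace H.left] (hG : IsSA G) (hH : IsSA H) :
    IsSA (G ⊗ H) := by
  haveI : Smooth (G ⊗ H).hom := inferInstanceAs (Smooth (Limits.pullback.fst G.hom H.hom ≫ G.hom))
  haveI : QuasiCompact (G ⊗ H).hom := inferInstanceAs (QuasiCompact (Limits.pullback.fst G.hom H.hom ≫ G.hom))
  haveI := connectedSpace_prod G H
  let j : G ⟶ G ⊗ H := lift (𝟙 G) (1 : G ⟶ H)
  have hmul : ∀ {Y : Over (Spec (CommRingCat.of k))} (a b : Y ⟶ G), (a * b) ≫ j = (a ≫ j) * (b ≫ j) := by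
    intro Y a b
    apply CartesianMonoidalCategory.hom_ext
    · simp [j, MonObj.mul_comp]
    · simp [j, MonObj.mul_comp]
  haveI : IsMonHom j := by
    refine ⟨?_, ?_⟩
    · apply CartesianMonoidalCategory.hom_ext
      · simp [j]
      · simp [j, Hom.one_def]
    · have h := hmul (fst G G) (snd G G)
      rw [← MonObj.mul_eq_mul] at h
      rw [h, Hom.mul_def, ← tensorHom_fst j j, ← tensorHom_snd j j, ← comp_lift, lift_fst_snd, Category.comp_id]
  haveI : IsSeparated H.hom := GrpField.isSeparated_hom H
  haveI : IsClosedImmersion j.left := by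
    have h : j.left ≫ (fst G H).left = 𝟙 G.left := by rw [← Over.comp_left, lift_fst]; rfl
    haveI : IsSeparated (fst G H).left := inferInstanceAs (IsSeparated (Limits.pullback.fst G.hom H.hom))
    haveI : IsClosedImmersion (j.left ≫ (fst G H).left) := by rw [h]; infer_instance
    exact IsClosedImmersion.of_comp j.left (fst G H).left
  haveI : Surjective (snd G H).left := by
    haveI : Surjective G.hom := ⟨fun x => ⟨η[G].left x, Subsingleton.elim (α := PrimeSpectrum k) _ _⟩⟩
    exact inferInstanceAs (Surjective (Limits.pullback.snd G.hom H.hom))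
  haveI : Flat (snd G H).left := inferInstanceAs (Flat (Limits.pullback.snd G.hom H.hom))
  have hker : AlgGrp.IsKernel j (snd G H) := by
    refine IsPullback.mk' (by simp [j, Hom.one_def]) (fun T a b e₁ _ => ?_) fun T a b e => ?_
    · simpa [j] using congrArg (· ≫ fst G H) e₁
    · refine ⟨a ≫ fst G H, ?_, toUnit_unique _ _⟩
      apply CartesianMonoidalCategory.hom_ext
      · simp [j]
      · simp only [j, comp_lift, lift_snd, MonObj.comp_one, Category.assoc]
        rw [e, toUnit_unique b (toUnit T), Hom.one_def]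
  exact isSA_of_extension' j (snd G H) hker hG hH

/-- The trivial group is semi-abelian. -/
theorem isSA_unit : IsSA (𝟙_ (Over (Spec (CommRingCat.of k)))) := by
  haveI hsm : Smooth (𝟙_ (Over (Spec (CommRingCat.of k)))).hom := inferInstanceAs (Smooth (𝟙 _))
  haveI : IsProper (𝟙_ (Over (Spec (CommRingCat.of k)))).hom := inferInstanceAs (IsProper (𝟙 _))
  haveI : QuasiCompact (𝟙_ (Over (Spec (CommRingCat.of k)))).hom := inferInstanceAs (QuasiCompact (𝟙 _))
  haveI hc : ConnectedSpace (𝟙_ (Over (Spec (CommRingCat.of k)))).left :=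
    inferInstanceAs (ConnectedSpace (PrimeSpectrum k))
  let U := 𝟙_ (Over (Spec (CommRingCat.of k)))
  have htor : Red.IsTorus U := by
    refine isTorus_of_isSplit (𝟙 _) (r := 0) ?_
    obtain ⟨x⟩ := MTBridge.nonempty_DS_iso k (Fin 0 → ℤ)
    let δ : k ≃ₐ[k] MonoidAlgebra k (Multiplicative (Fin 0 → ℤ)) :=
      haveI : Subsingleton (Multiplicative (Fin 0 → ℤ)) := inferInstanceAs (Subsingleton (Fin 0 → ℤ))
      (MonoidAlgebra.uniqueAlgEquiv k (Multiplicative (Fin 0 → ℤ))).symm
    haveI : IsIso (Spec.map (CommRingCat.ofHom (algebraMap k (MonoidAlgebra k (Multiplicative (Fin 0 → ℤ)))))) := by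
      rw [MTBridge.isIso_SpecMap_iff]
      show Function.Bijective (algebraMap k (MonoidAlgebra k (Multiplicative (Fin 0 → ℤ))))
      rw [show ⇑(algebraMap k (MonoidAlgebra k (Multiplicative (Fin 0 → ℤ)))) = ⇑δ from
        funext fun r => (δ.commutes r).symm]
      exact δ.bijective
    let W := MTBridge.specGrp k (MonoidAlgebra k (Multiplicative (Fin 0 → ℤ)))
    haveI : IsIso (toUnit W.X).left := by
      show IsIso (Spec.map (CommRingCat.ofHom (algebraMap k (MonoidAlgebra k (Multiplicative (Fin 0 → ℤ))))))
      infer_instance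
    haveI : IsIso ((Over.forget _).map (toUnit W.X)) := ‹IsIso (toUnit W.X).left›
    haveI : IsIso (toUnit W.X) := isIso_of_reflects_iso _ (Over.forget _)
    haveI : IsMonHom (toUnit W.X) := inferInstance
    haveI : IsMonHom (asIso (toUnit W.X)).hom := inferInstanceAs (IsMonHom (toUnit W.X))
    let e : W ≅ Grp.mk U := Grp.mkIso' (asIso (toUnit W.X))
    exact ⟨bcIdIso U ≪≫ e.symm ≪≫ x.symm⟩
  haveI : Surjective (𝟙 U : U ⟶ U).left := inferInstanceAs (Surjective (𝟙 U.left))
  haveI : Flat (𝟙 U : U ⟶ U).left := inferInstanceAs (Flat (𝟙 U.left))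
  haveI : IsClosedImmersion (𝟙 U : U ⟶ U).left := inferInstanceAs (IsClosedImmersion (𝟙 U.left))
  exact ⟨U, inferInstance, 𝟙 U, U, inferInstance, 𝟙 U, inferInstance, inferInstance, htor, inferInstance,
    inferInstance, inferInstance, IsPullback.mk' (toUnit_unique _ _) (fun T a b e₁ _ => by simpa using e₁)
      (fun T a b _ => ⟨a, Category.comp_id _, toUnit_unique _ _⟩), inferInstance, hsm, hc⟩

/-- A quotient of a commutative group is commutative. -/
theorem isCommMonObj_of_surjective {G Q : Over (Spec (CommRingCat.of k))} [GrpObj G] [GrpObj Q] [IsCommMonObj G]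
    (q : G ⟶ Q) [IsMonHom q] [Flat q.left] [Surjective q.left] [LocallyOfFinitePresentation q.left] :
    IsCommMonObj Q := ⟨by
  obtain ⟨h1, h2, h3⟩ := AVQuot.covering_tensor q q
  haveI := h1; haveI := h2
  haveI := AVQuot.epi_of_covering (q ⊗ₘ q)
  rw [← cancel_epi (q ⊗ₘ q), BraidedCategory.braiding_naturality_assoc, ← IsMonHom.mul_hom q, ← Category.assoc,
    IsCommMonObj.mul_comm]⟩

/-- The dimension of a closed subgroup is bounded by that of the group. -/
theorem dim_le_of_closedImmersion {S G : Over (Spec (CommRingCat.of k))} (s : S ⟶ G) [IsClosedImmersion s.left] :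
    topologicalKrullDim S.left ≤ topologicalKrullDim G.left :=
  s.left.isEmbedding.isInducing.topologicalKrullDim_le

/-- A closed immersion of smooth connected groups of the same dimension is an isomorphism. -/
theorem isIso_of_dim_eq {S I : Over (Spec (CommRingCat.of k))} [GrpObj S] [GrpObj I] [Smooth S.hom] [Smooth I.hom]
    [ConnectedSpace S.left] [ConnectedSpace I.left] [QuasiCompact S.hom] [QuasiCompact I.hom]
    (i : S ⟶ I) [IsMonHom i] [IsClosedImmersion i.left]
    (h : topologicalKrullDim S.left = topologicalKrullDim I.left) : IsIso i := by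
  haveI : GeometricallyConnected S.hom :=
    Rigid.geometricallyConnected_of_section S.hom η[S].left (Over.w η[S])
  haveI : GeometricallyConnected I.hom :=
    Rigid.geometricallyConnected_of_section I.hom η[I].left (Over.w η[I])
  haveI : GeometricallyIntegral S.hom := ClosedRep.GeomIntegral.geometricallyIntegral_of_smooth S.hom
  haveI : GeometricallyIntegral I.hom := ClosedRep.GeomIntegral.geometricallyIntegral_of_smooth I.hom
  haveI := AVDeg.isIntegral_av S
  haveI := AVDeg.isIntegral_av I
  haveI : IsSeparated I.hom := GrpField.isSeparated_hom I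
  haveI : Surjective i.left := GrpField.surjective_of_isFinite i h
  haveI : IsIso i.left := isIso_of_isClosedImmersion_of_surjective i.left
  haveI : IsIso ((Over.forget _).map i) := ‹IsIso i.left›
  exact isIso_of_reflects_iso i (Over.forget _)

/-- **The largest semi-abelian subgroup of a commutative group.** -/
theorem exists_largest_SA (G : Over (Spec (CommRingCat.of k))) [GrpObj G] [IsCommMonObj G]
    [LocallyOfFiniteType G.hom] [QuasiCompact G.hom] :
    ∃ (S : Over (Spec (CommRingCat.of k))) (_ : GrpObj S) (s : S ⟶ G), IsMonHom s ∧ IsClosedImmersion s.left ∧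
      IsSA S ∧ ∀ (S' : Over (Spec (CommRingCat.of k))) [GrpObj S'] (s' : S' ⟶ G) [IsMonHom s'] [IsClosedImmersion s'.left],
        IsSA S' → ∃ g : S' ⟶ S, g ≫ s = s' := by
  classical
  obtain ⟨N, hN⟩ := exists_natDim' G
  let P : ℕ → Prop := fun d => ∃ (S : Over (Spec (CommRingCat.of k))) (_ : GrpObj S) (s : S ⟶ G),
    IsMonHom s ∧ IsClosedImmersion s.left ∧ IsSA S ∧ topologicalKrullDim S.left = d
  have hbdd : ∀ d, P d → d ≤ N := by
    rintro d ⟨S, _, s, -, hs, -, hd⟩
    haveI := hs
    have h := dim_le_of_closedImmersion s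
    rw [hd, hN] at h
    exact_mod_cast h
  have hP0 : ∃ d, P d := by
    haveI : IsSeparated G.hom := GrpField.isSeparated_hom G
    haveI := GrpField.isClosedImmersion_eta G
    haveI : LocallyOfFiniteType (𝟙_ (Over (Spec (CommRingCat.of k)))).hom :=
      inferInstanceAs (LocallyOfFiniteType (𝟙 _))
    obtain ⟨d, hd⟩ := exists_natDim' (𝟙_ (Over (Spec (CommRingCat.of k))))
    exact ⟨d, _, inferInstance, η[G], inferInstance, inferInstance, isSA_unit, hd⟩
  obtain ⟨d₀, hd₀⟩ := hP0
  have hmem : P (sSup {d | P d}) := Nat.sSup_mem ⟨d₀, hd₀⟩ ⟨N, hbdd⟩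
  obtain ⟨S, hS, s, hsm, hsc, hsa, hdim⟩ := hmem
  haveI := hsm; haveI := hsc
  refine ⟨S, hS, s, hsm, hsc, hsa, fun S' _ s' _ _ hsa' => ?_⟩
  haveI : IsSeparated G.hom := GrpField.isSeparated_hom G
  haveI : LocallyOfFiniteType S.hom := by rw [← Over.w s]; infer_instance
  haveI : QuasiCompact S.hom := by rw [← Over.w s]; infer_instance
  haveI : LocallyOfFiniteType S'.hom := by rw [← Over.w s']; infer_instance
  haveI : QuasiCompact S'.hom := by rw [← Over.w s']; infer_instance
  obtain ⟨hSs, hSc⟩ := hsa.smooth_connected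
  obtain ⟨hS's, hS'c⟩ := hsa'.smooth_connected
  haveI := hSs; haveI := hSc; haveI := hS's; haveI := hS'c
  haveI : Smooth (S ⊗ S').hom := inferInstanceAs (Smooth (Limits.pullback.fst S.hom S'.hom ≫ S.hom))
  haveI : QuasiCompact (S ⊗ S').hom := inferInstanceAs (QuasiCompact (Limits.pullback.fst S.hom S'.hom ≫ S.hom))
  haveI := connectedSpace_prod S S'
  let m : S ⊗ S' ⟶ G := (s ⊗ₘ s') ≫ μ[G]
  haveI : IsMonHom m := inferInstance
  haveI : QuasiCompact m.left := by
    haveI : QuasiCompact (m.left ≫ G.hom) := by rw [Over.w]; infer_instance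
    exact QuasiCompact.of_comp _ G.hom
  obtain ⟨I, hI, ii, g, hiim, hgm, hgi, hiic, hgd, -, hgs⟩ := GrpField.SchImg.exists_image m
  haveI := hiim; haveI := hgm; haveI := hiic; haveI := hgd; haveI := hgs
  haveI : QuasiCompact g.left := by
    haveI : IsSeparated I.hom := by rw [← Over.w ii]; infer_instance
    haveI : QuasiCompact (g.left ≫ I.hom) := by rw [Over.w]; infer_instance
    exact QuasiCompact.of_comp _ I.hom
  haveI : LocallyOfFiniteType I.hom := by rw [← Over.w ii]; infer_instance
  haveI : QuasiCompact I.hom := by rw [← Over.w ii]; infer_instance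
  haveI := GrpField.SchImg.geometricallyReduced_of_smooth (S ⊗ S').hom
  haveI := GrpField.SchImg.geometricallyReduced_of_schDom g
  letI : GrpObj (Over.mk I.hom) := hI
  haveI : Smooth I.hom := smooth_of_grpObj I.hom
  haveI : ConnectedSpace I.left := g.left.surjective.connectedSpace g.left.continuous
  have hIsa : IsSA I := isSA_of_surjective (isSA_prod hsa hsa') g
  let a : S ⟶ I := lift (𝟙 S) (1 : S ⟶ S') ≫ g
  let b : S' ⟶ I := lift (1 : S' ⟶ S) (𝟙 S') ≫ g
  have ha : a ≫ ii = s := by
    rw [Category.assoc, hgi, ← Category.assoc, lift_map, Category.id_comp, MonObj.one_comp, ← Hom.mul_def,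
      _root_.mul_one]
  have hb : b ≫ ii = s' := by
    rw [Category.assoc, hgi, ← Category.assoc, lift_map, Category.id_comp, MonObj.one_comp, ← Hom.mul_def,
      _root_.one_mul]
  haveI : Mono ii := GrpField.SchImg.mono_of_isClosedImmersion ii
  haveI : IsMonHom (a ≫ ii) := by rw [ha]; infer_instance
  haveI : IsMonHom a := isMonHom_of_comp a ii
  haveI : IsSeparated I.hom := GrpField.isSeparated_hom I
  haveI : IsClosedImmersion a.left := by
    haveI : IsClosedImmersion (a.left ≫ ii.left) := by rw [← Over.comp_left, ha]; infer_instance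
    exact IsClosedImmersion.of_comp a.left ii.left
  obtain ⟨e, he⟩ := exists_natDim' I
  have hle : e ≤ sSup {d | P d} := le_csSup ⟨N, hbdd⟩ ⟨I, hI, ii, hiim, hiic, hIsa, he⟩
  have hge : sSup {d | P d} ≤ e := by
    have h := dim_le_of_closedImmersion a
    rw [hdim, he] at h
    exact_mod_cast h
  haveI := isIso_of_dim_eq a (by rw [hdim, he, le_antisymm hge hle])
  exact ⟨b ≫ inv a, by rw [Category.assoc, ← ha, IsIso.inv_hom_id_assoc, hb]⟩

/-- **The quotient by the largest semi-abelian subgroup has no semi-abelian subgroup.** -/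
theorem isIso_eta_of_SA_quotient {G S Q S'' : Over (Spec (CommRingCat.of k))} [GrpObj G] [IsCommMonObj G]
    [LocallyOfFiniteType G.hom] [QuasiCompact G.hom] [GrpObj S] [GrpObj Q] [GrpObj S'']
    [LocallyOfFiniteType Q.hom] [QuasiCompact Q.hom] (s : S ⟶ G) [IsMonHom s] [IsClosedImmersion s.left] (hS : IsSA S)
    (hmax : ∀ (S' : Over (Spec (CommRingCat.of k))) [GrpObj S'] (s' : S' ⟶ G) [IsMonHom s'] [IsClosedImmersion s'.left],
      IsSA S' → ∃ g : S' ⟶ S, g ≫ s = s')
    (q : G ⟶ Q) [IsMonHom q] [Surjective q.left] [Flat q.left] (hker : AlgGrp.IsKernel s q)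
    (s'' : S'' ⟶ Q) [IsMonHom s''] [IsClosedImmersion s''.left] (hS'' : IsSA S'') : IsIso η[S''] := by
  haveI : LocallyOfFiniteType S.hom := by rw [← Over.w s]; infer_instance
  haveI : QuasiCompact S.hom := by rw [← Over.w s]; infer_instance
  haveI : LocallyOfFiniteType S''.hom := by rw [← Over.w s'']; infer_instance
  haveI : QuasiCompact S''.hom := by rw [← Over.w s'']; infer_instance
  obtain ⟨hSs, hSc⟩ := hS.smooth_connected
  obtain ⟨hS's, hS'c⟩ := hS''.smooth_connected
  haveI := hSs; haveI := hSc; haveI := hS's; haveI := hS'c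
  haveI : IsSeparated G.hom := GrpField.isSeparated_hom G
  haveI : IsSeparated Q.hom := GrpField.isSeparated_hom Q
  haveI : Mono s'' := GrpField.SchImg.mono_of_isClosedImmersion s''
  haveI : IsCommMonObj Q := by
    haveI : IsLocallyNoetherian Q.left := LocallyOfFiniteType.isLocallyNoetherian Q.hom
    haveI : LocallyOfFiniteType (q.left ≫ Q.hom) := by rw [Over.w]; infer_instance
    haveI : LocallyOfFiniteType q.left := locallyOfFiniteType_of_comp q.left Q.hom
    exact isCommMonObj_of_surjective q
  obtain ⟨P, hP, iP, p, l', hiPm, hiPc, hPs, hPc, -, hpm, hpf, hps, hl'm, hp, hl', hker'⟩ :=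
    exists_preimage_smooth s q hker s''
      (fun X a x => ⟨x, by rw [_root_.mul_comm a, _root_.mul_assoc, mul_inv_cancel, _root_.mul_one]⟩)
  haveI := hiPm; haveI := hiPc; haveI := hPs; haveI := hPc; haveI := hpm; haveI := hpf; haveI := hps; haveI := hl'm
  haveI : QuasiCompact P.hom := by rw [← Over.w iP]; infer_instance
  haveI : LocallyOfFiniteType P.hom := by rw [← Over.w iP]; infer_instance
  haveI : IsSeparated P.hom := GrpField.isSeparated_hom P
  haveI : IsClosedImmersion l'.left := by
    haveI : IsClosedImmersion (l'.left ≫ iP.left) := by rw [← Over.comp_left, hl']; infer_instance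
    exact IsClosedImmersion.of_comp l'.left iP.left
  obtain ⟨g, hg⟩ := hmax P iP (isSA_of_extension' l' p hker' hS hS'')
  have h1 : p ≫ s'' = 1 := by
    rw [hp, ← hg, Category.assoc, hker.w, comp_toUnit_assoc, Hom.one_def]
  have hp1 : p = 1 := (cancel_mono s'').1 (h1.trans (MonObj.one_comp _).symm)
  haveI : IsSeparated S''.hom := GrpField.isSeparated_hom S''
  haveI := GrpField.isClosedImmersion_eta S''
  haveI : Surjective η[S''].left := ⟨fun y => by
    obtain ⟨x, rfl⟩ := p.left.surjective y
    rw [hp1, Hom.one_def, Over.comp_left, Scheme.Hom.comp_apply]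
    exact ⟨_, rfl⟩⟩
  haveI : IsReduced S''.left := isReduced_of_smooth' S''
  haveI : IsIso η[S''].left := isIso_of_isClosedImmersion_of_surjective η[S''].left
  haveI : IsIso ((Over.forget _).map η[S'']) := ‹IsIso η[S''].left›
  exact isIso_of_reflects_iso _ (Over.forget _)

end Groth.Agent.Chev
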