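import Groth.Agent.Chev.BorelFixed
import Groth.Agent.Chev.LargestSA
import Groth.Agent.GrpAct.Homog
import Groth.Agent.FpqcDescent.Sep
import Groth.Agent.FpqcDescent.Props
import Groth.Agent.S5366
import Groth.Prelude.Def_Red2
import Groth.Prelude.Def_AGF

/-!
# Basic tools for Borel subgroups over an algebraically closed field
-/

set_option autoImplicit false
set_option backward.isDefEq.respectTransparency false

universe u

open CategoryTheory CategoryTheory.Limits MonoidalCategory CartesianMonoidalCategory MonObj GrpObj AlgebraicGeometry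
open Groth.Agent.SubGen (rpt exists_rpt rpt_injective rpt_mem_closedPoints map_rpt apply_eq_rpt)

noncomputable section

namespace Groth.Agent.Chev.Borel

variable {k : Type u} [Field k] [IsAlgClosed k]

omit [IsAlgClosed k] in
theorem toUnit_one : toUnit (𝟙_ (Over (Spec (CommRingCat.of k)))) = 𝟙 _ := toUnit_unique _ _

omit [IsAlgClosed k] in
/-- Composing a rational point with a constant morphism. -/
theorem rp_const {Z W : Over (Spec (CommRingCat.of k))} (z : RP Z) (w : RP W) : z ≫ toUnit Z ≫ w = w := by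
  rw [← Category.assoc, toUnit_unique (z ≫ toUnit Z) (𝟙 _), Category.id_comp]

/-- A rational point in the image lifts. -/
theorem exists_rp_preimage {Z W : Over (Spec (CommRingCat.of k))} [LocallyOfFiniteType Z.hom]
    [LocallyOfFiniteType W.hom] (f : Z ⟶ W) [Surjective f.left] (w : RP W) : ∃ z : RP Z, z ≫ f = w := by
  haveI : JacobsonSpace Z.left := LocallyOfFiniteType.jacobsonSpace Z.hom
  obtain ⟨y, hy⟩ := f.left.surjective (rpt w)
  have hc : IsClosed (f.left ⁻¹' {rpt w}) :=
    (mem_closedPoints_iff.1 (rpt_mem_closedPoints w)).preimage f.left.continuous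
  obtain ⟨z, hz, hzc⟩ := nonempty_inter_closedPoints ⟨y, hy⟩ hc.isLocallyClosed
  obtain ⟨q, rfl⟩ := exists_rpt hzc
  exact ⟨q, rpt_injective ((map_rpt f q).symm.trans hz)⟩

/-- A smooth group with solvable rational points is solvable. -/
theorem isSolvableGrp_of_rp (B : Over (Spec (CommRingCat.of k))) [GrpObj B] [Smooth B.hom] [QuasiCompact B.hom]
    [Group.IsSolvable (RP B)] : Red.IsSolvableGrp B := by
  obtain ⟨n, hn⟩ := Group.IsSolvable.solvable (G := RP B)
  refine ⟨n, fun X => (Groth.Agent.S5366.result k B k n).1.2 ?_ X⟩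
  let i := SubGen.ptIso k
  let e : RP B →* (SubGen.ptL k k ⟶ B) :=
    { toFun := fun x => i.inv ≫ x
      map_one' := MonObj.comp_one _
      map_mul' := fun x y => MonObj.comp_mul _ x y }
  have hs : Function.Surjective e := fun y => ⟨i.hom ≫ y, i.inv_hom_id_assoc y⟩
  show derivedSeries (SubGen.ptL k k ⟶ B) n = ⊥
  rw [← map_derivedSeries_eq hs n, hn, Subgroup.map_bot]

omit [IsAlgClosed k] in
theorem isSolvable_rp {B : Over (Spec (CommRingCat.of k))} [GrpObj B] (h : Red.IsSolvableGrp B) :
    Group.IsSolvable (RP B) := by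
  obtain ⟨n, hn⟩ := h
  exact ⟨⟨n, hn _⟩⟩

omit [IsAlgClosed k] in
/-- The stabiliser of a rational point. -/
theorem exists_stabilizer {G X : Over (Spec (CommRingCat.of k))} [GrpObj G] [IsSeparated X.hom]
    (a : AlgGrp.Action G X) (x : RP X) :
    ∃ (H : Over (Spec (CommRingCat.of k))) (_ : GrpObj H) (iH : H ⟶ G), IsMonHom iH ∧ IsClosedImmersion iH.left ∧
      ∀ (T : Over (Spec (CommRingCat.of k))) (g : T ⟶ G),
        (∃ t : T ⟶ H, t ≫ iH = g) ↔ g ≫ a.orbitMap x = toUnit T ≫ x := by
  haveI : IsClosedImmersion x.left :=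
    isClosedImmersion_of_comp_eq_id (Y := Spec (CommRingCat.of k)) X.hom x.left (Over.w x)
  let H : Over (Spec (CommRingCat.of k)) := Over.mk (pullback.fst (a.orbitMap x).left x.left ≫ G.hom)
  let iH : H ⟶ G := Over.homMk (pullback.fst (a.orbitMap x).left x.left) rfl
  haveI : IsClosedImmersion iH.left := inferInstanceAs (IsClosedImmersion (pullback.fst (a.orbitMap x).left x.left))
  haveI : Mono iH := GrpField.SchImg.mono_of_isClosedImmersion iH
  have hsnd : pullback.snd (a.orbitMap x).left x.left = (toUnit H).left := by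
    rw [Over.toUnit_left]
    show _ = pullback.fst _ _ ≫ G.hom
    rw [← Over.w (a.orbitMap x), pullback.condition_assoc]
    exact ((congrArg (pullback.snd (a.orbitMap x).left x.left ≫ ·) (Over.w x)).trans (Category.comp_id _)).symm
  have hHw : iH ≫ a.orbitMap x = toUnit H ≫ x :=
    Over.OverMorphism.ext (pullback.condition.trans (by rw [hsnd]; rfl))
  have hmem : ∀ (T : Over (Spec (CommRingCat.of k))) (g : T ⟶ G),
      (∃ t : T ⟶ H, t ≫ iH = g) ↔ g ≫ a.orbitMap x = toUnit T ≫ x := by
    intro T g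
    refine ⟨?_, fun h => ?_⟩
    · rintro ⟨t, rfl⟩
      rw [Category.assoc, hHw, ← Category.assoc, toUnit_unique (t ≫ toUnit H) (toUnit T)]
    · have hl : g.left ≫ (a.orbitMap x).left = (toUnit T).left ≫ x.left := congrArg CommaMorphism.left h
      exact ⟨Over.homMk (pullback.lift _ _ hl) ((pullback.lift_fst_assoc _ _ _ _).trans (Over.w g)),
        Over.OverMorphism.ext (pullback.lift_fst _ _ _)⟩
  obtain ⟨hHg, hHm⟩ := GrpField.SchImg.exists_grpObj_of_div iH ((hmem _ _).2 (by
      rw [GrpAct.comp_orbitMap, show (η[G] : 𝟙_ _ ⟶ G) = 1 by rw [Hom.one_def, toUnit_one, Category.id_comp],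
        GrpAct.one_smul'])) fun T h₁ h₂ => (hmem T _).2 (by
    have e1 := (hmem T _).1 ⟨h₁, rfl⟩
    have e2 := (hmem T _).1 ⟨h₂, rfl⟩
    rw [GrpAct.comp_orbitMap] at e1 e2 ⊢
    rw [GrpAct.mul_smul, e2]
    conv_lhs => rw [← e1]
    rw [← GrpAct.mul_smul, inv_mul_cancel, GrpAct.one_smul'])
  exact ⟨H, hHg, iH, hHm, inferInstance, hmem⟩

omit [IsAlgClosed k] in
/-- The action restricted along a homomorphism, on points. -/
theorem resAction_smul {N G X : Over (Spec (CommRingCat.of k))} [GrpObj N] [GrpObj G] (i : N ⟶ G) [IsMonHom i]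
    (a : AlgGrp.Action G X) {T : Over (Spec (CommRingCat.of k))} (n : T ⟶ N) (x : T ⟶ X) :
    lift n x ≫ (BorelFixed.resAction i a).act = lift (n ≫ i) x ≫ a.act := by
  simp [BorelFixed.resAction, lift_whiskerRight_assoc]

omit [IsAlgClosed k] in
theorem resAction_orbitMap {N G X : Over (Spec (CommRingCat.of k))} [GrpObj N] [GrpObj G] (i : N ⟶ G) [IsMonHom i]
    (a : AlgGrp.Action G X) (x : RP X) : (BorelFixed.resAction i a).orbitMap x = i ≫ a.orbitMap x := by
  rw [GrpAct.comp_orbitMap, AlgGrp.Action.orbitMap, resAction_smul, Category.id_comp]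

section Inner

variable {G H : Over (Spec (CommRingCat.of k))} [GrpObj G]

omit [IsAlgClosed k] in
theorem comp_conjBy {T : Over (Spec (CommRingCat.of k))} (g : RP G) (i : H ⟶ G) (t : T ⟶ H) :
    t ≫ AGF.conjBy g i = (toUnit T ≫ g) * (t ≫ i) * (toUnit T ≫ g)⁻¹ := by
  rw [AGF.conjBy, MonObj.comp_mul, MonObj.comp_mul, GrpObj.comp_inv, ← Category.assoc,
    toUnit_unique (t ≫ toUnit H) (toUnit T)]

omit [IsAlgClosed k] in
theorem conjBy_conjBy (g h : RP G) (i : H ⟶ G) : AGF.conjBy g (AGF.conjBy h i) = AGF.conjBy (g * h) i := by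
  simp only [AGF.conjBy, MonObj.comp_mul, _root_.mul_inv_rev, _root_.mul_assoc]

omit [IsAlgClosed k] in
theorem conjBy_one (i : H ⟶ G) : AGF.conjBy (1 : RP G) i = i := by
  simp only [AGF.conjBy, MonObj.comp_one, inv_one, _root_.one_mul, _root_.mul_one]

omit [IsAlgClosed k] in
theorem comp_conjBy' {K : Over (Spec (CommRingCat.of k))} (g : RP G) (f : K ⟶ H) (i : H ⟶ G) :
    f ≫ AGF.conjBy g i = AGF.conjBy g (f ≫ i) := comp_conjBy g i f

omit [IsAlgClosed k] in
theorem isMonHom_conjBy [GrpObj H] (g : RP G) (i : H ⟶ G) [IsMonHom i] : IsMonHom (AGF.conjBy g i) where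
  one_hom := by
    rw [comp_conjBy, IsMonHom.one_hom, toUnit_one, Category.id_comp,
      show (η[G] : 𝟙_ _ ⟶ G) = 1 by rw [Hom.one_def, toUnit_one, Category.id_comp], _root_.mul_one, mul_inv_cancel]
  mul_hom := by
    rw [comp_conjBy, IsMonHom.mul_hom]
    have e : ∀ {T : Over (Spec (CommRingCat.of k))} (a b : T ⟶ G), lift a b ≫ μ[G] = a * b := fun a b => rfl
    rw [show (i ⊗ₘ i) = lift (fst H H ≫ i) (snd H H ≫ i) by
        apply CartesianMonoidalCategory.hom_ext <;> simp, e,
      show (AGF.conjBy g i ⊗ₘ AGF.conjBy g i) = lift (fst H H ≫ AGF.conjBy g i) (snd H H ≫ AGF.conjBy g i) by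
        apply CartesianMonoidalCategory.hom_ext <;> simp, e, comp_conjBy, comp_conjBy]
    simp only [_root_.mul_assoc, inv_mul_cancel_left]

omit [IsAlgClosed k] in
theorem isClosedImmersion_conjBy (g : RP G) (i : H ⟶ G) [IsClosedImmersion i.left] :
    IsClosedImmersion (AGF.conjBy g i).left := by
  let c : G ⟶ G := AGF.conjBy g (𝟙 G)
  have h1 : ∀ a b : RP G, AGF.conjBy a (𝟙 G) ≫ AGF.conjBy b (𝟙 G) = AGF.conjBy (b * a) (𝟙 G) := fun a b => by
    rw [comp_conjBy', Category.comp_id, conjBy_conjBy]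
  haveI : IsIso c := ⟨AGF.conjBy g⁻¹ (𝟙 G), by rw [h1, inv_mul_cancel, conjBy_one],
    by rw [h1, mul_inv_cancel, conjBy_one]⟩
  haveI : IsIso c.left := inferInstanceAs (IsIso ((Over.forget _).map c))
  rw [show AGF.conjBy g i = i ≫ c from (by rw [comp_conjBy', Category.comp_id])]
  exact inferInstanceAs (IsClosedImmersion (i.left ≫ c.left))

end Inner

/-- A homomorphism between closed subgroups of equal dimension over the group is an isomorphism. -/
theorem isIso_of_le {G B B' : Over (Spec (CommRingCat.of k))} [GrpObj G] [GrpObj B] [GrpObj B'] (i : B ⟶ G) [IsMonHom i]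
    [IsClosedImmersion i.left] (i' : B' ⟶ G) [IsMonHom i'] [IsClosedImmersion i'.left] (f : B ⟶ B') (hf : f ≫ i' = i)
    [Smooth B.hom] [Smooth B'.hom] [ConnectedSpace B.left] [ConnectedSpace B'.left] [QuasiCompact B.hom] [QuasiCompact B'.hom]
    (hdim : topologicalKrullDim B'.left ≤ topologicalKrullDim B.left) : IsIso f := by
  haveI : IsClosedImmersion (f.left ≫ i'.left) := by rw [← Over.comp_left, hf]; infer_instance
  haveI : IsClosedImmersion f.left := IsClosedImmersion.of_comp f.left i'.left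
  haveI : IsMonHom (f ≫ i') := by rw [hf]; infer_instance
  haveI : Mono i' := GrpField.SchImg.mono_of_isClosedImmersion i'
  haveI : IsMonHom f := isMonHom_of_comp f i'
  exact isIso_of_dim_eq f (le_antisymm (dim_le_of_closedImmersion f) hdim)

section Quot

variable {G H X : Over (Spec (CommRingCat.of k))} [GrpObj G] [GrpObj H] {i : H ⟶ G}

omit [IsAlgClosed k] in
/-- Quotients by closed subgroups are separated. -/
theorem isSeparated_quot [QuasiCompact G.hom] [LocallyOfFiniteType G.hom] [IsClosedImmersion i.left]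
    (a : AlgGrp.Action G X) (o : RP X) (h : AGF.IsQuotient i X a o) : IsSeparated X.hom := by
  obtain ⟨hlft, hflat, hsurj, hpb⟩ := h
  haveI := hlft; haveI := hflat; haveI := hsurj
  let φ := (a.orbitMap o).left
  haveI : IsLocallyNoetherian X.left := LocallyOfFiniteType.isLocallyNoetherian X.hom
  haveI : QuasiCompact (φ ≫ X.hom) := by rw [Over.w]; infer_instance
  haveI : QuasiCompact φ := QuasiCompact.of_comp φ X.hom
  -- the pairs in a fibre form a closed subscheme of `G × G`
  let m : G ⊗ H ⟶ G ⊗ G := lift (fst G H) ((G ◁ i) ≫ μ[G])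
  let s : G ⊗ G ⟶ G ⊗ G := lift (fst G G) (fst G G * snd G G)
  have hs : IsIso s := ⟨lift (fst G G) ((fst G G)⁻¹ * snd G G), by
    apply CartesianMonoidalCategory.hom_ext
    · simp [s]
    · simp [s, MonObj.comp_mul, GrpObj.comp_inv], by
    apply CartesianMonoidalCategory.hom_ext
    · simp [s]
    · simp [s, MonObj.comp_mul, GrpObj.comp_inv]⟩
  have hm : m = (G ◁ i) ≫ s := by
    apply CartesianMonoidalCategory.hom_ext
    · simp [m, s]
    · simp only [m, s, lift_snd, Category.assoc, MonObj.comp_mul, whiskerLeft_fst, whiskerLeft_snd]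
      rw [Hom.mul_def]
      congr 1
  haveI : IsClosedImmersion (G ◁ i).left := by
    rw [← MonoidalCategory.id_tensorHom, Over.tensorHom_left]
    exact MorphismProperty.pullbackMap (P := @IsClosedImmersion) (inferInstanceAs (IsClosedImmersion (𝟙 G.left)))
      ‹_› (Over.w (𝟙 G)).symm (Over.w i).symm
  haveI : IsIso s.left := inferInstanceAs (IsIso ((Over.forget _).map s))
  haveI hmc : IsClosedImmersion m.left := by rw [hm, Over.comp_left]; infer_instance
  -- descend the diagonal
  have sq := pullback_map_diagonal_isPullback φ φ X.hom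
  have key : IsClosedImmersion (pullback.map φ φ (φ ≫ X.hom) (φ ≫ X.hom) (𝟙 _) (𝟙 _) X.hom
      (Category.id_comp _).symm (Category.id_comp _).symm) := by
    have hL := (hpb.map (Over.forget _))
    haveI : IsIso hL.isoPullback.hom := inferInstance
    rw [← MorphismProperty.cancel_left_of_respectsIso @IsClosedImmersion hL.isoPullback.hom]
    have e : hL.isoPullback.hom ≫ pullback.map φ φ (φ ≫ X.hom) (φ ≫ X.hom) (𝟙 _) (𝟙 _) X.hom
        (Category.id_comp _).symm (Category.id_comp _).symm = m.left ≫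
        pullback.map G.hom G.hom (φ ≫ X.hom) (φ ≫ X.hom) (𝟙 _) (𝟙 _) (𝟙 _)
          (by rw [Over.w]; simp) (by rw [Over.w]; simp) := by
      apply pullback.hom_ext
      · simp only [Category.assoc, pullback.lift_fst, Category.comp_id]
        exact (hL.isoPullback_hom_fst).trans (congrArg CommaMorphism.left (lift_fst (fst G H) ((G ◁ i) ≫ μ[G]))).symm
      · simp only [Category.assoc, pullback.lift_snd, Category.comp_id]
        exact (hL.isoPullback_hom_snd).trans (congrArg CommaMorphism.left (lift_snd (fst G H) ((G ◁ i) ≫ μ[G]))).symm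
    rw [e]
    haveI : IsIso (pullback.map G.hom G.hom (φ ≫ X.hom) (φ ≫ X.hom) (𝟙 _) (𝟙 _) (𝟙 _)
        (by rw [Over.w]; simp) (by rw [Over.w]; simp)) := pullback.map_isIso ..
    infer_instance
  have hQ : (@Surjective ⊓ @Flat ⊓ @QuasiCompact : MorphismProperty Scheme.{u})
      (pullback.map (φ ≫ X.hom) (φ ≫ X.hom) X.hom X.hom φ φ (𝟙 _) (Category.comp_id _) (Category.comp_id _)) := by
    have h0 : (@Surjective ⊓ @Flat ⊓ @QuasiCompact : MorphismProperty Scheme.{u}) φ := ⟨⟨‹_›, ‹_›⟩, ‹_›⟩
    haveI : MorphismProperty.IsStableUnderComposition @Surjective :=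
      ⟨fun f g hf hg => inferInstanceAs (Surjective (f ≫ g))⟩
    exact MorphismProperty.pullbackMap (P := (@Surjective ⊓ @Flat ⊓ @QuasiCompact : MorphismProperty Scheme.{u})) h0 h0 rfl rfl
  exact ⟨MorphismProperty.of_isPullback_of_descendsAlong sq.flip hQ key⟩

end Quot

end Groth.Agent.Chev.Borel
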