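import Groth.Agent.Chev.ProjRep
import Groth.Agent.Chev.BorelTools
import Groth.Agent.S7974
import Groth.Agent.S3019
import Groth.Agent.Takeuchi.Eigen
import Groth.Agent.GrassRep.Rep
import Groth.Agent.GrassPlucker.Final
import Groth.Agent.HQProj.Basic
import Groth.Agent.GLinZMT.Stable
import Groth.Agent.FinHopf.GrpScheme
import Groth.Agent.S3267
import Groth.Agent.SmoothRed.Scheme

/-!
# Closed subgroups are stabilisers of points in proper spaces
-/
set_option autoImplicit false
set_option backward.isDefEq.respectTransparency false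

universe u

open CategoryTheory CategoryTheory.Limits MonoidalCategory CartesianMonoidalCategory MonObj GrpObj AlgebraicGeometry
open TensorProduct WithConv
open Module.Grassmannian
open scoped Groth.Agent.Takeuchi
open Groth.Agent.GrassClosed (SpA)
open Groth.Agent.Takeuchi (Pt push act actR sR actR_tmul)

noncomputable section

namespace Groth.Agent.Chev.ProjRep

open Groth.Agent.SubGen (rpt exists_rpt map_rpt)
open BorelFixed (rpHom)

variable {k : Type u} [Field k] {A : Type u} [CommRing A] [HopfAlgebra k A]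
  {V : Type u} [AddCommGroup V] [Module k V] [HopfRep.Comod k A V] {n : ℕ}

omit [HopfAlgebra k A] [CommRing A] [HopfRep.Comod k A V] in
theorem finrank_le_of_surj {m : ℕ} (v : (Fin m → k) →ₗ[k] V) (hv : Function.Surjective v) :
    Module.finrank k V ≤ m :=
  (LinearMap.finrank_le_finrank_of_surjective hv).trans_eq (Module.finrank_fin_fun k)

/-- A finite-dimensional comodule gives an action on the proper scheme of its quotients of a given rank. -/
theorem exists_action_grass {G : Over (Spec (CommRingCat.of k))} [GrpObj G]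
    (e : (Spec (CommRingCat.of A)).asOver (Spec (CommRingCat.of k)) ≅ G) [IsMonHom e.hom] [Module.Finite k V]
    (hn : n ≤ Module.finrank k V) :
    ∃ (X : Over (Spec (CommRingCat.of k))) (_ : IsProper X.hom) (a : AlgGrp.Action G X)
      (E : ∀ B : CommAlgCat.{u} k, (SpA B ⟶ X) ≃ (Module.Grassmannian.functor (R := k) (M := V) n).obj B),
      ∀ (B : CommAlgCat.{u} k) (g : Pt k A B) (x : SpA B ⟶ X),
        E B (lift ((Spec.mapMulEquiv g : SpA B ⟶ _) ≫ e.hom) x ≫ a.act) = pull g⁻¹ (E B x) := by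
  obtain ⟨X, E, hE⟩ := GrassRep.exists_representing (R := k) V n
  obtain ⟨n₀, v, hv⟩ := Module.Finite.exists_fin' k V
  let v' : (Fin (n₀ + 1) → k) →ₗ[k] V := v ∘ₗ LinearMap.funLeft k k (Fin.castSucc (n := n₀))
  have hv' : Function.Surjective v' :=
    hv.comp (LinearMap.funLeft_surjective_of_injective k k _ (Fin.castSucc_injective n₀))
  obtain ⟨c, hc, hcb⟩ := GrassPlucker.exists_closedImmersion v' hv' (hn.trans (Nat.le_succ_of_le (finrank_le_of_surj v hv))) X E hE
  haveI := HQProj.isProper_toBase ((n₀ + 1).choose n - 1) (Spec (CommRingCat.of k))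
  haveI : IsProper X.hom := by rw [← hcb]; infer_instance
  haveI : IsMonHom e.inv := inferInstance
  let pt : ∀ B : CommAlgCat.{u} k, (SpA B ⟶ G) → Pt k A B := fun B g =>
    Spec.mapMulEquiv.symm ((g ≫ e.inv : SpA B ⟶ _))
  have hpt_mul : ∀ (B : CommAlgCat.{u} k) (g h : SpA B ⟶ G), pt B (g * h) = pt B g * pt B h := fun B g h =>
    (congrArg (Spec.mapMulEquiv (R := k) (S := A) (T := B)).symm (MonObj.mul_comp g h e.inv)).trans
      (map_mul (Spec.mapMulEquiv (R := k) (S := A) (T := B)).symm (g ≫ e.inv) (h ≫ e.inv))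
  have hpt_one : ∀ B : CommAlgCat.{u} k, pt B 1 = 1 := fun B =>
    (congrArg (Spec.mapMulEquiv (R := k) (S := A) (T := B)).symm (MonObj.one_comp e.inv)).trans
      (map_one (Spec.mapMulEquiv (R := k) (S := A) (T := B)).symm)
  have hpt_nat : ∀ (B C : CommAlgCat.{u} k) (φ : B →ₐ[k] C) (g : SpA B ⟶ G),
      pt C (PtsAction.sp φ ≫ g) = push φ (pt B g) := by
    intro B C φ g
    apply (Spec.mapMulEquiv (R := k) (S := A) (T := C)).injective
    refine ((Spec.mapMulEquiv (R := k) (S := A) (T := C)).apply_symm_apply _).trans ?_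
    have hg : g ≫ e.inv = Spec.mapMulEquiv (pt B g) :=
      ((Spec.mapMulEquiv (R := k) (S := A) (T := B)).apply_symm_apply _).symm
    rw [Category.assoc, hg]
    refine Over.OverMorphism.ext ?_
    show Spec.map _ ≫ Spec.map _ = Spec.map _
    rw [← Spec.map_comp]
    rfl
  let op : ∀ B : CommAlgCat.{u} k, (SpA B ⟶ G) → (SpA B ⟶ X) → (SpA B ⟶ X) := fun B g x =>
    (E B).symm (pull (pt B g)⁻¹ (E B x))
  obtain ⟨a, ha⟩ := PtsAction.exists_action_of_points G X op
    (fun B C φ g x => by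
      apply (E C).injective
      have h1 := hE B C (CommAlgCat.ofHom φ) (op B g x) (PtsAction.sp φ ≫ op B g x) rfl
      have h2 := hE B C (CommAlgCat.ofHom φ) x (PtsAction.sp φ ≫ x) rfl
      rw [h1]
      show Module.Grassmannian.map φ (E B (op B g x)) = E C ((E C).symm _)
      rw [Equiv.apply_symm_apply, Equiv.apply_symm_apply]
      refine (map_pull φ _ _).trans ?_
      rw [Takeuchi.push_inv, hpt_nat, h2]
      rfl)
    (fun B x => by
      apply (E B).injective
      show E B ((E B).symm _) = _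
      rw [Equiv.apply_symm_apply, hpt_one, inv_one]
      exact pull_one _)
    (fun B g h x => by
      apply (E B).injective
      show E B ((E B).symm _) = E B ((E B).symm (pull (pt B g)⁻¹ (E B ((E B).symm _))))
      rw [Equiv.apply_symm_apply, Equiv.apply_symm_apply, Equiv.apply_symm_apply, hpt_mul, _root_.mul_inv_rev]
      exact pull_mul _ _ _)
  refine ⟨X, inferInstance, a, E, fun B g x => ?_⟩
  rw [ha]
  show E B ((E B).symm _) = _
  rw [Equiv.apply_symm_apply]
  congr 2
  show Spec.mapMulEquiv.symm ((Spec.mapMulEquiv g ≫ e.hom) ≫ e.inv) = g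
  rw [Category.assoc, e.hom_inv_id, Category.comp_id]
  exact (Spec.mapMulEquiv (R := k) (S := A) (T := B)).symm_apply_apply g

/-- Rational points of an affine group as points of its coordinate ring. -/
def ptsEquiv {G : Over (Spec (CommRingCat.of k))} [GrpObj G]
    (e : (Spec (CommRingCat.of A)).asOver (Spec (CommRingCat.of k)) ≅ G) [IsMonHom e.hom] :
    (𝟙_ (Over (Spec (CommRingCat.of k))) ⟶ G) ≃* Pt k A k where
  toFun g := Spec.mapMulEquiv.symm (((kIso k).inv ≫ g) ≫ e.inv)
  invFun φ := (kIso k).hom ≫ (Spec.mapMulEquiv φ : SpA (CommAlgCat.of k k) ⟶ _) ≫ e.hom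
  left_inv g := by
    have h := (Spec.mapMulEquiv (R := k) (S := A) (T := k)).apply_symm_apply (((kIso k).inv ≫ g) ≫ e.inv)
    show (kIso k).hom ≫ _ ≫ e.hom = g
    rw [h]
    simp
  right_inv φ := by
    show Spec.mapMulEquiv.symm (((kIso k).inv ≫ (kIso k).hom ≫ _ ≫ e.hom) ≫ e.inv) = φ
    rw [Iso.inv_hom_id_assoc, Category.assoc, e.hom_inv_id, Category.comp_id]
    exact (Spec.mapMulEquiv (R := k) (S := A) (T := k)).symm_apply_apply φ
  map_mul' g h := by
    haveI : IsMonHom e.inv := inferInstance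
    rw [MonObj.comp_mul, MonObj.mul_comp]
    exact map_mul (Spec.mapMulEquiv (R := k) (S := A) (T := k)).symm _ _

/-- A closed subgroup is, on rational points, the stabiliser of a point of a proper space. -/
theorem exists_action_stabilizer [IsAlgClosed k] {G H : Over (Spec (CommRingCat.of k))} [GrpObj G] [GrpObj H]
    [IsAffine G.left] [LocallyOfFiniteType G.hom] (iH : H ⟶ G) [IsMonHom iH] [IsClosedImmersion iH.left] :
    ∃ (X : Over (Spec (CommRingCat.of k))) (_ : IsProper X.hom) (a : AlgGrp.Action G X)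
      (x : 𝟙_ (Over (Spec (CommRingCat.of k))) ⟶ X),
      ∀ g : 𝟙_ (Over (Spec (CommRingCat.of k))) ⟶ G, lift g x ≫ a.act = x ↔ ∃ h, h ≫ iH = g := by
  obtain ⟨A, hA, e, he⟩ := FinHopf.exists_hopf (R := CommRingCat.of k) G
  haveI := he
  haveI : IsIso e.hom.left := inferInstanceAs (IsIso ((Over.forget _).map e.hom))
  haveI : Algebra.FiniteType k A := by
    have h0 : LocallyOfFiniteType (e.hom.left ≫ G.hom) := inferInstance
    rw [Over.w e.hom] at h0
    exact RingHom.finiteType_algebraMap.1 ((HasRingHomProperty.Spec_iff (P := @LocallyOfFiniteType)).1 h0)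
  let S : Subgroup (Pt k A k) := (rpHom iH).range.map (ptsEquiv e).toMonoidHom
  let I : Ideal A := ⨅ φ ∈ S, RingHom.ker (WithConv.ofConv φ : A →ₐ[k] k)
  haveI : I.IsHopfIdeal k := Groth.Agent.S7974.result k A S
  have hclosed : ∀ φ : Pt k A k, (∀ a ∈ I, φ.ofConv a = 0) → φ ∈ S := by
    intro φ hφ
    let Z : Set (PrimeSpectrum A) := e.hom.left ⁻¹' Set.range iH.left
    have hZ : IsClosed Z := iH.left.isClosedEmbedding.isClosed_range.preimage e.hom.left.continuous
    have hpt : ∀ ψ : Pt k A k, rpt ((ptsEquiv e).symm ψ) =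
        e.hom.left ((Spec.mapMulEquiv ψ : SpA (CommAlgCat.of k k) ⟶ _).left (IsLocalRing.closedPoint k)) := fun ψ => rfl
    have hker : ∀ ψ : Pt k A k, ((Spec.mapMulEquiv ψ : SpA (CommAlgCat.of k k) ⟶ _).left (IsLocalRing.closedPoint k) :
        PrimeSpectrum A).asIdeal = RingHom.ker ψ.ofConv := fun ψ => by
      show Ideal.comap ψ.ofConv.toRingHom (IsLocalRing.maximalIdeal k) = _
      rw [IsLocalRing.maximalIdeal_eq_bot]
      rfl
    have hin : PrimeSpectrum.vanishingIdeal Z ≤ I := fun f hf => by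
      simp only [I, Ideal.mem_iInf]
      rintro ψ ⟨_, ⟨h, rfl⟩, rfl⟩
      have hm : rpt ((ptsEquiv e).symm ((ptsEquiv e) (rpHom iH h))) ∈ Set.range iH.left := by
        rw [MulEquiv.symm_apply_apply]
        exact ⟨rpt h, map_rpt _ _⟩
      rw [hpt] at hm
      have hf' := (PrimeSpectrum.mem_vanishingIdeal _ _).1 hf _ hm
      rw [hker] at hf'
      exact hf'
    have hmem : (Spec.mapMulEquiv φ : SpA (CommAlgCat.of k k) ⟶ _).left (IsLocalRing.closedPoint k) ∈ Z := by
      rw [← hZ.closure_eq, ← PrimeSpectrum.zeroLocus_vanishingIdeal_eq_closure, PrimeSpectrum.mem_zeroLocus]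
      intro f hf
      rw [SetLike.mem_coe, hker]
      exact hφ f (hin hf)
    have hm : rpt ((ptsEquiv e).symm φ) ∈ Set.range iH.left := by rw [hpt]; exact hmem
    obtain ⟨h, hh⟩ := BorelFixed.exists_rp_lift iH _ hm
    exact ⟨_, ⟨h, rfl⟩, (congrArg (ptsEquiv e) hh).trans ((ptsEquiv e).apply_symm_apply φ)⟩
  obtain ⟨V, _, _, hcm, hfin, v, hv, hrep⟩ := Groth.Agent.S3019.result k A I
  haveI := hfin
  let w : k ⊗[k] V := (1 : k) ⊗ₜ[k] v
  have hw : w ≠ 0 := fun h => hv (by simpa [w] using congrArg (TensorProduct.lid k V) h)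
  let L : Submodule k (k ⊗[k] V) := Submodule.span k {w}
  have hdim : Module.finrank k ((k ⊗[k] V) ⧸ L) = Module.finrank k V - 1 := by
    rw [Submodule.finrank_quotient, (TensorProduct.lid k V).finrank_eq, finrank_span_singleton hw]
  let N : G(Module.finrank k V - 1, k ⊗[k] V; k) :=
    { toSubmodule := L
      finite_quotient := inferInstance
      projective_quotient := inferInstance
      rankAtStalk_eq := fun p => by rw [Module.rankAtStalk_eq_finrank_of_free]; exact hdim }
  obtain ⟨X, hX, a, E, hact⟩ := exists_action_grass (V := V) (n := Module.finrank k V - 1) e (Nat.sub_le _ _)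
  let x₀ : SpA (CommAlgCat.of k k) ⟶ X := (E (CommAlgCat.of k k)).symm N
  -- the points fixing the line
  have hline : ∀ φ : Pt k A k, φ ∈ S ↔ ∃ c : k, sig φ w = c • w := by
    intro φ
    have h1 := hrep k φ.ofConv
    have h2 : sig φ w = TensorProduct.comm k V k (act φ v) := by rw [sig_tmul, one_smul]
    refine ⟨fun hφ => ?_, fun ⟨c, hc⟩ => hclosed φ (h1.2 ⟨c, ?_⟩)⟩
    · obtain ⟨c, hc⟩ := h1.1 fun a ha => RingHom.mem_ker.1 (Ideal.mem_iInf.1 (Ideal.mem_iInf.1 ha φ) hφ)
      refine ⟨c, ?_⟩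
      rw [h2, show act φ v = v ⊗ₜ[k] c from hc, TensorProduct.comm_tmul, TensorProduct.smul_tmul', smul_eq_mul,
        _root_.mul_one]
    · rw [h2, TensorProduct.smul_tmul', smul_eq_mul, _root_.mul_one, ← TensorProduct.comm_tmul] at hc
      exact (TensorProduct.comm k V k).injective hc
  have hbij : ∀ φ : Pt k A k, Function.Injective (sig (V := V) φ) :=
    fun φ => LinearMap.injective_iff_surjective.2 (sig_surjective φ)
  have hpull : ∀ φ : Pt k A k, pull φ N = N ↔ φ ∈ S := by
    intro φ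
    rw [hline]
    refine ⟨fun h => ?_, fun ⟨c, hc⟩ => Module.Grassmannian.ext ?_⟩
    · have hm : w ∈ (pull φ N).toSubmodule := by rw [h]; exact Submodule.mem_span_singleton_self w
      obtain ⟨c, hc⟩ := Submodule.mem_span_singleton.1 (show sig φ w ∈ L from hm)
      exact ⟨c, hc.symm⟩
    · have hc0 : c ≠ 0 := fun h0 => hw (hbij φ (by rw [hc, h0, zero_smul, map_zero]))
      rw [pull_toSubmodule]
      ext y
      show sig φ y ∈ L ↔ y ∈ L
      simp only [L, Submodule.mem_span_singleton]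
      refine ⟨fun ⟨d, hd⟩ => ⟨d / c, hbij φ ?_⟩, fun ⟨d, hd⟩ => ⟨d * c, ?_⟩⟩
      · rw [map_smul, hc, smul_smul, div_mul_cancel₀ d hc0, hd]
      · rw [← hd, map_smul, hc, smul_smul]
  refine ⟨X, hX, a, (kIso k).hom ≫ x₀, fun g => ?_⟩
  have h1 := hact (CommAlgCat.of k k) (ptsEquiv e g) x₀
  have h3 : ((Spec.mapMulEquiv (ptsEquiv e g) : SpA (CommAlgCat.of k k) ⟶ _) ≫ e.hom) = (kIso k).inv ≫ g := by
    conv_rhs => rw [← (ptsEquiv e).symm_apply_apply g]
    exact ((kIso k).inv_hom_id_assoc _).symm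
  rw [h3, show E (CommAlgCat.of k k) x₀ = N from Equiv.apply_symm_apply _ _] at h1
  have h4 : lift g ((kIso k).hom ≫ x₀) ≫ a.act = (kIso k).hom ≫ lift ((kIso k).inv ≫ g) x₀ ≫ a.act := by
    rw [comp_lift_assoc, Iso.hom_inv_id_assoc]
  rw [h4, cancel_epi]
  refine (E (CommAlgCat.of k k)).injective.eq_iff.symm.trans ?_
  rw [h1, show E (CommAlgCat.of k k) x₀ = N from Equiv.apply_symm_apply _ _, hpull, Subgroup.inv_mem_iff]
  refine ⟨fun ⟨_, ⟨h, rfl⟩, hh⟩ => ⟨h, (ptsEquiv e).injective hh⟩, fun ⟨h, hh⟩ => ⟨_, ⟨h, rfl⟩, ?_⟩⟩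
  exact congrArg (ptsEquiv e) hh

end Groth.Agent.Chev.ProjRep
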