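import Groth.Agent.Chev.AntiAff
import Groth.Agent.RedR1.TorusCover
import Groth.Agent.MTBridge.MonoTori

/-!
# Tori over a field are affine, smooth and connected
-/

set_option autoImplicit false
set_option linter.style.haveILetI false
set_option backward.isDefEq.respectTransparency false
set_option maxHeartbeats 1000000
universe u

open CategoryTheory Limits MonoidalCategory CartesianMonoidalCategory MonObj GrpObj AlgebraicGeometry
open AlgGrp

noncomputable section

namespace Groth.Agent.Chev

variable {k : Type u} [Field k] {T : Over (Spec (CommRingCat.of k))} [GrpObj T]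

/-- A torus over a field is affine. -/
theorem isAffine_of_isTorus (hT : Red.IsTorus T) : IsAffine T.left :=
  haveI := MTBridge.isAffineHom T (MTBridge.isMultTypeFT_of_isTorus T hT)
  isAffine_of_isAffineHom T.hom

/-- A torus over a field is of finite type. -/
theorem locallyOfFiniteType_of_isTorus (hT : Red.IsTorus T) : LocallyOfFiniteType T.hom :=
  MTFT.locallyOfFiniteType T (MTBridge.isMultTypeFT_of_isTorus T hT)

/-- A torus over a field splits over an algebraically closed extension. -/
theorem exists_split_of_isTorus (hT : Red.IsTorus T) :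
    ∃ (L : Type u) (_ : Field L) (_ : IsAlgClosed L) (w : Spec (CommRingCat.of L) ⟶ Spec (CommRingCat.of k)) (r : ℕ),
      Red.IsSplitTorusWith (Fin r → ℤ) (Red.bc w T) := by
  obtain ⟨S', f, -, hfs, -, hloc⟩ := hT
  obtain ⟨s', -⟩ := hfs.surj (IsLocalRing.closedPoint k)
  obtain ⟨U, hs', r, hr⟩ := hloc s'
  let g : Spec (CommRingCat.of (AlgebraicClosure ((U : Scheme.{u}).residueField ⟨s', hs'⟩))) ⟶ (U : Scheme.{u}) :=
    Spec.map (CommRingCat.ofHom (algebraMap ((U : Scheme.{u}).residueField ⟨s', hs'⟩) (AlgebraicClosure ((U : Scheme.{u}).residueField ⟨s', hs'⟩)))) ≫ (U : Scheme.{u}).fromSpecResidueField ⟨s', hs'⟩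
  exact ⟨_, inferInstance, inferInstance, g ≫ U.ι ≫ f, r, MTBridge.nonempty_bc_split hr g⟩

theorem smooth_connected_of_isTorus (hT : Red.IsTorus T) : Smooth T.hom ∧ ConnectedSpace T.left := by
  haveI := locallyOfFiniteType_of_isTorus hT
  obtain ⟨L, _, _, w, r, hs⟩ := exists_split_of_isTorus hT
  obtain ⟨e⟩ := hs
  haveI : IsIso e.hom.hom.hom.left :=
    inferInstanceAs (IsIso ((Over.forget _).map ((Grp.forget _).map e.hom)))
  haveI := RedR1.isIntegral_DS L r
  haveI : Nonempty (Red.bc w T).left := ⟨(inv e.hom.hom.hom.left) (Classical.arbitrary _)⟩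
  haveI : IsIntegral (Red.bc w T).left := isIntegral_of_isOpenImmersion e.hom.hom.hom.left
  haveI : Surjective w := ⟨fun _ => ⟨IsLocalRing.closedPoint _, Subsingleton.elim (α := PrimeSpectrum k) _ _⟩⟩
  haveI : Flat w := by
    rw [← Spec.map_preimage w, Flat.SpecMap_iff]
    letI := (Spec.preimage w).hom.toAlgebra
    exact RingHom.flat_algebraMap_iff.2 (inferInstanceAs (Module.Flat k L))
  haveI : LocallyOfFiniteType (Red.bc w T).hom := inferInstanceAs (LocallyOfFiniteType (pullback.snd T.hom w))
  letI : GrpObj (Over.mk (Red.bc w T).hom) := inferInstanceAs (GrpObj (Red.bc w T))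
  have hsm : Smooth (Red.bc w T).hom := GrpBasic.smooth_of_grpObj_perfect (Red.bc w T).hom
  refine ⟨MorphismProperty.of_pullback_snd_of_descendsAlong (P := @Smooth)
    (Q := @Surjective ⊓ @Flat ⊓ @QuasiCompact) (g := w)
    ⟨⟨inferInstance, inferInstance⟩, inferInstance⟩ hsm, ?_⟩
  haveI : Surjective (pullback.fst T.hom w) := MorphismProperty.pullback_fst _ _ ‹_›
  haveI : ConnectedSpace (pullback T.hom w :) := inferInstanceAs (ConnectedSpace (Red.bc w T).left)
  exact (pullback.fst T.hom w).surjective.connectedSpace (pullback.fst T.hom w).continuous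

theorem smooth_of_isTorus (hT : Red.IsTorus T) : Smooth T.hom := (smooth_connected_of_isTorus hT).1

theorem connectedSpace_of_isTorus (hT : Red.IsTorus T) : ConnectedSpace T.left := (smooth_connected_of_isTorus hT).2

/-- A homomorphism from a torus to a proper group is trivial. -/
theorem eq_one_of_isTorus_of_proper (hT : Red.IsTorus T) {Q : Over (Spec (CommRingCat.of k))} [GrpObj Q]
    [IsProper Q.hom] (f : T ⟶ Q) [IsMonHom f] : f = 1 :=
  haveI := isAffine_of_isTorus hT
  haveI := smooth_of_isTorus hT
  haveI := connectedSpace_of_isTorus hT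
  eq_one_of_affine_of_proper' f

end Groth.Agent.Chev
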