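import Groth.Agent.Chev.SolvHopf
import Groth.Agent.Chev.SubgroupStab
import Groth.Agent.Chev.TorusBasic
import Groth.Agent.MTBridge.MonoTori
import Groth.Agent.MTBridge.Hom
import Groth.Agent.MTSplit.Basic
import Groth.Agent.MultT.Quasi
import Groth.Agent.GrpField.AbelianField
import Groth.Agent.Rigid.FibreTranslate
import Groth.Agent.S5379
import Groth.Agent.Takeuchi.Points
import Groth.Agent.UnipMult.Eigen
import Mathlib.RingTheory.Henselian
import Mathlib.LinearAlgebra.FreeModule.PID

/-!
# The structure of connected solvable groups over an algebraically closed field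
-/

set_option autoImplicit false
set_option backward.isDefEq.respectTransparency false

universe u

open CategoryTheory CategoryTheory.Limits MonoidalCategory CartesianMonoidalCategory MonObj GrpObj AlgebraicGeometry
open TensorProduct WithConv
open Groth.Agent.MTBridge (specGrp)
open Groth.Agent.GrassClosed (SpA)

noncomputable section

namespace Groth.Agent.Chev.Borel

variable {k : Type u} [Field k] [IsAlgClosed k]

/-- The coordinate ring of a smooth connected group is a domain. -/
theorem isDomain_of_smooth_connected {G : Over (Spec (CommRingCat.of k))} [GrpObj G] [Smooth G.hom]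
    [ConnectedSpace G.left] {A : Type u} [CommRing A] [HopfAlgebra k A]
    (e : (Spec (CommRingCat.of A)).asOver (Spec (CommRingCat.of k)) ≅ G) : IsDomain A := by
  haveI : GeometricallyConnected G.hom :=
    Groth.Agent.Rigid.geometricallyConnected_of_section G.hom (η[G] : 𝟙_ _ ⟶ G).left (Over.w (η[G] : 𝟙_ _ ⟶ G))
  haveI := GrpField.isIntegral_of_smooth_connected G
  haveI : IsIso e.hom.left := inferInstanceAs (IsIso ((Over.forget _).map e.hom))
  haveI : Nonempty (Spec (CommRingCat.of A)) :=
    ⟨(inv e.hom.left) (Classical.arbitrary _)⟩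
  haveI : IsIntegral (Spec (CommRingCat.of A)) := isIntegral_of_isOpenImmersion e.hom.left
  exact (affine_isIntegral_iff (CommRingCat.of A)).1 inferInstance

/-- A torus is the spectrum of a diagonalisable Hopf algebra. -/
theorem exists_hopf_torus {T : Over (Spec (CommRingCat.of k))} [GrpObj T] (hT : Red.IsTorus T) :
    ∃ (B : Type u) (_ : CommRing B) (_ : HopfAlgebra k B)
      (e : (Spec (CommRingCat.of B)).asOver (Spec (CommRingCat.of k)) ≅ T),
      IsMonHom e.hom ∧ Algebra.FiniteType k B ∧ IsDomain B ∧ SGA3b.IsDiag k B := by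
  obtain ⟨B, _, _, hB, hft, ⟨i⟩⟩ := MTBridge.exists_hopf T (MTBridge.isMultTypeFT_of_isTorus T hT)
  let e : (Spec (CommRingCat.of B)).asOver (Spec (CommRingCat.of k)) ≅ T := (Grp.forget _).mapIso i.symm
  haveI := smooth_of_isTorus hT
  haveI := connectedSpace_of_isTorus hT
  haveI := hft
  haveI : IsAlgClosed (IsLocalRing.ResidueField k) := IsAlgClosed.of_ringEquiv k _
    (RingEquiv.ofBijective (IsLocalRing.residue k) ⟨(IsLocalRing.residue k).injective, IsLocalRing.residue_surjective⟩)
  exact ⟨B, _, _, e, i.inv.hom.isMonHom_hom, hft, isDomain_of_smooth_connected e, MultT.isDiag_of_strict hB⟩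

omit [IsAlgClosed k] in
/-- The characters of an integral diagonalisable group form a lattice. -/
theorem exists_lattice {B : Type u} [CommRing B] [HopfAlgebra k B] [Algebra.FiniteType k B] [IsDomain B]
    {M : Type u} [CommGroup M] (E : B ≃ₐc[k] MonoidAlgebra k M) :
    ∃ r : ℕ, Nonempty (M ≃* Multiplicative (Fin r → ℤ)) := by
  haveI : Algebra.FiniteType k (MonoidAlgebra k M) :=
    Algebra.FiniteType.of_surjective (E : B →ₐ[k] MonoidAlgebra k M) E.surjective
  haveI : IsDomain (MonoidAlgebra k M) :=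
    (E.symm.injective.isDomain (E.symm : MonoidAlgebra k M →ₐ[k] B).toRingHom)
  haveI : Monoid.FG M := MonoidAlgebra.finiteType_iff_fg.1 ‹_›
  haveI : Group.FG M := Group.fg_iff_monoid_fg.2 ‹_›
  haveI : Module.Finite ℤ (Additive M) := Module.Finite.iff_addGroup_fg.2 inferInstance
  haveI : IsAddTorsionFree (Additive M) := isAddTorsionFree_iff_not_isOfFinAddOrder.2 fun m hm hfin => by
    obtain ⟨n, hn, hnm⟩ := isOfFinAddOrder_iff_nsmul_eq_zero.1 hfin
    let g : M := Additive.toMul m
    have hg : g ≠ 1 := fun h => hm (congrArg Additive.ofMul h)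
    have hord : IsOfFinOrder g := isOfFinOrder_iff_pow_eq_one.2 ⟨n, hn, hnm⟩
    have hpos := hord.orderOf_pos
    let x : MonoidAlgebra k M := MonoidAlgebra.single g 1
    have hx : x ^ orderOf g = 1 := by
      rw [MonoidAlgebra.single_pow, pow_orderOf_eq_one, one_pow]; rfl
    have hgeom := geom_sum_mul x (orderOf g)
    rw [hx, sub_self] at hgeom
    rcases mul_eq_zero.1 hgeom with h | h
    · have hc := congrArg (fun y : MonoidAlgebra k M => y.coeff 1) h
      simp only [x, MonoidAlgebra.single_pow, one_pow, MonoidAlgebra.coeff_sum, Finsupp.finsetSum_apply,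
        MonoidAlgebra.coeff_single, MonoidAlgebra.coeff_zero, Finsupp.coe_zero, Pi.zero_apply] at hc
      rw [Finset.sum_eq_single_of_mem 0 (Finset.mem_range.2 hpos) (fun j hj hj0 => Finsupp.single_eq_of_ne fun h' =>
        hj0 (Nat.eq_zero_of_dvd_of_lt (orderOf_dvd_of_pow_eq_one h'.symm) (Finset.mem_range.1 hj)))] at hc
      simp at hc
    · exact hg (MonoidAlgebra.single_left_injective one_ne_zero (sub_eq_zero.1 h))
  haveI : Module.Free ℤ (Additive M) := Module.free_of_finite_type_torsion_free'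
  let b := Module.finBasis ℤ (Additive M)
  exact ⟨_, ⟨AddEquiv.toMultiplicativeRight b.equivFun.toAddEquiv⟩⟩

/-- An integral diagonalisable group is a split torus. -/
theorem split_spec {B : Type u} [CommRing B] [HopfAlgebra k B] [Algebra.FiniteType k B] [IsDomain B]
    (hB : SGA3b.IsDiag k B) :
    ∃ r : ℕ, Red.IsSplitTorusWith (Fin r → ℤ) ((Spec (CommRingCat.of B)).asOver (Spec (CommRingCat.of k))) := by
  obtain ⟨M, _, ⟨E⟩⟩ := hB
  obtain ⟨r, ⟨m⟩⟩ := exists_lattice E
  obtain ⟨e₀⟩ := MTBridge.nonempty_DS_iso k (Fin r → ℤ)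
  obtain ⟨e₁⟩ := MTBridge.nonempty_specGrp_iso (A := MonoidAlgebra k M) E
  obtain ⟨e₂⟩ := MTBridge.nonempty_specGrp_iso (MonoidAlgebra.domCongrBialgEquiv k k m)
  exact ⟨_, ⟨e₁.symm ≪≫ e₂.symm ≪≫ e₀.symm⟩⟩

/-- An integral diagonalisable group is a torus. -/
theorem isTorus_spec {B : Type u} [CommRing B] [HopfAlgebra k B] [Algebra.FiniteType k B] [IsDomain B]
    (hB : SGA3b.IsDiag k B) : Red.IsTorus ((Spec (CommRingCat.of B)).asOver (Spec (CommRingCat.of k))) := by
  obtain ⟨r, hr⟩ := split_spec hB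
  exact MTSplit.isTorus_of_locSplit (MTSplit.locSplitRank_of_split hr).locSplit

/-- A torus over an algebraically closed field is split. -/
theorem split_of_isTorus {T : Over (Spec (CommRingCat.of k))} [GrpObj T] (hT : Red.IsTorus T) :
    ∃ r : ℕ, Red.IsSplitTorusWith (Fin r → ℤ) T := by
  obtain ⟨B, _, _, e, he, hft, hdom, hB⟩ := exists_hopf_torus hT
  haveI := he; haveI := hft; haveI := hdom
  obtain ⟨r, ⟨i⟩⟩ := split_spec hB
  exact ⟨r, ⟨(Grp.mkIso' e).symm ≪≫ i⟩⟩

/-- A monomorphic endomorphism of a torus is an isomorphism. -/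
theorem isIso_endo_torus {T : Over (Spec (CommRingCat.of k))} [GrpObj T] (hT : Red.IsTorus T) (w : T ⟶ T)
    [IsMonHom w] [Mono w] : IsIso w := by
  obtain ⟨r, hr⟩ := split_of_isTorus hT
  haveI : Mono w.left := inferInstanceAs (Mono ((Over.forget _).map w))
  haveI := MTBridge.isIso_of_mono_split hr hr w
  haveI : IsIso ((Over.forget _).map w) := ‹IsIso w.left›
  exact isIso_of_reflects_iso w (Over.forget _)

omit [IsAlgClosed k] in
/-- Being a torus is invariant under isomorphism. -/
theorem isTorus_of_iso {T T' : Over (Spec (CommRingCat.of k))} [GrpObj T] [GrpObj T'] (f : T ≅ T') [IsMonHom f.hom]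
    (h : Red.IsTorus T) : Red.IsTorus T' := by
  obtain ⟨S', g, h1, h2, h3, h4⟩ := h
  refine ⟨S', g, h1, h2, h3, fun s => ?_⟩
  obtain ⟨U, hU, r, ⟨e⟩⟩ := h4 s
  exact ⟨U, hU, r, ⟨(MTBridge.bcMapIso _ (Grp.mkIso' f)).symm ≪≫ e⟩⟩

/-- A connected solvable group contains a torus, a retract of the group, into which every torus is
conjugate. -/
theorem exists_section_torus (G : Over (Spec (CommRingCat.of k))) [GrpObj G] [IsAffine G.left] [Smooth G.hom]
    [ConnectedSpace G.left] [Group.IsSolvable (RP G)] :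
    ∃ (T : Over (Spec (CommRingCat.of k))) (_ : GrpObj T) (iT : T ⟶ G) (π : G ⟶ T),
      IsMonHom iT ∧ IsMonHom π ∧ IsClosedImmersion iT.left ∧ iT ≫ π = 𝟙 T ∧ Red.IsTorus T ∧
      (∀ (T' : Over (Spec (CommRingCat.of k))) [GrpObj T'] (j : T' ⟶ G) [IsMonHom j] [Mono j], Red.IsTorus T' →
        ∃ (g : RP G) (f : T' ⟶ T), IsMonHom f ∧ f ≫ iT = AGF.conjBy g j) ∧
      ∀ (T' : Over (Spec (CommRingCat.of k))) [GrpObj T'] (f g : G ⟶ T') [IsMonHom f] [IsMonHom g], Red.IsTorus T' →
        iT ≫ f = iT ≫ g → f = g := by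
  obtain ⟨A, hA, e, he⟩ := FinHopf.exists_hopf (R := CommRingCat.of k) G
  haveI := he
  haveI : IsIso e.hom.left := inferInstanceAs (IsIso ((Over.forget _).map e.hom))
  haveI : Algebra.FiniteType k A := by
    have h0 : LocallyOfFiniteType (e.hom.left ≫ G.hom) := inferInstance
    rw [Over.w e.hom] at h0
    exact RingHom.finiteType_algebraMap.1 ((HasRingHomProperty.Spec_iff (P := @LocallyOfFiniteType)).1 h0)
  haveI : IsDomain A := isDomain_of_smooth_connected e
  haveI : Group.IsSolvable (Takeuchi.Pt k A k) :=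
    Group.isSolvable_of_surjective (f := (ProjRep.ptsEquiv e).toMonoidHom) (ProjRep.ptsEquiv e).surjective
  have htrig := Groth.Agent.S3266.result k A fun x hx => IsIdempotentElem.iff_eq_zero_or_one.1 hx
  obtain ⟨B, hBc, hBh, ψ, J, hJh, hψ, hdiag, hJ, hU⟩ := (Groth.Agent.S7967.result k A).1 htrig
  haveI := hJh
  have hB : SGA3b.IsDiag k B := MultT.isDiag_of_span hdiag
  obtain ⟨r, hr⟩ := Groth.Agent.S4128.result k A B hB ψ hψ J hJ hU
  have hrψ : ∀ b, r (ψ b) = b := DFunLike.congr_fun hr
  have hrs : Function.Surjective r := fun b => ⟨ψ b, hrψ b⟩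
  haveI : Algebra.FiniteType k B := Algebra.FiniteType.of_surjective (r : A →ₐ[k] B) hrs
  haveI : IsDomain B := hψ.isDomain (ψ : B →ₐ[k] A).toRingHom
  let T := (Spec (CommRingCat.of B)).asOver (Spec (CommRingCat.of k))
  let rT : T ⟶ (Spec (CommRingCat.of A)).asOver (Spec (CommRingCat.of k)) := Spec.mapMulEquiv (toConv (r : A →ₐ[k] B))
  let pT : (Spec (CommRingCat.of A)).asOver (Spec (CommRingCat.of k)) ⟶ T := Spec.mapMulEquiv (toConv (ψ : B →ₐ[k] A))
  haveI : IsMonHom rT := ((hopfSpec (CommRingCat.of k)).map (CommHopfAlgCat.ofHom (X := A) (Y := B) r).op).hom.isMonHom_hom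
  haveI : IsMonHom pT := ((hopfSpec (CommRingCat.of k)).map (CommHopfAlgCat.ofHom (X := B) (Y := A) ψ).op).hom.isMonHom_hom
  haveI : IsMonHom e.inv := inferInstance
  let iT : T ⟶ G := rT ≫ e.hom
  haveI : IsClosedImmersion rT.left :=
    IsClosedImmersion.spec_of_surjective (CommRingCat.ofHom (r : A →ₐ[k] B).toRingHom) hrs
  haveI : IsClosedImmersion iT.left := inferInstanceAs (IsClosedImmersion (rT.left ≫ e.hom.left))
  have hret : iT ≫ e.inv ≫ pT = 𝟙 T := by
    show (rT ≫ e.hom) ≫ e.inv ≫ pT = 𝟙 T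
    rw [Category.assoc, e.hom_inv_id_assoc]
    refine Over.OverMorphism.ext ?_
    show Spec.map _ ≫ Spec.map _ = 𝟙 _
    rw [← Spec.map_comp, ← Spec.map_id]
    exact congrArg Spec.map (CommRingCat.hom_ext (RingHom.ext hrψ))
  refine ⟨T, inferInstance, iT, e.inv ≫ pT, inferInstance, inferInstance, inferInstance, hret,
    isTorus_spec hB, fun T' _ j hj hjm hT' => ?_, fun T' _ f g _ _ hT' hfg => ?_⟩
  rotate_left
  · obtain ⟨C, _, _, e', he', hft', hdom', ⟨M, _, ⟨E⟩⟩⟩ := exists_hopf_torus hT'
    haveI := he'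
    haveI := isAffine_of_isTorus hT'
    haveI := locallyOfFiniteType_of_isTorus hT'
    haveI : IsReduced G.left := SmoothRed.isReduced_of_smooth_scheme G.hom
    -- the unipotent part goes to the identity
    have key : ∀ (q : G ⟶ T') [IsMonHom q] (p : RP G), p ≫ e.inv ≫ pT = 1 → p ≫ q = 1 := by
      intro q _ p hp
      let v : (specGrp k A).X ⟶ (specGrp k C).X := e.hom ≫ q ≫ e'.inv
      haveI : IsMonHom v := by dsimp [v]; infer_instance
      obtain ⟨h, hh⟩ := MTBridge.exists_bialgHom v
      let φ := ProjRep.ptsEquiv e p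
      have hval : ∀ c : C, (ProjRep.ptsEquiv e' (p ≫ q)) c = φ (h c) := by
        have h1 : ProjRep.ptsEquiv e' (p ≫ q) = toConv (φ.ofConv.comp (h : C →ₐ[k] A)) := by
          apply (ProjRep.ptsEquiv e').symm.injective
          rw [MulEquiv.symm_apply_apply]
          conv_lhs => rw [← (ProjRep.ptsEquiv e).symm_apply_apply p]
          show ((ProjRep.kIso k).hom ≫ _ ≫ e.hom) ≫ q = (ProjRep.kIso k).hom ≫ _ ≫ e'.hom
          refine Over.OverMorphism.ext ?_
          have hl : e.hom.left ≫ q.left = v.left ≫ e'.hom.left := by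
            rw [← Over.comp_left, ← Over.comp_left, show v ≫ e'.hom = e.hom ≫ q by simp [v]]
          show ((ProjRep.kIso k).hom.left ≫ Spec.map (CommRingCat.ofHom φ.ofConv.toRingHom) ≫ e.hom.left) ≫ q.left =
            (ProjRep.kIso k).hom.left ≫ Spec.map (CommRingCat.ofHom (φ.ofConv.comp (h : C →ₐ[k] A)).toRingHom) ≫ e'.hom.left
          rw [Category.assoc, Category.assoc, hl, hh, ← Spec.map_comp_assoc]
          rfl
        exact fun c => congrArg (fun z : Takeuchi.Pt k C k => z c) h1
      have hφψ : ∀ b : B, φ (ψ b) = Coalgebra.counit (R := k) b := by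
        have h1 : (Spec.mapMulEquiv φ : SpA (CommAlgCat.of k k) ⟶ _) ≫ pT = 1 := by
          have : (Spec.mapMulEquiv φ : SpA (CommAlgCat.of k k) ⟶ _) = ((ProjRep.kIso k).inv ≫ p) ≫ e.inv :=
            (Spec.mapMulEquiv (R := k) (S := A) (T := k)).apply_symm_apply _
          rw [this, Category.assoc, Category.assoc, hp, MonObj.comp_one]
        have h2 : (toConv (φ.ofConv.comp (ψ : B →ₐ[k] A)) : Takeuchi.Pt k B k) = 1 := by
          apply (Spec.mapMulEquiv (R := k) (S := B) (T := k)).injective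
          rw [map_one]
          refine Eq.trans ?_ h1
          refine Over.OverMorphism.ext ?_
          show Spec.map _ = Spec.map _ ≫ Spec.map _
          rw [← Spec.map_comp]
          rfl
        intro b
        simpa [AlgHom.convOne_apply] using congrArg (fun z : Takeuchi.Pt k B k => z b) h2
      have hφJ : ∀ a ∈ J, φ a = 0 := by
        intro a ha
        have h0 : J ≤ RingHom.ker φ.ofConv := by
          rw [hJ]
          exact Ideal.map_le_iff_le_comap.2 fun b hb => (hφψ b).trans hb
        exact h0 ha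
      apply (ProjRep.ptsEquiv e').injective
      rw [map_one]
      refine WithConv.ext (AlgHom.ext fun c => ?_)
      rw [AlgHom.convOne_apply]
      refine (hval c).trans ?_
      obtain ⟨x, hx⟩ := E.symm.surjective c
      rw [← hx]
      clear hx c
      show φ (h ((E.symm : MonoidAlgebra k M →ₐc[k] C) x)) = algebraMap k k (Coalgebra.counit (R := k) ((E.symm : MonoidAlgebra k M →ₐc[k] C) x))
      induction x using MonoidAlgebra.induction_linear with
      | zero => simp
      | add x y hx hy => simp only [map_add, hx, hy]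
      | single m d =>
        rw [show MonoidAlgebra.single m d = d • MonoidAlgebra.single m (1 : k) by simp]
        simp only [map_smul, smul_eq_mul]
        congr 1
        have hg := ((MonoidAlgebra.isGroupLikeElem_single_one (R := k) (A := k) m).map
          ((Bialgebra.Quotient.mkBialgHom J).comp (h.comp (E.symm : MonoidAlgebra k M →ₐc[k] C))))
        let xb : A ⧸ J := Ideal.Quotient.mk J (h ((E.symm : MonoidAlgebra k M →ₐc[k] C) (MonoidAlgebra.single m 1)))
        have h1 : (1 : k) ⊗ₜ[k] xb = 1 := UnipMult.groupLike_eq_one hU _ (by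
          rw [TensorProduct.comul_tmul, show Coalgebra.comul (R := k) xb = xb ⊗ₜ[k] xb from hg.comul_eq_tmul_self]
          simp) (fun h0 => one_ne_zero (α := k) (by
          have hc := congrArg (fun y => Coalgebra.counit (R := k) (TensorProduct.lid k (A ⧸ J) y)) h0
          simpa [show Coalgebra.counit (R := k) xb = 1 from hg.counit_eq_one] using hc))
        have h2 : xb = 1 := by simpa [Algebra.TensorProduct.one_def] using congrArg (TensorProduct.lid k (A ⧸ J)) h1
        have h3 := hφJ _ (Ideal.Quotient.eq.1 (h2.trans (map_one _).symm))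
        rw [map_sub, map_one, sub_eq_zero] at h3
        rw [h3, CoalgHomClass.counit_comp_apply]
        simp
    refine BorelFixed.hom_ext_rp fun p => ?_
    haveI : IsMonHom (e.inv ≫ pT) := inferInstance
    let w := p ≫ (e.inv ≫ pT) ≫ iT
    have hu : (p * w⁻¹) ≫ e.inv ≫ pT = 1 := by
      rw [MonObj.mul_comp, GrpObj.inv_comp]
      simp only [w, Category.assoc]
      rw [hret, Category.comp_id, mul_inv_cancel]
    have hp : ∀ (q : G ⟶ T') [IsMonHom q], p ≫ q = p ≫ (e.inv ≫ pT) ≫ iT ≫ q := fun q _ => by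
      have := key q (p * w⁻¹) hu
      rw [MonObj.mul_comp, GrpObj.inv_comp, mul_inv_eq_one] at this
      simpa [w] using this
    rw [hp f, hp g, hfg]
  obtain ⟨B', _, _, e', he', hft', hdom', hB'⟩ := exists_hopf_torus hT'
  haveI := he'; haveI := hft'; haveI := hdom'
  haveI := isAffine_of_isTorus hT'
  haveI : QuasiCompact j.left := inferInstance
  haveI : IsClosedImmersion j.left := Groth.Agent.S5379.result k T' G j
  haveI : IsIso e'.hom.left := inferInstanceAs (IsIso ((Over.forget _).map e'.hom))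
  haveI : IsIso e.inv.left := inferInstanceAs (IsIso ((Over.forget _).map e.inv))
  let v : (specGrp k B').X ⟶ (specGrp k A).X := e'.hom ≫ j ≫ e.inv
  haveI : IsMonHom v := by dsimp [v]; infer_instance
  obtain ⟨jh, hjh⟩ := MTBridge.exists_bialgHom v
  haveI : IsClosedImmersion v.left := inferInstanceAs (IsClosedImmersion (e'.hom.left ≫ j.left ≫ e.inv.left))
  have hsurj : Function.Surjective jh := by
    let φ : CommRingCat.of A ⟶ CommRingCat.of B' := CommRingCat.ofHom (jh : A →ₐ[k] B').toRingHom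
    haveI : IsClosedImmersion (Spec.map φ) := hjh ▸ ‹IsClosedImmersion v.left›
    have h := (IsClosedImmersion.isAffine_surjective_of_isAffine (Spec.map φ)).2
    intro c
    obtain ⟨a, ha⟩ := h ((Scheme.ΓSpecIso _).inv c)
    refine ⟨(Scheme.ΓSpecIso (CommRingCat.of A)).hom a, ?_⟩
    show φ ((Scheme.ΓSpecIso _).hom a) = c
    rw [← CommRingCat.comp_apply, ← Scheme.ΓSpecIso_naturality, CommRingCat.comp_apply, ha,
      Iso.inv_hom_id_apply]
  obtain ⟨u, hu⟩ := SolvHopf.exists_conj_section hB hB' ψ J hJ hU r hr jh hsurj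
  let fh := jh.comp ψ
  let f₀ : (Spec (CommRingCat.of B')).asOver (Spec (CommRingCat.of k)) ⟶ T :=
    Spec.mapMulEquiv (toConv (fh : B →ₐ[k] B'))
  haveI : IsMonHom f₀ := ((hopfSpec (CommRingCat.of k)).map (CommHopfAlgCat.ofHom (X := B) (Y := B') fh).op).hom.isMonHom_hom
  let g : RP G := (ProjRep.ptsEquiv e).symm (toConv u)
  refine ⟨g⁻¹, e'.inv ≫ f₀, inferInstance, ?_⟩
  have hc : (toConv (jh : A →ₐ[k] B') : Takeuchi.Pt k A B') = toConv ((Algebra.ofId k B').comp u) *
      toConv ((fh.comp r : A →ₐc[k] B') : A →ₐ[k] B') * (toConv ((Algebra.ofId k B').comp u))⁻¹ := by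
    conv_lhs => rw [hu, Takeuchi.conv3_eq]
    rw [toConv_ofConv]
    rfl
  have hv : v = Spec.mapMulEquiv (toConv (jh : A →ₐ[k] B')) := Over.OverMorphism.ext hjh
  have hu' : (Spec.mapMulEquiv (toConv ((Algebra.ofId k B').comp u)) :
      (Spec (CommRingCat.of B')).asOver (Spec (CommRingCat.of k)) ⟶ _) = toUnit _ ≫ g ≫ e.inv := by
    have : g ≫ e.inv = (ProjRep.kIso k).hom ≫ (Spec.mapMulEquiv (toConv u) : SpA (CommAlgCat.of k k) ⟶ _) := by
      show ((ProjRep.kIso k).hom ≫ _ ≫ e.hom) ≫ e.inv = _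
      simp
    rw [this]
    refine Over.OverMorphism.ext ?_
    show Spec.map _ = Spec.map (CommRingCat.ofHom (algebraMap k B')) ≫ 𝟙 _ ≫ Spec.map _
    rw [Category.id_comp, ← Spec.map_comp]
    rfl
  have hmid : (Spec.mapMulEquiv (toConv ((fh.comp r : A →ₐc[k] B') : A →ₐ[k] B')) :
      (Spec (CommRingCat.of B')).asOver (Spec (CommRingCat.of k)) ⟶ _) = f₀ ≫ rT := by
    refine Over.OverMorphism.ext ?_
    show Spec.map _ = Spec.map _ ≫ Spec.map _
    rw [← Spec.map_comp]
    rfl
  have hj : j = AGF.conjBy g ((e'.inv ≫ f₀) ≫ iT) := by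
    have h1 : j = e'.inv ≫ v ≫ e.hom := by simp [v]
    conv_lhs => rw [h1, hv, hc, map_mul, map_mul, map_inv, hu', hmid]
    simp only [MonObj.mul_comp, GrpObj.inv_comp, MonObj.comp_mul, GrpObj.comp_inv, Category.assoc, Iso.inv_hom_id,
      Category.comp_id, AGF.conjBy, iT]
    rw [← Category.assoc e'.inv (toUnit _), toUnit_unique (e'.inv ≫ toUnit _) (toUnit T')]
  rw [hj, conjBy_conjBy, inv_mul_cancel, conjBy_one]

end Groth.Agent.Chev.Borel
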