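import Groth.Agent.Chev.CentTorus
import Groth.Agent.Chev.SolvTorus

/-!
# Centralizers of tori in affine groups over an algebraically closed field
-/

set_option autoImplicit false
set_option backward.isDefEq.respectTransparency false

universe u

open CategoryTheory CategoryTheory.Limits MonoidalCategory CartesianMonoidalCategory MonObj GrpObj AlgebraicGeometry
open TensorProduct WithConv
open scoped Groth.Agent.Takeuchi
open Groth.Agent.MTBridge (specGrp)
open Groth.Agent.GrassClosed (SpA over_hom_ext exists_hom_of_points)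
open Groth.Agent.Takeuchi (Pt push push_mul push_inv)

noncomputable section

namespace Groth.Agent.Chev.Borel

variable {k : Type u} [Field k]

section Pts

variable {A : Type u} [CommRing A] [HopfAlgebra k A] {G : Over (Spec (CommRingCat.of k))} [GrpObj G]
  (e : (Spec (CommRingCat.of A)).asOver (Spec (CommRingCat.of k)) ≅ G) [IsMonHom e.hom]

/-- Affine points of a group as points of its coordinate ring. -/
def ptsR (R : CommAlgCat.{u} k) : (SpA R ⟶ G) ≃* Pt k A R where
  toFun g := Spec.mapMulEquiv.symm (g ≫ e.inv)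
  invFun φ := (Spec.mapMulEquiv φ : SpA R ⟶ _) ≫ e.hom
  left_inv g := by
    have h := (Spec.mapMulEquiv (R := k) (S := A) (T := R)).apply_symm_apply (g ≫ e.inv)
    show _ ≫ e.hom = g
    rw [h]
    simp
  right_inv φ := by
    show Spec.mapMulEquiv.symm ((_ ≫ e.hom) ≫ e.inv) = φ
    rw [Category.assoc, e.hom_inv_id, Category.comp_id]
    exact (Spec.mapMulEquiv (R := k) (S := A) (T := R)).symm_apply_apply φ
  map_mul' g h := by
    haveI : IsMonHom e.inv := inferInstance
    rw [MonObj.mul_comp]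
    exact map_mul (Spec.mapMulEquiv (R := k) (S := A) (T := R)).symm _ _

theorem sp_ptsR_symm {R R' : CommAlgCat.{u} k} (φ : R →ₐ[k] R') (x : Pt k A R) :
    PtsAction.sp φ ≫ (ptsR e R).symm x = (ptsR e R').symm (push φ x) := by
  refine Over.OverMorphism.ext ?_
  show Spec.map _ ≫ Spec.map _ ≫ e.hom.left = Spec.map _ ≫ e.hom.left
  rw [← Spec.map_comp_assoc]
  rfl

theorem ptsR_sp {R R' : CommAlgCat.{u} k} (φ : R →ₐ[k] R') (g : SpA R ⟶ G) :
    ptsR e R' (PtsAction.sp φ ≫ g) = push φ (ptsR e R g) := by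
  apply (ptsR e R').symm.injective
  rw [MulEquiv.symm_apply_apply, ← sp_ptsR_symm e φ, MulEquiv.symm_apply_apply]

end Pts

/-- Finitely many nonzero lattice points are moved by one functional. -/
theorem exists_separating {r : ℕ} {M : Type u} [CommGroup M] (m : M ≃* Multiplicative (Fin r → ℤ))
    (s : Finset M) (hs : ∀ x ∈ s, x ≠ 1) : ∃ θ : M →* Multiplicative ℤ, ∀ x ∈ s, θ x ≠ 1 := by
  classical
  let v : M → Fin r → ℤ := fun x => Multiplicative.toAdd (m x)
  let P : Polynomial ℤ := ∏ x ∈ s, ∑ i : Fin r, Polynomial.C (v x i) * Polynomial.X ^ (i : ℕ)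
  have hP : P ≠ 0 := Finset.prod_ne_zero_iff.2 fun x hx h => hs x hx (m.injective (by
    rw [map_one]
    refine Multiplicative.toAdd.injective (funext fun i => ?_)
    have := congrArg (fun q : Polynomial ℤ => q.coeff (i : ℕ)) h
    simpa [v, Fin.val_inj, Polynomial.coeff_X_pow] using this))
  obtain ⟨n, hn⟩ : ∃ n : ℤ, P.eval n ≠ 0 := by
    by_contra! h
    exact hP (Polynomial.funext fun x => by simpa using h x)
  let f : (Fin r → ℤ) →+ ℤ :=
    { toFun := fun y => ∑ i : Fin r, y i * n ^ (i : ℕ)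
      map_zero' := by simp
      map_add' := fun y z => by simp [add_mul, Finset.sum_add_distrib] }
  refine ⟨(AddMonoidHom.toMultiplicative f).comp m.toMonoidHom, fun x hx h => ?_⟩
  simp only [P, Polynomial.eval_prod, Finset.prod_ne_zero_iff] at hn
  refine hn x hx ?_
  simpa [f, v, mul_comm, Polynomial.eval_finsetSum, AddMonoidHom.toMultiplicative] using congrArg Multiplicative.toAdd h

variable [IsAlgClosed k]

/-- Centralizers of tori in smooth affine groups are smooth, connected if the group is, and equal to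
the centralizer of one rational point. -/
theorem centralizer_torus {G T C : Over (Spec (CommRingCat.of k))} [GrpObj G] [GrpObj T] [GrpObj C] [IsAffine G.left]
    [Smooth G.hom] (iT : T ⟶ G) [IsMonHom iT] (hT : Red.IsTorus T) (c : C ⟶ G) (hc : Red.IsCentralizerOf iT c) :
    Smooth C.hom ∧ IsAffine C.left ∧ IsClosedImmersion c.left ∧ (ConnectedSpace G.left → ConnectedSpace C.left) ∧
      ∃ s : RP T, ∀ (X : Over (Spec (CommRingCat.of k))) (g : X ⟶ G),
        g * (toUnit X ≫ s ≫ iT) = (toUnit X ≫ s ≫ iT) * g ↔ ∃ z : X ⟶ C, z ≫ c = g := by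
  obtain ⟨hcm, hcmono, hcu⟩ := hc
  haveI := hcm; haveI := hcmono
  obtain ⟨A, hA, e, he⟩ := FinHopf.exists_hopf (R := CommRingCat.of k) G
  haveI := he
  haveI : IsIso e.hom.left := inferInstanceAs (IsIso ((Over.forget _).map e.hom))
  have hw : Spec.map (CommRingCat.ofHom (algebraMap k A)) = e.hom.left ≫ G.hom := (Over.w e.hom).symm
  haveI : Algebra.FiniteType k A := by
    have h0 : LocallyOfFiniteType (e.hom.left ≫ G.hom) := inferInstance
    rw [← hw] at h0
    exact RingHom.finiteType_algebraMap.1 ((HasRingHomProperty.Spec_iff (P := @LocallyOfFiniteType)).1 h0)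
  haveI hfp : Algebra.FinitePresentation k A := Algebra.FinitePresentation.of_finiteType.1 inferInstance
  haveI hsm : Algebra.Smooth k A := by
    have h0 : Smooth (e.hom.left ≫ G.hom) := inferInstance
    rw [← hw] at h0
    exact RingHom.smooth_algebraMap.1 ((HasRingHomProperty.Spec_iff (P := @Smooth)).1 h0)
  obtain ⟨B, _, _, e', he', hft', hdom', ⟨M, _, ⟨E⟩⟩⟩ := exists_hopf_torus hT
  haveI := he'; haveI := hft'; haveI := hdom'
  obtain ⟨r, ⟨m⟩⟩ := exists_lattice E
  let v : (specGrp k B).X ⟶ (specGrp k A).X := e'.hom ≫ iT ≫ e.inv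
  haveI : IsMonHom e.inv := inferInstance
  haveI : IsMonHom v := by dsimp [v]; infer_instance
  obtain ⟨th, hth⟩ := MTBridge.exists_bialgHom v
  let t : A →ₐc[k] MonoidAlgebra k M := (E : B →ₐc[k] MonoidAlgebra k M).comp th
  obtain ⟨J, hJh, χ, hJ, hχ, hsmJ, hconnJ⟩ := CentTorus.exists_centralizer t (exists_separating m)
  haveI := hJh
  let Tpt : Pt k A (MonoidAlgebra k M) := toConv (t : A →ₐ[k] MonoidAlgebra k M)
  -- points of the torus
  have hpt : ∀ (R : CommAlgCat.{u} k) (h : SpA R ⟶ T), ∃ eta : MonoidAlgebra k M →ₐ[k] R,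
      ptsR e R (h ≫ iT) = push eta Tpt := by
    intro R h
    let ψ := ptsR e' R h
    refine ⟨ψ.ofConv.comp ((E.symm : MonoidAlgebra k M →ₐc[k] B) : MonoidAlgebra k M →ₐ[k] B), ?_⟩
    have e1 : ptsR e R (h ≫ iT) = toConv (ψ.ofConv.comp (th : A →ₐ[k] B)) := by
      apply (ptsR e R).symm.injective
      rw [MulEquiv.symm_apply_apply]
      conv_lhs => rw [← (ptsR e' R).symm_apply_apply h]
      refine Over.OverMorphism.ext ?_
      have hl : e'.hom.left ≫ iT.left = v.left ≫ e.hom.left := by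
        rw [← Over.comp_left, ← Over.comp_left, show v ≫ e.hom = e'.hom ≫ iT by simp [v]]
      show (Spec.map (CommRingCat.ofHom ψ.ofConv.toRingHom) ≫ e'.hom.left) ≫ iT.left =
        Spec.map (CommRingCat.ofHom (ψ.ofConv.comp (th : A →ₐ[k] B)).toRingHom) ≫ e.hom.left
      rw [Category.assoc, hl, hth, ← Spec.map_comp_assoc]
      rfl
    rw [e1]
    exact WithConv.ext (AlgHom.ext fun a => by simp [push, Tpt, t])
  have hpt' : ∀ (R : CommAlgCat.{u} k) (eta : MonoidAlgebra k M →ₐ[k] R), ∃ h : SpA R ⟶ T,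
      ptsR e R (h ≫ iT) = push eta Tpt := by
    intro R eta
    refine ⟨(ptsR e' R).symm (toConv (eta.comp ((E : B →ₐc[k] MonoidAlgebra k M) : B →ₐ[k] MonoidAlgebra k M))), ?_⟩
    obtain ⟨eta', heta'⟩ := hpt R ((ptsR e' R).symm (toConv (eta.comp ((E : B →ₐc[k] MonoidAlgebra k M) : B →ₐ[k] MonoidAlgebra k M))))
    apply (ptsR e R).symm.injective
    rw [MulEquiv.symm_apply_apply]
    refine Over.OverMorphism.ext ?_
    have hl : e'.hom.left ≫ iT.left = v.left ≫ e.hom.left := by
      rw [← Over.comp_left, ← Over.comp_left, show v ≫ e.hom = e'.hom ≫ iT by simp [v]]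
    show (Spec.map (CommRingCat.ofHom (eta.comp ((E : B →ₐc[k] MonoidAlgebra k M) : B →ₐ[k] MonoidAlgebra k M)).toRingHom) ≫ e'.hom.left) ≫ iT.left =
      Spec.map (CommRingCat.ofHom (eta.comp (t : A →ₐ[k] MonoidAlgebra k M)).toRingHom) ≫ e.hom.left
    rw [Category.assoc, hl, hth, ← Spec.map_comp_assoc]
    rfl
  have conj_iff : ∀ {R : Type u} [CommRing R] [Algebra k R] (eta : MonoidAlgebra k M →ₐ[k] R) (g : Pt k A R),
      CentTorus.conj t (AlgHom.id k R) eta g = g ↔ g * push eta Tpt = push eta Tpt * g := by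
    intro R _ _ eta g
    rw [CentTorus.conj, show push (AlgHom.id k R) g = g from WithConv.ext (AlgHom.id_comp _), mul_inv_eq_iff_eq_mul]
    exact eq_comm
  -- the closed subgroup
  let Z := (Spec (CommRingCat.of (A ⧸ J))).asOver (Spec (CommRingCat.of k))
  let gZ : Z ⟶ G := (ptsR e (CommAlgCat.of k (A ⧸ J))).symm (toConv (Ideal.Quotient.mkₐ k J))
  haveI : IsClosedImmersion (Spec.map (CommRingCat.ofHom (Ideal.Quotient.mkₐ k J).toRingHom)) :=
    IsClosedImmersion.spec_of_surjective _ Ideal.Quotient.mk_surjective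
  haveI : IsClosedImmersion gZ.left :=
    inferInstanceAs (IsClosedImmersion (Spec.map (CommRingCat.ofHom (Ideal.Quotient.mkₐ k J).toRingHom) ≫ e.hom.left))
  haveI : Mono gZ := GrpField.SchImg.mono_of_isClosedImmersion gZ
  obtain ⟨w, hw'⟩ : ∃ w : Z ⟶ C, w ≫ c = gZ := (hcu Z gZ).2 fun X' x h => by
    refine over_hom_ext _ _ fun R p => ?_
    rw [MonObj.comp_mul, MonObj.comp_mul, ← Category.assoc p h]
    apply (ptsR e R).injective
    obtain ⟨eta, heta⟩ := hpt R (p ≫ h)
    let q : SpA R ⟶ SpA (CommAlgCat.of k (A ⧸ J)) := p ≫ x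
    obtain ⟨φ, hφ⟩ : ∃ φ : (A ⧸ J) →ₐ[k] R, ptsR e R (p ≫ x ≫ gZ) = push φ (toConv (Ideal.Quotient.mkₐ k J)) := by
      let φ : WithConv ((A ⧸ J) →ₐ[k] R) := Spec.mapMulEquiv.symm (q : SpA R ⟶ Z)
      refine ⟨φ.ofConv, ?_⟩
      have hq : (Spec.mapMulEquiv φ : SpA R ⟶ Z) = q :=
        (Spec.mapMulEquiv (R := k) (S := A ⧸ J) (T := R)).apply_symm_apply _
      rw [← Category.assoc, show p ≫ x = (Spec.mapMulEquiv φ : SpA R ⟶ Z) from hq.symm]
      have := ptsR_sp e (R := CommAlgCat.of k (A ⧸ J)) (R' := R) φ.ofConv gZ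
      rw [show ptsR e (CommAlgCat.of k (A ⧸ J)) gZ = toConv (Ideal.Quotient.mkₐ k J) from MulEquiv.apply_symm_apply _ _] at this
      exact this
    rw [map_mul, map_mul, heta, hφ, ← conj_iff]
    have hcomm := (hJ (A ⧸ J) (toConv (Ideal.Quotient.mkₐ k J))).1 fun a ha => Ideal.Quotient.eq_zero_iff_mem.2 ha
    have hR : CentTorus.Commutes t (push φ (toConv (Ideal.Quotient.mkₐ k J))) :=
      (hJ R _).1 fun a ha => by
        show φ (Ideal.Quotient.mk J a) = 0
        rw [Ideal.Quotient.eq_zero_iff_mem.2 ha, map_zero]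
    exact (CentTorus.commutes_conj t hR (AlgHom.id k R) eta).trans (WithConv.ext (AlgHom.id_comp _))
  -- points fixed by the torus lie in the subgroup
  have key : ∀ (X : Over (Spec (CommRingCat.of k))) (g : X ⟶ G),
      (∀ (R : CommAlgCat.{u} k) (p : SpA R ⟶ X), CentTorus.Commutes t (ptsR e R (p ≫ g))) →
        ∃ z : X ⟶ Z, z ≫ gZ = g := by
    intro X g hg
    choose z hz using fun (R : CommAlgCat.{u} k) (p : SpA R ⟶ X) =>
      (⟨(Spec.mapMulEquiv (toConv (Ideal.Quotient.liftₐ J (ptsR e R (p ≫ g)).ofConv ((hJ R _).2 (hg R p)))) :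
        SpA R ⟶ Z), rfl⟩ : ∃ z : SpA R ⟶ Z, z = _)
    have hzg : ∀ (R : CommAlgCat.{u} k) (p : SpA R ⟶ X), z R p ≫ gZ = p ≫ g := by
      intro R p
      rw [hz]
      apply (ptsR e R).injective
      have := ptsR_sp e (R := CommAlgCat.of k (A ⧸ J)) (R' := R)
        (Ideal.Quotient.liftₐ J (ptsR e R (p ≫ g)).ofConv ((hJ R _).2 (hg R p))) gZ
      rw [show ptsR e (CommAlgCat.of k (A ⧸ J)) gZ = toConv (Ideal.Quotient.mkₐ k J) from MulEquiv.apply_symm_apply _ _] at this
      exact this.trans (WithConv.ext (AlgHom.ext fun a => rfl))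
    obtain ⟨zz, hzz⟩ := exists_hom_of_points (Y := X) (X := Z) z (fun R R' φ p p' hp => by
      have e0 : p' = PtsAction.sp φ.hom ≫ p := Over.OverMorphism.ext hp
      have e1 : z R' p' = PtsAction.sp φ.hom ≫ z R p := by
        rw [← cancel_mono gZ, Category.assoc, hzg, hzg, e0, Category.assoc]
      rw [e1]
      rfl)
    exact ⟨zz, over_hom_ext _ _ fun R p => by rw [← Category.assoc, hzz, hzg]⟩
  obtain ⟨w', hw''⟩ := key C c fun R p => by
    have hu := (hcu C c).1 ⟨𝟙 C, Category.id_comp c⟩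
    let R₂ := CommAlgCat.of k (R ⊗[k] MonoidAlgebra k M)
    obtain ⟨h, hh⟩ := hpt' R₂ Algebra.TensorProduct.includeRight
    have := congrArg (ptsR e R₂) (hu (SpA R₂) (PtsAction.sp (A := R) (B := R₂) Algebra.TensorProduct.includeLeft ≫ p) h)
    rw [map_mul, map_mul, hh, Category.assoc, ptsR_sp] at this
    show CentTorus.conj t _ _ _ = _
    rw [CentTorus.conj, mul_inv_eq_iff_eq_mul]
    exact this.symm
  let i : Z ≅ C :=
    { hom := w
      inv := w'
      hom_inv_id := by rw [← cancel_mono gZ, Category.assoc, hw'', hw', Category.id_comp]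
      inv_hom_id := by rw [← cancel_mono c, Category.assoc, hw', hw'', Category.id_comp] }
  haveI : IsIso i.inv := i.symm.isIso_hom
  haveI : IsIso i.hom := i.isIso_hom
  haveI : IsAffine Z.left := inferInstanceAs (IsAffine (Spec (CommRingCat.of (A ⧸ J))))
  haveI : IsIso i.inv.left := inferInstanceAs (IsIso ((Over.forget _).map i.inv))
  refine ⟨?_, ?_, ?_, fun hconn => ?_, ?_⟩
  · haveI := hsmJ hfp hsm
    haveI : Smooth Z.hom := (HasRingHomProperty.Spec_iff (P := @Smooth)).2 (RingHom.smooth_algebraMap.2 inferInstance)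
    rw [← Over.w i.inv]
    infer_instance
  · exact IsAffine.of_isIso i.inv.left
  · rw [← show i.inv ≫ gZ = c from hw'', Over.comp_left]
    infer_instance
  · haveI : IsDomain A := isDomain_of_smooth_connected e
    haveI : Nontrivial (A ⧸ J) :=
      (Bialgebra.Quotient.counitAlgHom (R := k) J).toRingHom.domain_nontrivial
    have hcs : ConnectedSpace (PrimeSpectrum (A ⧸ J)) := by
      refine connectedSpace_iff_clopen.2 ⟨inferInstance, fun u hu => ?_⟩
      obtain ⟨x, hx, rfl⟩ := PrimeSpectrum.isClopen_iff.1 hu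
      rcases hconnJ (fun y hy => IsIdempotentElem.iff_eq_zero_or_one.1 hy) x hx with rfl | rfl
      · exact Or.inl (by simp)
      · exact Or.inr (by simp)
    haveI : ConnectedSpace Z.left := hcs
    haveI : IsIso i.hom.left := inferInstanceAs (IsIso ((Over.forget _).map i.hom))
    exact (asIso i.hom.left).hom.homeomorph.surjective.connectedSpace (asIso i.hom.left).hom.homeomorph.continuous
  · obtain ⟨h, hh⟩ := hpt' (CommAlgCat.of k k) χ
    refine ⟨(ProjRep.kIso k).hom ≫ h, fun X g => ⟨fun hs => ?_, ?_⟩⟩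
    · obtain ⟨z, hz⟩ := key X g fun R p => hχ R _ ((conj_iff _ _).2 (by
        have := congrArg (fun y => ptsR e R (p ≫ y)) hs
        simp only [MonObj.comp_mul, map_mul] at this
        have e1 : ptsR e R (p ≫ toUnit X ≫ ((ProjRep.kIso k).hom ≫ h) ≫ iT) = push ((Algebra.ofId k R).comp χ) Tpt := by
          have e2 : p ≫ toUnit X ≫ ((ProjRep.kIso k).hom ≫ h) ≫ iT =
              PtsAction.sp (A := CommAlgCat.of k k) (B := R) (Algebra.ofId k R) ≫ h ≫ iT := by
            rw [Category.assoc, ← Category.assoc p, ← Category.assoc (p ≫ toUnit X)]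
            congr 1
            rw [← cancel_mono (ProjRep.kIso k).inv, Category.assoc, Iso.hom_inv_id, Category.comp_id]
            exact toUnit_unique _ _
          rw [e2, ptsR_sp, hh]
          rfl
        rwa [e1] at this))
      exact ⟨z ≫ i.hom, by rw [Category.assoc, hw', hz]⟩
    · rintro ⟨z, rfl⟩
      have hu := (hcu X (z ≫ c)).1 ⟨z, rfl⟩ X (𝟙 X) (toUnit X ≫ (ProjRep.kIso k).hom ≫ h)
      simp only [Category.id_comp, Category.assoc] at hu ⊢
      exact hu

end Groth.Agent.Chev.Borel
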