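import Groth.Agent.Chev.CentSolv
import Groth.Agent.Chev.CentScheme
import Groth.Agent.S7986
import Groth.Agent.S5366

/-!
# Centralizers of maximal tori
-/

set_option autoImplicit false
set_option backward.isDefEq.respectTransparency false

universe u

open CategoryTheory CategoryTheory.Limits MonoidalCategory CartesianMonoidalCategory MonObj GrpObj AlgebraicGeometry
open TensorProduct WithConv
open Groth.Agent.Takeuchi (Pt)
open Groth.Agent.MTBridge (specGrp)

noncomputable section

namespace Groth.Agent.Chev.Borel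

open BorelFixed

variable {k : Type u} [Field k] [IsAlgClosed k]

omit [IsAlgClosed k] in
/-- Composition with a bialgebra homomorphism on rational points. -/
def ptsComp {A B : Type u} [CommRing A] [HopfAlgebra k A] [CommRing B] [HopfAlgebra k B] (f : A →ₐc[k] B) :
    Pt k B k →* Pt k A k :=
  MonoidHom.mk' (fun φ => toConv (φ.ofConv.comp (f : A →ₐ[k] B))) fun φ χ =>
    congrArg toConv (AlgHom.convMul_comp_bialgHom_distrib φ χ f)

omit [IsAlgClosed k] in
theorem ptsComp_apply {A B : Type u} [CommRing A] [HopfAlgebra k A] [CommRing B] [HopfAlgebra k B] (f : A →ₐc[k] B)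
    (φ : Pt k B k) (a : A) : ptsComp f φ a = φ (f a) := rfl

/-- The rational points of a connected group with central maximal torus form a nilpotent group. -/
theorem isNilpotent_rp_of_central {C T : Over (Spec (CommRingCat.of k))} [GrpObj C] [GrpObj T] [IsAffine C.left]
    [Smooth C.hom] [ConnectedSpace C.left] (tc : T ⟶ C) (hT : AGF.IsMaxTorus tc)
    (hcent : ∀ (p : RP T) (g : RP C), g * (p ≫ tc) = (p ≫ tc) * g) : Group.IsNilpotent (RP C) := by
  obtain ⟨B, hBg, iB, hB, hiso⟩ := exists_borel_iso_of_central tc hT hcent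
  haveI := hB.1; haveI := hiso
  haveI : Group.IsSolvable (RP B) := isSolvable_rp hB.2.2.2.2.1
  haveI : Group.IsSolvable (RP C) := Group.isSolvable_of_surjective (f := rpHom iB) fun g =>
    ⟨g ≫ inv iB, show (g ≫ inv iB) ≫ iB = g by rw [Category.assoc, IsIso.inv_hom_id, Category.comp_id]⟩
  haveI := hT.1
  obtain ⟨A, hA, e, he⟩ := FinHopf.exists_hopf (R := CommRingCat.of k) C
  haveI := he
  haveI : IsIso e.hom.left := inferInstanceAs (IsIso ((Over.forget _).map e.hom))
  haveI : Algebra.FiniteType k A := by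
    have h0 : LocallyOfFiniteType (e.hom.left ≫ C.hom) := inferInstance
    rw [Over.w e.hom] at h0
    exact RingHom.finiteType_algebraMap.1 ((HasRingHomProperty.Spec_iff (P := @LocallyOfFiniteType)).1 h0)
  haveI : IsDomain A := isDomain_of_smooth_connected e
  haveI : Group.IsSolvable (Pt k A k) :=
    Group.isSolvable_of_surjective (f := (ProjRep.ptsEquiv e).toMonoidHom) (ProjRep.ptsEquiv e).surjective
  have htrig := Groth.Agent.S3266.result k A fun x hx => IsIdempotentElem.iff_eq_zero_or_one.1 hx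
  obtain ⟨B', hB'c, hB'h, ψ, J, hJh, hψ, hdiag, hJ, hU⟩ := (Groth.Agent.S7967.result k A).1 htrig
  haveI := hJh
  have hB' : SGA3b.IsDiag k B' := MultT.isDiag_of_span hdiag
  obtain ⟨r, hr⟩ := Groth.Agent.S4128.result k A B' hB' ψ hψ J hJ hU
  have hrψ : ∀ b, r (ψ b) = b := DFunLike.congr_fun hr
  have hrs : Function.Surjective r := fun b => ⟨ψ b, hrψ b⟩
  haveI : Algebra.FiniteType k B' := Algebra.FiniteType.of_surjective (r : A →ₐ[k] B') hrs
  haveI : IsDomain B' := hψ.isDomain (ψ : B' →ₐ[k] A).toRingHom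
  haveI : Group.IsNilpotent (Pt k (A ⧸ J) k) := Groth.Agent.S7986.result k (A ⧸ J) hU
  -- the points of the torus are central
  let iU := ptsComp (Bialgebra.Quotient.mkBialgHom (R := k) J)
  let iT := ptsComp r
  let pr := ptsComp ψ
  have hprT : ∀ x, pr (iT x) = x := fun x => WithConv.ext (AlgHom.ext fun b => by
    show pr (iT x) b = x b
    rw [ptsComp_apply, ptsComp_apply, hrψ])
  have hcentral : ∀ (x : Pt k B' k) (g : Pt k A k), g * iT x = iT x * g := by
    let T' := (specGrp k B').X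
    let rT : T' ⟶ (specGrp k A).X := Spec.mapMulEquiv (toConv (r : A →ₐ[k] B'))
    haveI : IsMonHom rT := ((hopfSpec (CommRingCat.of k)).map (CommHopfAlgCat.ofHom (X := A) (Y := B') r).op).hom.isMonHom_hom
    let i' : T' ⟶ C := rT ≫ e.hom
    haveI : IsClosedImmersion i'.left := by
      haveI : IsClosedImmersion rT.left :=
        IsClosedImmersion.spec_of_surjective (CommRingCat.ofHom (r : A →ₐ[k] B').toRingHom) hrs
      exact inferInstanceAs (IsClosedImmersion (rT.left ≫ e.hom.left))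
    haveI : Mono i' := GrpField.SchImg.mono_of_isClosedImmersion i'
    obtain ⟨S, hS, iS, hiS, hiSc, hSt, huniv⟩ : ∃ (S : Over (Spec (CommRingCat.of k))) (_ : GrpObj S) (iS : S ⟶ C),
        IsMonHom iS ∧ Mono iS ∧ AGF.IsMaxTorus iS ∧ ∀ (T' : Over (Spec (CommRingCat.of k))) [GrpObj T'] (j : T' ⟶ C) [IsMonHom j] [Mono j],
          Red.IsTorus T' → ∃ (g : RP C) (f : T' ⟶ S), f ≫ iS = AGF.conjBy g j := by
      obtain ⟨S, B₂, hS, hB₂, t₂, b₂, ht₂m, ht₂c, hb₂, hSt, huniv⟩ := exists_universal_torus C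
      haveI := ht₂m; haveI := ht₂c; haveI := hb₂.1; haveI := hb₂.2.1
      haveI : Mono t₂ := GrpField.SchImg.mono_of_isClosedImmersion t₂
      haveI : Mono b₂ := GrpField.SchImg.mono_of_isClosedImmersion b₂
      exact ⟨S, hS, t₂ ≫ b₂, inferInstance, inferInstance, isMaxTorus_of_universal (t₂ ≫ b₂) hSt huniv,
        fun T' _ j _ _ hT' => by
          obtain ⟨g, f, -, hf⟩ := huniv T' j hT'
          exact ⟨g, f, hf⟩⟩
    have hT' : Red.IsTorus T' := isTorus_spec hB'
    obtain ⟨g₁, f₁, hf₁⟩ := huniv T' i' hT'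
    obtain ⟨g₂, f₂, -, hf₂⟩ := maxTorus_conj iS tc hSt hT
    intro x y
    apply (ProjRep.ptsEquiv e).symm.injective
    rw [map_mul, map_mul]
    haveI : IsMonHom (Iso.refl (specGrp k B').X).hom := inferInstanceAs (IsMonHom (𝟙 _))
    let p : RP T' := (ProjRep.ptsEquiv (Iso.refl (specGrp k B').X)).symm x
    have hp : (ProjRep.ptsEquiv e).symm (iT x) = p ≫ i' := by
      apply (ProjRep.ptsEquiv e).injective
      rw [MulEquiv.apply_symm_apply, ptsEquiv_comp (Iso.refl (specGrp k B').X) e i' (r : A →ₐ[k] B') (by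
        show 𝟙 _ ≫ rT.left ≫ e.hom.left = _
        rw [Category.id_comp]
        rfl) p, MulEquiv.apply_symm_apply]
      rfl
    rw [hp]
    generalize (ProjRep.ptsEquiv e).symm y = gy
    have e1 : i' = AGF.conjBy g₁⁻¹ (f₁ ≫ iS) := by rw [hf₁, conjBy_conjBy, inv_mul_cancel, conjBy_one]
    have e2 : iS = AGF.conjBy g₂⁻¹ (f₂.hom ≫ tc) := by rw [hf₂, conjBy_conjBy, inv_mul_cancel, conjBy_one]
    let q : RP T := (p ≫ f₁) ≫ f₂.hom
    have e3 : p ≫ i' = q ≫ tc := by
      rw [e1, comp_conjBy, toUnit_one, Category.id_comp, ← Category.assoc, e2, comp_conjBy, toUnit_one,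
        Category.id_comp, ← Category.assoc]
      change g₁⁻¹ * (g₂⁻¹ * (q ≫ tc) * g₂⁻¹⁻¹) * g₁⁻¹⁻¹ = q ≫ tc
      rw [hcent q g₂⁻¹, _root_.mul_assoc (q ≫ tc), mul_inv_cancel, _root_.mul_one, hcent q g₁⁻¹,
        _root_.mul_assoc, mul_inv_cancel, _root_.mul_one]
    rw [e3]
    exact hcent q gy
  -- the product map
  let μ' : Pt k (A ⧸ J) k × Pt k B' k →* Pt k A k := MonoidHom.noncommCoprod iU iT fun u x =>
    hcentral x (iU u)
  haveI : Group.IsNilpotent (Pt k B' k) := by
    letI : CommGroup (Pt k B' k) := { (inferInstance : Group (Pt k B' k)) with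
      mul_comm := fun x y => by
        have := hcentral y (iT x)
        rw [← map_mul, ← map_mul] at this
        simpa only [hprT] using congrArg pr this }
    exact CommGroup.isNilpotent
  haveI : Group.IsNilpotent (Pt k A k) := Group.nilpotent_of_surjective μ' fun φ => by
    let x := pr φ
    let u₀ := φ * (iT x)⁻¹
    have hu : pr u₀ = 1 := by
      simp only [u₀, map_mul, map_inv, hprT, x, mul_inv_cancel]
    have hker : ∀ a ∈ J, u₀ a = 0 := by
      intro a ha
      have h0 : J ≤ RingHom.ker u₀.ofConv := by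
        rw [hJ]
        refine Ideal.map_le_iff_le_comap.2 fun b hb => ?_
        show u₀ (ψ b) = 0
        rw [← ptsComp_apply, hu, AlgHom.convOne_apply, show Coalgebra.counit (R := k) b = 0 from hb, map_zero]
      exact h0 ha
    refine ⟨(toConv (Ideal.Quotient.liftₐ J u₀.ofConv hker), x), ?_⟩
    rw [MonoidHom.noncommCoprod_apply]
    show iU _ * iT x = φ
    rw [show iU (toConv (Ideal.Quotient.liftₐ J u₀.ofConv hker)) = u₀ from WithConv.ext (AlgHom.ext fun a => rfl)]
    exact inv_mul_cancel_right φ (iT x)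
  exact Group.nilpotent_of_mulEquiv (ProjRep.ptsEquiv e).symm

/-- The centralizer of a maximal torus contains it as a central maximal torus. -/
theorem centralizer_maxTorus {G T C : Over (Spec (CommRingCat.of k))} [GrpObj G] [GrpObj T] [GrpObj C] [IsAffine G.left]
    [Smooth G.hom] [ConnectedSpace G.left] (iT : T ⟶ G) (hT : AGF.IsMaxTorus iT) (c : C ⟶ G)
    (hc : Red.IsCentralizerOf iT c) :
    Smooth C.hom ∧ IsAffine C.left ∧ IsClosedImmersion c.left ∧ ConnectedSpace C.left ∧
      Group.IsSolvable (RP C) ∧ Group.IsNilpotent (RP C) ∧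
      ∃ tc : T ⟶ C, tc ≫ c = iT ∧ AGF.IsMaxTorus tc ∧ ∀ (p : RP T) (g : RP C), g * (p ≫ tc) = (p ≫ tc) * g := by
  obtain ⟨him, himono, hTt, hmax⟩ := id hT
  haveI := him; haveI := himono
  obtain ⟨hcm, hcmono, hcu⟩ := id hc
  haveI := hcm; haveI := hcmono
  obtain ⟨hs, haff, hcl, hconn', -⟩ := centralizer_torus iT hTt c hc
  haveI := hs; haveI := haff; haveI := hcl
  haveI := hconn' inferInstance
  haveI := isAffine_of_isTorus hTt
  haveI := smooth_of_isTorus hTt
  haveI : IsReduced T.left := SmoothRed.isReduced_of_smooth_scheme T.hom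
  haveI : Smooth (T ⊗ T).hom := by
    show Smooth (pullback.fst T.hom T.hom ≫ T.hom)
    infer_instance
  haveI : IsReduced (T ⊗ T).left := SmoothRed.isReduced_of_smooth_scheme (T ⊗ T).hom
  have huniv : fst T T * snd T T = snd T T * fst T T := hom_ext_rp fun z => by
    rw [MonObj.comp_mul, MonObj.comp_mul, rp_torus_comm hTt]
  obtain ⟨tc, htc⟩ := (hcu T iT).2 fun X' x h => by
    have e := congrArg (fun m => lift x h ≫ m ≫ iT) huniv
    simpa only [MonObj.mul_comp, MonObj.comp_mul, lift_fst_assoc, lift_snd_assoc, ← Category.assoc, lift_fst, lift_snd] using e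
  haveI : IsMonHom tc := MTSplit.isMonHom_of_comp_mono tc c iT htc
  haveI : Mono (tc ≫ c) := by rw [htc]; infer_instance
  haveI : Mono tc := mono_of_mono tc c
  have htmax : AGF.IsMaxTorus tc := ⟨inferInstance, inferInstance, hTt, fun T' _ j _ _ f hT' hf =>
    hmax T' (j ≫ c) f hT' (by rw [← Category.assoc, hf, htc])⟩
  have hcent : ∀ (p : RP T) (g : RP C), g * (p ≫ tc) = (p ≫ tc) * g := fun p g => by
    have h := (hcu (𝟙_ _) (g ≫ c)).1 ⟨g, rfl⟩ (𝟙_ _) (𝟙 _) p
    refine (cancel_mono c).1 ?_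
    simpa only [Category.id_comp, MonObj.mul_comp, Category.assoc, htc] using h
  obtain ⟨B, hBg, iB, hB, hiso⟩ := exists_borel_iso_of_central tc htmax hcent
  haveI := hB.1; haveI := hiso
  haveI : Group.IsSolvable (RP B) := isSolvable_rp hB.2.2.2.2.1
  refine ⟨hs, haff, hcl, inferInstance, Group.isSolvable_of_surjective (f := rpHom iB) fun g =>
    ⟨g ≫ inv iB, show (g ≫ inv iB) ≫ iB = g by rw [Category.assoc, IsIso.inv_hom_id, Category.comp_id]⟩,
    isNilpotent_rp_of_central tc htmax hcent, tc, htc, htmax, hcent⟩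

/-- The centralizer of a maximal torus lies in every Borel subgroup containing it. -/
theorem centralizer_le_borel {G T C B : Over (Spec (CommRingCat.of k))} [GrpObj G] [GrpObj T] [GrpObj C] [GrpObj B]
    [IsAffine G.left] [Smooth G.hom] [ConnectedSpace G.left] (iT : T ⟶ G) (hT : AGF.IsMaxTorus iT) (c : C ⟶ G)
    (hc : Red.IsCentralizerOf iT c) (iB : B ⟶ G) (hB : Red.IsBorelOver k iB) (t : T ⟶ B) (ht : t ≫ iB = iT) :
    ∃ f : C ⟶ B, f ≫ iB = c := by
  obtain ⟨hs, haff, hcl, hconn, hsol, -, tc, htc, -, -⟩ := centralizer_maxTorus iT hT c hc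
  haveI := hs; haveI := haff; haveI := hcl; haveI := hconn; haveI := hsol; haveI := hc.1
  haveI := hB.2.1
  haveI : Mono iB := GrpField.SchImg.mono_of_isClosedImmersion iB
  haveI : IsReduced C.left := SmoothRed.isReduced_of_smooth_scheme C.hom
  obtain ⟨B₁, _, iB₁, f₁, hB₁, hf₁⟩ := exists_borel_containing c
  obtain ⟨g, e, e', he, he'⟩ := borelPair_conj iB iB₁ hB hB₁ iT iT hT hT t ht (tc ≫ f₁) (by
    rw [Category.assoc, hf₁, htc])
  -- conjugation by `g` preserves the centralizer
  obtain ⟨-, -, hcu⟩ := hc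
  obtain ⟨w, hw⟩ := (hcu C (AGF.conjBy g c)).2 fun X' x h => by
    have h1 := (hcu C c).1 ⟨𝟙 C, Category.id_comp c⟩ X' x (h ≫ e'.inv)
    have h2 : h ≫ iT = AGF.conjBy g ((h ≫ e'.inv) ≫ iT) := by
      rw [← comp_conjBy', ← he', Category.assoc, e'.inv_hom_id_assoc]
    rw [h2, comp_conjBy, AGF.conjBy]
    set a := toUnit X' ≫ g
    calc a * (x ≫ c) * a⁻¹ * (a * ((h ≫ e'.inv) ≫ iT) * a⁻¹)
        = a * ((x ≫ c) * ((h ≫ e'.inv) ≫ iT)) * a⁻¹ := by simp only [_root_.mul_assoc, inv_mul_cancel_left]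
      _ = a * (((h ≫ e'.inv) ≫ iT) * (x ≫ c)) * a⁻¹ := by rw [h1]
      _ = _ := by simp only [_root_.mul_assoc, inv_mul_cancel_left]
  have key : ((w ≫ f₁) ≫ e.inv) ≫ iB = c := by
    have h1 : AGF.conjBy g (((w ≫ f₁) ≫ e.inv) ≫ iB) = AGF.conjBy g c := by
      rw [← comp_conjBy', ← he]
      simp only [Category.assoc, e.inv_hom_id_assoc, hf₁, hw]
    have h2 := congrArg (AGF.conjBy g⁻¹) h1
    rwa [conjBy_conjBy, conjBy_conjBy, inv_mul_cancel, conjBy_one, conjBy_one] at h2
  exact ⟨_, key⟩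

end Groth.Agent.Chev.Borel
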