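import Groth.Agent.Chev.PtsAction
import Groth.Agent.Takeuchi.Eigen
import Groth.Agent.GrassRep.Rep
import Groth.Agent.GrassPlucker.Final
import Groth.Agent.HQProj.Basic
import Groth.Agent.GLinZMT.Stable
import Groth.Agent.FinHopf.GrpScheme
import Groth.Agent.S3267
import Groth.Agent.SmoothRed.Scheme

/-!
# Representations act on projective spaces; non-solvable groups act without fixed points

A finite-dimensional comodule gives an action on the proper scheme of rank one quotients.  A simple
comodule of dimension at least two gives an action without fixed points.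
-/

set_option autoImplicit false
set_option backward.isDefEq.respectTransparency false

universe u

open CategoryTheory CategoryTheory.Limits MonoidalCategory CartesianMonoidalCategory MonObj GrpObj AlgebraicGeometry
open TensorProduct WithConv
open Module.Grassmannian
open scoped Groth.Agent.Takeuchi
open Groth.Agent.GrassClosed (SpA)
open Groth.Agent.Takeuchi (Pt push act actR sR actR_tmul)

noncomputable section

namespace Groth.Agent.Chev.ProjRep

variable {k : Type u} [Field k] {A : Type u} [CommRing A] [HopfAlgebra k A]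
  {V : Type u} [AddCommGroup V] [Module k V] [HopfRep.Comod k A V]
  {B C : Type u} [CommRing B] [Algebra k B] [CommRing C] [Algebra k C]

/-- The linear map of a point. -/
def sig (g : Pt k A B) : B ⊗[k] V →ₗ[B] B ⊗[k] V :=
  ((TensorProduct.comm k V B).toLinearMap ∘ₗ act g).liftBaseChange B

theorem sig_tmul (g : Pt k A B) (b : B) (v : V) :
    sig g (b ⊗ₜ[k] v) = b • TensorProduct.comm k V B (act g v) := by simp [sig]

theorem comm_sR (b : B) (z : V ⊗[k] B) :
    TensorProduct.comm k V B (sR b z) = b • TensorProduct.comm k V B z := by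
  induction z using TensorProduct.induction_on with
  | zero => simp
  | tmul v s => simp [TensorProduct.smul_tmul', mul_comm]
  | add x y hx hy => simp only [map_add, smul_add, hx, hy]

theorem sig_comm (g : Pt k A B) (z : V ⊗[k] B) :
    sig g (TensorProduct.comm k V B z) = TensorProduct.comm k V B (actR g z) := by
  induction z using TensorProduct.induction_on with
  | zero => simp
  | tmul v b => rw [TensorProduct.comm_tmul, sig_tmul, actR_tmul, comm_sR]
  | add x y hx hy => simp only [map_add, hx, hy]

theorem sig_mul (g h : Pt k A B) (y : B ⊗[k] V) : sig (g * h) y = sig g (sig h y) := by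
  induction y using TensorProduct.induction_on with
  | zero => simp
  | tmul b v => rw [sig_tmul, sig_tmul, LinearMap.map_smul, sig_comm, Takeuchi.act_mul]
  | add x y hx hy => simp only [map_add, hx, hy]

theorem sig_one (y : B ⊗[k] V) : sig (1 : Pt k A B) y = y := by
  induction y using TensorProduct.induction_on with
  | zero => simp
  | tmul b v => rw [sig_tmul, Takeuchi.act_one, TensorProduct.comm_tmul, TensorProduct.smul_tmul', smul_eq_mul, _root_.mul_one]
  | add x y hx hy => simp only [map_add, hx, hy]

theorem sig_surjective (g : Pt k A B) : Function.Surjective (sig (V := V) g) := fun y =>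
  ⟨sig g⁻¹ y, by rw [← sig_mul, mul_inv_cancel, sig_one]⟩

theorem sig_push (φ : B →ₐ[k] C) (g : Pt k A B) (v : V) :
    TensorProduct.comm k V C (act (push φ g) v) = φ.toLinearMap.rTensor V (TensorProduct.comm k V B (act g v)) := by
  rw [← Takeuchi.push_act]
  generalize act g v = z
  induction z using TensorProduct.induction_on with
  | zero => simp
  | tmul x y => simp
  | add x y hx hy => simp only [map_add, hx, hy]

variable {n : ℕ}

/-- A point pulled back along the linear map of a point. -/
def pull (g : Pt k A B) (N : G(n, B ⊗[k] V; B)) : G(n, B ⊗[k] V; B) :=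
  let e : ((B ⊗[k] V) ⧸ N.toSubmodule.comap (sig g)) ≃ₗ[B] (B ⊗[k] V) ⧸ N.toSubmodule :=
    (Submodule.quotEquivOfEq _ (LinearMap.ker (N.toSubmodule.mkQ.comp (sig g)))
      (by rw [LinearMap.ker_comp, Submodule.ker_mkQ])).trans
      ((N.toSubmodule.mkQ.comp (sig g)).quotKerEquivOfSurjective
        (N.toSubmodule.mkQ_surjective.comp (sig_surjective g)))
  { toSubmodule := N.toSubmodule.comap (sig g)
    finite_quotient := Module.Finite.equiv e.symm
    projective_quotient := Module.Projective.of_equiv e.symm
    rankAtStalk_eq := fun p => (congrFun (Module.rankAtStalk_eq_of_equiv e) p).trans (N.rankAtStalk_eq p) }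

theorem pull_toSubmodule (g : Pt k A B) (N : G(n, B ⊗[k] V; B)) :
    (pull g N).toSubmodule = N.toSubmodule.comap (sig g) := rfl

/-- Pulling back commutes with base change. -/
theorem map_pull (φ : B →ₐ[k] C) (g : Pt k A B) (N : G(n, B ⊗[k] V; B)) :
    Module.Grassmannian.map φ (pull g N) = pull (push φ g) (Module.Grassmannian.map φ N) := by
  refine Module.Grassmannian.ext ?_
  rw [pull_toSubmodule, Module.Grassmannian.map_toSubmodule, Module.Grassmannian.map_toSubmodule]
  letI : Algebra B C := φ.toAlgebra
  haveI : IsScalarTower k B C := IsScalarTower.of_algebraMap_eq' <| IsScalarTower.algebraMap_eq k B C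
  let u := (N.toSubmodule.comap (sig g)).mapQ N.toSubmodule (sig g) le_rfl
  have hu : Function.Bijective u := by
    refine ⟨?_, fun q => ?_⟩
    · rw [injective_iff_map_eq_zero]
      intro q hq
      obtain ⟨y, rfl⟩ := Submodule.Quotient.mk_surjective _ q
      rw [Submodule.mapQ_apply, Submodule.Quotient.mk_eq_zero] at hq
      rw [Submodule.Quotient.mk_eq_zero]
      exact hq
    · obtain ⟨y, rfl⟩ := Submodule.Quotient.mk_surjective _ q
      obtain ⟨x, rfl⟩ := sig_surjective g y
      exact ⟨Submodule.Quotient.mk x, rfl⟩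
  let e := (LinearEquiv.ofBijective u hu).baseChange B C
  have hbc : ∀ (c : C) (y : B ⊗[k] V),
      baseChangeMkQ C N.toSubmodule (c • φ.toLinearMap.rTensor V y) = c ⊗ₜ[B] N.toSubmodule.mkQ y := by
    intro c y
    induction y using TensorProduct.induction_on with
    | zero => simp
    | tmul b v =>
      rw [LinearMap.rTensor_tmul, TensorProduct.smul_tmul', smul_eq_mul]
      have e1 : baseChangeMkQ C N.toSubmodule ((c * φ.toLinearMap b) ⊗ₜ[k] v) =
          (c * φ.toLinearMap b) ⊗ₜ[B] N.toSubmodule.mkQ ((1 : B) ⊗ₜ[k] v) := by simp [baseChangeMkQ]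
      rw [e1, show c * φ.toLinearMap b = b • c from by rw [Algebra.smul_def, mul_comm]; rfl, TensorProduct.smul_tmul,
        ← map_smul, TensorProduct.smul_tmul', smul_eq_mul, _root_.mul_one]
    | add x y hx hy => simp only [map_add, smul_add, TensorProduct.tmul_add, hx, hy]
  have hkey : ∀ z, e (baseChangeMkQ C (N.toSubmodule.comap (sig g)) z) =
      baseChangeMkQ C N.toSubmodule (sig (push φ g) z) := by
    intro z
    induction z using TensorProduct.induction_on with
    | zero => simp
    | tmul c m =>
      have e1 : baseChangeMkQ C (N.toSubmodule.comap (sig g)) (c ⊗ₜ[k] m) =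
          c ⊗ₜ[B] (N.toSubmodule.comap (sig g)).mkQ ((1 : B) ⊗ₜ[k] m) := by simp [baseChangeMkQ]
      have e2 : u ((N.toSubmodule.comap (sig g)).mkQ ((1 : B) ⊗ₜ[k] m)) =
          N.toSubmodule.mkQ (TensorProduct.comm k V B (act g m)) := by
        show N.toSubmodule.mkQ (sig g ((1 : B) ⊗ₜ[k] m)) = _
        rw [sig_tmul, one_smul]
      rw [e1, sig_tmul, sig_push φ, hbc]
      simp only [e, LinearEquiv.baseChange_tmul, LinearEquiv.ofBijective_apply, e2]
    | add x y hx hy => simp only [map_add, hx, hy]
  ext z
  simp only [LinearMap.mem_ker, Submodule.mem_comap, pull_toSubmodule]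
  rw [← hkey, LinearEquiv.map_eq_zero_iff]

theorem pull_one (N : G(n, B ⊗[k] V; B)) : pull (1 : Pt k A B) N = N := by
  refine Module.Grassmannian.ext ?_
  ext y
  rw [pull_toSubmodule, Submodule.mem_comap, sig_one]

theorem pull_mul (g h : Pt k A B) (N : G(n, B ⊗[k] V; B)) : pull (g * h) N = pull h (pull g N) := by
  refine Module.Grassmannian.ext ?_
  ext y
  simp only [pull_toSubmodule, Submodule.mem_comap, sig_mul]

/-- A finite-dimensional comodule gives an action on the proper scheme of its rank one quotients. -/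
theorem exists_action_quotients {G : Over (Spec (CommRingCat.of k))} [GrpObj G]
    (e : (Spec (CommRingCat.of A)).asOver (Spec (CommRingCat.of k)) ≅ G) [IsMonHom e.hom] [Module.Finite k V] :
    ∃ (X : Over (Spec (CommRingCat.of k))) (_ : IsProper X.hom) (a : AlgGrp.Action G X)
      (E : ∀ B : CommAlgCat.{u} k, (SpA B ⟶ X) ≃ (Module.Grassmannian.functor (R := k) (M := V) 1).obj B),
      ∀ (B : CommAlgCat.{u} k) (g : Pt k A B) (x : SpA B ⟶ X),
        E B (lift ((Spec.mapMulEquiv g : SpA B ⟶ _) ≫ e.hom) x ≫ a.act) = pull g⁻¹ (E B x) := by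
  obtain ⟨X, E, hE⟩ := GrassRep.exists_representing (R := k) V 1
  obtain ⟨n₀, v, hv⟩ := Module.Finite.exists_fin' k V
  let v' : (Fin (n₀ + 1) → k) →ₗ[k] V := v ∘ₗ LinearMap.funLeft k k (Fin.castSucc (n := n₀))
  have hv' : Function.Surjective v' :=
    hv.comp (LinearMap.funLeft_surjective_of_injective k k _ (Fin.castSucc_injective n₀))
  obtain ⟨c, hc, hcb⟩ := GrassPlucker.exists_closedImmersion v' hv' (Nat.le_add_left 1 n₀) X E hE
  haveI := HQProj.isProper_toBase ((n₀ + 1).choose 1 - 1) (Spec (CommRingCat.of k))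
  haveI : IsProper X.hom := by rw [← hcb]; infer_instance
  haveI : IsMonHom e.inv := inferInstance
  let pt : ∀ B : CommAlgCat.{u} k, (SpA B ⟶ G) → Pt k A B := fun B g =>
    Spec.mapMulEquiv.symm ((g ≫ e.inv : SpA B ⟶ _))
  have hpt_mul : ∀ (B : CommAlgCat.{u} k) (g h : SpA B ⟶ G), pt B (g * h) = pt B g * pt B h := fun B g h =>
    (congrArg (Spec.mapMulEquiv (R := k) (S := A) (T := B)).symm (MonObj.mul_comp g h e.inv)).trans
      (map_mul (Spec.mapMulEquiv (R := k) (S := A) (T := B)).symm (g ≫ e.inv) (h ≫ e.inv))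
  have hpt_one : ∀ B : CommAlgCat.{u} k, pt B 1 = 1 := fun B =>
    (congrArg (Spec.mapMulEquiv (R := k) (S := A) (T := B)).symm (MonObj.one_comp e.inv)).trans
      (map_one (Spec.mapMulEquiv (R := k) (S := A) (T := B)).symm)
  have hpt_nat : ∀ (B C : CommAlgCat.{u} k) (φ : B →ₐ[k] C) (g : SpA B ⟶ G),
      pt C (PtsAction.sp φ ≫ g) = push φ (pt B g) := by
    intro B C φ g
    apply (Spec.mapMulEquiv (R := k) (S := A) (T := C)).injective
    refine ((Spec.mapMulEquiv (R := k) (S := A) (T := C)).apply_symm_apply _).trans ?_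
    have hg : g ≫ e.inv = Spec.mapMulEquiv (pt B g) :=
      ((Spec.mapMulEquiv (R := k) (S := A) (T := B)).apply_symm_apply _).symm
    rw [Category.assoc, hg]
    refine Over.OverMorphism.ext ?_
    show Spec.map _ ≫ Spec.map _ = Spec.map _
    rw [← Spec.map_comp]
    rfl
  let op : ∀ B : CommAlgCat.{u} k, (SpA B ⟶ G) → (SpA B ⟶ X) → (SpA B ⟶ X) := fun B g x =>
    (E B).symm (pull (pt B g)⁻¹ (E B x))
  obtain ⟨a, ha⟩ := PtsAction.exists_action_of_points G X op
    (fun B C φ g x => by
      apply (E C).injective
      have h1 := hE B C (CommAlgCat.ofHom φ) (op B g x) (PtsAction.sp φ ≫ op B g x) rfl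
      have h2 := hE B C (CommAlgCat.ofHom φ) x (PtsAction.sp φ ≫ x) rfl
      rw [h1]
      show Module.Grassmannian.map φ (E B (op B g x)) = E C ((E C).symm _)
      rw [Equiv.apply_symm_apply, Equiv.apply_symm_apply]
      refine (map_pull φ _ _).trans ?_
      rw [Takeuchi.push_inv, hpt_nat, h2]
      rfl)
    (fun B x => by
      apply (E B).injective
      show E B ((E B).symm _) = _
      rw [Equiv.apply_symm_apply, hpt_one, inv_one]
      exact pull_one _)
    (fun B g h x => by
      apply (E B).injective
      show E B ((E B).symm _) = E B ((E B).symm (pull (pt B g)⁻¹ (E B ((E B).symm _))))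
      rw [Equiv.apply_symm_apply, Equiv.apply_symm_apply, Equiv.apply_symm_apply, hpt_mul, _root_.mul_inv_rev]
      exact pull_mul _ _ _)
  refine ⟨X, inferInstance, a, E, fun B g x => ?_⟩
  rw [ha]
  show E B ((E B).symm _) = _
  rw [Equiv.apply_symm_apply]
  congr 2
  show Spec.mapMulEquiv.symm ((Spec.mapMulEquiv g ≫ e.hom) ≫ e.inv) = g
  rw [Category.assoc, e.hom_inv_id, Category.comp_id]
  exact (Spec.mapMulEquiv (R := k) (S := A) (T := B)).symm_apply_apply g

omit [HopfAlgebra k A] in
/-- The spectrum of the base field is the unit object. -/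
def kIso (k : Type u) [Field k] : 𝟙_ (Over (Spec (CommRingCat.of k))) ≅ SpA (CommAlgCat.of k k) :=
  Over.isoMk (Iso.refl _) (by
    show 𝟙 _ ≫ Spec.map (CommRingCat.ofHom (algebraMap k k)) = 𝟙 _
    rw [Algebra.algebraMap_self, CommRingCat.ofHom_id, Spec.map_id, Category.comp_id])

variable [IsAlgClosed k] [Algebra.FiniteType k A] [IsReduced A]

/-- Subspaces stable under the points are subcomodules. -/
theorem isSubcomod_of_forall_act (W : Submodule k V)
    (h : ∀ (φ : A →ₐ[k] k), ∀ w ∈ W, HopfRep.Comod.act k A V φ w ∈ W) :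
    HopfRep.IsSubcomod (k := k) (A := A) W := by
  classical
  intro w hw
  have hex : Function.Exact (W.subtype.rTensor A) (W.mkQ.rTensor A) :=
    rTensor_exact A (LinearMap.exact_subtype_mkQ W) W.mkQ_surjective
  refine (hex _).1 ?_
  let b := Module.Free.chooseBasis k (V ⧸ W)
  apply (TensorProduct.equivFinsuppOfBasisLeft b).injective
  rw [map_zero]
  ext i
  rw [Finsupp.zero_apply]
  have hzero : ∀ φ : A →ₐ[k] k,
      φ (TensorProduct.equivFinsuppOfBasisLeft b (W.mkQ.rTensor A (HopfRep.Comod.coact (k := k) (A := A) w)) i) = 0 := by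
    intro φ
    have key : ∀ t : V ⊗[k] A, φ (TensorProduct.equivFinsuppOfBasisLeft b (W.mkQ.rTensor A t) i) =
        b.repr (W.mkQ (TensorProduct.rid k V (φ.toLinearMap.lTensor V t))) i := by
      intro t
      induction t using TensorProduct.induction_on with
      | zero => simp
      | tmul x a => simp [mul_comm]
      | add x y hx hy => simp only [map_add, Finsupp.add_apply, hx, hy]
    rw [key]
    have : W.mkQ (HopfRep.Comod.act k A V φ w) = 0 := (Submodule.Quotient.mk_eq_zero W).2 (h φ w hw)
    show b.repr (W.mkQ (HopfRep.Comod.act k A V φ w)) i = 0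
    rw [this, map_zero, Finsupp.zero_apply]
  exact (nilpotent_iff_mem_prime.2 fun p hp =>
    haveI := hp; GLinChar.mem_of_forall_point k A fun φ _ => hzero φ).eq_zero

omit [Algebra.FiniteType k A] [IsReduced A]

/-- A non-solvable smooth affine group acts on a nonempty proper scheme without fixed points. -/
theorem exists_action_no_fixed (G : Over (Spec (CommRingCat.of k))) [GrpObj G] [IsAffine G.left] [Smooth G.hom]
    (hns : ¬ Group.IsSolvable (𝟙_ (Over (Spec (CommRingCat.of k))) ⟶ G)) :
    ∃ (X : Over (Spec (CommRingCat.of k))) (_ : IsProper X.hom) (_ : Nonempty X.left) (a : AlgGrp.Action G X),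
      ∀ x : 𝟙_ (Over (Spec (CommRingCat.of k))) ⟶ X, ∃ g : 𝟙_ (Over (Spec (CommRingCat.of k))) ⟶ G,
        lift g x ≫ a.act ≠ x := by
  obtain ⟨A, hA, e, he⟩ := FinHopf.exists_hopf (R := CommRingCat.of k) G
  haveI := he
  haveI : IsIso e.hom.left := inferInstanceAs (IsIso ((Over.forget _).map e.hom))
  haveI : Algebra.FiniteType k A := by
    have h0 : LocallyOfFiniteType (e.hom.left ≫ G.hom) := inferInstance
    rw [Over.w e.hom] at h0
    exact RingHom.finiteType_algebraMap.1 ((HasRingHomProperty.Spec_iff (P := @LocallyOfFiniteType)).1 h0)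
  haveI : IsReduced G.left := SmoothRed.isReduced_of_smooth_scheme G.hom
  haveI : IsReduced (Spec A) := isReduced_of_isOpenImmersion e.hom.left
  haveI : _root_.IsReduced A := affine_isReduced_iff A |>.1 inferInstance
  let emb : (𝟙_ (Over (Spec (CommRingCat.of k))) ⟶ G) →* Pt k A k :=
    { toFun := fun g => Spec.mapMulEquiv.symm (((kIso k).inv ≫ g) ≫ e.inv)
      map_one' := by
        rw [MonObj.comp_one, MonObj.one_comp]
        exact map_one (Spec.mapMulEquiv (R := k) (S := A) (T := k)).symm
      map_mul' := fun g h => by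
        rw [MonObj.comp_mul, MonObj.mul_comp]
        exact map_mul (Spec.mapMulEquiv (R := k) (S := A) (T := k)).symm _ _ }
  have hnT : ¬ HopfRep.IsTrigonalizable k A := fun hT => by
    haveI : Group.IsSolvable (Pt k A k) := S3267.result k A hT
    refine hns (Group.isSolvable_of_isSolvable_injective (f := emb) fun g h hgh => ?_)
    have := (Spec.mapMulEquiv (R := k) (S := A) (T := k)).symm.injective hgh
    exact (cancel_epi (kIso k).inv).1 ((cancel_mono e.inv).1 this)
  unfold HopfRep.IsTrigonalizable at hnT
  push Not at hnT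
  obtain ⟨V, _, _, hcm, hfin, hsimple, hdim⟩ := hnT
  haveI := hfin
  haveI := hsimple.1
  obtain ⟨X, hX, a, E, hact⟩ := exists_action_quotients (V := V) e
  have hpos : 0 < Module.finrank k V := Module.finrank_pos
  have hrank : ∀ N : G(1, k ⊗[k] V; k), Module.finrank k ((k ⊗[k] V) ⧸ N.toSubmodule) = 1 := fun N => by
    have := N.rankAtStalk_eq ⟨⊥, Ideal.isPrime_bot⟩
    rwa [Module.rankAtStalk_eq_finrank_of_free] at this
  refine ⟨X, hX, ?_, a, fun x => ?_⟩
  · let b := Module.finBasis k V
    let l : k ⊗[k] V →ₗ[k] k := b.coord ⟨0, hpos⟩ ∘ₗ (TensorProduct.lid k V).toLinearMap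
    have hl : Function.Surjective l := fun c => ⟨c ⊗ₜ b ⟨0, hpos⟩, by simp [l]⟩
    let q := l.quotKerEquivOfSurjective hl
    let N₀ : G(1, k ⊗[k] V; k) :=
      { toSubmodule := LinearMap.ker l
        finite_quotient := Module.Finite.equiv q.symm
        projective_quotient := Module.Projective.of_equiv q.symm
        rankAtStalk_eq := fun p => (congrFun (Module.rankAtStalk_eq_of_equiv q) p).trans (by
          rw [Module.rankAtStalk_eq_finrank_of_free]; simp) }
    exact ⟨((E (CommAlgCat.of k k)).symm N₀).left (IsLocalRing.closedPoint k)⟩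
  by_contra hx
  push Not at hx
  let x₀ : SpA (CommAlgCat.of k k) ⟶ X := (kIso k).inv ≫ x
  let N : G(1, k ⊗[k] V; k) := E (CommAlgCat.of k k) x₀
  have hstab : ∀ g : Pt k A k, pull g N = N := fun g => by
    let p : SpA (CommAlgCat.of k k) ⟶ G := (Spec.mapMulEquiv g⁻¹ : SpA (CommAlgCat.of k k) ⟶ _) ≫ e.hom
    have h1 := hact (CommAlgCat.of k k) g⁻¹ x₀
    rw [_root_.inv_inv] at h1
    have h2 : lift p x₀ ≫ a.act = x₀ := by
      have := congrArg ((kIso k).inv ≫ ·) (hx ((kIso k).hom ≫ p))
      simp only [comp_lift_assoc, Iso.inv_hom_id_assoc] at this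
      exact this
    exact (h1.symm.trans (congrArg (E (CommAlgCat.of k k)) h2))
  let j : V →ₗ[k] k ⊗[k] V := (TensorProduct.lid k V).symm.toLinearMap
  let W : Submodule k V := N.toSubmodule.comap j
  have hW : HopfRep.IsSubcomod (k := k) (A := A) W := isSubcomod_of_forall_act W fun φ w hw => by
    have h : j w ∈ (pull (toConv φ : Pt k A k) N).toSubmodule := by rw [hstab]; exact hw
    rw [pull_toSubmodule, Submodule.mem_comap] at h
    have e1 : sig (toConv φ : Pt k A k) (j w) = j (HopfRep.Comod.act k A V φ w) := by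
      show sig _ ((TensorProduct.lid k V).symm w) = _
      rw [TensorProduct.lid_symm_apply, sig_tmul, one_smul]
      show _ = (TensorProduct.lid k V).symm (TensorProduct.rid k V (act (toConv φ : Pt k A k) w))
      rw [LinearEquiv.eq_symm_apply]
      generalize act (toConv φ : Pt k A k) w = z
      induction z using TensorProduct.induction_on with
      | zero => simp
      | tmul v c => simp
      | add x y hx hy => simp only [map_add, hx, hy]
    rw [e1] at h
    exact h
  have hr := hrank N
  rcases hsimple.2 W hW with hb | ht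
  · have hN : N.toSubmodule = ⊥ := by
      refine (Submodule.eq_bot_iff _).2 fun y hy => ?_
      have hyW : TensorProduct.lid k V y ∈ W := by
        show (TensorProduct.lid k V).symm (TensorProduct.lid k V y) ∈ N.toSubmodule
        rwa [LinearEquiv.symm_apply_apply]
      rw [hb, Submodule.mem_bot, LinearEquiv.map_eq_zero_iff] at hyW
      exact hyW
    rw [hN, (Submodule.quotEquivOfEqBot (⊥ : Submodule k (k ⊗[k] V)) rfl).finrank_eq,
      (TensorProduct.lid k V).finrank_eq] at hr
    exact hdim hr
  · have hN : N.toSubmodule = ⊤ := by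
      refine Submodule.eq_top_iff'.2 fun y => ?_
      have hyW : TensorProduct.lid k V y ∈ W := ht ▸ Submodule.mem_top
      have : (TensorProduct.lid k V).symm (TensorProduct.lid k V y) ∈ N.toSubmodule := hyW
      rwa [LinearEquiv.symm_apply_apply] at this
    haveI : Subsingleton ((k ⊗[k] V) ⧸ N.toSubmodule) := Submodule.Quotient.subsingleton_iff.2 hN
    rw [Module.finrank_zero_of_subsingleton] at hr
    exact zero_ne_one hr

end Groth.Agent.Chev.ProjRep
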