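import Groth.Agent.Chev.TorusTheory
import Groth.Agent.Chev.ProjRep
import Groth.Agent.Chev.SubgroupStab
import Groth.Agent.DiagUnip.BaseChange
import Groth.Agent.UnitTensor.Basic

/-!
# A group whose maximal torus is central is solvable
-/

set_option autoImplicit false
set_option backward.isDefEq.respectTransparency false

universe u

open CategoryTheory CategoryTheory.Limits MonoidalCategory CartesianMonoidalCategory MonObj GrpObj AlgebraicGeometry
open TensorProduct WithConv
open Groth.Agent.GrassClosed (SpA)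
open Groth.Agent.Takeuchi (Pt act actR actR_tmul cf)
open Groth.Agent.SubGen (rpt)
open Groth.Agent.MTBridge (specGrp)

noncomputable section

namespace Groth.Agent.Chev.Borel

open BorelFixed

variable {k : Type u} [Field k]

/-- The rational point morphism between coordinate rings. -/
theorem ptsEquiv_comp {G H : Over (Spec (CommRingCat.of k))} [GrpObj G] [GrpObj H] {A B : Type u} [CommRing A]
    [HopfAlgebra k A] [CommRing B] [HopfAlgebra k B] (e : (specGrp k A).X ≅ G) [IsMonHom e.hom]
    (e' : (specGrp k B).X ≅ H) [IsMonHom e'.hom] (f : G ⟶ H) (h : B →ₐ[k] A)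
    (hf : e.hom.left ≫ f.left = Spec.map (CommRingCat.ofHom h.toRingHom) ≫ e'.hom.left) (p : RP G) :
    ProjRep.ptsEquiv e' (p ≫ f) = toConv ((ProjRep.ptsEquiv e p).ofConv.comp h) := by
  let φ := ProjRep.ptsEquiv e p
  apply (ProjRep.ptsEquiv e').symm.injective
  rw [MulEquiv.symm_apply_apply]
  conv_lhs => rw [← (ProjRep.ptsEquiv e).symm_apply_apply p]
  show ((ProjRep.kIso k).hom ≫ _ ≫ e.hom) ≫ f = (ProjRep.kIso k).hom ≫ _ ≫ e'.hom
  refine Over.OverMorphism.ext ?_
  show ((ProjRep.kIso k).hom.left ≫ Spec.map (CommRingCat.ofHom φ.ofConv.toRingHom) ≫ e.hom.left) ≫ f.left =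
    (ProjRep.kIso k).hom.left ≫ Spec.map (CommRingCat.ofHom (φ.ofConv.comp h).toRingHom) ≫ e'.hom.left
  rw [Category.assoc, Category.assoc, hf, ← Spec.map_comp_assoc]
  rfl

variable [IsAlgClosed k]

/-- The affine line. -/
def affLine (k : Type u) [Field k] : Over (Spec (CommRingCat.of k)) :=
  Over.mk (Spec.map (CommRingCat.ofHom (Polynomial.C : k →+* Polynomial k)))

/-- An element of an algebra as a morphism to the affine line. -/
def toA1 {A : Type u} [CommRing A] [Algebra k A] (a : A) :
    (Spec (CommRingCat.of A)).asOver (Spec (CommRingCat.of k)) ⟶ affLine k :=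
  Over.homMk (Spec.map (CommRingCat.ofHom (Polynomial.aeval (R := k) a).toRingHom)) (by
    show Spec.map _ ≫ Spec.map _ = Spec.map _
    rw [← Spec.map_comp, ← CommRingCat.ofHom_comp]
    refine congrArg (fun h => Spec.map (CommRingCat.ofHom h)) (RingHom.ext fun c => ?_)
    simp)

theorem rp_toA1 {G : Over (Spec (CommRingCat.of k))} [GrpObj G] {A : Type u} [CommRing A] [HopfAlgebra k A]
    (e : (specGrp k A).X ≅ G) [IsMonHom e.hom] (a : A) (p : RP G) :
    p ≫ e.inv ≫ toA1 a = (ProjRep.kIso k).hom ≫ (toA1 ((ProjRep.ptsEquiv e p) a) : SpA (CommAlgCat.of k k) ⟶ affLine k) := by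
  let φ := ProjRep.ptsEquiv e p
  conv_lhs => rw [← (ProjRep.ptsEquiv e).symm_apply_apply p]
  show ((ProjRep.kIso k).hom ≫ _ ≫ e.hom) ≫ e.inv ≫ _ = _
  rw [Category.assoc, Category.assoc, e.hom_inv_id_assoc]
  refine congrArg (fun z => (ProjRep.kIso k).hom ≫ z) (Over.OverMorphism.ext ?_)
  show Spec.map (CommRingCat.ofHom φ.ofConv.toRingHom) ≫ Spec.map (CommRingCat.ofHom (Polynomial.aeval (R := k) a).toRingHom) =
    Spec.map (CommRingCat.ofHom (Polynomial.aeval (R := k) (φ a)).toRingHom)
  rw [← Spec.map_comp, ← CommRingCat.ofHom_comp]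
  exact congrArg (fun h => Spec.map (CommRingCat.ofHom h))
    (congrArg AlgHom.toRingHom (Polynomial.aeval_algHom φ.ofConv a).symm)

/-- A regular function invariant under a subgroup with proper quotient is constant. -/
theorem eq_of_invariant {G B X : Over (Spec (CommRingCat.of k))} [GrpObj G] [GrpObj B] [IsAffine G.left]
    [Smooth G.hom] [ConnectedSpace G.left] (iB : B ⟶ G) [Smooth B.hom] (act' : AlgGrp.Action G X) (o : RP X)
    (hX : AGF.IsQuotient iB X act' o) [IsProper X.hom] {A : Type u} [CommRing A] [HopfAlgebra k A]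
    (e : (specGrp k A).X ≅ G) [IsMonHom e.hom] (a : A)
    (ha : ∀ (g : RP G) (b : RP B), (ProjRep.ptsEquiv e (g * (b ≫ iB))) a = (ProjRep.ptsEquiv e g) a) (g : RP G) :
    (ProjRep.ptsEquiv e g) a = (ProjRep.ptsEquiv e 1) a := by
  haveI : IsReduced G.left := SmoothRed.isReduced_of_smooth_scheme G.hom
  let f : G ⟶ affLine k := e.inv ≫ toA1 a
  haveI : IsAffine (affLine k).left := inferInstanceAs (IsAffine (Spec _))
  haveI : IsSeparated (affLine k).hom := inferInstance
  haveI : LocallyOfFiniteType (affLine k).hom := by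
    show LocallyOfFiniteType (Spec.map _)
    exact (HasRingHomProperty.Spec_iff (P := @LocallyOfFiniteType)).2 (RingHom.finiteType_algebraMap.2 (inferInstanceAs (Algebra.FiniteType k (Polynomial k))))
  haveI := hX.1; haveI := hX.2.1; haveI := hX.2.2.1
  haveI : IsReduced (G ⊗ B).left := by
    haveI : Smooth (G ⊗ B).hom := by
      show Smooth (pullback.fst G.hom B.hom ≫ G.hom)
      infer_instance
    exact SmoothRed.isReduced_of_smooth_scheme (G ⊗ B).hom
  haveI : LocallyOfFiniteType (G ⊗ B).hom := by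
    show LocallyOfFiniteType (pullback.fst G.hom B.hom ≫ G.hom)
    infer_instance
  have hinv : (fst G B * (snd G B ≫ iB)) ≫ f = fst G B ≫ f := by
    refine hom_ext_rp fun z => ?_
    show z ≫ (fst G B * (snd G B ≫ iB)) ≫ e.inv ≫ toA1 a = z ≫ fst G B ≫ e.inv ≫ toA1 a
    rw [← Category.assoc, ← Category.assoc z (fst G B) (e.inv ≫ toA1 a), rp_toA1, rp_toA1, MonObj.comp_mul, ← Category.assoc z (snd G B), ha]
  -- the image of the coordinate map
  let P : Ideal (Polynomial k) := RingHom.ker (Polynomial.aeval (R := k) a)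
  by_cases hP : P = ⊥
  swap
  · -- the image is a point
    let A' := (isDomain_of_smooth_connected e)
    haveI : P.IsPrime := RingHom.ker_isPrime _
    have hmax : P.IsMaximal := IsPrime.to_maximal_ideal hP
    have key : ∀ φ : Pt k A k, RingHom.ker (φ.ofConv.comp (Polynomial.aeval (R := k) a)) = P := fun φ =>
      (hmax.eq_of_le (RingHom.ker_ne_top _) fun x hx => by
        show φ.ofConv (Polynomial.aeval a x) = 0
        rw [RingHom.mem_ker.1 hx, map_zero]).symm
    have hmem : Polynomial.X - Polynomial.C ((ProjRep.ptsEquiv e g) a) ∈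
        RingHom.ker ((ProjRep.ptsEquiv e g).ofConv.comp (Polynomial.aeval (R := k) a)) := by simp
    rw [key, ← key (ProjRep.ptsEquiv e 1)] at hmem
    simp only [RingHom.mem_ker, AlgHom.comp_apply, map_sub, Polynomial.aeval_X, Polynomial.aeval_C,
      AlgHom.commutes, Algebra.algebraMap_self, RingHom.id_apply] at hmem
    exact (sub_eq_zero.1 hmem).symm
  · -- otherwise the line would be proper
    exfalso
    haveI : IsLocallyNoetherian X.left := LocallyOfFiniteType.isLocallyNoetherian X.hom
    let π := act'.orbitMap o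
    haveI : QuasiCompact π.left := by
      haveI : QuasiCompact (π.left ≫ X.hom) := by rw [Over.w]; infer_instance
      exact QuasiCompact.of_comp _ X.hom
    let d : X.left ⟶ (affLine k).left := EffectiveEpi.desc π.left f.left (fun {Z} g₁ g₂ h => by
      let T : Over (Spec (CommRingCat.of k)) := Over.mk (g₁ ≫ G.hom)
      have h2 : g₂ ≫ G.hom = g₁ ≫ G.hom := by
        rw [← Over.w π, ← Category.assoc, ← h, Category.assoc, Over.w]
      have h3 : (Over.homMk (U := T) g₁ rfl) ≫ π = (Over.homMk (U := T) g₂ h2) ≫ π := Over.OverMorphism.ext h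
      obtain ⟨z, hz1, hz2⟩ := hX.2.2.2.exists_lift _ _ h3
      have hinv' : ((G ◁ iB) ≫ μ[G]) ≫ f = fst G B ≫ f := by
        rw [← hinv, Hom.mul_def]
        congr 2

      have h4 := congrArg (fun m => z ≫ m) hinv'
      simp only [← Category.assoc] at h4
      rw [← Category.assoc] at hz2
      rw [hz1, hz2] at h4
      exact (congrArg CommaMorphism.left h4).symm)
    have hd : π.left ≫ d = f.left := EffectiveEpi.fac π.left _ _
    have hdw : d ≫ (affLine k).hom = X.hom := by
      haveI : Epi π.left := inferInstance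
      rw [← cancel_epi π.left, ← Category.assoc, hd, Over.w π, Over.w f]
    haveI : UniversallyClosed (d ≫ (affLine k).hom) := by rw [hdw]; infer_instance
    haveI : UniversallyClosed d := UniversallyClosed.of_comp_of_isSeparated d (affLine k).hom
    have hdense : DenseRange f.left := by
      haveI : IsIso e.inv.left := inferInstanceAs (IsIso ((Over.forget _).map e.inv))
      have h1 : DenseRange (Spec.map (CommRingCat.ofHom (Polynomial.aeval (R := k) a).toRingHom)) :=
        (PrimeSpectrum.denseRange_comap_iff_ker_le_nilRadical _).2 (le_of_eq_of_le hP bot_le)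
      have h2 : Set.range f.left = Set.range (Spec.map (CommRingCat.ofHom (Polynomial.aeval (R := k) a).toRingHom)) :=
        range_comp_of_surjective e.inv.left _
      show Dense (Set.range f.left)
      rw [h2]
      exact h1
    haveI : Surjective d := ⟨fun y => by
      have hy : y ∈ Set.range d := by
        have hsub : Set.range f.left ⊆ Set.range d := by
          rw [← hd]
          rintro _ ⟨x, rfl⟩
          exact ⟨π.left x, rfl⟩
        exact closure_minimal hsub d.isClosedMap.isClosed_range (hdense y)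
      exact hy⟩
    haveI : IsIntegral (affLine k).left := inferInstanceAs (IsIntegral (Spec _))
    haveI : UniversallyClosed (affLine k).hom := UniversallyClosed.of_comp_surjective d (affLine k).hom
    have hF := isField_of_universallyClosed k (affLine k).hom
    exact Polynomial.not_isField k
      ((Scheme.ΓSpecIso (CommRingCat.of (Polynomial k))).commRingCatIsoToRingEquiv.symm.toMulEquiv.isField hF)

/-- A regular character of a connected group that is trivial on a detecting torus is trivial. -/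
theorem char_eq_one {B T : Over (Spec (CommRingCat.of k))} [GrpObj B] [GrpObj T] [IsAffine B.left] [Smooth B.hom]
    [ConnectedSpace B.left] (t : T ⟶ B) [IsMonHom t] (hTt : Red.IsTorus T) (π : B ⟶ T) [IsMonHom π]
    (huniq : ∀ (T' : Over (Spec (CommRingCat.of k))) [GrpObj T'] (f g : B ⟶ T') [IsMonHom f] [IsMonHom g],
      Red.IsTorus T' → t ≫ f = t ≫ g → f = g) (htπ : t ≫ π = 𝟙 T)
    {A : Type u} [CommRing A] [HopfAlgebra k A] (e : (specGrp k A).X ≅ B) [IsMonHom e.hom] (θ : A)
    (hmul : ∀ p q : RP B, ProjRep.ptsEquiv e (p * q) θ = ProjRep.ptsEquiv e p θ * ProjRep.ptsEquiv e q θ)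
    (hone : ProjRep.ptsEquiv e 1 θ = 1) (hT : ∀ p : RP T, ProjRep.ptsEquiv e (p ≫ t) θ = 1) (b : RP B) :
    ProjRep.ptsEquiv e b θ = 1 := by
  haveI : IsIso e.hom.left := inferInstanceAs (IsIso ((Over.forget _).map e.hom))
  haveI : IsDomain A := isDomain_of_smooth_connected e
  haveI : Algebra.FiniteType k A := by
    have h0 : LocallyOfFiniteType (e.hom.left ≫ B.hom) := inferInstance
    rw [Over.w e.hom] at h0
    exact RingHom.finiteType_algebraMap.1 ((HasRingHomProperty.Spec_iff (P := @LocallyOfFiniteType)).1 h0)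
  -- the element is a unit
  have hu : θ * HopfAlgebraStruct.antipode (R := k) θ = 1 := by
    by_contra hne
    obtain ⟨ψ, hψ⟩ := UnitTensor.exists_point (k := k) (sub_ne_zero.2 hne)
    refine hψ ?_
    let p := (ProjRep.ptsEquiv e).symm (toConv ψ)
    have h1 : ψ θ * ψ (HopfAlgebraStruct.antipode (R := k) θ) = 1 := by
      have h := hmul p p⁻¹
      rw [mul_inv_cancel, hone, map_inv, MulEquiv.apply_symm_apply, Takeuchi.inv_apply] at h
      exact h.symm
    rw [map_sub, map_mul, h1, map_one, sub_self]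
  let u : Aˣ := Units.mkOfMulEqOne _ _ hu
  let M := Multiplicative ℤ
  let h : MonoidAlgebra k M →ₐ[k] A :=
    MonoidAlgebra.lift k A M ((Units.coeHom A).comp (zpowersHom Aˣ u))
  have hgen : ∀ (φ : Pt k A k) (n : ℤ), φ.ofConv (h (MonoidAlgebra.single (Multiplicative.ofAdd n) 1)) = φ θ ^ n := by
    intro φ n
    rw [MonoidAlgebra.lift_single, one_smul]
    show (φ.ofConv : A →* k) ↑(u ^ n) = _
    rw [← Units.coe_map, map_zpow, Units.val_zpow_eq_zpow_val, Units.coe_map]
    rfl
  let Gm := (specGrp k (MonoidAlgebra k M)).X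
  have hGm : Red.IsTorus Gm := by
    haveI : Algebra.FiniteType k (MonoidAlgebra k M) := inferInstance
    refine isTorus_spec (MultT.isDiag_of_span ?_)
    refine eq_top_iff.2 fun x hx0 => ?_
    clear hx0
    induction x using MonoidAlgebra.induction_linear with
    | zero => exact Submodule.zero_mem _
    | add x y hx hy => exact Submodule.add_mem _ hx hy
    | single m c =>
      rw [show MonoidAlgebra.single m c = c • MonoidAlgebra.single m (1 : k) by simp]
      exact Submodule.smul_mem _ c (Submodule.subset_span (MonoidAlgebra.isGroupLikeElem_single_one (R := k) (A := k) m))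
  let e₀ : (specGrp k (MonoidAlgebra k M)).X ≅ Gm := Iso.refl _
  haveI : IsMonHom e₀.hom := inferInstanceAs (IsMonHom (𝟙 _))
  let f : B ⟶ Gm := e.inv ≫ Over.homMk (U := (specGrp k A).X) (Spec.map (CommRingCat.ofHom h.toRingHom)) (by
    show Spec.map _ ≫ Spec.map _ = Spec.map _
    rw [← Spec.map_comp, ← CommRingCat.ofHom_comp]
    exact congrArg (fun g => Spec.map (CommRingCat.ofHom g)) (RingHom.ext fun c => h.commutes c))
  have hf : e.hom.left ≫ f.left = Spec.map (CommRingCat.ofHom h.toRingHom) ≫ e₀.hom.left := by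
    show e.hom.left ≫ e.inv.left ≫ _ = Spec.map _ ≫ 𝟙 _
    rw [Category.comp_id, ← Category.assoc, ← Over.comp_left, e.hom_inv_id]
    exact Category.id_comp _
  have hval : ∀ (p : RP B) (n : ℤ), ProjRep.ptsEquiv e₀ (p ≫ f) (MonoidAlgebra.single (Multiplicative.ofAdd n) 1) =
      ProjRep.ptsEquiv e p θ ^ n := fun p n => by
    rw [ptsEquiv_comp e e₀ f h hf p]
    exact hgen _ n
  have hext : ∀ x y : RP Gm, (∀ n : ℤ, ProjRep.ptsEquiv e₀ x (MonoidAlgebra.single (Multiplicative.ofAdd n) 1) =
      ProjRep.ptsEquiv e₀ y (MonoidAlgebra.single (Multiplicative.ofAdd n) 1)) → x = y := fun x y hxy =>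
    (ProjRep.ptsEquiv e₀).injective (WithConv.ext (MonoidAlgebra.algHom_ext (fun m => hxy (Multiplicative.toAdd m)) (Subsingleton.elim _ _)))
  have hmulGm : ∀ (φ ψ : Pt k (MonoidAlgebra k M) k) (n : ℤ),
      (φ * ψ) (MonoidAlgebra.single (Multiplicative.ofAdd n) 1) =
        φ (MonoidAlgebra.single (Multiplicative.ofAdd n) 1) * ψ (MonoidAlgebra.single (Multiplicative.ofAdd n) 1) := by
    intro φ ψ n
    rw [AlgHom.convMul_apply, (MonoidAlgebra.isGroupLikeElem_single_one (R := k) (A := k) _).comul_eq_tmul_self,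
      Algebra.TensorProduct.lift_tmul]
  haveI := isAffine_of_isTorus hGm
  haveI := locallyOfFiniteType_of_isTorus hGm
  haveI := isAffine_of_isTorus hTt
  haveI := smooth_of_isTorus hTt
  haveI : IsReduced T.left := SmoothRed.isReduced_of_smooth_scheme T.hom
  haveI : IsReduced B.left := SmoothRed.isReduced_of_smooth_scheme B.hom
  have hone' : (1 : RP B) ≫ f = 1 := hext _ _ fun n => by
    rw [hval, hone, one_zpow, map_one, AlgHom.convOne_apply,
      (MonoidAlgebra.isGroupLikeElem_single_one (R := k) (A := k) _).counit_eq_one, map_one]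
  haveI : IsMonHom f := by
    refine ⟨?_, ?_⟩
    · have : (η[B] : 𝟙_ _ ⟶ B) = 1 := by rw [Hom.one_def, toUnit_one, Category.id_comp]
      rw [this, hone', Hom.one_def, toUnit_one, Category.id_comp]
    · haveI : Smooth (B ⊗ B).hom := by
        show Smooth (pullback.fst B.hom B.hom ≫ B.hom)
        infer_instance
      haveI : IsReduced (B ⊗ B).left := SmoothRed.isReduced_of_smooth_scheme (B ⊗ B).hom
      refine hom_ext_rp fun z => hext _ _ fun n => ?_
      have e1 : z ≫ μ[B] ≫ f = ((z ≫ fst B B) * (z ≫ snd B B)) ≫ f := by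
        rw [← MonObj.comp_mul, Hom.mul_def, lift_fst_snd, Category.id_comp, Category.assoc]
      have e2 : z ≫ (f ⊗ₘ f) ≫ μ[Gm] = ((z ≫ fst B B) ≫ f) * ((z ≫ snd B B) ≫ f) := by
        rw [Hom.mul_def, ← Category.assoc z]
        congr 1
        apply CartesianMonoidalCategory.hom_ext <;> simp
      rw [e1, e2, map_mul, hmulGm, hval, hval, hval, hmul, mul_zpow]
  -- it is trivial on the torus
  have htf : t ≫ f = 1 := hom_ext_rp fun p => by
    rw [← Category.assoc, MonObj.comp_one]
    refine hext _ _ fun n => ?_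
    rw [hval, hT, one_zpow, map_one, AlgHom.convOne_apply,
      (MonoidAlgebra.isGroupLikeElem_single_one (R := k) (A := k) _).counit_eq_one, map_one]
  have hff : f = π ≫ t ≫ f := huniq Gm f (π ≫ t ≫ f) hGm (by rw [← Category.assoc t π, htπ, Category.id_comp])
  have hb : b ≫ f = 1 := by rw [hff, htf, MonObj.comp_one, MonObj.comp_one]
  have := hval b 1
  rw [hb, map_one, AlgHom.convOne_apply,
    (MonoidAlgebra.isGroupLikeElem_single_one (R := k) (A := k) _).counit_eq_one, map_one, zpow_one] at this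
  exact this.symm

section Repr

variable {A : Type u} [CommRing A] [HopfAlgebra k A] {V : Type u} [AddCommGroup V] [Module k V] [HopfRep.Comod k A V]

/-- The operator of a rational point. -/
def rho (φ : Pt k A k) : V →ₗ[k] V := (TensorProduct.rid k V).toLinearMap ∘ₗ act φ

omit [IsAlgClosed k] in
theorem act_eq_rho (φ : Pt k A k) (v : V) : act φ v = rho φ v ⊗ₜ[k] (1 : k) := by
  rw [rho, LinearMap.comp_apply, LinearEquiv.coe_coe, ← TensorProduct.rid_symm_apply,
    LinearEquiv.symm_apply_apply]

omit [IsAlgClosed k] in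
theorem rho_mul (φ ψ : Pt k A k) : (rho (φ * ψ) : V →ₗ[k] V) = rho φ ∘ₗ rho ψ := by
  refine LinearMap.ext fun v => (TensorProduct.rid k V).symm.injective ?_
  simp only [TensorProduct.rid_symm_apply, LinearMap.comp_apply, ← act_eq_rho]
  rw [Takeuchi.act_mul, act_eq_rho ψ, actR_tmul, act_eq_rho φ, Takeuchi.sR_tmul, _root_.mul_one]

omit [IsAlgClosed k] in
theorem rho_one : (rho (1 : Pt k A k) : V →ₗ[k] V) = LinearMap.id := by
  refine LinearMap.ext fun v => (TensorProduct.rid k V).symm.injective ?_
  simp only [TensorProduct.rid_symm_apply, ← act_eq_rho, Takeuchi.act_one, LinearMap.id_coe, id_eq]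

/-- The matrix coefficient. -/
def mc (l : V →ₗ[k] k) (v : V) : A := cf l (HopfRep.Comod.coact (k := k) (A := A) v)

omit [IsAlgClosed k] in
theorem apply_mc (φ : Pt k A k) (l : V →ₗ[k] k) (v : V) : φ (mc (A := A) l v) = l (rho φ v) := by
  rw [mc]
  show φ.ofConv (cf l _) = _
  rw [← Takeuchi.cf_map]
  show cf l (act φ v) = _
  rw [act_eq_rho, Takeuchi.cf_tmul, smul_eq_mul, _root_.mul_one]

omit [IsAlgClosed k] in
theorem exists_det_fun [Module.Finite k V] (W : Submodule k V) (hW : ∀ (φ : Pt k A k), ∀ w ∈ W, rho φ w ∈ W) :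
    ∃ D : A, ∀ φ : Pt k A k, φ D = LinearMap.det ((rho φ).restrict (hW φ)) := by
  classical
  let b := Module.finBasis k W
  choose l hl using fun i => (b.coord i).exists_extend
  refine ⟨(Matrix.of fun i j => mc (A := A) (l i) ((b j : W) : V)).det, fun φ => ?_⟩
  rw [← LinearMap.det_toMatrix b]
  show φ.ofConv.toRingHom _ = _
  rw [RingHom.map_det]
  congr 1
  ext i j
  rw [RingHom.mapMatrix_apply, Matrix.map_apply, Matrix.of_apply, LinearMap.toMatrix_apply]
  show φ (mc (l i) _) = _
  rw [apply_mc]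
  show l i (rho φ (b j : V)) = b.coord i ((rho φ).restrict (hW φ) (b j))
  rw [← hl i]
  rfl

end Repr

/-- If a maximal torus of a connected group is central, the group is its own Borel subgroup. -/
theorem exists_borel_iso_of_central {C T : Over (Spec (CommRingCat.of k))} [GrpObj C] [GrpObj T] [IsAffine C.left]
    [Smooth C.hom] [ConnectedSpace C.left] (tc : T ⟶ C) (hT : AGF.IsMaxTorus tc)
    (hcent : ∀ (p : RP T) (g : RP C), g * (p ≫ tc) = (p ≫ tc) * g) :
    ∃ (B : Over (Spec (CommRingCat.of k))) (_ : GrpObj B) (iB : B ⟶ C), Red.IsBorelOver k iB ∧ IsIso iB := by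
  classical
  obtain ⟨htcm, htcmono, hTt, -⟩ := id hT
  haveI := htcm
  haveI := isAffine_of_isTorus hTt
  haveI := smooth_of_isTorus hTt
  haveI := connectedSpace_of_isTorus hTt
  haveI : IsReduced T.left := SmoothRed.isReduced_of_smooth_scheme T.hom
  haveI : IsReduced C.left := SmoothRed.isReduced_of_smooth_scheme C.hom
  obtain ⟨B, hBg, iB, hB, X, aX, o, hX, hXp⟩ := exists_borel_proper C
  haveI := hXp
  obtain ⟨hBm, hBc, hBs, hBconn, hBsol, -⟩ := id hB
  haveI := hBm; haveI := hBc; haveI := hBs; haveI := hBconn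
  haveI : IsAffine B.left := isAffine_of_isAffineHom iB.left
  haveI : Mono iB := GrpField.SchImg.mono_of_isClosedImmersion iB
  haveI : IsReduced B.left := SmoothRed.isReduced_of_smooth_scheme B.hom
  haveI : Group.IsSolvable (RP T) := Group.isSolvable_of_comm (rp_torus_comm hTt)
  obtain ⟨g₀, t, ht₀⟩ := exists_conj_into_borel iB hB tc
  have ht : t ≫ iB = tc := by
    rw [ht₀]
    refine hom_ext_rp fun p => ?_
    rw [comp_conjBy, toUnit_one, Category.id_comp, hcent p g₀, mul_inv_cancel_right]
  haveI : IsMonHom t := MTSplit.isMonHom_of_comp_mono t iB tc ht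
  obtain ⟨π, hπ, htπ, huniq⟩ := exists_retraction iB hB tc hT t ht
  haveI := hπ
  -- coordinates
  obtain ⟨A, hA, e, he⟩ := FinHopf.exists_hopf (R := CommRingCat.of k) C
  haveI := he
  obtain ⟨A', hA', e', he'⟩ := FinHopf.exists_hopf (R := CommRingCat.of k) B
  haveI := he'
  haveI : IsIso e.hom.left := inferInstanceAs (IsIso ((Over.forget _).map e.hom))
  haveI : IsIso e.inv.left := inferInstanceAs (IsIso ((Over.forget _).map e.inv))
  haveI : IsIso e'.hom.left := inferInstanceAs (IsIso ((Over.forget _).map e'.hom))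
  haveI : IsMonHom e.inv := inferInstance
  haveI : Algebra.FiniteType k A := by
    have h0 : LocallyOfFiniteType (e.hom.left ≫ C.hom) := inferInstance
    rw [Over.w e.hom] at h0
    exact RingHom.finiteType_algebraMap.1 ((HasRingHomProperty.Spec_iff (P := @LocallyOfFiniteType)).1 h0)
  let v₀ : (specGrp k A').X ⟶ (specGrp k A).X := e'.hom ≫ iB ≫ e.inv
  haveI : IsMonHom v₀ := by dsimp [v₀]; infer_instance
  obtain ⟨jh, hjh⟩ := MTBridge.exists_bialgHom v₀
  have hf : e'.hom.left ≫ iB.left = Spec.map (CommRingCat.ofHom (jh : A →ₐ[k] A').toRingHom) ≫ e.hom.left := by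
    rw [← Over.comp_left, show e'.hom ≫ iB = v₀ ≫ e.hom by simp [v₀], Over.comp_left, hjh]
  have hsurj : Function.Surjective jh := by
    haveI : IsClosedImmersion v₀.left := inferInstanceAs (IsClosedImmersion (e'.hom.left ≫ iB.left ≫ e.inv.left))
    let φ : CommRingCat.of A ⟶ CommRingCat.of A' := CommRingCat.ofHom (jh : A →ₐ[k] A').toRingHom
    haveI : IsClosedImmersion (Spec.map φ) := hjh ▸ ‹IsClosedImmersion v₀.left›
    have h := (IsClosedImmersion.isAffine_surjective_of_isAffine (Spec.map φ)).2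
    intro c
    obtain ⟨a, ha⟩ := h ((Scheme.ΓSpecIso _).inv c)
    refine ⟨(Scheme.ΓSpecIso (CommRingCat.of A)).hom a, ?_⟩
    show φ ((Scheme.ΓSpecIso _).hom a) = c
    rw [← CommRingCat.comp_apply, ← Scheme.ΓSpecIso_naturality, CommRingCat.comp_apply, ha,
      Iso.inv_hom_id_apply]
  have hptB : ∀ b : RP B, ProjRep.ptsEquiv e (b ≫ iB) = toConv ((ProjRep.ptsEquiv e' b).ofConv.comp (jh : A →ₐ[k] A')) :=
    fun b => ptsEquiv_comp e' e iB _ hf b
  let I : Ideal A := RingHom.ker jh
  haveI : I.IsHopfIdeal k := DiagUnip.isHopfIdeal_ker jh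
  obtain ⟨V, _, _, hcm, hfin, v, hv, hrep⟩ := Groth.Agent.S3019.result k A I
  haveI := hfin
  let ρ : RP C → V →ₗ[k] V := fun g => rho (ProjRep.ptsEquiv e g)
  have hρ : ∀ g h : RP C, ρ (g * h) = ρ g ∘ₗ ρ h := fun g h => by simp only [ρ, map_mul, rho_mul]
  have hρ1 : ρ 1 = LinearMap.id := by simp only [ρ, map_one, rho_one]
  -- the stabiliser of the line
  have hline : ∀ g : RP C, (∃ b : RP B, b ≫ iB = g) ↔ ∃ c : k, ρ g v = c • v := by
    intro g
    have h1 := hrep k (ProjRep.ptsEquiv e g).ofConv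
    refine ⟨?_, fun ⟨c, hc⟩ => ?_⟩
    · rintro ⟨b, rfl⟩
      obtain ⟨c, hc⟩ := h1.1 fun a ha => by
        rw [hptB]
        show (ProjRep.ptsEquiv e' b).ofConv (jh a) = 0
        rw [RingHom.mem_ker.1 ha, map_zero]
      refine ⟨c, (TensorProduct.rid k V).symm.injective ?_⟩
      simp only [ρ, TensorProduct.rid_symm_apply, ← act_eq_rho, TensorProduct.smul_tmul, smul_eq_mul, _root_.mul_one]
      exact hc
    · have hI := h1.2 ⟨c, by
        show act (ProjRep.ptsEquiv e g) v = _
        rw [act_eq_rho, hc, TensorProduct.smul_tmul, smul_eq_mul, _root_.mul_one]⟩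
      let ψ : Pt k A' k := toConv (AlgHom.liftOfSurjective (jh : A →ₐ[k] A') hsurj (ProjRep.ptsEquiv e g).ofConv hI)
      refine ⟨(ProjRep.ptsEquiv e').symm ψ, (ProjRep.ptsEquiv e).injective ?_⟩
      rw [hptB, MulEquiv.apply_symm_apply]
      exact WithConv.ext (AlgHom.liftOfSurjective_comp _ _ _ _)
  obtain ⟨l₀, hl₀⟩ : ∃ l : V →ₗ[k] k, l v = 1 := by
    obtain ⟨l, hl⟩ : ∃ l : V →ₗ[k] k, l v ≠ 0 := by
      by_contra h
      push Not at h
      exact hv ((Module.forall_dual_apply_eq_zero_iff k v).1 h)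
    exact ⟨(l v)⁻¹ • l, by simp [hl]⟩
  -- the span of the orbit
  let W : Submodule k V := Submodule.span k (Set.range fun g => ρ g v)
  have hWC : ∀ (g : RP C), ∀ w ∈ W, ρ g w ∈ W := by
    intro g w hw
    induction hw using Submodule.span_induction with
    | mem x hx =>
      obtain ⟨h, rfl⟩ := hx
      exact Submodule.subset_span ⟨g * h, by show ρ (g * h) v = _; rw [hρ, LinearMap.comp_apply]⟩
    | zero => simp
    | add x y _ _ hx hy => rw [map_add]; exact Submodule.add_mem _ hx hy
    | smul c x _ hx => rw [map_smul]; exact Submodule.smul_mem _ c hx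
  have hW : ∀ φ : Pt k A k, ∀ w ∈ W, rho φ w ∈ W := fun φ w hw => by
    simpa [ρ] using hWC ((ProjRep.ptsEquiv e).symm φ) w hw
  obtain ⟨D, hD⟩ := exists_det_fun W hW
  let detW : RP C → k := fun g => ProjRep.ptsEquiv e g D
  have hdetmul : ∀ g h, detW (g * h) = detW g * detW h := by
    intro g h
    simp only [detW, hD, ← map_mul]
    congr 1
    refine LinearMap.ext fun w => Subtype.ext ?_
    show rho (ProjRep.ptsEquiv e (g * h)) (w : V) = rho _ (rho _ (w : V))
    rw [map_mul, rho_mul, LinearMap.comp_apply]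
  have hdet1 : detW 1 = 1 := by
    simp only [detW, hD]
    rw [show (rho (ProjRep.ptsEquiv e (1 : RP C))).restrict (hW _) = LinearMap.id from
      LinearMap.ext fun w => Subtype.ext (by simp [rho_one]), LinearMap.det_id]
  let d := Module.finrank k W
  let F : (V →ₗ[k] k) → A := fun l => mc (A := A) l v ^ d * HopfAlgebraStruct.antipode (R := k) D
  have hF : ∀ (l : V →ₗ[k] k) (g : RP C), ProjRep.ptsEquiv e g (F l) = l (ρ g v) ^ d * detW g⁻¹ := by
    intro l g
    show (ProjRep.ptsEquiv e g).ofConv (F l) = _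
    rw [map_mul, map_pow]
    simp only [detW, map_inv, Takeuchi.inv_apply, ρ, ← apply_mc]
  -- characters of the Borel subgroup
  let χ : RP B → k := fun b => l₀ (ρ (b ≫ iB) v)
  have hχ : ∀ b : RP B, ρ (b ≫ iB) v = χ b • v := fun b => by
    obtain ⟨c, hc⟩ := (hline _).1 ⟨b, rfl⟩
    simp only [χ, hc, map_smul, hl₀, smul_eq_mul, _root_.mul_one]
  have hθ : ∀ b : RP B, χ b ^ d * detW (b ≫ iB)⁻¹ = 1 := by
    intro b
    let θ : A' := jh (F l₀)
    have hval : ∀ p : RP B, ProjRep.ptsEquiv e' p θ = χ p ^ d * detW (p ≫ iB)⁻¹ := fun p => by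
      rw [← hF, hptB]
      rfl
    rw [← hval]
    refine char_eq_one t hTt π huniq htπ e' θ (fun p q => ?_) ?_ (fun p => ?_) b
    · rw [hval, hval, hval]
      have h1 : χ (p * q) = χ p * χ q := by
        simp only [χ]
        rw [MonObj.mul_comp, hρ, LinearMap.comp_apply, hχ q, map_smul, map_smul, hχ p]
        simp only [map_smul, hl₀, smul_eq_mul, _root_.mul_one]
        exact mul_comm _ _
      rw [h1, MonObj.mul_comp, _root_.mul_inv_rev, hdetmul, mul_pow]
      ring
    · rw [hval]
      have h1 : χ 1 = 1 := by simp only [χ, MonObj.one_comp, hρ1, LinearMap.id_coe, id_eq, hl₀]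
      rw [h1, one_pow, MonObj.one_comp, inv_one, hdet1, _root_.mul_one]
    · rw [hval]
      have hsc : ∀ w ∈ W, ρ (p ≫ tc) w = χ (p ≫ t) • w := by
        intro w hw
        induction hw using Submodule.span_induction with
        | mem x hx =>
          obtain ⟨g, rfl⟩ := hx
          show ρ (p ≫ tc) (ρ g v) = _
          rw [← LinearMap.comp_apply, ← hρ, ← hcent p g, hρ, LinearMap.comp_apply, ← ht, ← Category.assoc,
            hχ, map_smul]
        | zero => simp
        | add x y _ _ hx hy => rw [map_add, hx, hy, smul_add]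
        | smul c x _ hx => rw [map_smul, hx, smul_comm]
      have hdetT : detW (p ≫ tc) = χ (p ≫ t) ^ d := by
        simp only [detW, hD]
        rw [show (rho (ProjRep.ptsEquiv e (p ≫ tc))).restrict (hW _) = χ (p ≫ t) • LinearMap.id from
          LinearMap.ext fun w => Subtype.ext (hsc w w.2), LinearMap.det_smul, LinearMap.det_id, _root_.mul_one]
      rw [Category.assoc, ht, ← hdetT, ← hdetmul, mul_inv_cancel, hdet1]
  -- the functions are invariant, hence constant
  have hconst : ∀ (l : V →ₗ[k] k) (g : RP C), l (ρ g v) ^ d * detW g⁻¹ = l v ^ d := by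
    intro l g
    rw [← hF, eq_of_invariant iB aX o hX e (F l) (fun g b => ?_) g, hF, inv_one, hdet1, _root_.mul_one, hρ1,
      LinearMap.id_coe, id_eq]
    rw [hF, hF, hρ, LinearMap.comp_apply, hχ, map_smul, map_smul, smul_eq_mul, _root_.mul_inv_rev, hdetmul,
      mul_pow]
    linear_combination (l (ρ g v) ^ d * detW g⁻¹) * hθ b
  have hall : ∀ g : RP C, ∃ b : RP B, b ≫ iB = g := by
    intro g
    rw [hline]
    refine ⟨l₀ (ρ g v), ?_⟩
    rw [← sub_eq_zero]
    refine (Module.forall_dual_apply_eq_zero_iff k _).1 fun l => ?_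
    have hdg : detW g⁻¹ ≠ 0 := fun h0 => by
      have := hdetmul g g⁻¹
      rw [mul_inv_cancel, hdet1, h0, mul_zero] at this
      exact one_ne_zero this
    let l' : V →ₗ[k] k := l - l v • l₀
    have hd : d ≠ 0 := by
      have hmem : v ∈ W := Submodule.subset_span ⟨1, by simp [hρ1]⟩
      haveI : Nontrivial W := ⟨⟨⟨v, hmem⟩, 0, fun h => hv (congrArg Subtype.val h)⟩⟩
      exact Module.finrank_pos.ne'
    have h := hconst l' g
    rw [show l' v = 0 by simp [l', hl₀], zero_pow hd] at h
    have h2 := pow_eq_zero_iff hd |>.1 ((mul_eq_zero.1 h).resolve_right hdg)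
    simp only [l', LinearMap.sub_apply, LinearMap.smul_apply, smul_eq_mul] at h2
    rw [map_sub, map_smul, smul_eq_mul]
    linear_combination h2
  refine ⟨B, hBg, iB, hB, ?_⟩
  obtain ⟨s, hs⟩ := exists_lift_rp (𝟙 C) iB fun g => by
    obtain ⟨b, hb⟩ := hall g
    exact ⟨rpt b, by rw [Category.comp_id, ← hb, SubGen.map_rpt]⟩
  haveI : IsSplitEpi iB := ⟨⟨s, hs⟩⟩
  exact isIso_of_mono_of_isSplitEpi iB

end Groth.Agent.Chev.Borel
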