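import Groth.Agent.Chev.CentDense
import Groth.Agent.Chev.CentSolv
import Groth.Agent.Chev.SubgroupStab

/-!
# Line stabilizers, orders in the Weyl group, powers of homomorphisms of tori
-/

set_option autoImplicit false
set_option backward.isDefEq.respectTransparency false

universe u

open CategoryTheory CategoryTheory.Limits MonoidalCategory CartesianMonoidalCategory MonObj GrpObj AlgebraicGeometry
open TensorProduct WithConv
open Groth.Agent.GrassClosed (SpA)
open Groth.Agent.Takeuchi (Pt act)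
open Groth.Agent.SubGen (rpt exists_rpt map_rpt rpt_injective rpt_mem_closedPoints)
open Groth.Agent.MTBridge (specGrp)

noncomputable section

namespace Groth.Agent.Chev.Borel

open BorelFixed

variable {k : Type u} [Field k] [IsAlgClosed k]

/-- A closed subgroup is, on rational points, the stabiliser of a line in a comodule. -/
theorem exists_line {G H : Over (Spec (CommRingCat.of k))} [GrpObj G] [GrpObj H] [IsAffine G.left]
    [LocallyOfFiniteType G.hom] {A : Type u} [CommRing A] [HopfAlgebra k A] [Algebra.FiniteType k A]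
    (e : (specGrp k A).X ≅ G) [IsMonHom e.hom] (iH : H ⟶ G) [IsMonHom iH] [IsClosedImmersion iH.left] :
    ∃ (V : Type u) (_ : AddCommGroup V) (_ : Module k V) (_ : HopfRep.Comod k A V) (_ : Module.Finite k V) (v : V),
      v ≠ 0 ∧ ∀ g : RP G, (∃ h : RP H, h ≫ iH = g) ↔ ∃ c : k, rho (ProjRep.ptsEquiv e g) v = c • v := by
  let S : Subgroup (Pt k A k) := (rpHom iH).range.map (ProjRep.ptsEquiv e).toMonoidHom
  let I : Ideal A := ⨅ φ ∈ S, RingHom.ker (WithConv.ofConv φ : A →ₐ[k] k)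
  haveI : I.IsHopfIdeal k := Groth.Agent.S7974.result k A S
  have hclosed : ∀ φ : Pt k A k, (∀ a ∈ I, φ.ofConv a = 0) → φ ∈ S := by
    intro φ hφ
    let Z : Set (PrimeSpectrum A) := e.hom.left ⁻¹' Set.range iH.left
    have hZ : IsClosed Z := iH.left.isClosedEmbedding.isClosed_range.preimage e.hom.left.continuous
    have hpt : ∀ ψ : Pt k A k, rpt ((ProjRep.ptsEquiv e).symm ψ) =
        e.hom.left ((Spec.mapMulEquiv ψ : SpA (CommAlgCat.of k k) ⟶ _).left (IsLocalRing.closedPoint k)) := fun ψ => rfl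
    have hker : ∀ ψ : Pt k A k, ((Spec.mapMulEquiv ψ : SpA (CommAlgCat.of k k) ⟶ _).left (IsLocalRing.closedPoint k) :
        PrimeSpectrum A).asIdeal = RingHom.ker ψ.ofConv := fun ψ => by
      show Ideal.comap ψ.ofConv.toRingHom (IsLocalRing.maximalIdeal k) = _
      rw [IsLocalRing.maximalIdeal_eq_bot]
      rfl
    have hin : PrimeSpectrum.vanishingIdeal Z ≤ I := fun f hf => by
      simp only [I, Ideal.mem_iInf]
      rintro ψ ⟨_, ⟨h, rfl⟩, rfl⟩
      have hm : rpt ((ProjRep.ptsEquiv e).symm ((ProjRep.ptsEquiv e) (rpHom iH h))) ∈ Set.range iH.left := by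
        rw [MulEquiv.symm_apply_apply]
        exact ⟨rpt h, map_rpt _ _⟩
      rw [hpt] at hm
      have hf' := (PrimeSpectrum.mem_vanishingIdeal _ _).1 hf _ hm
      rw [hker] at hf'
      exact hf'
    have hmem : (Spec.mapMulEquiv φ : SpA (CommAlgCat.of k k) ⟶ _).left (IsLocalRing.closedPoint k) ∈ Z := by
      rw [← hZ.closure_eq, ← PrimeSpectrum.zeroLocus_vanishingIdeal_eq_closure, PrimeSpectrum.mem_zeroLocus]
      intro f hf
      rw [SetLike.mem_coe, hker]
      exact hφ f (hin hf)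
    have hm : rpt ((ProjRep.ptsEquiv e).symm φ) ∈ Set.range iH.left := by rw [hpt]; exact hmem
    obtain ⟨h, hh⟩ := exists_rp_lift iH _ hm
    exact ⟨_, ⟨h, rfl⟩, (congrArg (ProjRep.ptsEquiv e) hh).trans ((ProjRep.ptsEquiv e).apply_symm_apply φ)⟩
  obtain ⟨V, _, _, hcm, hfin, v, hv, hrep⟩ := Groth.Agent.S3019.result k A I
  refine ⟨V, inferInstance, inferInstance, hcm, hfin, v, hv, fun g => ?_⟩
  have h1 := hrep k (ProjRep.ptsEquiv e g).ofConv
  refine ⟨?_, fun ⟨c, hc⟩ => ?_⟩
  · rintro ⟨h, rfl⟩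
    obtain ⟨c, hc⟩ := h1.1 fun a ha => RingHom.mem_ker.1 (Ideal.mem_iInf.1 (Ideal.mem_iInf.1 ha _) ⟨_, ⟨h, rfl⟩, rfl⟩)
    refine ⟨c, (TensorProduct.rid k V).symm.injective ?_⟩
    simp only [TensorProduct.rid_symm_apply, ← act_eq_rho, TensorProduct.smul_tmul, smul_eq_mul, _root_.mul_one]
    exact hc
  · obtain ⟨_, ⟨h, rfl⟩, hh⟩ := hclosed (ProjRep.ptsEquiv e g) (h1.2 ⟨c, by
      show act (ProjRep.ptsEquiv e g) v = _
      rw [act_eq_rho, hc, TensorProduct.smul_tmul, smul_eq_mul, _root_.mul_one]⟩)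
    exact ⟨h, (ProjRep.ptsEquiv e).injective hh⟩

variable {T : Over (Spec (CommRingCat.of k))} [GrpObj T]

/-- Products of homomorphisms to a torus are homomorphisms. -/
theorem isMonHom_mul_torus (hT : Red.IsTorus T) {U : Over (Spec (CommRingCat.of k))} [GrpObj U] [Smooth U.hom]
    (f g : U ⟶ T) [IsMonHom f] [IsMonHom g] : IsMonHom (f * g) := by
  haveI := isAffine_of_isTorus hT
  haveI := locallyOfFiniteType_of_isTorus hT
  refine ⟨?_, ?_⟩
  · rw [MonObj.comp_mul, IsMonHom.one_hom, IsMonHom.one_hom,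
      show (η[T] : 𝟙_ _ ⟶ T) = 1 by rw [Hom.one_def, toUnit_one, Category.id_comp], _root_.mul_one]
  · haveI : Smooth (U ⊗ U).hom := by
      show Smooth (pullback.fst U.hom U.hom ≫ U.hom)
      infer_instance
    haveI : IsReduced (U ⊗ U).left := SmoothRed.isReduced_of_smooth_scheme (U ⊗ U).hom
    refine hom_ext_rp fun z => ?_
    have e1 : ∀ (φ : U ⟶ T) [IsMonHom φ], z ≫ μ[U] ≫ φ = ((z ≫ fst U U) ≫ φ) * ((z ≫ snd U U) ≫ φ) := fun φ _ => by
      rw [← MonObj.mul_comp, ← MonObj.comp_mul, Hom.mul_def, lift_fst_snd, Category.id_comp, Category.assoc]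
    have e2 : z ≫ ((f * g) ⊗ₘ (f * g)) ≫ μ[T] = ((z ≫ fst U U) ≫ (f * g)) * ((z ≫ snd U U) ≫ (f * g)) := by
      generalize f * g = h
      rw [Hom.mul_def, ← Category.assoc z]
      congr 1
      apply CartesianMonoidalCategory.hom_ext <;> simp
    rw [e2, MonObj.comp_mul μ[U] f g, MonObj.comp_mul z _ _, e1 f, e1 g, MonObj.comp_mul, MonObj.comp_mul]
    generalize (z ≫ fst U U) ≫ f = p
    generalize (z ≫ snd U U) ≫ f = q
    generalize (z ≫ fst U U) ≫ g = r
    generalize (z ≫ snd U U) ≫ g = w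
    rw [_root_.mul_assoc, ← _root_.mul_assoc q r w, rp_torus_comm hT q r, _root_.mul_assoc r q w, ← _root_.mul_assoc p r]

/-- The trivial homomorphism. -/
theorem isMonHom_one_torus {U : Over (Spec (CommRingCat.of k))} [GrpObj U] : IsMonHom (1 : U ⟶ T) := by
  refine ⟨?_, ?_⟩
  · rw [MonObj.comp_one, Hom.one_def, toUnit_one, Category.id_comp]
  · rw [MonObj.comp_one]
    simp only [Hom.one_def, ← Category.assoc]
    rw [show toUnit (U ⊗ U) ≫ η[T] = lift (toUnit (U ⊗ U) ≫ η[T]) (toUnit (U ⊗ U) ≫ η[T]) ≫ μ[T] by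
      rw [← Hom.mul_def, ← Hom.one_def, _root_.mul_one]]
    congr 1
    apply CartesianMonoidalCategory.hom_ext <;> simp [← Category.assoc, toUnit_unique (fst U U ≫ toUnit U) (toUnit (U ⊗ U)),
      toUnit_unique (snd U U ≫ toUnit U) (toUnit (U ⊗ U))]

variable {G C : Over (Spec (CommRingCat.of k))} [GrpObj G] [GrpObj C] [IsAffine G.left] [Smooth G.hom]
  [ConnectedSpace G.left]

/-- A point normalising a maximal torus has a power centralising it. -/
theorem exists_pow_mem_centralizer (iT : T ⟶ G) (hT : AGF.IsMaxTorus iT) (c : C ⟶ G) (hc : Red.IsCentralizerOf iT c)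
    (g : RP G) (φ : T ≅ T) (hφ : φ.hom ≫ iT = AGF.conjBy g iT) :
    ∃ m : ℕ, 0 < m ∧ ∃ z : RP C, z ≫ c = g ^ m := by
  obtain ⟨him, himono, hTt, -⟩ := id hT
  haveI := him; haveI := himono; haveI := hc.1
  obtain ⟨hs, haff, hcl, hconn, -⟩ := centralizer_maxTorus iT hT c hc
  haveI := hs; haveI := haff; haveI := hcl; haveI := hconn
  have hM := MTBridge.isMultTypeFT_of_isTorus T hTt
  haveI : IsAffineHom G.hom := inferInstance
  obtain ⟨N, hNg, n, hN, hNc, hNs⟩ := Groth.Agent.S5248.result T G hM ‹_› inferInstance iT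
  haveI := hN.1; haveI := hN.2.1; haveI := hNc; haveI := hNs
  obtain ⟨fC, hfC, hfo, hfcl⟩ := Groth.Agent.S5249.result T G C N hM ‹_› inferInstance iT c n hc hN
  haveI := hfo; haveI := hfcl
  haveI : IsMonHom fC := MTSplit.isMonHom_of_comp_mono fC n c hfC
  obtain ⟨q, hq⟩ := (hN.2.2 _ g).2 fun X' x h => by
    refine ⟨⟨h ≫ φ.hom, ?_⟩, ⟨h ≫ φ.inv, ?_⟩⟩
    · rw [Category.assoc, hφ, comp_conjBy, toUnit_unique x (toUnit X')]
    · have hg2 : φ.inv ≫ iT = AGF.conjBy g⁻¹ iT := by
        have e := congrArg (fun m => φ.inv ≫ m) hφ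
        simp only [φ.inv_hom_id_assoc, comp_conjBy'] at e
        conv_rhs => rw [e, conjBy_conjBy, inv_mul_cancel, conjBy_one]
      rw [Category.assoc, hg2, comp_conjBy, toUnit_unique x (toUnit X'), GrpObj.comp_inv, _root_.inv_inv]
  haveI : IsAffine N.left := isAffine_of_isAffineHom n.left
  haveI : IsLocallyNoetherian N.left := LocallyOfFiniteType.isLocallyNoetherian N.hom
  haveI : IsNoetherian N.left := { }
  haveI : Finite ↥(irreducibleComponents N.left) :=
    TopologicalSpace.NoetherianSpace.finite_irreducibleComponents.to_subtype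
  obtain ⟨i, j, hij, hcomp⟩ := Finite.exists_ne_map_eq_of_infinite fun i : ℕ =>
    (⟨irreducibleComponent (rpt (q ^ i)), irreducibleComponent_mem_irreducibleComponents _⟩ :
      ↥(irreducibleComponents N.left))
  wlog hlt : i < j generalizing i j with H
  · exact H j i hij.symm hcomp.symm (lt_of_le_of_ne (not_lt.1 hlt) hij.symm)
  refine ⟨j - i, by omega, ?_⟩
  let L : N ⟶ N := (toUnit N ≫ (q ^ i)⁻¹) * 𝟙 N
  have hL : ∀ z : RP N, z ≫ L = (q ^ i)⁻¹ * z := fun z => by
    rw [MonObj.comp_mul, rp_const, Category.comp_id]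
  have hZ : _root_.IsPreconnected (L.left '' irreducibleComponent (rpt (q ^ i))) :=
    (isIrreducible_irreducibleComponent.image _ L.left.continuous.continuousOn).isConnected.isPreconnected
  have hone : rpt (1 : RP N) ∈ Set.range fC.left := ⟨rpt (1 : RP C), by rw [map_rpt, MonObj.one_comp]⟩
  have hin : L.left '' irreducibleComponent (rpt (q ^ i)) ⊆ Set.range fC.left := by
    refine hZ.subset_isClopen ⟨fC.left.isClosedEmbedding.isClosed_range, fC.left.isOpenEmbedding.isOpen_range⟩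
      ⟨rpt (1 : RP N), ⟨rpt (q ^ i), mem_irreducibleComponent, ?_⟩, hone⟩
    rw [map_rpt, hL, inv_mul_cancel]
  have hj : rpt (q ^ j) ∈ irreducibleComponent (rpt (q ^ i)) := by
    rw [show irreducibleComponent (rpt (q ^ i)) = irreducibleComponent (rpt (q ^ j)) from congrArg Subtype.val hcomp]
    exact mem_irreducibleComponent
  have hmem := hin ⟨_, hj, rfl⟩
  rw [map_rpt, hL] at hmem
  obtain ⟨z, hz⟩ := exists_rp_lift fC _ hmem
  refine ⟨z, ?_⟩
  rw [← hfC, ← Category.assoc, hz, MonObj.mul_comp, GrpObj.inv_comp]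
  have hp : ∀ m : ℕ, (q ^ m) ≫ n = g ^ m := fun m => by
    induction m with
    | zero => rw [pow_zero, pow_zero, MonObj.one_comp]
    | succ m ih => rw [pow_succ, pow_succ, MonObj.mul_comp, ih, hq]
  rw [hp, hp, inv_mul_eq_iff_eq_mul, ← pow_add, show i + (j - i) = j by omega]

end Groth.Agent.Chev.Borel
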