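import Groth.Agent.AdjRep.ToGL
import Groth.Agent.GrpField.SurjSmooth
import Groth.Agent.Takeuchi.Quot

/-!
# Homomorphic images of affine groups
-/

set_option autoImplicit false
set_option backward.isDefEq.respectTransparency false

universe u

open CategoryTheory CategoryTheory.Limits MonoidalCategory CartesianMonoidalCategory MonObj GrpObj AlgebraicGeometry

noncomputable section

namespace Groth.Agent.Chev

variable {k : Type u} [Field k]

/-- A reduced homomorphic image of an affine algebraic group is affine. -/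
theorem isAffine_of_surjective {G H : Over (Spec (CommRingCat.of k))} [GrpObj G] [GrpObj H] [IsAffine G.left]
    [LocallyOfFiniteType G.hom] [LocallyOfFiniteType H.hom] [IsSeparated H.hom] [IsReduced H.left]
    (p : G ⟶ H) [IsMonHom p] [Surjective p.left] : IsAffine H.left := by
  haveI : IsAffineHom G.hom := isAffineHom_of_isAffine G.hom
  haveI : QuasiCompact p.left := by
    haveI : QuasiCompact (p.left ≫ H.hom) := by rw [Over.w]; infer_instance
    exact QuasiCompact.of_comp p.left H.hom
  haveI := GrpField.flat_of_surjective_reduced p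
  let Kt : Over (Spec (CommRingCat.of k)) := Over.mk (pullback.fst p.left η[H].left ≫ G.hom)
  let i : Kt ⟶ G := Over.homMk (pullback.fst p.left η[H].left) rfl
  haveI : IsClosedImmersion η[H].left := by
    haveI : IsClosedImmersion (η[H].left ≫ H.hom) := by
      rw [Over.w]; exact inferInstanceAs (IsClosedImmersion (𝟙 _))
    exact IsClosedImmersion.of_comp η[H].left H.hom
  haveI : IsClosedImmersion i.left := inferInstanceAs (IsClosedImmersion (pullback.fst p.left η[H].left))
  have hi1 : i ≫ p = 1 := by
    apply Over.OverMorphism.ext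
    rw [Hom.one_def, Over.comp_left, Over.comp_left, Over.toUnit_left]
    show pullback.fst p.left η[H].left ≫ p.left = (pullback.fst p.left η[H].left ≫ G.hom) ≫ η[H].left
    rw [pullback.condition]
    congr 1
    rw [← Over.w p, pullback.condition_assoc, Over.w η[H]]
    exact (Category.comp_id _).symm
  have huniv : ∀ {T : Over (Spec (CommRingCat.of k))} (g : T ⟶ G), g ≫ p = 1 → ∃ w : T ⟶ Kt, w ≫ i = g := by
    intro T g hg
    have h0 : g.left ≫ p.left = (toUnit T).left ≫ η[H].left := by
      rw [← Over.comp_left, hg, Hom.one_def, Over.comp_left]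
    refine ⟨Over.homMk (pullback.lift g.left _ h0) ?_, Over.OverMorphism.ext (pullback.lift_fst _ _ _)⟩
    show pullback.lift _ _ h0 ≫ pullback.fst _ _ ≫ G.hom = T.hom
    rw [pullback.lift_fst_assoc, Over.w g]
  haveI : Mono i := GrpField.SchImg.mono_of_isClosedImmersion i
  obtain ⟨w1, hw1⟩ := huniv (1 : 𝟙_ _ ⟶ G) (MonObj.one_comp _)
  obtain ⟨hK, him⟩ := GrpField.SchImg.exists_grpObj_of_div i ⟨w1, by rw [hw1, Hom.one_def, toUnit_unique (toUnit (𝟙_ _)) (𝟙 _), Category.id_comp]⟩
    fun T a b => huniv _ (by
      rw [MonObj.mul_comp, GrpObj.inv_comp, Category.assoc, hi1, MonObj.comp_one, Category.assoc, hi1,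
        MonObj.comp_one, inv_mul_cancel])
  haveI := him
  have hN : AlgGrp.IsNormalHom i := fun T g nn => by
    obtain ⟨w, hw⟩ := huniv (g * (nn ≫ i) * g⁻¹) (by
      rw [MonObj.mul_comp, MonObj.mul_comp, GrpObj.inv_comp, Category.assoc, hi1, MonObj.comp_one,
        _root_.mul_one, mul_inv_cancel])
    exact ⟨w, hw.symm⟩
  obtain ⟨Q, hQ, q, hq, haff, hlft, hflat, hsurj, hker⟩ := Takeuchi.exists_affine_quotient G Kt i hN
  have hker' : AlgGrp.IsKernel i p := by
    refine ⟨⟨by rw [hi1]; rfl⟩, ⟨PullbackCone.isLimitAux' _ fun s => ?_⟩⟩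
    have hs : s.fst ≫ p = 1 := by rw [s.condition, Hom.one_def, toUnit_unique s.snd (toUnit _)]
    refine ⟨(huniv _ hs).choose, (huniv _ hs).choose_spec, toUnit_unique _ _, fun {l : s.pt ⟶ Kt} hl _ => ?_⟩
    rw [← cancel_mono i, (huniv _ hs).choose_spec]
    exact hl
  haveI := hflat
  haveI := hsurj
  haveI : IsAffineHom Q.hom := isAffineHom_of_isAffine Q.hom
  haveI : QuasiCompact q.left := by
    haveI : QuasiCompact (q.left ≫ Q.hom) := by rw [Over.w]; infer_instance
    exact QuasiCompact.of_comp q.left Q.hom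
  obtain ⟨e⟩ := AdjRep.exists_iso_of_same_kernel i q p hker hker'
  haveI : IsIso e.inv.left := inferInstanceAs (IsIso ((Over.forget _).map e.inv))
  exact IsAffine.of_isIso e.inv.left

end Groth.Agent.Chev
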