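import Groth.Agent.Chev.TorusBasic
import Groth.Agent.Chev.AffImage
import Groth.Agent.MultT.Diag
import Groth.Agent.MTBridge.Basic

/-!
# Homomorphic images of tori are tori
-/

set_option autoImplicit false
set_option linter.style.haveILetI false
set_option backward.isDefEq.respectTransparency false
set_option maxHeartbeats 1000000
set_option synthInstance.maxHeartbeats 400000
universe u

open CategoryTheory Limits MonoidalCategory CartesianMonoidalCategory MonObj GrpObj AlgebraicGeometry
open TensorProduct Opposite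
open AlgGrp
open scoped CategoryTheory.Obj

noncomputable section

namespace Groth.Agent.Chev

open AVDeg (bcK specMap)

/-- A sub-bialgebra of a group algebra is spanned by group-like elements. -/
theorem span_groupLike_of_injective {K : Type u} [Field K] {M : Type u} [CommGroup M] {B : Type u} [CommRing B]
    [HopfAlgebra K B] (φ : B →ₐc[K] MonoidAlgebra K M) (hφ : Function.Injective φ) :
    Submodule.span K {g : B | IsGroupLikeElem K g} = ⊤ := by
  classical
  let φl : B →ₗ[K] MonoidAlgebra K M := φ.toCoalgHom.toLinearMap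
  let R : Submodule K (MonoidAlgebra K M) := LinearMap.range φl
  let δ : M → MonoidAlgebra K M →ₗ[K] K := fun m =>
    Finsupp.lapply m ∘ₗ (MonoidAlgebra.coeffLinearEquiv (R := K) (S := K) (M := M)).toLinearMap
  let c : M → MonoidAlgebra K M →ₗ[K] MonoidAlgebra K M := fun m =>
    (TensorProduct.rid K _).toLinearMap ∘ₗ (δ m).lTensor _ ∘ₗ Coalgebra.comul
  have hc : ∀ (m : M) (x : MonoidAlgebra K M), c m x = MonoidAlgebra.single m (x.coeff m) := by
    intro m x
    induction x using MonoidAlgebra.induction_linear with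
    | zero => simp
    | add a b ha hb => rw [map_add, ha, hb, MonoidAlgebra.coeff_add, Finsupp.add_apply, MonoidAlgebra.single_add]
    | single a r =>
      simp only [c, δ, LinearMap.comp_apply, MonoidAlgebra.comul_single, CommSemiring.comul_apply,
        TensorProduct.map_tmul, MonoidAlgebra.lsingle_apply, LinearMap.lTensor_tmul, LinearEquiv.coe_coe,
        TensorProduct.rid_tmul]
      rcases eq_or_ne a m with rfl | h
      · simp [MonoidAlgebra.smul_single]
      · simp [Finsupp.single_eq_of_ne h, Finsupp.single_eq_of_ne h.symm]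
  have hR : ∀ (m : M) (b : B), MonoidAlgebra.single m ((φ b).coeff m) ∈ R := by
    intro m b
    rw [← hc]
    show (TensorProduct.rid K _) ((δ m).lTensor _ (Coalgebra.comul (φ b))) ∈ R
    rw [← CoalgHomClass.map_comp_comul_apply φ b]
    induction (Coalgebra.comul (R := K) b) using TensorProduct.induction_on with
    | zero => simp
    | add x y hx hy => simp only [map_add]; exact R.add_mem hx hy
    | tmul x y => simp only [TensorProduct.map_tmul, LinearMap.lTensor_tmul, TensorProduct.rid_tmul]
                  exact R.smul_mem _ ⟨x, rfl⟩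
  rw [eq_top_iff]
  intro b _
  have hb : φ b ∈ Submodule.span K (φl '' {g : B | IsGroupLikeElem K g}) := by
    rw [← MonoidAlgebra.sum_coeff_single (φ b)]
    refine sum_mem fun m hm => ?_
    have hm' : (φ b).coeff m ≠ 0 := Finsupp.mem_support_iff.1 hm
    obtain ⟨g, hg⟩ : MonoidAlgebra.single m (1 : K) ∈ R := by
      have := R.smul_mem ((φ b).coeff m)⁻¹ (hR m b)
      rwa [MonoidAlgebra.smul_single, smul_eq_mul, inv_mul_cancel₀ hm'] at this
    have hgl : IsGroupLikeElem K g := by
      obtain ⟨s, hs⟩ := φl.exists_leftInverse_of_injective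
        (LinearMap.ker_eq_bot.2 hφ)
      refine ⟨?_, ?_⟩
      · rw [← CoalgHomClass.counit_comp_apply φ g]
        show Coalgebra.counit (φl g) = 1
        rw [hg]
        exact (MonoidAlgebra.isGroupLikeElem_single_one m).counit_eq_one
      · have h1 : TensorProduct.map s s (Coalgebra.comul (φl g)) = g ⊗ₜ[K] g := by
          rw [hg, (MonoidAlgebra.isGroupLikeElem_single_one m).comul_eq_tmul_self, TensorProduct.map_tmul, ← hg]
          rw [show s (φl g) = g from LinearMap.congr_fun hs g]
        rw [← h1]
        show _ = TensorProduct.map s s (Coalgebra.comul (φ g))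
        rw [← CoalgHomClass.map_comp_comul_apply φ g, TensorProduct.map_map]
        erw [hs]
        rw [TensorProduct.map_id]
        rfl
    rw [show MonoidAlgebra.single m ((φ b).coeff m) = (φ b).coeff m • MonoidAlgebra.single m (1 : K) by
      rw [MonoidAlgebra.smul_single, smul_eq_mul, _root_.mul_one]]
    exact Submodule.smul_mem _ _ (Submodule.subset_span ⟨g, hgl, hg⟩)
  rw [Submodule.span_image] at hb
  obtain ⟨b', hb', he⟩ := hb
  rwa [hφ he] at hb'

/-- A finitely generated sub-Hopf algebra of the algebra of a lattice is the algebra of a lattice. -/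
theorem exists_lattice_of_injective {K : Type u} [Field K] {r : ℕ} {B : Type u} [CommRing B]
    [HopfAlgebra K B] [Algebra.FiniteType K B]
    (φ : B →ₐc[K] MonoidAlgebra K (Multiplicative (Fin r → ℤ))) (hφ : Function.Injective φ) :
    ∃ r' : ℕ, Nonempty (B ≃ₐc[K] MonoidAlgebra K (Multiplicative (Fin r' → ℤ))) := by
  let e₀ : MonoidAlgebra K (Multiplicative (Fin r → ℤ)) ≃ₐc[K]
      MonoidAlgebra K (ULift.{u} (Multiplicative (Fin r → ℤ))) :=
    MonoidAlgebra.domCongrBialgEquiv K K MulEquiv.ulift.symm
  let φ' : B →ₐc[K] MonoidAlgebra K (ULift.{u} (Multiplicative (Fin r → ℤ))) := (e₀ : _ →ₐc[K] _).comp φ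
  have hφ' : Function.Injective φ' := e₀.injective.comp hφ
  obtain ⟨M, _, ⟨e⟩⟩ := MultT.isDiag_of_span (span_groupLike_of_injective φ' hφ')
  let ψ : MonoidAlgebra K M →ₐc[K] MonoidAlgebra K (Multiplicative (Fin r → ℤ)) := φ.comp (e.symm : _ →ₐc[K] _)
  have hψ : Function.Injective ψ := hφ.comp e.symm.injective
  choose f hf using fun m : M => MonoidAlgebra.isGroupLikeElem_iff_mem_range_single_one.1
    ((MonoidAlgebra.isGroupLikeElem_single_one (R := K) m).map ψ)
  let f' : M →* Multiplicative (Fin r → ℤ) := MonoidHom.mk' f fun a b => by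
    refine (MonoidAlgebra.single_left_inj (one_ne_zero (α := K))).1 ?_
    simp only at hf
    rw [hf, ← _root_.mul_one (1 : K), ← MonoidAlgebra.single_mul_single, map_mul, ← hf, ← hf,
      MonoidAlgebra.single_mul_single]
  have hf' : Function.Injective f' := fun a b h => by
    refine (MonoidAlgebra.single_left_inj (one_ne_zero (α := K))).1 (hψ ?_)
    rw [← hf, ← hf]
    exact congrArg (MonoidAlgebra.single · (1 : K)) h
  haveI : Algebra.FiniteType K (MonoidAlgebra K M) := Algebra.FiniteType.equiv ‹_› e.toAlgEquiv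
  haveI : Monoid.FG M := MonoidAlgebra.finiteType_iff_fg.1 ‹_›
  haveI : AddGroup.FG (Additive M) :=
    AddGroup.fg_iff_addMonoid_fg.2 (Monoid.fg_iff_add_fg.1 ‹_›)
  haveI : Module.Finite ℤ (Additive M) := Module.Finite.iff_addGroup_fg.2 ‹_›
  haveI : Module.IsTorsionFree ℤ (Additive M) :=
    Function.Injective.moduleIsTorsionFree (f := fun x : Additive M => (f' x.toMul).toAdd)
      (fun a b h => hf' (Multiplicative.toAdd.injective h)) fun n a => by simp
  haveI : Module.Free ℤ (Additive M) := Module.free_of_finite_type_torsion_free'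
  let b := Module.finBasis ℤ (Additive M)
  let g : M ≃* Multiplicative (Fin (Module.finrank ℤ (Additive M)) → ℤ) :=
    AddEquiv.toMultiplicativeRight b.equivFun.toAddEquiv
  exact ⟨_, ⟨e.trans (MonoidAlgebra.domCongrBialgEquiv K K g)⟩⟩

/-- A group that splits over some field extension is a torus. -/
theorem isTorus_of_isSplit {k : Type u} [Field k] {T : Over (Spec (CommRingCat.of k))} [GrpObj T] {L : Type u} [Field L]
    (w : Spec (CommRingCat.of L) ⟶ Spec (CommRingCat.of k)) {r : ℕ}
    (h : Red.IsSplitTorusWith (Fin r → ℤ) (Red.bc w T)) : Red.IsTorus T := by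
  haveI : Surjective w := ⟨fun _ => ⟨IsLocalRing.closedPoint _, Subsingleton.elim (α := PrimeSpectrum k) _ _⟩⟩
  haveI : Flat w := by
    rw [← Spec.map_preimage w, Flat.SpecMap_iff]
    letI := (Spec.preimage w).hom.toAlgebra
    exact RingHom.flat_algebraMap_iff.2 (inferInstanceAs (Module.Flat k L))
  refine ⟨_, w, inferInstance, inferInstance, fun V hV => ⟨w ⁻¹ᵁ V, w.isCompact_preimage hV.isCompact,
    Set.image_preimage_eq _ w.surjective⟩, fun s' => ⟨⊤, trivial, r, ?_⟩⟩
  exact MTBridge.nonempty_bc_split h (⊤ : (Spec (CommRingCat.of L)).Opens).ι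

/-- The spectrum of a homomorphism of groups. -/
theorem exists_bialgHom {R A B : Type u} [CommRing R] [CommRing A] [HopfAlgebra R A] [CommRing B]
    [HopfAlgebra R B] (f : MTBridge.specGrp R A ⟶ MTBridge.specGrp R B) :
    ∃ φ : B →ₐc[R] A, f.hom.hom.left = Spec.map (CommRingCat.ofHom (φ : B →ₐ[R] A).toRingHom) := by
  obtain ⟨g, rfl⟩ := (hopfSpec.fullyFaithful (R := CommRingCat.of R)).map_surjective
    (X := op (CommHopfAlgCat.of R A)) (Y := op (CommHopfAlgCat.of R B)) f
  exact ⟨g.unop.hom, rfl⟩

/-- A homomorphic image of a split torus over an algebraically closed field is a split torus. -/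
theorem exists_split_of_surjective {K : Type u} [Field K] [IsAlgClosed K] {T L : Over (Spec (CommRingCat.of K))}
    [GrpObj T] [GrpObj L] [Smooth L.hom] [QuasiCompact L.hom] [LocallyOfFiniteType T.hom] {r : ℕ}
    (hT : Red.IsSplitTorusWith (Fin r → ℤ) T) (v : T ⟶ L) [IsMonHom v] [Surjective v.left] :
    ∃ r' : ℕ, Red.IsSplitTorusWith (Fin r' → ℤ) L := by
  obtain ⟨e₀⟩ := MTBridge.nonempty_DS_iso K (Fin r → ℤ)
  obtain ⟨e₁⟩ := hT
  let e := e₁ ≪≫ e₀
  haveI : IsIso e.hom.hom.hom.left :=
    inferInstanceAs (IsIso ((Over.forget _).map ((Grp.forget _).map e.hom)))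
  haveI : IsAffine ((Spec (CommRingCat.of (MonoidAlgebra K (Multiplicative (Fin r → ℤ))))).asOver
      (Spec (CommRingCat.of K))).left := inferInstanceAs (IsAffine (Spec _))
  haveI : IsAffine T.left := IsAffine.of_isIso e.hom.hom.hom.left
  haveI : IsSeparated L.hom := GrpField.isSeparated_hom L
  haveI : IsReduced L.left := isReduced_of_smooth' L
  haveI : IsAffine L.left := isAffine_of_surjective v
  obtain ⟨B, _, d, hd⟩ := Groth.Agent.FinHopf.exists_hopf L
  haveI := hd
  let i : MTBridge.specGrp K B ≅ Grp.mk L := Grp.mkIso' d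
  haveI : IsIso i.hom.hom.hom.left :=
    inferInstanceAs (IsIso ((Over.forget _).map ((Grp.forget _).map i.hom)))
  haveI : IsIso i.inv.hom.hom.left :=
    inferInstanceAs (IsIso ((Over.forget _).map ((Grp.forget _).map i.inv)))
  haveI : Algebra.FiniteType K B := by
    have h : LocallyOfFiniteType (Spec.map (CommRingCat.ofHom (algebraMap K B))) := by
      rw [show Spec.map (CommRingCat.ofHom (algebraMap K B)) = i.hom.hom.hom.left ≫ L.hom from (Over.w i.hom.hom.hom).symm]
      infer_instance
    rw [HasRingHomProperty.Spec_iff (P := @LocallyOfFiniteType)] at h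
    exact RingHom.finiteType_algebraMap.1 h
  let vg : Grp.mk T ⟶ Grp.mk L := InducedCategory.homMk (Mon.Hom.mk v)
  obtain ⟨φ, hφ⟩ := exists_bialgHom (e.inv ≫ vg ≫ i.inv)
  haveI : Surjective (Spec.map (CommRingCat.ofHom (φ : B →ₐ[K] MonoidAlgebra K (Multiplicative (Fin r → ℤ))).toRingHom)) := by
    rw [← hφ]
    show Surjective (e.inv.hom.hom.left ≫ v.left ≫ i.inv.hom.hom.left)
    haveI : IsIso e.inv.hom.hom.left :=
      inferInstanceAs (IsIso ((Over.forget _).map ((Grp.forget _).map e.inv)))
    infer_instance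
  haveI : IsReduced (Spec (CommRingCat.of B)) := isReduced_of_isOpenImmersion i.hom.hom.hom.left
  haveI : _root_.IsReduced B := (affine_isReduced_iff (CommRingCat.of B)).1 inferInstance
  have hinj : Function.Injective φ := by
    have h := (PrimeSpectrum.denseRange_comap_iff_ker_le_nilRadical _).1
      ((Spec.map (CommRingCat.ofHom (φ : B →ₐ[K] MonoidAlgebra K (Multiplicative (Fin r → ℤ))).toRingHom)).surjective.denseRange)
    rw [nilradical_eq_zero] at h
    exact (RingHom.injective_iff_ker_eq_bot _).2 (le_bot_iff.1 h)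
  obtain ⟨r', ⟨c⟩⟩ := exists_lattice_of_injective φ hinj
  obtain ⟨e₂⟩ := MTBridge.nonempty_specGrp_iso c
  obtain ⟨e₃⟩ := MTBridge.nonempty_DS_iso K (Fin r' → ℤ)
  exact ⟨r', ⟨i.symm ≪≫ e₂.symm ≪≫ e₃.symm⟩⟩

variable {k : Type u} [Field k]

/-- **A smooth connected homomorphic image of a torus is a torus.** -/
theorem isTorus_of_surjective {T L : Over (Spec (CommRingCat.of k))} [GrpObj T] [GrpObj L] [Smooth L.hom]
    [QuasiCompact L.hom] (hT : Red.IsTorus T) (v : T ⟶ L) [IsMonHom v] [Surjective v.left] : Red.IsTorus L := by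
  haveI := locallyOfFiniteType_of_isTorus hT
  obtain ⟨K, _, _, w, r, hs⟩ := exists_split_of_isTorus hT
  let F := Over.pullback w
  haveI : Smooth (F.obj L).hom := inferInstanceAs (Smooth (pullback.snd L.hom w))
  haveI : QuasiCompact (F.obj L).hom := inferInstanceAs (QuasiCompact (pullback.snd L.hom w))
  haveI : LocallyOfFiniteType (F.obj T).hom := inferInstanceAs (LocallyOfFiniteType (pullback.snd T.hom w))
  haveI : Surjective (F.map v).left :=
    MorphismProperty.baseChange_map (P := @Surjective) w v ‹Surjective v.left›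
  obtain ⟨r', h'⟩ := exists_split_of_surjective hs (F.map v)
  exact isTorus_of_isSplit w h'

end Groth.Agent.Chev
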