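import Groth.Agent.Chev.BorelTheory
import Groth.Agent.Chev.SubgroupStab

/-!
# Images of Borel subgroups over an algebraically closed field
-/

set_option autoImplicit false
set_option backward.isDefEq.respectTransparency false

universe u

open CategoryTheory CategoryTheory.Limits MonoidalCategory CartesianMonoidalCategory MonObj GrpObj AlgebraicGeometry
open Groth.Agent.SubGen (rpt exists_rpt map_rpt)

noncomputable section

namespace Groth.Agent.Chev.Borel

open BorelFixed

variable {k : Type u} [Field k] [IsAlgClosed k]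

omit [IsAlgClosed k] in
theorem range_comp_of_surjective {U V W : Scheme.{u}} (f : U ⟶ V) [Surjective f] (g : V ⟶ W) :
    Set.range (f ≫ g) = Set.range g := by
  refine Set.Subset.antisymm ?_ ?_
  · rintro _ ⟨w, rfl⟩
    exact ⟨f w, (Scheme.Hom.comp_apply _ _ _).symm⟩
  · rintro _ ⟨w, rfl⟩
    obtain ⟨u, rfl⟩ := f.surjective w
    exact ⟨u, Scheme.Hom.comp_apply _ _ _⟩

/-- The image of a Borel subgroup under a surjective homomorphism is a Borel subgroup. -/
theorem isBorelOver_image {G Q B B' : Over (Spec (CommRingCat.of k))} [GrpObj G] [GrpObj Q] [GrpObj B] [GrpObj B']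
    [IsAffine G.left] [Smooth G.hom] [ConnectedSpace G.left] [IsAffine Q.left] [Smooth Q.hom]
    (q : G ⟶ Q) [IsMonHom q] [Surjective q.left] (iB : B ⟶ G) (hB : Red.IsBorelOver k iB)
    (iB' : B' ⟶ Q) [IsMonHom iB'] [IsClosedImmersion iB'.left] [Smooth B'.hom]
    (p : B ⟶ B') [Surjective p.left] (hp : p ≫ iB' = iB ≫ q) : Red.IsBorelOver k iB' := by
  have hiB := hB.1
  have hiBc := hB.2.1
  haveI := hiB; haveI := hiBc; haveI := hB.2.2.1; haveI := hB.2.2.2.1
  haveI : IsAffine B'.left := isAffine_of_isAffineHom iB'.left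
  haveI : IsAffine B.left := isAffine_of_isAffineHom iB.left
  haveI : QuasiCompact B'.hom := by rw [← Over.w iB']; infer_instance
  haveI : Mono iB' := GrpField.SchImg.mono_of_isClosedImmersion iB'
  haveI : IsMonHom (p ≫ iB') := by rw [hp]; infer_instance
  haveI : IsMonHom p := isMonHom_of_comp p iB'
  haveI : ConnectedSpace B'.left := p.left.surjective.connectedSpace p.left.continuous
  haveI := isSolvable_rp hB.2.2.2.2.1
  haveI : Group.IsSolvable (RP B') :=
    Group.isSolvable_of_surjective (f := rpHom p) fun b' => exists_rp_preimage p b'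
  have hsolB' : Red.IsSolvableGrp B' := isSolvableGrp_of_rp B'
  refine ⟨inferInstance, inferInstance, inferInstance, inferInstance, hsolB', fun B'' _ i'' _ f hi'' hs'' hc'' hsol'' hf => ?_⟩
  haveI := hi''; haveI := hs''; haveI := hc''
  haveI : IsAffine B''.left := isAffine_of_isAffineHom i''.left
  haveI : QuasiCompact B''.hom := by rw [← Over.w i'']; infer_instance
  haveI := isSolvable_rp hsol''
  obtain ⟨X, hX, a, x, hstab⟩ := ProjRep.exists_action_stabilizer iB'
  haveI := hX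
  haveI : QuasiSeparatedSpace X.left := quasiSeparatedSpace_of_quasiSeparated X.hom
  haveI : QuasiCompact Q.hom := inferInstance
  haveI : JacobsonSpace Q.left := LocallyOfFiniteType.jacobsonSpace Q.hom
  obtain ⟨B₀, hB₀, b₀, hb₀, X₀, a₀, o₀, hX₀, hpr⟩ := exists_borel_proper G
  obtain ⟨hm, hc, hs, hconn, hsol, -⟩ := hb₀
  haveI := hm; haveI := hc; haveI := hs; haveI := hconn; haveI := hpr
  haveI : IsAffine B₀.left := isAffine_of_isAffineHom b₀.left
  haveI : QuasiCompact B₀.hom := by rw [← Over.w b₀]; infer_instance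
  haveI : IsReduced B₀.left := SmoothRed.isReduced_of_smooth_scheme B₀.hom
  obtain ⟨g, f₀, hf₀⟩ := conj_of_proper b₀ hsol a₀ o₀ hX₀ iB hB
  -- the `G`-space with a point fixed by `B₀`
  let aG := resAction q a
  let y : RP X := lift (g⁻¹ ≫ q) x ≫ a.act
  have hBx : ∀ b : RP B, lift (b ≫ iB ≫ q) x ≫ a.act = x := fun b =>
    (hstab _).2 ⟨b ≫ p, by rw [Category.assoc, hp]⟩
  have hy : b₀ ≫ aG.orbitMap y = toUnit B₀ ≫ y := hom_ext_rp fun t => by
    rw [← Category.assoc, rp_orbitMap, rp_const, resAction_smul]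
    show lift ((t ≫ b₀) ≫ q) (lift (g⁻¹ ≫ q) x ≫ a.act) ≫ a.act = lift (g⁻¹ ≫ q) x ≫ a.act
    have e : (t ≫ b₀) * g⁻¹ = g⁻¹ * ((t ≫ f₀.hom) ≫ iB) := by
      rw [Category.assoc, hf₀, AGF.conjBy, MonObj.comp_mul, MonObj.comp_mul, GrpObj.comp_inv, rp_const,
        _root_.mul_assoc, inv_mul_cancel_left]
    rw [← GrpAct.mul_smul, ← MonObj.mul_comp, e, MonObj.mul_comp, GrpAct.mul_smul, Category.assoc, hBx]
  obtain ⟨v, ⟨-, hv⟩, -⟩ := Groth.Agent.S8014.result k G B₀ b₀ X₀ a₀ o₀ hX₀ X aG y (fun T h => by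
    have := congrArg (h ≫ ·) hy
    simp only [← Category.assoc] at this
    rwa [GrpAct.comp_orbitMap, toUnit_unique (h ≫ toUnit B₀) (toUnit T)] at this)
  haveI : UniversallyClosed (v.left ≫ X.hom) := by rw [Over.w]; infer_instance
  haveI : UniversallyClosed v.left := UniversallyClosed.of_comp_of_isSeparated v.left X.hom
  haveI := hX₀.2.2.1
  have hclosed : IsClosed (GrpAct.orbit a x) := by
    have e : GrpAct.orbit a x = Set.range (aG.orbitMap y).left := by
      have e2 : aG.orbitMap y = q ≫ (lift (𝟙 Q) (toUnit Q ≫ g⁻¹ ≫ q) ≫ μ[Q]) ≫ a.orbitMap x := by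
        rw [← Category.id_comp (aG.orbitMap y), GrpAct.comp_orbitMap, resAction_smul, ← Category.assoc q,
          GrpAct.comp_orbitMap, ← Hom.mul_def, MonObj.comp_mul, Category.id_comp, Category.comp_id, GrpAct.mul_smul,
          ← Category.assoc q (toUnit Q), toUnit_unique (q ≫ toUnit Q) (toUnit G)]
        congr 2
        rw [comp_lift_assoc]
      let R : Q ⟶ Q := lift (𝟙 Q) (toUnit Q ≫ g⁻¹ ≫ q) ≫ μ[Q]
      haveI : Surjective R.left := by
        let R' : Q ⟶ Q := lift (𝟙 Q) (toUnit Q ≫ (g⁻¹ ≫ q)⁻¹) ≫ μ[Q]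
        have hRR : R' ≫ R = 𝟙 Q := by
          show _ ≫ lift (𝟙 Q) (toUnit Q ≫ g⁻¹ ≫ q) ≫ μ[Q] = _
          rw [← Hom.mul_def, MonObj.comp_mul, Category.comp_id, ← Category.assoc R' (toUnit Q),
            toUnit_unique (R' ≫ toUnit Q) (toUnit Q)]
          show (lift (𝟙 Q) (toUnit Q ≫ (g⁻¹ ≫ q)⁻¹) ≫ μ[Q]) * _ = _
          rw [← Hom.mul_def, _root_.mul_assoc, ← MonObj.comp_mul, inv_mul_cancel, MonObj.comp_one, _root_.mul_one]
        exact ⟨fun w => ⟨R'.left w, by
          rw [← Scheme.Hom.comp_apply, ← Over.comp_left, hRR]; rfl⟩⟩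
      haveI : Surjective (q.left ≫ R.left) := inferInstance
      rw [e2, GrpAct.orbit]
      exact (range_comp_of_surjective (q.left ≫ R.left) (a.orbitMap x).left).symm
    rw [e, ← hv, Over.comp_left, range_comp_of_surjective]
    exact v.left.isClosedMap.isClosed_range
  obtain ⟨O', j, hj, hred, hjr⟩ := GrpAct.exists_reduced_subscheme hclosed.isLocallyClosed
  haveI : IsClosedImmersion j := IsClosedImmersion.of_isPreimmersion j (hjr ▸ hclosed)
  let O : Over (Spec (CommRingCat.of k)) := Over.mk (j ≫ X.hom)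
  let io : O ⟶ X := Over.homMk j
  haveI : IsImmersion io.left := hj
  haveI : IsReduced O.left := hred
  obtain ⟨b, o, hact, ho, hbo⟩ := GrpAct.exists_action a x io hjr
  haveI : IsProper O.hom := inferInstanceAs (IsProper (j ≫ X.hom))
  haveI : Nonempty O.left := ⟨rpt o⟩
  obtain ⟨z, hz⟩ := exists_fixed B'' O (resAction i'' b)
  -- the fixed point is a translate of `x`
  obtain ⟨g₁, hg₁⟩ : ∃ g₁ : RP Q, lift g₁ x ≫ a.act = z ≫ io := by
    have hmem : rpt (z ≫ io) ∈ GrpAct.orbit a x := by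
      rw [← hjr, ← map_rpt]; exact ⟨_, rfl⟩
    obtain ⟨w, hw, hwc⟩ := nonempty_inter_closedPoints
      (Z := (a.orbitMap x).left ⁻¹' {rpt (z ≫ io)}) hmem
      ((SubGen.rpt_mem_closedPoints (z ≫ io)).preimage (a.orbitMap x).left.continuous).isLocallyClosed
    obtain ⟨g₁, rfl⟩ := exists_rpt hwc
    refine ⟨g₁, ?_⟩
    rw [← rp_orbitMap]
    exact SubGen.rpt_injective ((map_rpt _ _).symm.trans hw)
  haveI : IsReduced B''.left := SmoothRed.isReduced_of_smooth_scheme B''.hom
  obtain ⟨c, hc⟩ := exists_lift_rp (AGF.conjBy g₁⁻¹ i'') iB' fun t => by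
    have h1 : lift (t ≫ i'') (z ≫ io) ≫ a.act = z ≫ io := by
      have := congrArg (· ≫ io) (hz _ t)
      simp only [resAction_smul, rp_const, Category.assoc, hact, lift_whiskerLeft_assoc] at this
      simpa [toUnit_unique (toUnit (𝟙_ (Over (Spec (CommRingCat.of k))))) (𝟙 _)] using this
    obtain ⟨s, hs⟩ := (hstab (g₁⁻¹ * (t ≫ i'') * g₁)).1 (by
      rw [GrpAct.mul_smul, hg₁, GrpAct.mul_smul, h1, ← hg₁, ← GrpAct.mul_smul, inv_mul_cancel, GrpAct.one_smul'])
    rw [show t ≫ AGF.conjBy g₁⁻¹ i'' = s ≫ iB' by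
      rw [hs, comp_conjBy, toUnit_one, Category.id_comp, _root_.inv_inv]]
    exact ⟨rpt s, map_rpt _ _⟩
  haveI := isClosedImmersion_conjBy g₁⁻¹ i''
  haveI : IsClosedImmersion (c.left ≫ iB'.left) := by rw [← Over.comp_left, hc]; infer_instance
  haveI : IsClosedImmersion c.left := IsClosedImmersion.of_comp c.left iB'.left
  exact isIso_of_le iB' i'' f hf (dim_le_of_closedImmersion c)

end Groth.Agent.Chev.Borel
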