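import Groth.Agent.Chev.Parabolic
import Groth.Agent.Chev.TorusImage
import Groth.Agent.Chev.BorelImage
import Groth.Agent.S15604

/-!
# Maximal tori in Borel subgroups
-/

set_option autoImplicit false
set_option backward.isDefEq.respectTransparency false

universe u

open CategoryTheory CategoryTheory.Limits MonoidalCategory CartesianMonoidalCategory MonObj GrpObj AlgebraicGeometry

noncomputable section

namespace Groth.Agent.Chev.Borel

open BorelFixed

variable {k : Type u} [Field k] [IsAlgClosed k]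

omit [IsAlgClosed k] in
/-- Conjugation commutes with homomorphisms. -/
theorem conjBy_comp {G Q H : Over (Spec (CommRingCat.of k))} [GrpObj G] [GrpObj Q] (g : RP G) (i : H ⟶ G)
    (f : G ⟶ Q) [IsMonHom f] : AGF.conjBy g i ≫ f = AGF.conjBy (g ≫ f) (i ≫ f) := by
  simp only [AGF.conjBy, MonObj.mul_comp, GrpObj.inv_comp, Category.assoc]

/-- Conjugation in a torus is trivial. -/
theorem conjBy_torus {T X : Over (Spec (CommRingCat.of k))} [GrpObj T] (hT : Red.IsTorus T) [IsReduced X.left]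
    [LocallyOfFiniteType X.hom] (g : RP T) (φ : X ⟶ T) : AGF.conjBy g φ = φ := by
  haveI := isAffine_of_isTorus hT
  haveI := locallyOfFiniteType_of_isTorus hT
  refine hom_ext_rp fun p => ?_
  rw [comp_conjBy, toUnit_one, Category.id_comp, rp_torus_comm hT g (p ≫ φ), mul_inv_cancel_right]

/-- A monomorphic surjective homomorphism to a reduced group is an isomorphism. -/
theorem isIso_of_mono_surjective {T L : Over (Spec (CommRingCat.of k))} [GrpObj T] [GrpObj L] [IsAffine T.left]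
    [IsAffine L.left] [LocallyOfFiniteType T.hom] [LocallyOfFiniteType L.hom] [IsReduced L.left]
    (f : T ⟶ L) [IsMonHom f] [Mono f] [Surjective f.left] : IsIso f := by
  haveI : QuasiCompact f.left := inferInstance
  haveI : IsClosedImmersion f.left := Groth.Agent.S5379.result k T L f
  haveI := isIso_of_isClosedImmersion_of_surjective f.left
  haveI : IsIso ((Over.forget _).map f) := ‹IsIso f.left›
  exact isIso_of_reflects_iso f (Over.forget _)

variable {G : Over (Spec (CommRingCat.of k))} [GrpObj G] [IsAffine G.left] [Smooth G.hom] [ConnectedSpace G.left]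

omit [IsAffine G.left] [Smooth G.hom] [ConnectedSpace G.left] in
/-- A torus into which all tori are conjugate is maximal. -/
theorem isMaxTorus_of_universal {T : Over (Spec (CommRingCat.of k))} [GrpObj T] (iT : T ⟶ G) [IsMonHom iT] [Mono iT]
    (hT : Red.IsTorus T)
    (huniv : ∀ (T' : Over (Spec (CommRingCat.of k))) [GrpObj T'] (j : T' ⟶ G) [IsMonHom j] [Mono j], Red.IsTorus T' →
      ∃ (g : RP G) (f : T' ⟶ T), IsMonHom f ∧ f ≫ iT = AGF.conjBy g j) :
    AGF.IsMaxTorus iT := by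
  refine ⟨inferInstance, inferInstance, hT, fun T' _ j _ _ f₀ hT' h0 => ?_⟩
  obtain ⟨g, f, hfm, hf⟩ := huniv T' j hT'
  haveI := hfm
  haveI : IsMonHom f₀ := MTSplit.isMonHom_of_comp_mono f₀ j iT h0
  haveI : Mono (f₀ ≫ j) := by rw [h0]; infer_instance
  haveI : Mono f₀ := mono_of_mono f₀ j
  haveI := mono_conjBy g j
  haveI : Mono (f ≫ iT) := by rw [hf]; infer_instance
  haveI : Mono f := mono_of_mono f iT
  haveI := isIso_endo_torus hT (f₀ ≫ f)
  haveI : IsSplitEpi f := ⟨⟨inv (f₀ ≫ f) ≫ f₀, by rw [Category.assoc, IsIso.inv_hom_id]⟩⟩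
  haveI : IsIso f := isIso_of_mono_of_isSplitEpi f
  exact IsIso.of_isIso_comp_right f₀ f

/-- Connected solvable subgroups are conjugate into any Borel subgroup. -/
theorem exists_conj_into_borel {B H : Over (Spec (CommRingCat.of k))} [GrpObj B] [GrpObj H] (iB : B ⟶ G)
    (hB : Red.IsBorelOver k iB) (iH : H ⟶ G) [IsMonHom iH] [IsAffine H.left] [Smooth H.hom] [ConnectedSpace H.left]
    [Group.IsSolvable (RP H)] : ∃ (g : RP G) (f : H ⟶ B), f ≫ iB = AGF.conjBy g iH := by
  obtain ⟨B₀, hB₀, b₀, hb₀, X, a, o, hX, hp⟩ := exists_borel_proper G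
  haveI := hb₀.1; haveI := hp
  obtain ⟨g, f, hf⟩ := exists_conj_le b₀ a o hX iH
  obtain ⟨g', e, he⟩ := borel_conj b₀ iB hb₀ hB
  exact ⟨g' * g, f ≫ e.hom, by rw [Category.assoc, he, comp_conjBy', hf, conjBy_conjBy]⟩

/-- Connected solvable subgroups lie in Borel subgroups. -/
theorem exists_borel_containing {H : Over (Spec (CommRingCat.of k))} [GrpObj H] (iH : H ⟶ G) [IsMonHom iH]
    [IsAffine H.left] [Smooth H.hom] [ConnectedSpace H.left] [Group.IsSolvable (RP H)] :
    ∃ (B : Over (Spec (CommRingCat.of k))) (_ : GrpObj B) (iB : B ⟶ G) (f : H ⟶ B),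
      Red.IsBorelOver k iB ∧ f ≫ iB = iH := by
  obtain ⟨B₀, hB₀, b₀, hb₀, -⟩ := exists_borel_proper G
  obtain ⟨g, f, hf⟩ := exists_conj_into_borel b₀ hb₀ iH
  exact ⟨B₀, hB₀, AGF.conjBy g⁻¹ b₀, f, isBorelOver_conjBy g⁻¹ b₀ hb₀, by
    rw [comp_conjBy', hf, conjBy_conjBy, inv_mul_cancel, conjBy_one]⟩

/-- Tori lie in Borel subgroups. -/
theorem exists_borel_containing_torus {T : Over (Spec (CommRingCat.of k))} [GrpObj T] (iT : T ⟶ G) [IsMonHom iT]
    (hT : Red.IsTorus T) :
    ∃ (B : Over (Spec (CommRingCat.of k))) (_ : GrpObj B) (iB : B ⟶ G) (f : T ⟶ B),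
      Red.IsBorelOver k iB ∧ f ≫ iB = iT := by
  haveI := isAffine_of_isTorus hT
  haveI := smooth_of_isTorus hT
  haveI := connectedSpace_of_isTorus hT
  haveI : Group.IsSolvable (RP T) := Group.isSolvable_of_comm (rp_torus_comm hT)
  exact exists_borel_containing iT

/-- A maximal torus contained in a Borel subgroup is a retract of it, and detects homomorphisms to tori. -/
theorem exists_retraction {B T : Over (Spec (CommRingCat.of k))} [GrpObj B] [GrpObj T] (iB : B ⟶ G)
    (hB : Red.IsBorelOver k iB) (iT : T ⟶ G) (hT : AGF.IsMaxTorus iT) (t : T ⟶ B) (ht : t ≫ iB = iT) :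
    ∃ π : B ⟶ T, IsMonHom π ∧ t ≫ π = 𝟙 T ∧
      ∀ (T' : Over (Spec (CommRingCat.of k))) [GrpObj T'] (f g : B ⟶ T') [IsMonHom f] [IsMonHom g], Red.IsTorus T' →
        t ≫ f = t ≫ g → f = g := by
  obtain ⟨hBm, hBc, hBs, hBconn, hBsol, -⟩ := hB
  haveI := hBm; haveI := hBc; haveI := hBs; haveI := hBconn
  haveI : IsAffine B.left := isAffine_of_isAffineHom iB.left
  haveI := isSolvable_rp hBsol
  haveI : Mono iB := GrpField.SchImg.mono_of_isClosedImmersion iB
  obtain ⟨him, himono, hTt, hmax⟩ := hT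
  haveI := him; haveI := himono
  haveI : IsMonHom t := MTSplit.isMonHom_of_comp_mono t iB iT ht
  haveI : Mono (t ≫ iB) := by rw [ht]; infer_instance
  haveI : Mono t := mono_of_mono t iB
  haveI := smooth_of_isTorus hTt
  haveI : IsReduced T.left := SmoothRed.isReduced_of_smooth_scheme T.hom
  haveI := locallyOfFiniteType_of_isTorus hTt
  obtain ⟨T₁, hT₁, i₁, π₁, hi₁, hπ₁, hi₁c, hret, hT₁t, huniv, huniq⟩ := exists_section_torus B
  haveI := hi₁; haveI := hπ₁; haveI := hi₁c
  haveI := smooth_of_isTorus hT₁t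
  haveI : IsReduced T₁.left := SmoothRed.isReduced_of_smooth_scheme T₁.hom
  haveI := locallyOfFiniteType_of_isTorus hT₁t
  obtain ⟨g, f, hfm, hf⟩ := huniv T t hTt
  haveI := hfm
  haveI := isMonHom_conjBy g⁻¹ i₁
  haveI : Mono i₁ := GrpField.SchImg.mono_of_isClosedImmersion i₁
  haveI := mono_conjBy g⁻¹ i₁
  have hf' : t = f ≫ AGF.conjBy g⁻¹ i₁ := by
    rw [comp_conjBy', hf, conjBy_conjBy, inv_mul_cancel, conjBy_one]
  haveI : IsIso f := hmax T₁ (AGF.conjBy g⁻¹ i₁ ≫ iB) f hT₁t (by rw [← Category.assoc, ← hf', ht])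
  haveI : IsMonHom (asIso f).hom := hfm
  haveI : IsMonHom (inv f) := inferInstanceAs (IsMonHom (asIso f).inv)
  refine ⟨π₁ ≫ inv f, inferInstance, ?_, fun T' _ φ χ _ _ hT' h => ?_⟩
  · rw [hf', Category.assoc, ← Category.assoc (AGF.conjBy g⁻¹ i₁), conjBy_comp, hret, conjBy_torus hT₁t,
      Category.id_comp, IsIso.hom_inv_id]
  · refine huniq T' φ χ hT' ?_
    rw [hf', Category.assoc, Category.assoc, cancel_epi, conjBy_comp, conjBy_comp, conjBy_torus hT',
      conjBy_torus hT'] at h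
    exact h

/-- The image of a maximal torus under a surjective homomorphism is a maximal torus. -/
theorem isMaxTorus_image {Q T T' : Over (Spec (CommRingCat.of k))} [GrpObj Q] [IsAffine Q.left] [Smooth Q.hom]
    [ConnectedSpace Q.left] [GrpObj T] [GrpObj T'] (q : G ⟶ Q) [IsMonHom q] [Surjective q.left] (iT : T ⟶ G)
    (hT : AGF.IsMaxTorus iT) (iT' : T' ⟶ Q) [IsMonHom iT'] [IsClosedImmersion iT'.left] [IsReduced T'.left]
    (p : T ⟶ T') [Surjective p.left] (hp : p ≫ iT' = iT ≫ q) :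
    AGF.IsMaxTorus iT' := by
  haveI := hT.1
  obtain ⟨B, hBg, iB, t, hB, ht⟩ := exists_borel_containing_torus iT hT.2.2.1
  obtain ⟨π, hπ, htπ, huniqB⟩ := exists_retraction iB hB iT hT t ht
  haveI := hπ
  obtain ⟨hBm, hBc, hBs, hBconn, hBsol, -⟩ := id hB
  haveI := hBm; haveI := hBc; haveI := hBs; haveI := hBconn
  haveI : IsAffine B.left := isAffine_of_isAffineHom iB.left
  obtain ⟨R, hRg, iR, pR, hiR, hpR, hiRc, hRs, hpRs, hpRc⟩ := exists_smooth_image (iB ≫ q)
  haveI := hiR; haveI := hpR; haveI := hiRc; haveI := hRs; haveI := hpRs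
  haveI : Mono iR := GrpField.SchImg.mono_of_isClosedImmersion iR
  have hR : Red.IsBorelOver k iR := isBorelOver_image q iB hB iR pR hpRc
  haveI : ConnectedSpace R.left := hR.2.2.2.1
  haveI : IsAffine R.left := isAffine_of_isAffineHom iR.left
  haveI := isSolvable_rp hR.2.2.2.2.1
  haveI : LocallyOfFiniteType T'.hom := by rw [← Over.w iT']; infer_instance
  haveI : IsAffine T'.left := isAffine_of_isAffineHom iT'.left
  -- `T'` lies in `R`
  obtain ⟨t', ht'⟩ := exists_lift_range iT' iR (by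
    rw [← range_comp_of_surjective p.left iT'.left, ← Over.comp_left, hp, ← ht, Category.assoc, ← hpRc]
    rintro _ ⟨x, rfl⟩
    exact ⟨(t ≫ pR).left x, by rw [← Scheme.Hom.comp_apply, ← Over.comp_left, Category.assoc]⟩)
  haveI : IsMonHom t' := MTSplit.isMonHom_of_comp_mono t' iR iT' ht'
  haveI : Mono iT' := GrpField.SchImg.mono_of_isClosedImmersion iT'
  haveI : Mono (t' ≫ iR) := by rw [ht']; infer_instance
  haveI : Mono t' := mono_of_mono t' iR
  have hpt : p ≫ t' = t ≫ pR := (cancel_mono iR).1 (by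
    rw [Category.assoc, Category.assoc, ht', hp, hpRc, ← Category.assoc, ht])
  obtain ⟨T₁, hT₁, i₁, π₁, hi₁, hπ₁, hi₁c, hret, hT₁t, huniv, huniq⟩ := exists_section_torus R
  haveI := hi₁; haveI := hπ₁; haveI := hi₁c
  haveI := smooth_of_isTorus hT₁t
  haveI := isAffine_of_isTorus hT₁t
  haveI : IsReduced T₁.left := SmoothRed.isReduced_of_smooth_scheme T₁.hom
  haveI := locallyOfFiniteType_of_isTorus hT₁t
  haveI := isAffine_of_isTorus hT.2.2.1
  -- `T'` maps onto `T₁`
  have hsurj : Surjective ((p ≫ t' ≫ π₁).left) := by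
    haveI : Surjective π₁.left := ⟨fun x => ⟨i₁.left x, by
      rw [← Scheme.Hom.comp_apply, ← Over.comp_left, hret]; rfl⟩⟩
    haveI : Mono iB := GrpField.SchImg.mono_of_isClosedImmersion iB
    have e : pR ≫ π₁ = π ≫ t ≫ pR ≫ π₁ := by
      haveI : IsMonHom t := MTSplit.isMonHom_of_comp_mono t iB iT ht
      refine huniqB T₁ (pR ≫ π₁) (π ≫ t ≫ pR ≫ π₁) hT₁t ?_
      rw [← Category.assoc t π, htπ, Category.id_comp]

    haveI : Surjective (π.left ≫ (t ≫ pR ≫ π₁).left) := by
      rw [← Over.comp_left, ← e, Over.comp_left]; infer_instance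
    rw [← Category.assoc, hpt, Category.assoc]
    exact Surjective.of_comp π.left (t ≫ pR ≫ π₁).left
  haveI : Surjective (t' ≫ π₁).left := by
    haveI : Surjective (p.left ≫ (t' ≫ π₁).left) := hsurj
    exact Surjective.of_comp p.left (t' ≫ π₁).left
  haveI : IsMonHom p := MTSplit.isMonHom_of_comp_mono p iT' (iT ≫ q) hp
  haveI := smooth_of_isTorus hT.2.2.1
  haveI : QuasiCompact T.hom := inferInstance
  haveI : Smooth T'.hom := by
    rw [← Over.w iT']
    refine Groth.Agent.S15604.result k T Q (iT ≫ q) T'.left iT'.left ?_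
    rw [← hp]
    exact (range_comp_of_surjective p.left iT'.left).symm
  have hT't : Red.IsTorus T' := isTorus_of_surjective hT.2.2.1 p
  obtain ⟨g, f, hfm, hf⟩ := huniv T' t' hT't
  haveI := hfm
  haveI := mono_conjBy g t'
  haveI : Mono (f ≫ i₁) := by rw [hf]; infer_instance
  haveI : Mono f := mono_of_mono f i₁
  have hfπ : f = t' ≫ π₁ := by
    rw [← Category.comp_id f, ← hret, ← Category.assoc, hf, conjBy_comp, conjBy_torus hT₁t]
  haveI : Surjective f.left := by rw [hfπ]; infer_instance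
  haveI : IsIso f := isIso_of_mono_surjective f
  refine isMaxTorus_of_universal iT' hT't fun S _ j _ _ hS => ?_
  haveI := isAffine_of_isTorus hS
  haveI := smooth_of_isTorus hS
  haveI := connectedSpace_of_isTorus hS
  haveI : Group.IsSolvable (RP S) := Group.isSolvable_of_comm (rp_torus_comm hS)
  obtain ⟨g₁, f₁, hf₁⟩ := exists_conj_into_borel iR hR j
  haveI := isMonHom_conjBy g₁ j
  haveI : IsMonHom f₁ := MTSplit.isMonHom_of_comp_mono f₁ iR (AGF.conjBy g₁ j) hf₁
  haveI := mono_conjBy g₁ j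
  haveI : Mono (f₁ ≫ iR) := by rw [hf₁]; infer_instance
  haveI : Mono f₁ := mono_of_mono f₁ iR
  obtain ⟨g₂, f₂, hf₂m, hf₂⟩ := huniv S f₁ hS
  haveI := hf₂m
  haveI : IsMonHom (asIso f).hom := hfm
  haveI : IsMonHom (inv f) := inferInstanceAs (IsMonHom (asIso f).inv)
  refine ⟨(g⁻¹ * g₂) ≫ iR * g₁, f₂ ≫ inv f, inferInstance, ?_⟩
  have e : t' = f ≫ AGF.conjBy g⁻¹ i₁ := by
    rw [comp_conjBy', hf, conjBy_conjBy, inv_mul_cancel, conjBy_one]
  rw [← ht', e]
  simp only [Category.assoc, IsIso.inv_hom_id_assoc]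
  rw [conjBy_comp, comp_conjBy', ← Category.assoc, hf₂, conjBy_comp, conjBy_conjBy, hf₁, conjBy_conjBy,
    MonObj.mul_comp]

end Groth.Agent.Chev.Borel
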