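import Groth.Agent.S5366
import Groth.Agent.Chev.NormAux
import Groth.Agent.Chev.CentNilp
import Groth.Agent.Chev.TorusTheory
import Groth.Agent.Chev.TorusImage
import Groth.Agent.S5247
import Groth.Agent.S5248
import Groth.Agent.S5249

/-!
# Maximal tori of nilpotent groups, normal maximal tori
-/

set_option autoImplicit false
set_option backward.isDefEq.respectTransparency false

universe u

open CategoryTheory CategoryTheory.Limits MonoidalCategory CartesianMonoidalCategory MonObj GrpObj AlgebraicGeometry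
open Groth.Agent.SubGen (rpt exists_rpt map_rpt)

noncomputable section

namespace Groth.Agent.Chev.Borel

open BorelFixed

variable {k : Type u} [Field k] [IsAlgClosed k]

/-- A morphism multiplicative on rational points is a homomorphism. -/
theorem isMonHom_of_rp_mul {T G : Over (Spec (CommRingCat.of k))} [GrpObj T] [GrpObj G] [Smooth T.hom]
    [LocallyOfFiniteType G.hom] [IsAffine G.left] (f : T ⟶ G)
    (h : ∀ a b : RP T, (a * b) ≫ f = (a ≫ f) * (b ≫ f)) : IsMonHom f := by
  haveI : Smooth (T ⊗ T).hom := by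
    show Smooth (pullback.fst T.hom T.hom ≫ T.hom)
    infer_instance
  haveI : IsReduced (T ⊗ T).left := SmoothRed.isReduced_of_smooth_scheme (T ⊗ T).hom
  haveI : IsReduced T.left := SmoothRed.isReduced_of_smooth_scheme T.hom
  refine ⟨?_, hom_ext_rp fun z => ?_⟩
  · have h1 := h 1 1
    rw [_root_.mul_one, left_eq_mul] at h1
    rw [show (η[T] : 𝟙_ _ ⟶ T) = 1 by rw [Hom.one_def, toUnit_one, Category.id_comp], h1, Hom.one_def, toUnit_one,
      Category.id_comp]
  · have e1 : z ≫ μ[T] ≫ f = ((z ≫ fst T T) * (z ≫ snd T T)) ≫ f := by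
      rw [← MonObj.comp_mul, Hom.mul_def, lift_fst_snd, Category.id_comp, Category.assoc]
    rw [e1, h, Hom.mul_def, ← Category.assoc]
    congr 1
    apply CartesianMonoidalCategory.hom_ext <;> simp

variable {G : Over (Spec (CommRingCat.of k))} [GrpObj G] [IsAffine G.left] [Smooth G.hom] [ConnectedSpace G.left]
  {T T₁ : Over (Spec (CommRingCat.of k))} [GrpObj T] [GrpObj T₁]

/-- A homomorphism from a torus to a solvable group killed by the projection to its torus is trivial. -/
theorem hom_eq_one_of_comp_eq_one (hT : Red.IsTorus T) (hT₁ : Red.IsTorus T₁) (i₁ : T₁ ⟶ G) [IsMonHom i₁] (π₁ : G ⟶ T₁)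
    [IsMonHom π₁] (hret : i₁ ≫ π₁ = 𝟙 T₁)
    (huniv : ∀ (T' : Over (Spec (CommRingCat.of k))) [GrpObj T'] (j : T' ⟶ G) [IsMonHom j] [Mono j], Red.IsTorus T' →
      ∃ (g : RP G) (f : T' ⟶ T₁), IsMonHom f ∧ f ≫ i₁ = AGF.conjBy g j)
    (f : T ⟶ G) [IsMonHom f] (hf : f ≫ π₁ = 1) : f = 1 := by
  haveI := isAffine_of_isTorus hT
  haveI := smooth_of_isTorus hT
  haveI := connectedSpace_of_isTorus hT
  haveI : QuasiCompact T.hom := inferInstance
  obtain ⟨R, hRg, iR, pR, hiR, hpR, hiRc, hRs, hpRs, hpRc⟩ := exists_smooth_image f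
  haveI := hiR; haveI := hpR; haveI := hiRc; haveI := hRs; haveI := hpRs
  haveI : Mono iR := GrpField.SchImg.mono_of_isClosedImmersion iR
  haveI : IsAffine R.left := isAffine_of_isAffineHom iR.left
  haveI : QuasiCompact R.hom := inferInstance
  have hR : Red.IsTorus R := isTorus_of_surjective hT pR
  obtain ⟨g, f₁, hf₁m, hf₁⟩ := huniv R iR hR
  have hf₁' : f₁ = iR ≫ π₁ := by
    rw [← Category.comp_id f₁, ← hret, ← Category.assoc, hf₁, conjBy_comp]
    haveI : IsReduced R.left := SmoothRed.isReduced_of_smooth_scheme R.hom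
    haveI := locallyOfFiniteType_of_isTorus hR
    rw [conjBy_torus hT₁]
  have h1 : AGF.conjBy g f = 1 := by
    rw [← hpRc, ← comp_conjBy', ← hf₁, hf₁', ← Category.assoc, ← Category.assoc, hpRc, hf, MonObj.one_comp]
  have h2 := congrArg (AGF.conjBy g⁻¹) h1
  rw [conjBy_conjBy, inv_mul_cancel, conjBy_one] at h2
  rw [h2, AGF.conjBy, _root_.mul_one, mul_inv_cancel]

/-- In a nilpotent group every torus is central on rational points. -/
theorem torus_central_of_nilpotent (hT : Red.IsTorus T) (iT : T ⟶ G) [IsMonHom iT] [Group.IsNilpotent (RP G)]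
    (u : RP G) (p : RP T) : u * (p ≫ iT) = (p ≫ iT) * u := by
  haveI := isAffine_of_isTorus hT
  haveI := smooth_of_isTorus hT
  haveI : IsReduced T.left := SmoothRed.isReduced_of_smooth_scheme T.hom
  haveI : Group.IsSolvable (RP G) := inferInstance
  obtain ⟨T₁, hT₁g, i₁, π₁, hi₁, hπ₁, -, hret, hT₁, huniv, -⟩ := exists_section_torus G
  haveI := hi₁; haveI := hπ₁
  haveI := isAffine_of_isTorus hT₁
  haveI := locallyOfFiniteType_of_isTorus hT₁
  suffices key : ∀ (n : ℕ), ∀ u ∈ Subgroup.upperCentralSeries (RP G) n, ∀ p : RP T, u * (p ≫ iT) = (p ≫ iT) * u by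
    obtain ⟨n, hn⟩ := Group.IsNilpotent.nilpotent (G := RP G)
    exact key n u (by rw [hn]; trivial) p
  intro n
  induction n with
  | zero =>
    intro u hu p
    rw [Subgroup.upperCentralSeries_zero, Subgroup.mem_bot] at hu
    rw [hu, _root_.one_mul, _root_.mul_one]
  | succ n ih =>
    intro u hu p
    let v : T ⟶ G := iT * (toUnit T ≫ u) * iT⁻¹ * (toUnit T ≫ u)⁻¹
    have hv : ∀ a : RP T, a ≫ v = (a ≫ iT) * u * (a ≫ iT)⁻¹ * u⁻¹ := fun a => by
      simp only [v, MonObj.comp_mul, GrpObj.comp_inv, rp_const]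
    have hmem : ∀ a : RP T, a ≫ v ∈ Subgroup.upperCentralSeries (RP G) n := fun a => by
      rw [Subgroup.mem_upperCentralSeries_succ_iff] at hu
      have h := (Subgroup.upperCentralSeries (RP G) n).inv_mem (hu (a ≫ iT))
      rw [hv]
      simpa only [commutatorElement_def, _root_.mul_inv_rev, _root_.inv_inv, _root_.mul_assoc] using h
    haveI : IsMonHom v := isMonHom_of_rp_mul v fun a b => by
      have hab : (b * a) ≫ v = (a ≫ v) * (b ≫ v) := by
        have hc : (a ≫ v) * (b ≫ iT) = (b ≫ iT) * (a ≫ v) := ih _ (hmem a) b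
        calc (b * a) ≫ v = (b ≫ iT) * ((a ≫ v) * u) * (b ≫ iT)⁻¹ * u⁻¹ := by
              rw [hv, hv a, MonObj.mul_comp]
              simp only [_root_.mul_inv_rev, _root_.mul_assoc, inv_mul_cancel_left]
          _ = (a ≫ v) * ((b ≫ iT) * u * (b ≫ iT)⁻¹ * u⁻¹) := by
              simp only [← _root_.mul_assoc, ← hc]
          _ = _ := by rw [hv b]
      rw [← hab, rp_torus_comm hT]
    have hvπ : v ≫ π₁ = 1 := hom_ext_rp fun a => by
      rw [← Category.assoc, hv, MonObj.mul_comp, MonObj.mul_comp, MonObj.mul_comp, GrpObj.inv_comp, GrpObj.inv_comp,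
        rp_torus_comm hT₁ ((a ≫ iT) ≫ π₁) (u ≫ π₁), mul_inv_cancel_right, mul_inv_cancel, MonObj.comp_one]
    have hv1 := hom_eq_one_of_comp_eq_one hT hT₁ i₁ π₁ hret huniv v hvπ
    have h := hv p
    rw [hv1, MonObj.comp_one] at h
    exact (mul_inv_eq_iff_eq_mul.1 (mul_inv_eq_one.1 h.symm)).symm

/-- A maximal torus normalised by every rational point is central. -/
theorem torus_central_of_normal (iT : T ⟶ G) (hT : AGF.IsMaxTorus iT)
    (hnorm : ∀ g : RP G, ∃ φ : T ≅ T, φ.hom ≫ iT = AGF.conjBy g iT) (g : RP G) (p : RP T) :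
    g * (p ≫ iT) = (p ≫ iT) * g := by
  obtain ⟨him, himono, hTt, -⟩ := id hT
  haveI := him; haveI := himono
  have hM := MTBridge.isMultTypeFT_of_isTorus T hTt
  haveI : IsAffineHom G.hom := inferInstance
  obtain ⟨C, hCg, c, hc, -, -⟩ := Groth.Agent.S5247.result T G hM ‹Smooth G.hom› inferInstance iT
  haveI := hc.1
  obtain ⟨N, hNg, n, hN, hNc, hNs⟩ := Groth.Agent.S5248.result T G hM ‹_› inferInstance iT
  haveI := hN.1; haveI := hN.2.1; haveI := hNc; haveI := hNs
  obtain ⟨fC, hfC, hfo, hfcl⟩ := Groth.Agent.S5249.result T G C N hM ‹_› inferInstance iT c n hc hN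
  haveI := hfo; haveI := hfcl
  haveI : IsReduced G.left := SmoothRed.isReduced_of_smooth_scheme G.hom
  have hpts : ∀ g : RP G, ∃ q : RP N, q ≫ n = g := fun g => by
    obtain ⟨φ, hφ⟩ := hnorm g
    refine (hN.2.2 _ g).2 fun X' x h => ⟨⟨h ≫ φ.hom, ?_⟩, ⟨h ≫ φ.inv, ?_⟩⟩
    · rw [Category.assoc, hφ, comp_conjBy, toUnit_unique x (toUnit X')]
    · have hg2 : φ.inv ≫ iT = AGF.conjBy g⁻¹ iT := by
        have e := congrArg (fun m => φ.inv ≫ m) hφ
        simp only [φ.inv_hom_id_assoc, comp_conjBy'] at e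
        conv_rhs => rw [e, conjBy_conjBy, inv_mul_cancel, conjBy_one]
      rw [Category.assoc, hg2, comp_conjBy, toUnit_unique x (toUnit X'), GrpObj.comp_inv, _root_.inv_inv]
  obtain ⟨r, hr⟩ := exists_lift_rp (𝟙 G) n fun z => by
    obtain ⟨q, hq⟩ := hpts z
    exact ⟨rpt q, by rw [map_rpt, hq, Category.comp_id]⟩
  have hr' : n ≫ r = 𝟙 N := (cancel_mono n).1 (by rw [Category.assoc, hr, Category.comp_id, Category.id_comp])
  let S : Set G.left := r.left ⁻¹' Set.range fC.left
  have hS : IsClopen S := ⟨fC.left.isClosedEmbedding.isClosed_range.preimage r.left.continuous,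
    fC.left.isOpenEmbedding.isOpen_range.preimage r.left.continuous⟩
  haveI : IsMonHom fC := MTSplit.isMonHom_of_comp_mono fC n c hfC
  have hne : rpt ((1 : RP C) ≫ c) ∈ S := ⟨rpt (1 : RP C), by
    rw [map_rpt, map_rpt, ← hfC, Category.assoc, Category.assoc, hr', Category.comp_id]⟩
  have hgS : rpt g ∈ S := by rw [hS.eq_univ ⟨_, hne⟩]; trivial
  change r.left (rpt g) ∈ Set.range fC.left at hgS
  rw [map_rpt] at hgS
  obtain ⟨z, hz⟩ := exists_rp_lift fC _ hgS
  have hzc : z ≫ c = g := by rw [← hfC, ← Category.assoc, hz, Category.assoc, hr, Category.comp_id]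
  have h := (hc.2.2 _ g).1 ⟨z, hzc⟩ _ (𝟙 _) p
  rwa [Category.id_comp] at h

/-- Commutation on rational points extends to all points. -/
theorem commute_of_rp (iT : T ⟶ G) (hT : Red.IsTorus T) (h : ∀ (g : RP G) (p : RP T), g * (p ≫ iT) = (p ≫ iT) * g)
    (X : Over (Spec (CommRingCat.of k))) (g : X ⟶ G) (x : X ⟶ T) : g * (x ≫ iT) = (x ≫ iT) * g := by
  haveI := smooth_of_isTorus hT
  haveI : Smooth (G ⊗ T).hom := by
    show Smooth (pullback.fst G.hom T.hom ≫ G.hom)
    infer_instance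
  haveI : IsReduced (G ⊗ T).left := SmoothRed.isReduced_of_smooth_scheme (G ⊗ T).hom
  have huniv : fst G T * (snd G T ≫ iT) = (snd G T ≫ iT) * fst G T := hom_ext_rp fun z => by
    rw [MonObj.comp_mul, MonObj.comp_mul, ← Category.assoc, h]
  have e := congrArg (fun m => lift g x ≫ m) huniv
  simpa only [MonObj.comp_mul, lift_fst, lift_snd_assoc] using e

omit [ConnectedSpace G.left] in
/-- Nilpotency can be tested on rational points. -/
theorem isNilpotentGrp_of_rp [Group.IsNilpotent (RP G)] : AGF.IsNilpotentGrp G := by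
  obtain ⟨n, hn⟩ := Subgroup.nilpotent_iff_lowerCentralSeries.1 ‹Group.IsNilpotent (RP G)›
  refine ⟨n, fun X => Subgroup.lowerCentralSeries_eq_bot_iff_upperCentralSeries_eq_top.1 ?_⟩
  revert X
  refine (Groth.Agent.S5366.result k G k n).2.2 ?_
  have e : Over.mk (Spec.map (CommRingCat.ofHom (algebraMap k k))) = 𝟙_ (Over (Spec (CommRingCat.of k))) := by
    rw [Algebra.algebraMap_self]
    exact congrArg Over.mk (Spec.map_id _)
  rw [e]
  exact hn

end Groth.Agent.Chev.Borel
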