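import Groth.Agent.Chev.CentNilp
import Groth.Agent.Chev.NilpTori
import Groth.Agent.Chev.SolvTorus
import Groth.Agent.MTKernel.Basic
import Groth.Agent.S2966
import Groth.Agent.MTBridge.Centralizer
import Groth.Agent.MTBridge.EssFree
import Groth.Agent.MTBridge.MonoTori

/-!
# Central homomorphisms from groups of multiplicative type land in every maximal torus
-/

set_option autoImplicit false
set_option backward.isDefEq.respectTransparency false
set_option maxHeartbeats 1000000

universe u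

open CategoryTheory CategoryTheory.Limits MonoidalCategory CartesianMonoidalCategory MonObj GrpObj AlgebraicGeometry
open scoped TensorProduct
open WithConv
open Groth.Agent.MTBridge (specGrp)

noncomputable section

namespace Groth.Agent.Chev.Borel

open BorelFixed

variable {k : Type u} [Field k] [IsAlgClosed k]

/-- A connected solvable group retracts onto a torus, with kernel killing groups of multiplicative type. -/
theorem exists_torus_retraction_kill (G : Over (Spec (CommRingCat.of k))) [GrpObj G] [IsAffine G.left] [Smooth G.hom]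
    [ConnectedSpace G.left] [Group.IsSolvable (RP G)] :
    ∃ (T : Over (Spec (CommRingCat.of k))) (_ : GrpObj T) (iT : T ⟶ G) (π : G ⟶ T),
      IsMonHom iT ∧ IsMonHom π ∧ IsClosedImmersion iT.left ∧ iT ≫ π = 𝟙 T ∧ Red.IsTorus T ∧
      ∀ (H : Over (Spec (CommRingCat.of k))) [GrpObj H] (f : H ⟶ G) [IsMonHom f], SGA3x.IsMultTypeFT H →
        f ≫ π = 1 → f = 1 := by
  obtain ⟨A, hA, e, he⟩ := FinHopf.exists_hopf (R := CommRingCat.of k) G
  haveI := he
  haveI : IsIso e.hom.left := inferInstanceAs (IsIso ((Over.forget _).map e.hom))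
  haveI : Algebra.FiniteType k A := by
    have h0 : LocallyOfFiniteType (e.hom.left ≫ G.hom) := inferInstance
    rw [Over.w e.hom] at h0
    exact RingHom.finiteType_algebraMap.1 ((HasRingHomProperty.Spec_iff (P := @LocallyOfFiniteType)).1 h0)
  haveI : IsDomain A := isDomain_of_smooth_connected e
  haveI : Group.IsSolvable (Takeuchi.Pt k A k) :=
    Group.isSolvable_of_surjective (f := (ProjRep.ptsEquiv e).toMonoidHom) (ProjRep.ptsEquiv e).surjective
  have htrig := Groth.Agent.S3266.result k A fun x hx => IsIdempotentElem.iff_eq_zero_or_one.1 hx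
  obtain ⟨B, hBc, hBh, ψ, J, hJh, hψ, hdiag, hJ, hU⟩ := (Groth.Agent.S7967.result k A).1 htrig
  haveI := hJh
  have hB : SGA3b.IsDiag k B := MultT.isDiag_of_span hdiag
  obtain ⟨r, hr⟩ := Groth.Agent.S4128.result k A B hB ψ hψ J hJ hU
  have hrψ : ∀ b, r (ψ b) = b := DFunLike.congr_fun hr
  have hrs : Function.Surjective r := fun b => ⟨ψ b, hrψ b⟩
  haveI : Algebra.FiniteType k B := Algebra.FiniteType.of_surjective (r : A →ₐ[k] B) hrs
  haveI : IsDomain B := hψ.isDomain (ψ : B →ₐ[k] A).toRingHom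
  let T := (Spec (CommRingCat.of B)).asOver (Spec (CommRingCat.of k))
  let rT : T ⟶ (Spec (CommRingCat.of A)).asOver (Spec (CommRingCat.of k)) := Spec.mapMulEquiv (toConv (r : A →ₐ[k] B))
  let pT : (Spec (CommRingCat.of A)).asOver (Spec (CommRingCat.of k)) ⟶ T := Spec.mapMulEquiv (toConv (ψ : B →ₐ[k] A))
  haveI : IsMonHom rT := ((hopfSpec (CommRingCat.of k)).map (CommHopfAlgCat.ofHom (X := A) (Y := B) r).op).hom.isMonHom_hom
  haveI : IsMonHom pT := ((hopfSpec (CommRingCat.of k)).map (CommHopfAlgCat.ofHom (X := B) (Y := A) ψ).op).hom.isMonHom_hom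
  haveI : IsMonHom e.inv := inferInstance
  let iT : T ⟶ G := rT ≫ e.hom
  haveI : IsClosedImmersion rT.left :=
    IsClosedImmersion.spec_of_surjective (CommRingCat.ofHom (r : A →ₐ[k] B).toRingHom) hrs
  haveI : IsClosedImmersion iT.left := inferInstanceAs (IsClosedImmersion (rT.left ≫ e.hom.left))
  have hret : iT ≫ e.inv ≫ pT = 𝟙 T := by
    show (rT ≫ e.hom) ≫ e.inv ≫ pT = 𝟙 T
    rw [Category.assoc, e.hom_inv_id_assoc]
    refine Over.OverMorphism.ext ?_
    show Spec.map _ ≫ Spec.map _ = 𝟙 _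
    rw [← Spec.map_comp, ← Spec.map_id]
    exact congrArg Spec.map (CommRingCat.hom_ext (RingHom.ext hrψ))
  refine ⟨T, inferInstance, iT, e.inv ≫ pT, inferInstance, inferInstance, inferInstance, hret,
    isTorus_spec hB, fun H _ f _ hH hf => ?_⟩
  obtain ⟨C, _, _, hC, hft, ⟨i⟩⟩ := MTBridge.exists_hopf H hH
  haveI := hft
  haveI : IsAlgClosed (IsLocalRing.ResidueField k) := IsAlgClosed.of_ringEquiv k _
    (RingEquiv.ofBijective (IsLocalRing.residue k) ⟨(IsLocalRing.residue k).injective, IsLocalRing.residue_surjective⟩)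
  obtain ⟨M, _, ⟨E⟩⟩ := MultT.isDiag_of_strict hC
  let eH : (specGrp k C).X ≅ H := (Grp.forget _).mapIso i.symm
  haveI : IsMonHom eH.hom := i.inv.hom.isMonHom_hom
  let v : (specGrp k C).X ⟶ (specGrp k A).X := eH.hom ≫ f ≫ e.inv
  haveI : IsMonHom v := by dsimp [v]; infer_instance
  obtain ⟨h, hh⟩ := MTBridge.exists_bialgHom v
  have hvp : v = MTBridge.pt (toConv (h : A →ₐ[k] C)) := Over.OverMorphism.ext (hh.trans (MTBridge.pt_left _).symm)
  let pT' : (specGrp k A).X ⟶ (specGrp k B).X := pT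
  have hker : J ≤ RingHom.ker (h : A →ₐ[k] C) := by
    rw [hJ]
    refine (MTKernel.pt_comp_eq_one_iff pT' ψ rfl (toConv (h : A →ₐ[k] C))).1 ?_
    rw [← hvp]
    show (eH.hom ≫ f ≫ e.inv) ≫ pT = 1
    rw [Category.assoc, Category.assoc, hf, MonObj.comp_one]
  let hb : A ⧸ J →ₐc[k] C := BialgHom.ofAlgHom (Ideal.Quotient.liftₐ J (h : A →ₐ[k] C) hker)
    (Ideal.Quotient.algHom_ext k (AlgHom.ext fun a => CoalgHomClass.counit_comp_apply h a))
    (Ideal.Quotient.algHom_ext k (AlgHom.ext fun a => by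
      show Algebra.TensorProduct.map _ _ (Coalgebra.comul (R := k) (Ideal.Quotient.mk J a)) = Coalgebra.comul (h a)
      rw [Bialgebra.Quotient.comul_mk, ← CoalgHomClass.map_comp_comul_apply h a]
      generalize Coalgebra.comul (R := k) a = z
      induction z using TensorProduct.induction_on with
      | zero => simp
      | tmul x y => rfl
      | add x y hx hy => simp only [map_add, hx, hy]))
  have hdiag' : HopfRep.IsDiagonalizable (AlgebraicClosure k) (AlgebraicClosure k ⊗[k] C) := by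
    refine eq_top_iff.2 ?_
    rintro z -
    induction z using TensorProduct.induction_on with
    | zero => exact Submodule.zero_mem _
    | add x y hx hy => exact Submodule.add_mem _ hx hy
    | tmul a c =>
      obtain ⟨x, rfl⟩ : ∃ x, (E.symm : MonoidAlgebra k M →ₐc[k] C) x = c := E.symm.surjective c
      induction x using MonoidAlgebra.induction_linear with
      | zero => simp
      | add x y hx hy =>
        rw [map_add, TensorProduct.tmul_add]
        exact Submodule.add_mem _ hx hy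
      | single m d =>
        rw [show MonoidAlgebra.single m d = d • MonoidAlgebra.single m (1 : k) by simp, map_smul,
          ← TensorProduct.smul_tmul, show (d • a) ⊗ₜ[k] (E.symm : MonoidAlgebra k M →ₐc[k] C) (MonoidAlgebra.single m (1 : k)) =
            (d • a) • ((1 : AlgebraicClosure k) ⊗ₜ[k] (E.symm : MonoidAlgebra k M →ₐc[k] C) (MonoidAlgebra.single m (1 : k))) by
            rw [TensorProduct.smul_tmul', smul_eq_mul, _root_.mul_one]]
        refine Submodule.smul_mem _ _ (Submodule.subset_span ?_)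
        have hg := (MonoidAlgebra.isGroupLikeElem_single_one (R := k) (A := k) m).map
          (E.symm : MonoidAlgebra k M →ₐc[k] C)
        refine ⟨?_, ?_⟩
        · rw [TensorProduct.counit_tmul, show Coalgebra.counit (R := k) ((E.symm : MonoidAlgebra k M →ₐc[k] C) (MonoidAlgebra.single m (1 : k))) = 1 from
            hg.counit_eq_one]
          simp
        · rw [TensorProduct.comul_tmul, show Coalgebra.comul (R := k) ((E.symm : MonoidAlgebra k M →ₐc[k] C) (MonoidAlgebra.single m (1 : k))) =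
            (E.symm : MonoidAlgebra k M →ₐc[k] C) (MonoidAlgebra.single m (1 : k)) ⊗ₜ[k] (E.symm : MonoidAlgebra k M →ₐc[k] C) (MonoidAlgebra.single m (1 : k)) from hg.comul_eq_tmul_self]
          simp
  have htriv : ∀ a : A, h a = algebraMap k C (Coalgebra.counit (R := k) a) := fun a =>
    (Groth.Agent.S2966.result hdiag' hU).1 hb (Ideal.Quotient.mk J a)
  have hv1 : v = 1 := by
    rw [hvp, show (toConv (h : A →ₐ[k] C)) = 1 from WithConv.ext (AlgHom.ext fun a => by
      rw [AlgHom.convOne_apply]; exact htriv a)]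
    exact map_one (Spec.mapMulEquiv (R := k) (S := A) (T := C))
  rw [← cancel_epi eH.hom, ← cancel_mono e.inv, Category.assoc, MonObj.comp_one, MonObj.one_comp]
  exact hv1

theorem eq_of_commute_conj {M : Type*} [Group M] {g j : M} (h : g * (g * j * g⁻¹) = g * j * g⁻¹ * g) :
    g * j * g⁻¹ = j := by
  rw [inv_mul_cancel_right] at h
  exact mul_left_cancel h

theorem mul_inv_hom {M : Type*} [Group M] {a b p q : M} (hq : ∀ m : M, q * m = m * q) (hp : b * p = p * b) :
    a * b * (p * q)⁻¹ = a * p⁻¹ * (b * q⁻¹) := by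
  have h1 : p⁻¹ * b = b * p⁻¹ := by rw [inv_mul_eq_iff_eq_mul, ← _root_.mul_assoc, ← hp, mul_inv_cancel_right]
  have h2 : q⁻¹ * p⁻¹ = p⁻¹ * q⁻¹ := by rw [← _root_.mul_inv_rev, ← _root_.mul_inv_rev, hq]
  rw [_root_.mul_inv_rev, h2, _root_.mul_assoc a b, ← _root_.mul_assoc b, ← h1, _root_.mul_assoc p⁻¹,
    ← _root_.mul_assoc a]

/-- A central homomorphism from a group of multiplicative type lands in every maximal torus. -/
theorem central_factor_maxTorus {G T H : Over (Spec (CommRingCat.of k))} [GrpObj G] [GrpObj T] [GrpObj H]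
    [IsAffine G.left] [Smooth G.hom] [ConnectedSpace G.left] (iT : T ⟶ G) (hT : AGF.IsMaxTorus iT)
    (hH : SGA3x.IsMultTypeFT H) (u : H ⟶ G) [IsMonHom u]
    (hcen : ∀ (X : Over (Spec (CommRingCat.of k))) (x : X ⟶ H) (g : X ⟶ G), (x ≫ u) * g = g * (x ≫ u)) :
    ∃ w : H ⟶ T, w ≫ iT = u := by
  obtain ⟨him, himono, hTt, -⟩ := id hT
  haveI := him; haveI := himono
  haveI : IsAffineHom G.hom := isAffineHom_of_isAffine _
  obtain ⟨C, hCg, c, hc, -, -⟩ := MTBridge.exists_centralizer T G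
    (MTBridge.locally_of_isMultTypeFT' T (MTBridge.isMultTypeFT_of_isTorus T hTt)) inferInstance inferInstance iT
  obtain ⟨hCs, hCaff, hccl, hCconn, hCsol, -, tc, htc, htmax, hcent⟩ := centralizer_maxTorus iT hT c hc
  haveI := hCs; haveI := hCaff; haveI := hccl; haveI := hCconn; haveI := hCsol
  obtain ⟨hcm, hcmono, hcu⟩ := id hc
  haveI := hcm; haveI := hcmono
  obtain ⟨u', hu'⟩ := (hcu H u).2 fun X' x t => hcen X' x (t ≫ iT) |>.symm |> fun h => h.symm
  haveI : IsMonHom u' := MTSplit.isMonHom_of_comp_mono u' c u hu'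
  have hcentP : ∀ (X : Over (Spec (CommRingCat.of k))) (g : X ⟶ C) (t : X ⟶ T),
      g * (t ≫ tc) = (t ≫ tc) * g := commute_of_rp tc hTt fun g p => hcent p g
  haveI := htmax.1; haveI := htmax.2.1
  obtain ⟨T₁, hT₁g, i₁, -, hi₁, -, hi₁c, -, hT₁, huniv, -⟩ := exists_section_torus C
  haveI := hi₁; haveI := hi₁c
  obtain ⟨T₀, hT₀g, i₀, π, hi₀, hπ, hi₀c, hret, hT₀, hkill⟩ := exists_torus_retraction_kill C
  haveI := hi₀; haveI := hπ; haveI := hi₀c
  haveI : Mono i₀ := GrpField.SchImg.mono_of_isClosedImmersion i₀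
  -- `T` is the only maximal torus of `C`
  obtain ⟨g₁, f₁, hf₁m, hf₁⟩ := huniv T tc hTt
  have hf₁' : f₁ ≫ i₁ = tc := by
    rw [hf₁]
    show (toUnit T ≫ g₁) * tc * (toUnit T ≫ g₁)⁻¹ = tc
    have h := hcentP T (toUnit T ≫ g₁) (𝟙 T)
    rw [Category.id_comp] at h
    rw [h, mul_inv_cancel_right]
  haveI : Mono (f₁ ≫ i₁) := by rw [hf₁']; infer_instance
  haveI : Mono f₁ := mono_of_mono f₁ i₁
  haveI : Mono i₁ := GrpField.SchImg.mono_of_isClosedImmersion i₁
  haveI : IsIso f₁ := htmax.2.2.2 T₁ i₁ f₁ hT₁ hf₁'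
  obtain ⟨g₀, f₀, hf₀m, hf₀⟩ := huniv T₀ i₀ hT₀
  have hj : ∃ j₀ : T₀ ⟶ T, j₀ ≫ tc = i₀ := by
    refine ⟨f₀ ≫ CategoryTheory.inv f₁, ?_⟩
    have e1 : (f₀ ≫ CategoryTheory.inv f₁) ≫ tc = f₀ ≫ i₁ := by
      rw [← hf₁', Category.assoc, IsIso.inv_hom_id_assoc]
    rw [e1]
    have h := hcentP T₀ (toUnit T₀ ≫ g₀) (f₀ ≫ CategoryTheory.inv f₁)
    rw [e1, hf₀, AGF.conjBy] at h
    rw [hf₀, AGF.conjBy]
    exact eq_of_commute_conj h
  obtain ⟨j₀, hj₀⟩ := hj
  let v : H ⟶ C := u' * (u' ≫ π ≫ i₀)⁻¹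
  have hvc : ∀ (X : Over (Spec (CommRingCat.of k))) (x : X ⟶ H) (g : X ⟶ C),
      (x ≫ u' ≫ π ≫ i₀) * g = g * (x ≫ u' ≫ π ≫ i₀) := fun X x g => by
    rw [← hj₀, show x ≫ u' ≫ π ≫ j₀ ≫ tc = (x ≫ u' ≫ π ≫ j₀) ≫ tc by simp only [Category.assoc], hcentP]
  haveI : IsMonHom v := MTBridge.isMonHom_of_points v fun X x y => by
    have hx := (hvc X x (y ≫ u')).symm
    simp only [v, MonObj.comp_mul, GrpObj.comp_inv, MonObj.mul_comp]
    exact mul_inv_hom (fun m => hvc X y m) (hvc X x (y ≫ u')).symm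
  have hv : v ≫ π = 1 := by
    show (u' * (u' ≫ π ≫ i₀)⁻¹) ≫ π = 1
    rw [MonObj.mul_comp, GrpObj.inv_comp, Category.assoc, Category.assoc]
    rw [hret, Category.comp_id, mul_inv_cancel]
  have h1 : u' = u' ≫ π ≫ i₀ := mul_inv_eq_one.1 (hkill H v hH hv)
  refine ⟨u' ≫ π ≫ j₀, ?_⟩
  rw [← hu']
  conv_rhs => rw [h1, ← hj₀]
  rw [← htc]
  simp only [Category.assoc]

/-- Being a torus is stable under base change, over any base. -/
theorem isTorus_bc_scheme {S T : Scheme.{u}} (H : Over S) [GrpObj H] (g : T ⟶ S) (hH : Red.IsTorus H) :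
    Red.IsTorus (Red.bc g H) := by
  obtain ⟨S', f, hf, hs, hlift, hloc⟩ := hH
  refine ⟨pullback f g, pullback.snd f g, MorphismProperty.pullback_snd _ _ hf,
    MorphismProperty.pullback_snd _ _ hs, MTBridge.lift_bc f g hlift, fun z => ?_⟩
  obtain ⟨U, hU, r, e⟩ := hloc (pullback.fst f g z)
  refine ⟨pullback.fst f g ⁻¹ᵁ U, hU, r, ?_⟩
  let U' := pullback.fst f g ⁻¹ᵁ U
  obtain ⟨e'⟩ := MTBridge.nonempty_bc_split (H := H) e (pullback.fst f g ∣_ U)
  have h : (pullback.fst f g ∣_ U) ≫ U.ι ≫ f = (U'.ι ≫ pullback.snd f g) ≫ g := by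
    rw [← Category.assoc, morphismRestrict_ι, Category.assoc, pullback.condition, Category.assoc]
  exact ⟨(MTBridge.bcComp g (U'.ι ≫ pullback.snd f g) H).symm ≪≫ MTBridge.bcCongr h.symm H ≪≫ e'⟩

end Groth.Agent.Chev.Borel
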