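import Groth.Agent.Chev.LargestNormal
import Groth.Agent.SubGen.CommGeom
import Groth.Agent.GeomRedPull.Field
import Groth.Agent.DeltaBC.Tensor
import Groth.Agent.S7983
import Groth.Agent.S8004
import Groth.Agent.DvrDom.ClosedProper

/-!
# Separable base change of the largest smooth connected affine normal subgroup
-/

set_option autoImplicit false
set_option backward.isDefEq.respectTransparency false

universe u

open CategoryTheory CategoryTheory.Limits MonoidalCategory CartesianMonoidalCategory MonObj GrpObj AlgebraicGeometry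
open scoped CategoryTheory.Obj TensorProduct

noncomputable section

namespace Groth.Agent.Chev

open AVDeg (bcK specMap)

/-- A normal homomorphism followed by an isomorphism of groups is normal. -/
theorem isNormalHom_comp_iso {S : Scheme.{u}} {G G' N : Over S} [GrpObj G] [GrpObj G'] [GrpObj N]
    (i : N ⟶ G) (e : G ≅ G') [IsMonHom e.hom] (h : AlgGrp.IsNormalHom i) : AlgGrp.IsNormalHom (i ≫ e.hom) := by
  intro T g n
  obtain ⟨m, hm⟩ := h T (g ≫ e.inv) n
  refine ⟨m, ?_⟩
  rw [← Category.assoc m, ← hm, MonObj.mul_comp, MonObj.mul_comp, GrpObj.inv_comp, Category.assoc g,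
    e.inv_hom_id, Category.comp_id, Category.assoc]

variable {k : Type u} [Field k]

theorem geometricallyReduced_specMap_of_isSeparable (S : Type u) [Field S] [Algebra k S]
    [Algebra.IsSeparable k S] : GeometricallyReduced (specMap k S) := by
  refine GeomRedPull.geometricallyReduced_Spec fun K _ _ => ?_
  haveI := DeltaBC.isReduced_tensor_sep k S K
  exact isReduced_of_injective (Algebra.TensorProduct.comm k S K) (Algebra.TensorProduct.comm k S K).injective

/-- A Galois stable reduced closed subgroup descends. -/
theorem exists_desc_galois (S : Type u) [Field S] [Algebra k S] [Normal k S] [Algebra.IsSeparable k S]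
    {G : Over (Spec (CommRingCat.of k))} [GrpObj G]
    {M : Over (Spec (CommRingCat.of S))} [GrpObj M] (z : M ⟶ bcK k S G) [IsMonHom z] [IsClosedImmersion z.left]
    [IsReduced M.left]
    (hinv : ∀ σ : S ≃ₐ[k] S, GeomConn.autMap G.hom σ '' Set.range z.left ⊆ Set.range z.left) :
    ∃ (M₀ : Over (Spec (CommRingCat.of k))) (_ : GrpObj M₀) (m₀ : M₀ ⟶ G) (e : M ≅ bcK k S M₀),
      IsMonHom m₀ ∧ IsMonHom e.hom ∧ IsClosedImmersion m₀.left ∧
      e.hom ≫ (Over.pullback (specMap k S)).map m₀ = z := by
  let π := pullback.fst G.hom (specMap k S)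
  haveI : IsIntegralHom (specMap k S) :=
    IsIntegralHom.SpecMap_iff.mpr (algebraMap_isIntegral_iff.mpr (inferInstance : Algebra.IsIntegral k S))
  haveI : IsIntegralHom π := MorphismProperty.pullback_fst _ _ inferInstance
  let C : TopologicalSpace.Closeds G.left :=
    ⟨π '' Set.range z.left, π.isClosedMap _ z.left.isClosedEmbedding.isClosed_range⟩
  let I := Scheme.IdealSheafData.vanishingIdeal C
  let Z₀ : Over (Spec (CommRingCat.of k)) := Over.mk (I.subschemeι ≫ G.hom)
  let z₀ : Z₀ ⟶ G := Over.homMk I.subschemeι rfl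
  haveI : IsClosedImmersion z₀.left := inferInstanceAs (IsClosedImmersion I.subschemeι)
  haveI : AlgebraicGeometry.IsReduced Z₀.left := DvrDom.isReduced_vanishingIdeal_subscheme C
  have hrange : Set.range z₀.left = π '' Set.range z.left := by
    show Set.range I.subschemeι = _
    rw [Scheme.IdealSheafData.range_subschemeι, Scheme.IdealSheafData.coe_support_vanishingIdeal]
    rfl
  let F := Over.pullback (specMap k S)
  haveI : AlgebraicGeometry.IsReduced (bcK k S Z₀).left := by
    haveI := geometricallyReduced_specMap_of_isSeparable (k := k) S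
    haveI := GeomRedPull.isReduced_pullback (specMap k S) Z₀.hom
    exact isReduced_of_isOpenImmersion (pullbackSymmetry Z₀.hom (specMap k S)).hom
  have hsq : IsPullback (F.map z₀).left (pullback.fst Z₀.hom (specMap k S)) π z₀.left := by
    refine IsPullback.of_right ?_ (pullback.lift_fst _ _ _) (IsPullback.of_hasPullback G.hom (specMap k S)).flip
    rw [show (F.map z₀).left ≫ pullback.snd G.hom (specMap k S) =
      pullback.snd Z₀.hom (specMap k S) from pullback.lift_snd _ _ _, Over.w z₀]
    exact (IsPullback.of_hasPullback Z₀.hom (specMap k S)).flip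
  haveI : IsClosedImmersion (F.map z₀).left :=
    MorphismProperty.of_isPullback (P := @IsClosedImmersion) hsq.flip inferInstance
  have hr : Set.range z.left = Set.range (F.map z₀).left := by
    rw [range_bcMap, hrange]
    refine Set.Subset.antisymm (Set.subset_preimage_image π _) ?_
    rintro y ⟨x, hx, hxy⟩
    obtain ⟨σ, hσ⟩ := GeomConn.exists_autMap_eq G.hom x y hxy
    exact hinv σ ⟨x, hx, hσ⟩
  obtain ⟨e₁, he₁⟩ := GrpField.SchImg.exists_iso_of_range_eq z.left (F.map z₀).left hr
  have hk : z.left.ker = z₀.left.ker.comap π := by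
    rw [← he₁, ← Scheme.IdealSheafData.ker_fst_of_isClosedImmersion z₀.left π,
      Scheme.Hom.ker_comp_of_isIso e₁.hom (F.map z₀).left, ← hsq.isoPullback_hom_fst]
    exact Scheme.Hom.ker_comp_of_isIso hsq.isoPullback.hom (pullback.fst π z₀.left)
  exact exists_desc_subgroup S z (by
    rw [hk]
    exact Scheme.IdealSheafData.comap_mono π (Scheme.IdealSheafData.le_map_comap _ _))

/-- Normality descends along a field extension. -/
theorem isNormalHom_of_bc (S : Type u) [Field S] [Algebra k S] {G L : Over (Spec (CommRingCat.of k))} [GrpObj G]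
    [GrpObj L] (l : L ⟶ G) [IsClosedImmersion l.left] {M : Over (Spec (CommRingCat.of S))} [GrpObj M]
    (e : M ≅ bcK k S L) (z : M ⟶ bcK k S G) (he : e.hom ≫ (Over.pullback (specMap k S)).map l = z)
    (hn : AlgGrp.IsNormalHom z) : AlgGrp.IsNormalHom l := by
  let F := Over.pullback (specMap k S)
  obtain ⟨w, hw⟩ := hn (F.obj (G ⊗ L)) (F.map (fst G L)) (F.map (snd G L) ≫ e.inv)
  obtain ⟨d, hd⟩ := exists_factor_of_bc S l (fst G L * (snd G L ≫ l) * (fst G L)⁻¹) (w ≫ e.hom) (by
    rw [Category.assoc, he, ← hw, ← he, Functor.map_mul, Functor.map_mul, bcMap_inv, Category.assoc,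
      Iso.inv_hom_id_assoc, F.map_comp])
  intro T g x
  refine ⟨lift g x ≫ d, ?_⟩
  rw [Category.assoc, hd, MonObj.comp_mul, MonObj.comp_mul, GrpObj.comp_inv, lift_fst, lift_snd_assoc]

variable {K S : Type u} [Field K] [Field S] [Algebra k K] [Algebra k S] [Algebra K S] [IsScalarTower k K S]

variable (k K S) in
/-- The projection of a base change to an intermediate level. -/
def midLevel (X : Over (Spec (CommRingCat.of k))) : (bcK k S X).left ⟶ (bcK k K X).left :=
  pullback.lift (pullback.fst X.hom (specMap k S)) (pullback.snd X.hom (specMap k S) ≫ specMap K S) (by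
    rw [pullback.condition, Category.assoc, ← Spec.map_comp, ← CommRingCat.ofHom_comp,
      ← IsScalarTower.algebraMap_eq])

@[reassoc]
theorem midLevel_fst (X : Over (Spec (CommRingCat.of k))) :
    midLevel k K S X ≫ pullback.fst X.hom (specMap k K) = pullback.fst X.hom (specMap k S) :=
  pullback.lift_fst _ _ _

@[reassoc]
theorem midLevel_snd (X : Over (Spec (CommRingCat.of k))) :
    midLevel k K S X ≫ pullback.snd X.hom (specMap k K) = pullback.snd X.hom (specMap k S) ≫ specMap K S :=
  pullback.lift_snd _ _ _

theorem isPullback_midLevel (X : Over (Spec (CommRingCat.of k))) :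
    IsPullback (midLevel k K S X) (pullback.snd X.hom (specMap k S)) (pullback.snd X.hom (specMap k K))
      (specMap K S) := by
  refine IsPullback.of_right ?_ (midLevel_snd X) (IsPullback.of_hasPullback X.hom (specMap k K))
  rw [midLevel_fst, ← Spec.map_comp, ← CommRingCat.ofHom_comp, ← IsScalarTower.algebraMap_eq]
  exact IsPullback.of_hasPullback X.hom (specMap k S)

variable (k K S) in
/-- The tower isomorphism of base changes. -/
def midMap : Over.pullback (specMap k S) ⟶ Over.pullback (specMap k K) ⋙ Over.pullback (specMap K S) where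
  app X := Over.homMk (pullback.lift (midLevel k K S X) (pullback.snd X.hom (specMap k S)) (midLevel_snd X))
    (pullback.lift_snd _ _ _)
  naturality X Y f := by
    apply Over.OverMorphism.ext
    apply pullback.hom_ext
    · apply pullback.hom_ext
      · simp [midLevel, Over.pullback]
      · simp [midLevel, Over.pullback]
    · simp [Over.pullback]

variable (k K S) in
/-- The tower map at one object. -/
abbrev midApp (G : Over (Spec (CommRingCat.of k))) : bcK k S G ⟶ bcK K S (bcK k K G) :=
  (midMap k K S).app G

theorem isMonHom_midApp (G : Over (Spec (CommRingCat.of k))) [GrpObj G] : IsMonHom (midApp k K S G) := by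
  let F := Over.pullback (specMap k S)
  let F₁ := Over.pullback (specMap k K)
  let F₂ := Over.pullback (specMap K S)
  have e : ∀ {T : Over (Spec (CommRingCat.of k))} (u : T ⟶ G),
      F.map u ≫ midApp k K S G = midApp k K S T ≫ F₂.map (F₁.map u) := fun u => (midMap k K S).naturality u
  have hm : ∀ {T : Over (Spec (CommRingCat.of k))} (a b : T ⟶ G),
      F.map (a * b) ≫ midApp k K S G = (F.map a ≫ midApp k K S G) * (F.map b ≫ midApp k K S G) := by
    intro T a b
    rw [e, e, e, Functor.map_mul, Functor.map_mul, MonObj.comp_mul]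
  have hμ : μ[G] = fst G G * snd G G := Eq.symm (by rw [Hom.mul_def, lift_fst_snd, Category.id_comp])
  have h1 := hm (1 : 𝟙_ _ ⟶ G) 1
  rw [_root_.mul_one, left_eq_mul] at h1
  have h2 := hm (fst G G) (snd G G)
  refine ⟨?_, ?_⟩
  · show (Functor.LaxMonoidal.ε F ≫ F.map η[G]) ≫ midApp k K S G = _
    rw [show η[G] = (1 : 𝟙_ _ ⟶ G) by rw [Hom.one_def, toUnit_unit, Category.id_comp], Category.assoc, h1,
      MonObj.comp_one, Hom.one_def, toUnit_unit, Category.id_comp]
  · show (Functor.LaxMonoidal.μ F G G ≫ F.map μ[G]) ≫ midApp k K S G = _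
    rw [hμ, Category.assoc, h2, MonObj.comp_mul]
    simp only [← Category.assoc, Functor.Monoidal.μ_fst, Functor.Monoidal.μ_snd]
    rw [Hom.mul_def]
    congr 1

theorem isIso_midApp (X : Over (Spec (CommRingCat.of k))) : IsIso (midApp k K S X) := by
  haveI : IsIso (midApp k K S X).left := by
    have h : (midApp k K S X).left = (isPullback_midLevel (K := K) (S := S) X).isoPullback.hom := by
      apply pullback.hom_ext
      · refine (pullback.lift_fst _ _ _).trans ?_; simp
      · refine (pullback.lift_snd _ _ _).trans ?_; simp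
    rw [h]; infer_instance
  haveI : IsIso ((Over.forget (Spec (CommRingCat.of S))).map (midApp k K S X)) := ‹IsIso (midApp k K S X).left›
  exact isIso_of_reflects_iso _ (Over.forget _)

set_option maxHeartbeats 1000000 in
/-- The largest smooth connected affine normal subgroup commutes with separable extensions. -/
theorem exists_factor_of_largest [Algebra.IsSeparable k S] [Normal k S]
    (G : Over (Spec (CommRingCat.of k))) [GrpObj G] [LocallyOfFiniteType G.hom] [QuasiCompact G.hom]
    (L : Over (Spec (CommRingCat.of k))) [GrpObj L] (l : L ⟶ G) [IsClosedImmersion l.left]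
    (hmax : ∀ (L' : Over (Spec (CommRingCat.of k))) [GrpObj L'] (l' : L' ⟶ G) [IsMonHom l'],
      IsClosedImmersion l'.left → Smooth L'.hom → ConnectedSpace L'.left → IsAffine L'.left →
      AlgGrp.IsNormalHom l' → ∃ f : L' ⟶ L, f ≫ l = l')
    (M : Over (Spec (CommRingCat.of K))) [GrpObj M] (m : M ⟶ bcK k K G) [IsMonHom m] [IsClosedImmersion m.left]
    [Smooth M.hom] [ConnectedSpace M.left] [IsAffine M.left] (hm : AlgGrp.IsNormalHom m) :
    ∃ f : M ⟶ bcK k K L, f ≫ (Over.pullback (specMap k K)).map l = m := by
  let F := Over.pullback (specMap k S)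
  let F₁ := Over.pullback (specMap k K)
  let GS := bcK k S G
  haveI : LocallyOfFiniteType GS.hom := inferInstanceAs (LocallyOfFiniteType (pullback.snd G.hom (specMap k S)))
  haveI : QuasiCompact GS.hom := inferInstanceAs (QuasiCompact (pullback.snd G.hom (specMap k S)))
  haveI : IsSeparated GS.hom := GrpField.isSeparated_hom GS
  haveI := GrpField.isClosedImmersion_eta GS
  obtain ⟨N, hN, j, hjm, hjc, hjs, hjcon, hjn, hja, hjmax, -⟩ := S8004.result S (fun E _ => IsAffine E.left)
    (fun N E Q _ _ _ _ _ _ _ _ _ i q _ _ _ _ hk hN hQ => (S7982.result S N E Q i q hk).1 hN hQ)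
    (fun E Q _ _ _ _ _ _ q _ _ _ hE => (S7983.result S E Q q).1 hE) GS
    ⟨𝟙_ _, inferInstance, η[GS], inferInstance, inferInstance, inferInstanceAs (Smooth (𝟙 (Spec (CommRingCat.of S)))),
      inferInstanceAs (ConnectedSpace (PrimeSpectrum S)), fun T g x => ⟨x, by
        rw [toUnit_unique x (toUnit T), ← Hom.one_def, _root_.mul_one, mul_inv_cancel]⟩,
      inferInstanceAs (IsAffine (Spec (CommRingCat.of S)))⟩
  haveI := hjm; haveI := hjc; haveI := hjs; haveI := hjcon; haveI : IsAffine N.left := hja
  haveI : AlgebraicGeometry.IsReduced N.left := SmoothRed.isReduced_of_smooth_scheme N.hom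
  -- stability under automorphisms
  have hinv : ∀ σ : S ≃ₐ[k] S, GeomConn.autMap G.hom σ '' Set.range j.left ⊆ Set.range j.left := by
    intro σ
    let F' := Over.pullback (specAut S σ.symm)
    let ν : F'.obj GS ≅ GS := (twistIso S σ.symm).app G
    haveI : IsMonHom ν.hom := isMonHom_twistIso S σ.symm G
    let h : F'.obj N ⟶ GS := F'.map j ≫ ν.hom
    haveI : IsMonHom h := inferInstanceAs (IsMonHom (F'.map j ≫ ν.hom : F'.obj N ⟶ GS))
    haveI : IsIso (pullback.fst N.hom (specAut S σ.symm)) := inferInstance
    haveI : Smooth (F'.obj N).hom := inferInstanceAs (Smooth (pullback.snd N.hom (specAut S σ.symm)))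
    haveI : IsAffine (F'.obj N).left := IsAffine.of_isIso (pullback.fst N.hom (specAut S σ.symm))
    haveI : ConnectedSpace (F'.obj N).left :=
      (inv (pullback.fst N.hom (specAut S σ.symm))).surjective.connectedSpace
        (inv (pullback.fst N.hom (specAut S σ.symm))).continuous
    have hc : IsClosedImmersion (F'.map j).left := by
      have hsq : IsPullback (F'.map j).left (pullback.fst N.hom (specAut S σ.symm))
          (pullback.fst GS.hom (specAut S σ.symm)) j.left := by
        refine IsPullback.of_right ?_ (pullback.lift_fst _ _ _) (IsPullback.of_hasPullback GS.hom _).flip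
        rw [show (F'.map j).left ≫ pullback.snd GS.hom _ = pullback.snd N.hom _ from pullback.lift_snd _ _ _, Over.w j]
        exact (IsPullback.of_hasPullback N.hom _).flip
      exact MorphismProperty.of_isPullback (P := @IsClosedImmersion) hsq.flip inferInstance
    haveI : IsIso ν.hom.left := inferInstanceAs (IsIso ((Over.forget _).map ν.hom))
    haveI : IsClosedImmersion h.left := by
      show IsClosedImmersion (F'.map j ≫ ν.hom).left
      rw [Over.comp_left]; infer_instance
    have hhn : AlgGrp.IsNormalHom h :=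
      isNormalHom_comp_iso _ ν (SubGen.isNormalHom_pullback (specAut S σ.symm) GS j hjn)
    obtain ⟨f, hf⟩ := hjmax (F'.obj N) h inferInstance inferInstance inferInstance hhn inferInstance
    have hsub : Set.range h.left ⊆ Set.range j.left := by
      rw [← hf]; rintro _ ⟨x, rfl⟩; exact ⟨_, rfl⟩
    have hcomp : h.left ≫ GeomConn.autMap G.hom σ.symm = pullback.fst N.hom (specAut S σ.symm) ≫ j.left := by
      rw [← twistIso_inv_fst S σ.symm G, ← Category.assoc]
      show ((h : F'.obj N ⟶ _).left ≫ ν.inv.left) ≫ _ = _
      rw [← Over.comp_left]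
      show ((F'.map j ≫ ν.hom) ≫ ν.inv).left ≫ _ = _
      rw [Category.assoc, ν.hom_inv_id]
      erw [Category.comp_id]
      exact pullback.lift_fst _ _ _
    rintro _ ⟨z, ⟨x, rfl⟩, rfl⟩
    obtain ⟨x', rfl⟩ := (pullback.fst N.hom (specAut S σ.symm)).surjective x
    have e := congrArg (fun φ => GeomConn.autMap G.hom σ (φ x')) hcomp
    simp only [Scheme.Hom.comp_apply] at e
    have e2 : GeomConn.autMap G.hom σ (GeomConn.autMap G.hom σ.symm (h.left x')) = h.left x' := by
      rw [← Scheme.Hom.comp_apply]
      have := GeomConn.autMap_comp G.hom σ.symm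
      rw [AlgEquiv.symm_symm] at this
      rw [this]; rfl
    exact Eq.mpr (congrArg (· ∈ Set.range j.left) (e.symm.trans e2)) (hsub ⟨x', rfl⟩)
  obtain ⟨N₀, hN₀, n₀, e, hnm, hem, hnc, he⟩ := exists_desc_galois S j hinv
  haveI := hnm; haveI := hem; haveI := hnc
  haveI : IsIso e.hom.left := inferInstanceAs (IsIso ((Over.forget _).map e.hom))
  haveI : IsIso e.inv.left := inferInstanceAs (IsIso ((Over.forget _).map e.inv))
  haveI : Flat (specMap k S) := AlgSpLib.flat_of_field _
  haveI : Surjective (specMap k S) :=
    ⟨fun _ => ⟨IsLocalRing.closedPoint S, Subsingleton.elim (α := PrimeSpectrum k) _ _⟩⟩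
  have hff : (@Surjective ⊓ @Flat ⊓ @QuasiCompact : MorphismProperty Scheme.{u}) (specMap k S) :=
    ⟨⟨inferInstance, inferInstance⟩, inferInstance⟩
  haveI : Smooth N₀.hom := MorphismProperty.of_pullback_snd_of_descendsAlong (P := @Smooth)
    (Q := @Surjective ⊓ @Flat ⊓ @QuasiCompact) (g := specMap k S) hff (by
      show Smooth (F.obj N₀).hom
      rw [← Over.w e.inv]; infer_instance)
  haveI : IsAffine N₀.left := by
    haveI : IsAffine (F.obj N₀).left := IsAffine.of_isIso e.inv.left
    haveI : IsAffineHom N₀.hom := MorphismProperty.of_pullback_snd_of_descendsAlong (P := @IsAffineHom)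
      (Q := @Surjective ⊓ @Flat ⊓ @QuasiCompact) (g := specMap k S) hff
      (isAffineHom_of_isAffine (F.obj N₀).hom)
    exact isAffine_of_isAffineHom N₀.hom
  haveI : ConnectedSpace N₀.left := by
    haveI : Surjective (pullback.fst N₀.hom (specMap k S)) := MorphismProperty.pullback_fst _ _ inferInstance
    haveI : Surjective (e.hom.left ≫ pullback.fst N₀.hom (specMap k S)) := inferInstance
    exact (e.hom.left ≫ pullback.fst N₀.hom (specMap k S)).surjective.connectedSpace
      (e.hom.left ≫ pullback.fst N₀.hom (specMap k S)).continuous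
  obtain ⟨f₀, hf₀⟩ := hmax N₀ n₀ hnc inferInstance inferInstance inferInstance
    (isNormalHom_of_bc S n₀ e j he hjn)
  -- the base change of the given subgroup
  let F₂ := Over.pullback (specMap K S)
  let MS := bcK K S M
  haveI := isIso_midApp (K := K) (S := S) G
  haveI := isMonHom_midApp (K := K) (S := S) G
  let τ := (asIso (midApp k K S G)).symm
  haveI : IsMonHom τ.hom := by
    haveI : IsMonHom (τ.hom ≫ midApp k K S G) := by
      rw [show τ.hom ≫ midApp k K S G = 𝟙 _ from τ.hom_inv_id]; infer_instance
    exact isMonHom_of_comp τ.hom (midApp k K S G)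
  haveI : IsIso τ.hom.left := inferInstanceAs (IsIso ((Over.forget _).map τ.hom))
  let mS : MS ⟶ GS := F₂.map m ≫ τ.hom
  haveI : Smooth MS.hom := inferInstanceAs (Smooth (pullback.snd M.hom (specMap K S)))
  haveI : IsAffine MS.left := isAffine_bcK S (X := M)
  haveI : ConnectedSpace MS.left := connectedSpace_bcK S (X := M)
  haveI : IsMonHom mS := inferInstanceAs (IsMonHom (F₂.map m ≫ τ.hom : MS ⟶ GS))
  have hsq : IsPullback (F₂.map m).left (pullback.fst M.hom (specMap K S))
      (pullback.fst (bcK k K G).hom (specMap K S)) m.left := by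
    refine IsPullback.of_right ?_ (pullback.lift_fst _ _ _) (IsPullback.of_hasPullback (bcK k K G).hom _).flip
    rw [show (F₂.map m).left ≫ pullback.snd (bcK k K G).hom _ = pullback.snd M.hom _ from pullback.lift_snd _ _ _,
      Over.w m]
    exact (IsPullback.of_hasPullback M.hom _).flip
  haveI : IsClosedImmersion (F₂.map m).left :=
    MorphismProperty.of_isPullback (P := @IsClosedImmersion) hsq.flip inferInstance
  haveI : IsClosedImmersion mS.left := by
    show IsClosedImmersion (F₂.map m ≫ τ.hom).left
    rw [Over.comp_left]; infer_instance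
  obtain ⟨g, hg⟩ := hjmax MS mS inferInstance inferInstance inferInstance
    (isNormalHom_comp_iso _ τ (SubGen.isNormalHom_pullback (specMap K S) (bcK k K G) m hm)) inferInstance
  haveI : AlgebraicGeometry.IsReduced M.left := SmoothRed.isReduced_of_smooth_scheme M.hom
  haveI : IsClosedImmersion ((F₁.map l).left) := by
    have hsq' : IsPullback (F₁.map l).left (pullback.fst L.hom (specMap k K))
        (pullback.fst G.hom (specMap k K)) l.left := by
      refine IsPullback.of_right ?_ (pullback.lift_fst _ _ _) (IsPullback.of_hasPullback G.hom _).flip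
      rw [show (F₁.map l).left ≫ pullback.snd G.hom _ = pullback.snd L.hom _ from pullback.lift_snd _ _ _, Over.w l]
      exact (IsPullback.of_hasPullback L.hom _).flip
    exact MorphismProperty.of_isPullback (P := @IsClosedImmersion) hsq'.flip inferInstance
  refine exists_lift_range m (F₁.map l) ?_
  rintro _ ⟨x, rfl⟩
  rw [range_bcMap]
  show pullback.fst G.hom (specMap k K) (m.left x) ∈ Set.range l.left
  obtain ⟨y, rfl⟩ := (pullback.fst M.hom (specMap K S)).surjective x
  have hτ : τ.hom.left ≫ midLevel k K S G = pullback.fst (bcK k K G).hom (specMap K S) := by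
    have h1 : (midApp k K S G).left ≫ pullback.fst (bcK k K G).hom (specMap K S) = midLevel k K S G :=
      pullback.lift_fst _ _ _
    rw [← h1, ← Category.assoc, ← Over.comp_left]
    show (inv (midApp k K S G) ≫ midApp k K S G).left ≫ _ = _
    rw [IsIso.inv_hom_id, Over.id_left, Category.id_comp]
  have h2 : (g ≫ e.hom ≫ F.map (f₀ ≫ l)).left ≫ pullback.fst G.hom (specMap k S) =
      pullback.fst M.hom (specMap K S) ≫ m.left ≫ pullback.fst G.hom (specMap k K) := by
    rw [hf₀, he, hg, ← midLevel_fst (K := K), ← hsq.w_assoc, ← hτ, Over.comp_left]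
    simp only [Category.assoc]
  have h3 : ((g ≫ e.hom ≫ F.map (f₀ ≫ l)).left ≫ pullback.fst G.hom (specMap k S)) y =
      l.left ((g.left ≫ e.hom.left ≫ pullback.fst N₀.hom (specMap k S) ≫ f₀.left) y) := by
    rw [Over.comp_left, Over.comp_left, Category.assoc, Category.assoc, bcMap_fst, Over.comp_left]
    simp only [Scheme.Hom.comp_apply]
  exact ⟨_, h3.symm.trans (congrArg (fun φ : MS.left ⟶ G.left => φ y) h2)⟩

/-- The largest smooth connected affine normal subgroup commutes with every separable algebraic extension. -/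
theorem exists_factor_of_largest_separable {K : Type u} [Field K] [Algebra k K] [Algebra.IsSeparable k K]
    (G : Over (Spec (CommRingCat.of k))) [GrpObj G] [LocallyOfFiniteType G.hom] [QuasiCompact G.hom]
    (L : Over (Spec (CommRingCat.of k))) [GrpObj L] (l : L ⟶ G) [IsClosedImmersion l.left]
    (hmax : ∀ (L' : Over (Spec (CommRingCat.of k))) [GrpObj L'] (l' : L' ⟶ G) [IsMonHom l'],
      IsClosedImmersion l'.left → Smooth L'.hom → ConnectedSpace L'.left → IsAffine L'.left →
      AlgGrp.IsNormalHom l' → ∃ f : L' ⟶ L, f ≫ l = l')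
    (M : Over (Spec (CommRingCat.of K))) [GrpObj M] (m : M ⟶ bcK k K G) [IsMonHom m] [IsClosedImmersion m.left]
    [Smooth M.hom] [ConnectedSpace M.left] [IsAffine M.left] (hm : AlgGrp.IsNormalHom m) :
    ∃ f : M ⟶ bcK k K L, f ≫ (Over.pullback (specMap k K)).map l = m := by
  let Ω := AlgebraicClosure k
  let S := separableClosure k Ω
  let φ₀ : K →ₐ[k] Ω := IsAlgClosed.lift
  have hφ : ∀ x, φ₀ x ∈ S := fun x => mem_separableClosure_iff.2
    (show (minpoly k (φ₀ x)).Separable from (minpoly.algHom_eq φ₀ φ₀.injective x).symm ▸ Algebra.IsSeparable.isSeparable k x)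
  let φ : K →ₐ[k] S := φ₀.codRestrict S.toSubalgebra hφ
  letI : Algebra K S := φ.toRingHom.toAlgebra
  haveI : IsScalarTower k K S := IsScalarTower.of_algebraMap_eq fun a => (φ.commutes a).symm
  exact exists_factor_of_largest (S := S) G L l hmax M m hm

end Groth.Agent.Chev
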