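import Groth.Agent.Chev.CentDense

/-!
# An open set covered by the conjugates of the centralizer of a maximal torus
-/

set_option autoImplicit false
set_option backward.isDefEq.respectTransparency false

universe u

open CategoryTheory CategoryTheory.Limits MonoidalCategory CartesianMonoidalCategory MonObj GrpObj AlgebraicGeometry
open Groth.Agent.SubGen (rpt exists_rpt map_rpt rpt_injective rpt_mem_closedPoints)

noncomputable section

namespace Groth.Agent.Chev.Borel

variable {k : Type u} [Field k] [IsAlgClosed k]

/-- A rational point of a range lifts. -/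
theorem exists_rp_of_mem_range {Z W : Over (Spec (CommRingCat.of k))} [LocallyOfFiniteType Z.hom]
    [LocallyOfFiniteType W.hom] (f : Z ⟶ W) (w : RP W) (h : rpt w ∈ Set.range f.left) : ∃ z : RP Z, z ≫ f = w := by
  haveI : JacobsonSpace Z.left := LocallyOfFiniteType.jacobsonSpace Z.hom
  obtain ⟨y, hy⟩ := h
  obtain ⟨z, hz, hzc⟩ := nonempty_inter_closedPoints (Z := f.left ⁻¹' {rpt w}) ⟨y, hy⟩
    (((mem_closedPoints_iff.1 (rpt_mem_closedPoints w)).preimage f.left.continuous).isLocallyClosed)
  obtain ⟨q, rfl⟩ := exists_rpt hzc
  exact ⟨q, rpt_injective ((map_rpt f q).symm.trans hz)⟩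

/-- The range of a dominant morphism contains a nonempty open set. -/
theorem exists_open_subset_range {Z W : Over (Spec (CommRingCat.of k))} [LocallyOfFiniteType Z.hom]
    [LocallyOfFiniteType W.hom] [QuasiCompact Z.hom] [QuasiCompact W.hom] [IsSeparated W.hom]
    [IrreducibleSpace Z.left] [IrreducibleSpace W.left] (f : Z ⟶ W) (hd : DenseRange f.left) :
    ∃ U : W.left.Opens, (U : Set W.left).Nonempty ∧ (U : Set W.left) ⊆ Set.range f.left := by
  haveI : QuasiSeparatedSpace W.left := quasiSeparatedSpace_of_quasiSeparated W.hom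
  haveI : CompactSpace W.left := QuasiCompact.compactSpace_of_compactSpace W.hom
  haveI : LocallyOfFiniteType (f.left ≫ W.hom) := by rw [Over.w f]; infer_instance
  haveI : LocallyOfFiniteType f.left := locallyOfFiniteType_of_comp f.left W.hom
  haveI : QuasiCompact (f.left ≫ W.hom) := by rw [Over.w f]; infer_instance
  haveI : QuasiCompact f.left := QuasiCompact.of_comp f.left W.hom
  haveI : IsLocallyNoetherian W.left := LocallyOfFiniteType.isLocallyNoetherian W.hom
  have hc : Topology.IsConstructible (Set.range f.left) := by
    rw [← Set.image_univ]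
    exact f.left.isConstructible_image Topology.IsConstructible.univ
  have hg : genericPoint W.left ∈ Set.range f.left := by
    refine ⟨genericPoint Z.left, (IsGenericPoint.eq ?_ (genericPoint_spec W.left))⟩
    have h := (genericPoint_spec Z.left).image f.left.continuous
    rwa [Set.image_univ, hd.closure_eq] at h
  exact ⟨⟨interior (Set.range f.left), isOpen_interior⟩, DimField.interior_nonempty_of_genericPoint_mem hc hg,
    interior_subset⟩

/-- The conjugates of the centralizer of a maximal torus cover an open set. -/
theorem exists_open_conj {G T C : Over (Spec (CommRingCat.of k))} [GrpObj G] [GrpObj T] [GrpObj C] [IsAffine G.left]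
    [Smooth G.hom] [ConnectedSpace G.left] (iT : T ⟶ G) (hT : AGF.IsMaxTorus iT) (c : C ⟶ G)
    (hc : Red.IsCentralizerOf iT c) :
    ∃ U : G.left.Opens, (U : Set G.left).Nonempty ∧
      ∀ x : RP G, rpt x ∈ U → ∃ (g : RP G) (y : RP C), g * (y ≫ c) * g⁻¹ = x := by
  obtain ⟨hs, haff, hcl, hconn, -⟩ := centralizer_maxTorus iT hT c hc
  haveI := hs; haveI := haff; haveI := hcl; haveI := hconn
  haveI : GeometricallyIrreducible G.hom := GrpField.geometricallyIrreducible_of_connected G
  haveI : IrreducibleSpace C.left := GrpField.irreducibleSpace_of_nhds (GrpField.exists_irreducible_nhd C)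
  haveI : IrreducibleSpace G.left := GrpField.irreducibleSpace_of_nhds (GrpField.exists_irreducible_nhd G)
  haveI : IrreducibleSpace (G ⊗ C).left := by
    haveI : GeometricallyIrreducible (pullback.snd G.hom C.hom) :=
      MorphismProperty.pullback_snd (P := @GeometricallyIrreducible) _ _ ‹_›
    exact GeometricallyIrreducible.irreducibleSpace (pullback.snd G.hom C.hom)
      (pullback.snd G.hom C.hom).isOpenMap
  haveI : QuasiCompact (G ⊗ C).hom := by
    show QuasiCompact (pullback.fst G.hom C.hom ≫ G.hom)
    infer_instance
  haveI : LocallyOfFiniteType (G ⊗ C).hom := by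
    show LocallyOfFiniteType (pullback.fst G.hom C.hom ≫ G.hom)
    infer_instance
  obtain ⟨U, hUn, hU⟩ := exists_open_subset_range (conjMap c) (denseRange_conjMap iT hT c hc)
  refine ⟨U, hUn, fun x hx => ?_⟩
  obtain ⟨z, hz⟩ := exists_rp_of_mem_range (conjMap c) x (hU hx)
  exact ⟨z ≫ fst G C, z ≫ snd G C, by rw [← rp_conjMap, hz]⟩

end Groth.Agent.Chev.Borel
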