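import Groth.Agent.GrpField.SchImg
import Groth.Prelude.Def_Red
import Mathlib.CategoryTheory.Monoidal.Cartesian.Over

/-!
# Base change of kernels
-/

set_option autoImplicit false
set_option backward.isDefEq.respectTransparency false
universe u

open CategoryTheory Limits MonoidalCategory CartesianMonoidalCategory MonObj GrpObj AlgebraicGeometry
open AlgGrp
open scoped CategoryTheory.Obj

noncomputable section

namespace Groth.Agent.Chev

theorem bc_map_one {S S' : Scheme.{u}} (f : S' ⟶ S) {A B : Over S} [GrpObj B] :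
    (Over.pullback f).map (1 : A ⟶ B) = 1 := by
  have h := Functor.map_mul (Over.pullback f) (1 : A ⟶ B) 1
  rw [_root_.mul_one, left_eq_mul] at h
  exact h

/-- Kernels commute with base change. -/
theorem isKernel_bc {S S' : Scheme.{u}} (f : S' ⟶ S) {N G Q : Over S} [GrpObj Q] (i : N ⟶ G) (q : G ⟶ Q) [Mono i]
    (hk : AlgGrp.IsKernel i q) :
    AlgGrp.IsKernel ((Over.pullback f).map i) ((Over.pullback f).map q) := by
  let F := Over.pullback f
  haveI : Mono (F.map i) := inferInstance
  have h := hk.map F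
  have e₂ : ∀ {T : Over S'} (z : T ⟶ F.obj (𝟙_ _)), z ≫ F.map η[Q] = 1 := fun z => by
    rw [show η[Q] = (1 : 𝟙_ _ ⟶ Q) by rw [Hom.one_def, toUnit_unit, Category.id_comp], bc_map_one, MonObj.comp_one]
  refine IsPullback.mk' ?_ (fun T φ φ' e₁ _ => (cancel_mono (F.map i)).1 e₁) fun T a b hab => ?_
  · rw [← F.map_comp, hk.w, show toUnit N ≫ η[Q] = (1 : N ⟶ Q) from Hom.one_def.symm, bc_map_one]
    exact Hom.one_def
  · have hu' : a ≫ F.map q = (toUnit T ≫ Functor.LaxMonoidal.ε F) ≫ F.map η[Q] := by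
      rw [e₂, hab, toUnit_unique b (toUnit T), Hom.one_def]
    exact ⟨h.lift a _ hu', h.lift_fst _ _ _, toUnit_unique _ _⟩

end Groth.Agent.Chev
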