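import Groth.Agent.Chev.FrobTwist
import Groth.Agent.Chev.LevelDesc
import Groth.Agent.GrpField.SchImg

/-!
# Frobenius pullback of a subgroup along a purely inseparable extension
-/

set_option autoImplicit false
set_option backward.isDefEq.respectTransparency false

universe u

open CategoryTheory CategoryTheory.Limits MonoidalCategory CartesianMonoidalCategory MonObj GrpObj AlgebraicGeometry
open scoped CategoryTheory.Obj
open FrobSch

noncomputable section

namespace Groth.Agent.Chev

open AVDeg (bcK specMap)
open WeilLib (frobPow frobPow_comp frobPow_Spec frobPow_apply)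

variable {k K : Type u} [Field k] [Field K] [Algebra k K] {p : ℕ} [Fact p.Prime] [CharP k p]
  {n : ℕ} {ψ : K →+* k} (hψ : IsFrobRetract p n ψ)

/-- A retraction up to Frobenius also gives a Frobenius of the extension. -/
theorem algebraMap_retract [IsPurelyInseparable k K] (hψ : IsFrobRetract p n ψ) (x : K) :
    algebraMap k K (ψ x) = x ^ p ^ n := by
  haveI : ExpChar k p := ExpChar.prime Fact.out
  haveI : CharP K p := charP_of_injective_algebraMap (algebraMap k K).injective p
  haveI : ExpChar K p := ExpChar.prime Fact.out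
  obtain ⟨N, a, ha⟩ := IsPurelyInseparable.pow_mem k p x
  apply iterateFrobenius_inj K p N
  simp only [iterateFrobenius_def]
  rw [← map_pow, ← map_pow, ← ha, hψ a, map_pow, ha, ← pow_mul, ← pow_mul, mul_comm]


theorem specMap_comp_twist [ExpChar K p] [IsPurelyInseparable k K]
    [IsCharP (Spec (CommRingCat.of K)) p] (hψ : IsFrobRetract p n ψ) :
    specMap k K ≫ Spec.map (CommRingCat.ofHom ψ) = frobPow p (Spec (CommRingCat.of K)) n := by
  rw [frobPow_Spec p K n, ← Spec.map_comp, ← CommRingCat.ofHom_comp]
  congr 2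
  exact RingHom.ext fun x => (algebraMap_retract hψ x).trans (iterateFrobenius_def p n x).symm

include hψ in
/-- The relative Frobenius of a scheme over the extension into the base change of its twist. -/
theorem exists_frobFrom [IsPurelyInseparable k K] (Z : Over (Spec (CommRingCat.of K))) [IsCharP Z.left p] :
    ∃ φ : Z ⟶ bcK k K ((twistFun ψ).obj Z),
      φ.left ≫ pullback.fst ((twistFun ψ).obj Z).hom (specMap k K) ≫ pullback.fst Z.hom (Spec.map (CommRingCat.ofHom ψ)) =
          frobPow p Z.left n ∧
        φ.left ≫ pullback.fst ((twistFun ψ).obj Z).hom (specMap k K) ≫ pullback.snd Z.hom (Spec.map (CommRingCat.ofHom ψ)) =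
          Z.hom ≫ specMap k K := by
  haveI : CharP K p := charP_of_injective_algebraMap (algebraMap k K).injective p
  haveI : ExpChar K p := ExpChar.prime Fact.out
  haveI : IsCharP (Spec (CommRingCat.of K)) p := IsCharP.of_hom (specMap k K) p
  let w := pullback.lift (f := Z.hom) (g := Spec.map (CommRingCat.ofHom ψ)) (frobPow p Z.left n) (Z.hom ≫ specMap k K) (by
    rw [Category.assoc, specMap_comp_twist hψ, frobPow_comp])
  refine ⟨Over.homMk (pullback.lift w Z.hom (pullback.lift_snd _ _ _)) (pullback.lift_snd _ _ _), ?_, ?_⟩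
  · exact (pullback.lift_fst_assoc _ _ _ _).trans (pullback.lift_fst _ _ _)
  · exact (pullback.lift_fst_assoc _ _ _ _).trans (pullback.lift_snd _ _ _)

include hψ in
/-- The projection from the base change along a purely inseparable extension is injective. -/
theorem injective_fst_bcK [IsPurelyInseparable k K] (H : Over (Spec (CommRingCat.of k))) :
    Function.Injective (pullback.fst H.hom (specMap k K)) := by
  haveI : CharP K p := charP_of_injective_algebraMap (algebraMap k K).injective p
  haveI : ExpChar K p := ExpChar.prime Fact.out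
  haveI : IsCharP (Spec (CommRingCat.of K)) p := IsCharP.of_hom (specMap k K) p
  haveI : IsCharP H.left p := IsCharP.of_hom H.hom p
  haveI : IsCharP (bcK k K H).left p := IsCharP.of_hom (pullback.fst H.hom (specMap k K)) p
  haveI : IsCharP (pullback H.hom (specMap k K)) p := ‹IsCharP (bcK k K H).left p›
  have h : pullback.fst H.hom (specMap k K) ≫ toBase p n ψ hψ H = frobPow p (pullback H.hom (specMap k K)) n := by
    apply pullback.hom_ext
    · rw [Category.assoc, toBase_fst, frobPow_comp]
    · rw [Category.assoc, toBase_snd, frobPow_comp, pullback.condition_assoc, specMap_comp_twist hψ]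
  intro a b hab
  have := congrArg (toBase p n ψ hψ H) hab
  rw [← Scheme.Hom.comp_apply, ← Scheme.Hom.comp_apply, h] at this
  exact (frobPow_apply p n a).symm.trans (this.trans (frobPow_apply p n b))

/-- Naturality of the two relative Frobenius maps. -/
theorem frobFrom_natural [IsPurelyInseparable k K] (G : Over (Spec (CommRingCat.of k)))
    (H' : Over (Spec (CommRingCat.of K))) [IsCharP H'.left p] (h' : H' ⟶ bcK k K G)
    (φ : H' ⟶ bcK k K ((twistFun ψ).obj H'))
    (hφ₁ : φ.left ≫ pullback.fst ((twistFun ψ).obj H').hom (specMap k K) ≫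
      pullback.fst H'.hom (Spec.map (CommRingCat.ofHom ψ)) = frobPow p H'.left n)
    (hφ₂ : φ.left ≫ pullback.fst ((twistFun ψ).obj H').hom (specMap k K) ≫
      pullback.snd H'.hom (Spec.map (CommRingCat.ofHom ψ)) = H'.hom ≫ specMap k K) :
    h' ≫ (Over.pullback (specMap k K)).map (frobToApp hψ G) =
      φ ≫ (Over.pullback (specMap k K)).map ((twistFun ψ).map h') := by
  haveI : CharP K p := charP_of_injective_algebraMap (algebraMap k K).injective p
  haveI : ExpChar K p := ExpChar.prime Fact.out
  haveI : IsCharP (Spec (CommRingCat.of K)) p := IsCharP.of_hom (specMap k K) p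
  haveI : IsCharP G.left p := IsCharP.of_hom G.hom p
  let z := (twistFun ψ).map h'
  let f := frobToApp hψ G
  have hzfst : z.left ≫ pullback.fst (bcK k K G).hom (Spec.map (CommRingCat.ofHom ψ)) =
      pullback.fst H'.hom (Spec.map (CommRingCat.ofHom ψ)) ≫ h'.left := pullback.lift_fst _ _ _
  have hzsnd : z.left ≫ pullback.snd (bcK k K G).hom (Spec.map (CommRingCat.ofHom ψ)) =
      pullback.snd H'.hom (Spec.map (CommRingCat.ofHom ψ)) := pullback.lift_snd _ _ _
  have hfsnd : f.left ≫ pullback.snd (bcK k K G).hom (Spec.map (CommRingCat.ofHom ψ)) = G.hom :=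
    pullback.lift_snd _ _ _
  have hsnd : h'.left ≫ pullback.snd G.hom (specMap k K) = H'.hom := Over.w h'
  have hG : h'.left ≫ pullback.fst G.hom (specMap k K) ≫ G.hom = H'.hom ≫ specMap k K := by
    rw [pullback.condition, ← Category.assoc, hsnd]
  have key : h'.left ≫ pullback.fst G.hom (specMap k K) ≫ f.left =
      φ.left ≫ pullback.fst ((twistFun ψ).obj H').hom (specMap k K) ≫ z.left := by
    refine pullback.hom_ext ?_ ?_
    · simp only [Category.assoc]
      rw [hzfst, reassoc_of% hφ₁, frobTo_app_fst hψ G]
      refine pullback.hom_ext ?_ ?_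
      · simp only [Category.assoc]
        rw [toBase_fst hψ G]
        calc h'.left ≫ pullback.fst G.hom (specMap k K) ≫ frobPow p G.left n
            = (h'.left ≫ pullback.fst G.hom (specMap k K)) ≫ frobPow p G.left n := (Category.assoc _ _ _).symm
          _ = frobPow p H'.left n ≫ h'.left ≫ pullback.fst G.hom (specMap k K) := (frobPow_comp p _ n).symm
      · simp only [Category.assoc]
        rw [toBase_snd hψ G, reassoc_of% hG, specMap_comp_twist hψ]
        calc H'.hom ≫ frobPow p (Spec (CommRingCat.of K)) n
            = frobPow p H'.left n ≫ H'.hom := (frobPow_comp p _ n).symm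
          _ = _ := by rw [hsnd]
    · simp only [Category.assoc]
      rw [hfsnd, hzsnd, hG, hφ₂]
  apply Over.OverMorphism.ext
  refine pullback.hom_ext ?_ ?_
  · rw [Over.comp_left, Over.comp_left, Category.assoc, Category.assoc]
    refine Eq.trans ?_ (key.trans ?_)
    · exact congrArg (h'.left ≫ ·) (bcMap_fst K f)
    · exact congrArg (φ.left ≫ ·) (bcMap_fst K z).symm
  · exact (Over.w (h' ≫ (Over.pullback (specMap k K)).map f)).trans
      (Over.w (φ ≫ (Over.pullback (specMap k K)).map z)).symm

set_option maxHeartbeats 1000000 in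
/-- The Frobenius pullback of a closed subgroup. -/
theorem exists_frob_pullback (p : ℕ) [Fact p.Prime] [CharP k p] [IsPurelyInseparable k K] [FiniteDimensional k K]
    (G : Over (Spec (CommRingCat.of k))) [GrpObj G]
    (H' : Over (Spec (CommRingCat.of K))) [GrpObj H'] (h' : H' ⟶ bcK k K G) [IsMonHom h']
    [IsClosedImmersion h'.left] :
    ∃ (H : Over (Spec (CommRingCat.of k))) (_ : GrpObj H) (h : H ⟶ G), IsMonHom h ∧ IsClosedImmersion h.left ∧
      ∃ g : H' ⟶ bcK k K H, g ≫ (Over.pullback (specMap k K)).map h = h' ∧ Surjective g.left := by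
  haveI : ExpChar k p := ExpChar.prime Fact.out
  haveI : CharP K p := charP_of_injective_algebraMap (algebraMap k K).injective p
  haveI : ExpChar K p := ExpChar.prime Fact.out
  obtain ⟨n, hn⟩ := exists_isFrobRetract (k := k) (K := K) p
  obtain ⟨ψ, hψ⟩ := hn n le_rfl
  let F := Over.pullback (specMap k K)
  let T := twistFun ψ
  let f := frobToApp hψ G
  haveI : IsMonHom f := isMonHom_frobToApp hψ G
  let z := T.map h'
  haveI : IsMonHom z := inferInstance
  haveI hzc : IsClosedImmersion z.left := by
    have hsq : IsPullback z.left (pullback.fst H'.hom (Spec.map (CommRingCat.ofHom ψ)))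
        (pullback.fst (bcK k K G).hom (Spec.map (CommRingCat.ofHom ψ))) h'.left := by
      refine IsPullback.of_right ?_ (pullback.lift_fst _ _ _) (IsPullback.of_hasPullback (bcK k K G).hom _).flip
      rw [show z.left ≫ pullback.snd (bcK k K G).hom _ = pullback.snd H'.hom _ from pullback.lift_snd _ _ _, Over.w h']
      exact (IsPullback.of_hasPullback H'.hom _).flip
    exact MorphismProperty.of_isPullback (P := @IsClosedImmersion) hsq.flip inferInstance
  let H : Over (Spec (CommRingCat.of k)) := Over.mk (pullback.fst f.left z.left ≫ G.hom)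
  let a : H ⟶ G := Over.homMk (pullback.fst f.left z.left) rfl
  let b : H ⟶ T.obj H' := Over.homMk (pullback.snd f.left z.left) (by
    show pullback.snd f.left z.left ≫ (T.obj H').hom = pullback.fst f.left z.left ≫ G.hom
    rw [← Over.w z, ← pullback.condition_assoc, Over.w f])
  have hab : a ≫ f = b ≫ z := Over.OverMorphism.ext pullback.condition
  haveI : IsClosedImmersion a.left := inferInstanceAs (IsClosedImmersion (pullback.fst f.left z.left))
  have hlift : ∀ {S : Over (Spec (CommRingCat.of k))} (x : S ⟶ G) (y : S ⟶ T.obj H'), x ≫ f = y ≫ z →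
      ∃ w : S ⟶ H, w ≫ a = x ∧ w ≫ b = y := fun {S} x y h =>
    ⟨Over.homMk (pullback.lift x.left y.left (congrArg (fun φ => φ.left) h)) (by
      show pullback.lift _ _ _ ≫ pullback.fst _ _ ≫ G.hom = _
      rw [pullback.lift_fst_assoc, Over.w]),
      Over.OverMorphism.ext (pullback.lift_fst _ _ _), Over.OverMorphism.ext (pullback.lift_snd _ _ _)⟩
  obtain ⟨hH, hHm⟩ := GrpField.SchImg.exists_grpObj_of_div a
    (by
      obtain ⟨w, hw, -⟩ := hlift η[G] η[T.obj H'] (by rw [IsMonHom.one_hom, IsMonHom.one_hom])
      exact ⟨w, hw⟩)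
    fun S x y => by
      obtain ⟨w, hw, -⟩ := hlift ((x ≫ a)⁻¹ * (y ≫ a)) ((x ≫ b)⁻¹ * (y ≫ b)) (by
        simp only [MonObj.mul_comp, GrpObj.inv_comp, Category.assoc, hab])
      exact ⟨w, hw⟩
  letI : GrpObj H := hH
  -- the base change
  have hpb : IsPullback a b f z := by
    refine ⟨⟨hab⟩, ⟨PullbackCone.IsLimit.mk hab (fun s => (hlift s.fst s.snd s.condition).choose)
      (fun s => (hlift s.fst s.snd s.condition).choose_spec.1)
      (fun s => (hlift s.fst s.snd s.condition).choose_spec.2) ?_⟩⟩
    intro s m hm₁ hm₂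
    apply Over.OverMorphism.ext
    apply pullback.hom_ext
    · exact (congrArg (fun φ => φ.left) hm₁).trans
        (congrArg (fun φ => φ.left) (hlift s.fst s.snd s.condition).choose_spec.1).symm
    · exact (congrArg (fun φ => φ.left) hm₂).trans
        (congrArg (fun φ => φ.left) (hlift s.fst s.snd s.condition).choose_spec.2).symm
  haveI : IsCharP (Spec (CommRingCat.of K)) p := IsCharP.of_hom (specMap k K) p
  haveI : IsCharP H'.left p := IsCharP.of_hom H'.hom p
  haveI : IsCharP (bcK k K G).left p := IsCharP.of_hom (bcK k K G).hom p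
  haveI : IsCharP G.left p := IsCharP.of_hom G.hom p
  obtain ⟨φ, hφ₁, hφ₂⟩ := exists_frobFrom hψ H'
  have hzfst : z.left ≫ pullback.fst (bcK k K G).hom (Spec.map (CommRingCat.ofHom ψ)) =
      pullback.fst H'.hom (Spec.map (CommRingCat.ofHom ψ)) ≫ h'.left := pullback.lift_fst _ _ _
  have hzsnd : z.left ≫ pullback.snd (bcK k K G).hom (Spec.map (CommRingCat.ofHom ψ)) =
      pullback.snd H'.hom (Spec.map (CommRingCat.ofHom ψ)) := pullback.lift_snd _ _ _
  have key : h' ≫ F.map f = φ ≫ F.map z := frobFrom_natural hψ G H' h' φ hφ₁ hφ₂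
  have hFpb := hpb.map F
  let g : H' ⟶ F.obj H := hFpb.lift h' φ key
  have hg : g ≫ F.map a = h' := hFpb.lift_fst _ _ _
  refine ⟨H, hH, a, hHm, inferInstance, g, hg, ⟨fun y => ?_⟩⟩
  let x := pullback.fst H.hom (specMap k K) y
  obtain ⟨w, hw⟩ : toBase p n ψ hψ G (a.left x) ∈ Set.range h'.left := by
    refine ⟨pullback.fst H'.hom (Spec.map (CommRingCat.ofHom ψ)) (b.left x), ?_⟩
    have e : b.left ≫ pullback.fst H'.hom (Spec.map (CommRingCat.ofHom ψ)) ≫ h'.left =
        a.left ≫ toBase p n ψ hψ G := by
      rw [← hzfst, ← frobTo_app_fst hψ G, ← Category.assoc, ← Category.assoc]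
      exact congrArg (· ≫ pullback.fst (bcK k K G).hom (Spec.map (CommRingCat.ofHom ψ)))
        (congrArg (fun φ => φ.left) hab).symm
    exact congrArg (fun φ : H.left ⟶ (bcK k K G).left => φ x) e
  refine ⟨w, injective_fst_bcK hψ H (a.left.isClosedEmbedding.injective ?_)⟩
  have e1 : g.left ≫ pullback.fst H.hom (specMap k K) ≫ a.left = h'.left ≫ pullback.fst G.hom (specMap k K) := by
    rw [← hg, ← bcMap_fst K a, Over.comp_left, Category.assoc]
  refine (congrArg (fun φ : H'.left ⟶ G.left => φ w) e1).trans ?_
  show pullback.fst G.hom (specMap k K) (h'.left w) = a.left x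
  rw [hw]
  refine (congrArg (fun φ : G.left ⟶ G.left => φ (a.left x)) (toBase_fst hψ G)).trans ?_
  exact frobPow_apply p n _

end Groth.Agent.Chev
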