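import Groth.Agent.Chev.SubvarMap
import Groth.Agent.S14584
import Groth.Agent.S0383
import Groth.Agent.AVDeg.Pow
import Groth.Agent.AdjRep.KerObj
import Groth.Agent.GrpField.SurjSmooth
import Groth.Agent.GrpBasic.Perfect
import Groth.Agent.Assoc.Reduced

/-!
# Almost complements of abelian subvarieties
-/

set_option autoImplicit false
set_option backward.isDefEq.respectTransparency false

universe u

open CategoryTheory CategoryTheory.Limits MonoidalCategory CartesianMonoidalCategory MonObj GrpObj AlgebraicGeometry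

noncomputable section

namespace Groth.Agent.Chev

variable {k : Type u} [Field k] {G A N : Over (Spec (CommRingCat.of k))}

/-- A morphism from a reduced scheme landing in a closed subscheme factors through it. -/
theorem exists_lift_range {X Y Z : Over (Spec (CommRingCat.of k))} [IsReduced X.left] (f : X ⟶ Y) (i : Z ⟶ Y)
    [IsClosedImmersion i.left] (h : Set.range f.left ⊆ Set.range i.left) : ∃ g : X ⟶ Z, g ≫ i = f := by
  haveI : Surjective (pullback.fst f.left i.left) := ⟨fun x => by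
    have : x ∈ Set.range (pullback.fst f.left i.left) := by
      rw [Scheme.Pullback.range_fst]; exact h ⟨x, rfl⟩
    exact this⟩
  haveI := isIso_of_isClosedImmersion_of_surjective (pullback.fst f.left i.left)
  let g := inv (pullback.fst f.left i.left) ≫ pullback.snd f.left i.left
  have hg : g ≫ i.left = f.left := by rw [Category.assoc, ← pullback.condition, IsIso.inv_hom_id_assoc]
  exact ⟨Over.homMk g (by rw [← Over.w i, ← Category.assoc, hg, Over.w f]), Over.OverMorphism.ext hg⟩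

/-- A retraction up to a positive power. -/
theorem exists_retraction [GrpObj G] [GrpObj A] [LocallyOfFiniteType G.hom] [QuasiCompact G.hom] [Smooth G.hom]
    [ConnectedSpace G.left] (i : A ⟶ G) [IsMonHom i] [IsClosedImmersion i.left] [Smooth A.hom]
    [ConnectedSpace A.left] [IsProper A.hom] :
    ∃ (r : G ⟶ A) (n : ℕ), 0 < n ∧ IsMonHom r ∧ i ≫ r = 𝟙 A ^ n := by
  haveI hA := geometricallyIntegral_of_group (A := A)
  haveI : IsCommMonObj A := isCommMonObj_of_isProper_of_geometricallyIntegral A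
  haveI := geometricallyIntegral_of_group (A := G)
  haveI : IsSeparated G.hom := GrpField.isSeparated_hom G
  obtain ⟨φ, n, hn, hφ⟩ := exists_map_mul_pow i
  let r : G ⟶ A := φ * ((1 : G ⟶ G) ≫ φ)⁻¹
  have hr : ∀ {T : Over (Spec (CommRingCat.of k))} (g : T ⟶ G), g ≫ r = (g ≫ φ) * ((1 : T ⟶ G) ≫ φ)⁻¹ := by
    intro T g
    rw [MonObj.comp_mul, GrpObj.comp_inv, ← Category.assoc, MonObj.comp_one]
  have h1 : ∀ {T : Over (Spec (CommRingCat.of k))}, (1 : T ⟶ G) ≫ r = 1 := by
    intro T; rw [hr, mul_inv_cancel]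
  have hmul := Groth.Agent.S14584.result k G G A η η (μ[G] ≫ r)
  have hη : lift η[G] η[G] ≫ μ[G] = (1 : 𝟙_ _ ⟶ G) := by
    rw [← Hom.mul_def, show η[G] = (1 : 𝟙_ _ ⟶ G) by rw [Hom.one_def, toUnit_unit, Category.id_comp], _root_.mul_one]
  have hl : lift (toUnit G ≫ η[G]) (𝟙 G) ≫ μ[G] = 𝟙 G := by rw [← Hom.mul_def, ← Hom.one_def, _root_.one_mul]
  have hr' : lift (𝟙 G) (toUnit G ≫ η[G]) ≫ μ[G] = 𝟙 G := by rw [← Hom.mul_def, ← Hom.one_def, _root_.mul_one]
  rw [reassoc_of% hη, reassoc_of% hl, reassoc_of% hr', h1, MonObj.comp_one, inv_one, _root_.one_mul,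
    _root_.mul_comm] at hmul
  refine ⟨r, n, hn, ⟨?_, ?_⟩, ?_⟩
  · rw [show η[G] = (1 : 𝟙_ _ ⟶ G) by rw [Hom.one_def, toUnit_unit, Category.id_comp], h1, Hom.one_def,
      toUnit_unit, Category.id_comp]
  · rw [hmul, Hom.mul_def]
    congr 1
  · have h := hφ A 1 (𝟙 A)
    rw [_root_.one_mul, Category.id_comp] at h
    rw [hr, h, _root_.mul_right_comm, mul_inv_cancel, _root_.one_mul]

/-- An abelian subvariety of a connected group is central. -/
theorem commute_abelianSubvariety [GrpObj G] [GrpObj A] [LocallyOfFiniteType G.hom] [ConnectedSpace G.left]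
    (i : A ⟶ G) [IsMonHom i] [Smooth A.hom] [ConnectedSpace A.left] [IsProper A.hom]
    {T : Over (Spec (CommRingCat.of k))} (a : T ⟶ A) (g : T ⟶ G) : g * (a ≫ i) = (a ≫ i) * g := by
  haveI : IsSeparated G.hom := GrpField.isSeparated_hom G
  haveI : Subsingleton (Spec (CommRingCat.of k)) := inferInstanceAs (Subsingleton (PrimeSpectrum k))
  haveI : GeometricallyConnected A.hom :=
    Groth.Agent.Rigid.geometricallyConnected_of_section A.hom η[A].left (Over.w η[A])
  have hg := Groth.Agent.Rigid.goodFibres_of_smooth A.hom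
  let φ : A ⊗ G ⟶ G := snd A G * (fst A G ≫ i) * (snd A G)⁻¹ * (fst A G ≫ i)⁻¹
  have hφ : φ = toUnit (A ⊗ G) ≫ (1 : 𝟙_ (Over (Spec (CommRingCat.of k))) ⟶ G) := by
    refine Groth.Agent.Rigid.eq_const_of_axes hg 1 1 (fun s => ?_) φ 1 ?_ ?_
    · rw [show G.hom ⁻¹' {s} = Set.univ from Set.eq_univ_of_forall fun x => Subsingleton.elim _ _]
      exact isPreconnected_univ
    · simp only [φ, MonObj.comp_mul, GrpObj.comp_inv, MonObj.comp_one, lift_fst_assoc, lift_snd, Category.id_comp]
      simp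
    · simp only [φ, MonObj.comp_mul, GrpObj.comp_inv, MonObj.comp_one, lift_fst_assoc, lift_snd]
      simp
  have h := congrArg (lift a g ≫ ·) hφ
  simp only [φ, MonObj.comp_mul, GrpObj.comp_inv, MonObj.comp_one, lift_fst_assoc, lift_snd] at h
  exact mul_inv_eq_one.1 (by rwa [_root_.mul_inv_rev, ← _root_.mul_assoc])

theorem comp_tensor_mul [GrpObj G] (i : A ⟶ G) (j : N ⟶ G) {T : Over (Spec (CommRingCat.of k))} (p : T ⟶ A ⊗ N) :
    p ≫ (i ⊗ₘ j) ≫ μ[G] = ((p ≫ fst A N) ≫ i) * ((p ≫ snd A N) ≫ j) := by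
  rw [Hom.mul_def, ← Category.assoc]
  congr 1
  apply CartesianMonoidalCategory.hom_ext <;> simp

/-- Multiplication of two commuting subgroups is a homomorphism. -/
theorem isMonHom_tensor_mul [GrpObj G] [GrpObj A] [GrpObj N] (i : A ⟶ G) [IsMonHom i] (j : N ⟶ G) [IsMonHom j]
    (hc : ∀ (T : Over (Spec (CommRingCat.of k))) (a : T ⟶ A) (n : T ⟶ N),
      (a ≫ i) * (n ≫ j) = (n ≫ j) * (a ≫ i)) : IsMonHom ((i ⊗ₘ j) ≫ μ[G]) := by
  let m := (i ⊗ₘ j) ≫ μ[G]
  have hmul : ∀ {T : Over (Spec (CommRingCat.of k))} (p p' : T ⟶ A ⊗ N), (p * p') ≫ m = (p ≫ m) * (p' ≫ m) := by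
    intro T p p'
    have e1 : (p * p') ≫ fst A N = (p ≫ fst A N) * (p' ≫ fst A N) := MonObj.mul_comp _ _ _
    have e2 : (p * p') ≫ snd A N = (p ≫ snd A N) * (p' ≫ snd A N) := MonObj.mul_comp _ _ _
    simp only [m, comp_tensor_mul]
    rw [e1, e2, MonObj.mul_comp, MonObj.mul_comp]
    have c := hc _ (p' ≫ fst A N) (p ≫ snd A N)
    simp only [_root_.mul_assoc]
    congr 1
    rw [← _root_.mul_assoc, c, _root_.mul_assoc]
  refine ⟨?_, ?_⟩
  · have e : η[A ⊗ N] = (1 : 𝟙_ (Over (Spec (CommRingCat.of k))) ⟶ A ⊗ N) := by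
      rw [Hom.one_def, toUnit_unit, Category.id_comp]
    have := hmul (1 : 𝟙_ (Over (Spec (CommRingCat.of k))) ⟶ A ⊗ N) 1
    rw [_root_.mul_one, left_eq_mul] at this
    rw [e, this, Hom.one_def, toUnit_unit, Category.id_comp]
  · have := hmul (fst (A ⊗ N) (A ⊗ N)) (snd (A ⊗ N) (A ⊗ N))
    rw [Hom.mul_def, lift_fst_snd, Category.id_comp] at this
    rw [this, Hom.mul_def]
    congr 1

/-- The kernel of a retraction up to a power meets the subvariety in a finite scheme. -/
theorem isFinite_inter [GrpObj G] [GrpObj A] [GrpObj N] [Smooth A.hom] [ConnectedSpace A.left] [IsProper A.hom]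
    (i : A ⟶ G) (j : N ⟶ G) [IsClosedImmersion j.left] (r : G ⟶ A) (n : ℕ) (hn : 0 < n)
    (hir : i ≫ r = 𝟙 A ^ n) (hjr : j ≫ r = 1) :
    IsFinite (Limits.pullback.fst i.left j.left ≫ A.hom) := by
  haveI hA := geometricallyIntegral_of_group (A := A)
  haveI : IsCommMonObj A := isCommMonObj_of_isProper_of_geometricallyIntegral A
  haveI := AVDeg.isFinite_pow_id (A := A) hn.ne'
  let P := pullback i.left j.left
  let a : P ⟶ A.left := pullback.fst i.left j.left
  have hw : a ≫ (𝟙 A ^ n).left = (a ≫ A.hom) ≫ η[A].left := by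
    rw [← hir, Over.comp_left]
    show pullback.fst _ _ ≫ i.left ≫ r.left = _
    rw [pullback.condition_assoc, ← Over.comp_left, hjr, Hom.one_def, Over.comp_left, Over.toUnit_left,
      ← Category.assoc]
    congr 1
    show pullback.snd _ _ ≫ N.hom = pullback.fst _ _ ≫ A.hom
    rw [← Over.w j, ← pullback.condition_assoc, Over.w i]
  let ψ : P ⟶ pullback (𝟙 A ^ n).left η[A].left := pullback.lift a (a ≫ A.hom) hw
  haveI : IsClosedImmersion (ψ ≫ pullback.fst (𝟙 A ^ n).left η[A].left) := by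
    rw [pullback.lift_fst]; infer_instance
  haveI : IsClosedImmersion ψ := IsClosedImmersion.of_comp ψ (pullback.fst (𝟙 A ^ n).left η[A].left)
  have e : a ≫ A.hom = ψ ≫ pullback.snd (𝟙 A ^ n).left η[A].left := (pullback.lift_snd _ _ _).symm
  show IsFinite (a ≫ A.hom)
  rw [e]
  exact MorphismProperty.comp_mem _ _ _ (inferInstanceAs (IsFinite ψ))
    (inferInstanceAs (IsFinite (pullback.snd (𝟙 A ^ n).left η[A].left)))

/-- Points killed by a retraction generate the group together with the subvariety. -/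
theorem surjective_tensor_mul_of_kernel [GrpObj G] [GrpObj A] [Smooth A.hom] [ConnectedSpace A.left] [IsProper A.hom]
    (i : A ⟶ G) (j : N ⟶ G) (r : G ⟶ A) [IsMonHom r] (n : ℕ) (hn : 0 < n) (hir : i ≫ r = 𝟙 A ^ n)
    (hker : AlgGrp.IsKernel j r) (hc : ∀ (T : Over (Spec (CommRingCat.of k))) (a : T ⟶ A) (g : T ⟶ G),
      g * (a ≫ i) = (a ≫ i) * g) : Surjective ((i ⊗ₘ j) ≫ μ[G]).left := by
  haveI hA := geometricallyIntegral_of_group (A := A)
  haveI := Groth.Agent.S0383.result k A n hn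
  let P : Over (Spec (CommRingCat.of k)) := Over.mk (pullback.fst r.left (𝟙 A ^ n).left ≫ G.hom)
  let g : P ⟶ G := Over.homMk (pullback.fst r.left (𝟙 A ^ n).left)
  have hw : pullback.snd r.left (𝟙 A ^ n).left ≫ A.hom = pullback.fst r.left (𝟙 A ^ n).left ≫ G.hom := by
    rw [← Over.w r, pullback.condition_assoc, Over.w (𝟙 A ^ n)]
  let a : P ⟶ A := Over.homMk (pullback.snd r.left (𝟙 A ^ n).left) hw
  have hga : g ≫ r = a ≫ (𝟙 A ^ n) := Over.OverMorphism.ext pullback.condition
  have h0 : (g * (a ≫ i)⁻¹) ≫ r = toUnit P ≫ η[A] := by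
    rw [MonObj.mul_comp, GrpObj.inv_comp, Category.assoc, hir, hga, mul_inv_cancel, Hom.one_def]
  let n₀ : P ⟶ N := hker.lift _ _ h0
  have hm : lift a n₀ ≫ (i ⊗ₘ j) ≫ μ[G] = g := by
    rw [comp_tensor_mul, lift_fst, lift_snd, show n₀ ≫ j = _ from hker.lift_fst _ _ _, ← hc, inv_mul_cancel_right]
  haveI hs : Surjective g.left := MorphismProperty.pullback_fst _ _ ‹Surjective (𝟙 A ^ n).left›
  rw [← hm, Over.comp_left] at hs
  exact Surjective.of_comp (lift a n₀).left _

/-- A surjective map stays surjective after a product. -/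
theorem surjective_whiskerLeft {R : Over (Spec (CommRingCat.of k))} (h : R ⟶ N) [Surjective h.left] :
    Surjective (A ◁ h).left := by
  have hpb : IsPullback (A ◁ h) (snd A R) (snd A N) h := by
    refine IsPullback.mk' (by simp) (fun T φ φ' e₁ e₂ => ?_) fun T a b e => ?_
    · apply CartesianMonoidalCategory.hom_ext
      · have := congrArg (· ≫ fst A N) e₁
        simpa using this
      · exact e₂
    · refine ⟨lift (a ≫ fst A N) b, ?_, lift_snd _ _⟩
      rw [lift_whiskerLeft, ← e]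
      apply CartesianMonoidalCategory.hom_ext <;> simp
  exact MorphismProperty.of_isPullback (P := @Surjective) (hpb.map (Over.forget _)).flip ‹_›

/-- The reduced subgroup of a subgroup over a perfect field. -/
theorem exists_red_subgroup [PerfectField k] [GrpObj G] [GrpObj N] [LocallyOfFiniteType G.hom] [Smooth G.hom]
    (j : N ⟶ G) [IsMonHom j] [IsClosedImmersion j.left] (hN : AlgGrp.IsNormalHom j) :
    ∃ (R : Over (Spec (CommRingCat.of k))) (_ : GrpObj R) (c : R ⟶ N), IsMonHom (c ≫ j) ∧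
      IsClosedImmersion (c ≫ j).left ∧ Surjective c.left ∧ Smooth R.hom ∧ AlgGrp.IsNormalHom (c ≫ j) := by
  let I := Scheme.IdealSheafData.vanishingIdeal (⊤ : TopologicalSpace.Closeds N.left)
  let R : Over (Spec (CommRingCat.of k)) := Over.mk (I.subschemeι ≫ N.hom)
  let c : R ⟶ N := Over.homMk I.subschemeι rfl
  haveI : IsClosedImmersion c.left := inferInstanceAs (IsClosedImmersion I.subschemeι)
  haveI hR : IsReduced R.left := inferInstanceAs (IsReduced I.subscheme)
  haveI : Surjective c.left := ⟨fun x => by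
    have : x ∈ Set.range I.subschemeι := by
      rw [Scheme.IdealSheafData.range_subschemeι, Scheme.IdealSheafData.coe_support_vanishingIdeal]
      trivial
    exact this⟩
  haveI : IsClosedImmersion (c ≫ j).left := by rw [Over.comp_left]; infer_instance
  haveI : LocallyOfFiniteType R.hom := by rw [← Over.w (c ≫ j)]; infer_instance
  have hlift : ∀ {T : Over (Spec (CommRingCat.of k))} [IsReduced T.left] (g : T ⟶ N),
      ∃ g' : T ⟶ R, g' ≫ c = g := fun g => exists_lift_range g c (by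
    rw [Set.range_eq_univ.2 c.left.surjective]; exact Set.subset_univ _)
  haveI : IsReduced (R ⊗ R).left := Assoc.isReduced_pullback k R.hom R.hom
  haveI : GeometricallyReduced G.hom := Rigid.geometricallyReduced_of_smooth _
  haveI : IsReduced G.left := GeometricallyReduced.geometrically_isReduced (f := G.hom) (K := k) (𝟙 _) (𝟙 _) G.hom
    (IsPullback.of_horiz_isIso ⟨by rw [Category.id_comp, Category.comp_id]⟩)
  haveI : IsReduced (G ⊗ R).left := Assoc.isReduced_pullback k G.hom R.hom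
  haveI : IsReduced (𝟙_ (Over (Spec (CommRingCat.of k)))).left := inferInstanceAs (IsReduced (Spec (CommRingCat.of k)))
  obtain ⟨e, he⟩ := hlift η[N]
  obtain ⟨d, hd⟩ := hlift ((fst R R ≫ c)⁻¹ * (snd R R ≫ c))
  obtain ⟨hgrp, hmon⟩ := GrpField.SchImg.exists_grpObj_of_div (c ≫ j)
    ⟨e, by rw [reassoc_of% he, IsMonHom.one_hom]⟩ fun T k₁ k₂ => ⟨lift k₁ k₂ ≫ d, by
      rw [Category.assoc, reassoc_of% hd, MonObj.mul_comp, GrpObj.inv_comp, MonObj.comp_mul, GrpObj.comp_inv,
        Category.assoc, Category.assoc, lift_fst_assoc, lift_snd_assoc]⟩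
  haveI := hmon
  letI : GrpObj (Over.mk R.hom) := hgrp
  have hs : Smooth R.hom := GrpBasic.smooth_of_grpObj_perfect R.hom
  obtain ⟨w, hw⟩ := hN (G ⊗ R) (fst G R) (snd G R ≫ c)
  obtain ⟨w', hw'⟩ := hlift w
  refine ⟨R, hgrp, c, hmon, inferInstance, inferInstance, hs, fun T g x => ⟨lift g x ≫ w', ?_⟩⟩
  have h := congrArg (lift g x ≫ ·) hw
  simp only [MonObj.comp_mul, GrpObj.comp_inv, Category.assoc, lift_fst, lift_snd_assoc] at h
  rw [Category.assoc, reassoc_of% hw']
  exact h

end Groth.Agent.Chev
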