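import Groth.Prelude.Def_AGF
import Groth.Agent.GrpComp.HomogTop
import Groth.Agent.Chev.Complement
import Groth.Agent.SpQS.UnivBddScheme
import Groth.Agent.S5938

/-!
# Finite homogeneous spaces
-/

set_option autoImplicit false
set_option backward.isDefEq.respectTransparency false

universe u

open CategoryTheory CategoryTheory.Limits MonoidalCategory CartesianMonoidalCategory MonObj GrpObj AlgebraicGeometry

noncomputable section

namespace Groth.Agent.Chev

open GrpField GrpComp

variable {k : Type u} [Field k] {G X : Over (Spec (CommRingCat.of k))} [GrpObj G]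

/-- A point over a rational point is constant. -/
theorem eq_toUnit_comp_of_point {T : Over (Spec (CommRingCat.of k))} [IsReduced T.left]
    (o : 𝟙_ (Over (Spec (CommRingCat.of k))) ⟶ X) (u : T ⟶ X)
    (t₀ : (𝟙_ (Over (Spec (CommRingCat.of k)))).left) (h : ∀ t, u.left t = o.left t₀) : u = toUnit T ≫ o := by
  obtain ⟨V, hV, hoV, -⟩ := exists_isAffineOpen_mem_and_subset (x := o.left t₀) (U := ⊤) trivial
  haveI : IsAffine (V : Scheme.{u}) := hV
  let Vo : Over (Spec (CommRingCat.of k)) := Over.mk (V.ι ≫ X.hom)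
  let ι' : Vo ⟶ X := Over.homMk V.ι
  haveI : IsSeparated Vo.hom := inferInstanceAs (IsSeparated (V.ι ≫ X.hom))
  have hro : Set.range o.left ⊆ Set.range V.ι := by
    rintro _ ⟨s, rfl⟩
    rw [Scheme.Opens.range_ι, Subsingleton.elim (α := PrimeSpectrum k) s t₀]
    exact hoV
  have hru : Set.range u.left ⊆ Set.range V.ι := by
    rintro _ ⟨t, rfl⟩
    rw [Scheme.Opens.range_ι, h]
    exact hoV
  let oV : 𝟙_ (Over (Spec (CommRingCat.of k))) ⟶ Vo := Over.homMk (IsOpenImmersion.lift V.ι o.left hro) (by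
    show _ ≫ V.ι ≫ X.hom = _
    rw [IsOpenImmersion.lift_fac_assoc, Over.w o])
  let uV : T ⟶ Vo := Over.homMk (IsOpenImmersion.lift V.ι u.left hru) (by
    show _ ≫ V.ι ≫ X.hom = _
    rw [IsOpenImmersion.lift_fac_assoc, Over.w u])
  have ho : oV ≫ ι' = o := Over.OverMorphism.ext (IsOpenImmersion.lift_fac _ _ _)
  have hu : uV ≫ ι' = u := Over.OverMorphism.ext (IsOpenImmersion.lift_fac _ _ _)
  haveI : IsClosedImmersion oV.left :=
    isClosedImmersion_of_comp_eq_id (Y := Spec (CommRingCat.of k)) Vo.hom oV.left (Over.w oV)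
  obtain ⟨w, hw⟩ := exists_lift_range uV oV (by
    rintro _ ⟨t, rfl⟩
    refine ⟨t₀, V.ι.isOpenEmbedding.injective ?_⟩
    show (oV ≫ ι').left t₀ = (uV ≫ ι').left t
    rw [ho, hu, h t])
  rw [← hu, ← hw, toUnit_unique w (toUnit T), Category.assoc, ho]

/-- If the base point of a homogeneous space is open then the space is discrete. -/
theorem discrete_of_isOpen_base (a : AlgGrp.Action G X) (o : 𝟙_ (Over (Spec (CommRingCat.of k))) ⟶ X)
    [Surjective (a.orbitMap o).left] (t₀ : (𝟙_ (Over (Spec (CommRingCat.of k)))).left)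
    (ho : IsOpen ({o.left t₀} : Set X.left)) : DiscreteTopology X.left := by
  rw [discreteTopology_iff_isOpen_singleton]
  intro y
  obtain ⟨g, rfl⟩ := (a.orbitMap o).left.surjective y
  let T : Over (Spec (CommRingCat.of k)) := Over.mk (G.left.fromSpecResidueField g ≫ G.hom)
  haveI : IsPt T := inferInstanceAs (IsPt (Over.mk (G.left.fromSpecResidueField g ≫ G.hom)))
  let c : T ⟶ G := Over.homMk (G.left.fromSpecResidueField g) rfl
  obtain ⟨t⟩ := IsPt.nonempty T
  have hc : c.left t = g := Scheme.fromSpecResidueField_apply g t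
  let W := (fst X T).left '' (homeo (trX a c) '' ((fst X T).left ⁻¹' {o.left t₀}))
  have hW : IsOpen W :=
    isOpenMap_fst _ ((homeo _).isOpenMap _ (ho.preimage (fst X T).left.continuous))
  have he : lift c (toUnit T ≫ o) ≫ a.act = c ≫ a.orbitMap o := by
    rw [AlgGrp.Action.orbitMap, ← Category.assoc, comp_lift, Category.comp_id, comp_toUnit_assoc]
  have hval : ∀ s, (fst X T).left (homeo (trX a c) ((lift (toUnit T ≫ o) (𝟙 T)).left s)) =
      (a.orbitMap o).left g := by
    intro s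
    rw [trX_apply, ← Scheme.Hom.comp_apply, ← Over.comp_left, lift_fst, he, Over.comp_left,
      Scheme.Hom.comp_apply, (IsPt.single T).elim s t, hc]
  suffices W = {(a.orbitMap o).left g} by rwa [← this]
  refine Set.Subset.antisymm ?_ (Set.singleton_subset_iff.2 ⟨_, ⟨(lift (toUnit T ≫ o) (𝟙 T)).left t, ?_, rfl⟩, hval t⟩)
  · rintro _ ⟨_, ⟨q, hq, rfl⟩, rfl⟩
    let T' : Over (Spec (CommRingCat.of k)) := Over.mk ((X ⊗ T).left.fromSpecResidueField q ≫ (X ⊗ T).hom)
    haveI : IsReduced T'.left := inferInstanceAs (IsReduced (Spec (CommRingCat.of _)))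
    let v : T' ⟶ X ⊗ T := Over.homMk ((X ⊗ T).left.fromSpecResidueField q) rfl
    obtain ⟨t'⟩ : Nonempty T'.left := ⟨IsLocalRing.closedPoint ((X ⊗ T).left.residueField q)⟩
    have hv : ∀ s, v.left s = q := fun s => Scheme.fromSpecResidueField_apply q s
    have h1 : v ≫ fst X T = toUnit T' ≫ o := eq_toUnit_comp_of_point o _ t₀ fun s => by
      rw [Over.comp_left, Scheme.Hom.comp_apply, hv]; exact hq
    have h2 : v = (v ≫ snd X T) ≫ lift (toUnit T ≫ o) (𝟙 T) := by
      rw [comp_lift, Category.comp_id, comp_toUnit_assoc, ← h1, lift_comp_fst_snd]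
    have h3 : q = (lift (toUnit T ≫ o) (𝟙 T)).left ((v ≫ snd X T).left t') := by
      rw [← Scheme.Hom.comp_apply, ← Over.comp_left, ← h2, hv]
    rw [h3, hval]
    rfl
  · show (fst X T).left ((lift (toUnit T ≫ o) (𝟙 T)).left t) ∈ ({o.left t₀} : Set X.left)
    rw [← Scheme.Hom.comp_apply, ← Over.comp_left, lift_fst, Over.comp_left, Scheme.Hom.comp_apply,
      Subsingleton.elim (α := PrimeSpectrum k) ((toUnit T).left t) t₀]
    rfl

/-- The subgroup is the fibre of the orbit map. -/
theorem isPullback_orbitMap {H : Over (Spec (CommRingCat.of k))} [GrpObj H] (i : H ⟶ G) [Mono i]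
    (a : AlgGrp.Action G X) (o : 𝟙_ (Over (Spec (CommRingCat.of k))) ⟶ X) (hX : AGF.IsQuotient i X a o) :
    IsPullback i (toUnit H) (a.orbitMap o) o := by
  obtain ⟨-, -, -, hsq⟩ := hX
  have h1 : ∀ {T : Over (Spec (CommRingCat.of k))}, (1 : T ⟶ G) ≫ a.orbitMap o = toUnit T ≫ o := by
    intro T
    rw [AlgGrp.Action.orbitMap, ← Category.assoc, comp_lift, Category.comp_id, comp_toUnit_assoc, Hom.one_def]
    have := lift (toUnit T) (toUnit T ≫ o) ≫= a.one_act
    simpa using this
  have hgi : ∀ {T : Over (Spec (CommRingCat.of k))} (g : T ⟶ G) (h : T ⟶ H),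
      lift g h ≫ (G ◁ i) ≫ μ[G] = g * (h ≫ i) := fun g h => by
    rw [← Category.assoc, lift_whiskerLeft, Hom.mul_def]
  refine IsPullback.mk' ?_ (fun T φ φ' e₁ _ => (cancel_mono i).1 e₁) fun T x b e => ?_
  · have := lift (1 : H ⟶ G) (𝟙 H) ≫= hsq.w
    rw [lift_fst_assoc, h1, ← Category.assoc, hgi, _root_.one_mul, Category.id_comp] at this
    exact this.symm
  · have hT : (1 : T ⟶ G) ≫ a.orbitMap o = x ≫ a.orbitMap o := by
      rw [h1, e, toUnit_unique b (toUnit T)]
    obtain ⟨p, hp₁, hp₂⟩ := hsq.exists_lift _ _ hT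
    refine ⟨p ≫ snd G H, ?_, toUnit_unique _ _⟩
    rw [← hp₂, show p = lift (p ≫ fst G H) (p ≫ snd G H) from (lift_comp_fst_snd p).symm, hgi, hp₁, _root_.one_mul]
    simp

end Groth.Agent.Chev
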