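import Groth.Agent.Unibranch.Noether
import Mathlib.RingTheory.DedekindDomain.Ideal.Lemmas
import Mathlib.RingTheory.Jacobson.Ring
import Mathlib.RingTheory.Unramified.Field
import Mathlib.FieldTheory.IsAlgClosed.Basic
import Mathlib.FieldTheory.RatFunc.Basic

/-!
# Uniformizing parameters with finite map to the line

A Dedekind domain of finite type over an algebraically closed field has, at each maximal ideal, a uniformizing
parameter over whose polynomial ring it is finite; the fraction field is separable over its rational functions,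
and maps to local rings centred at the point are determined by the parameter.
-/

set_option autoImplicit false

universe u

open Polynomial

noncomputable section

namespace Groth.Agent.Chev

variable {k : Type u} [Field k] {B : Type u} [CommRing B] [IsDomain B] [Algebra k B]

/-- `t` is a uniformizing parameter at `P` and makes `B` finite over the polynomials. -/
structure IsParam (P : Ideal B) (t : B) : Prop where
  mem : t ∈ P
  finite : (Polynomial.aeval (R := k) t).toRingHom.Finite
  injective : Function.Injective (Polynomial.aeval (R := k) t)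
  exists_mul_eq : ∀ b ∈ P, ∃ s ∉ P, ∃ b' : B, s * b = t * b'

variable [IsAlgClosed k] [Algebra.FiniteType k B]

theorem exists_const (P : Ideal B) [P.IsMaximal] (b : B) : ∃ c : k, b - algebraMap k B c ∈ P := by
  letI : Field (B ⧸ P) := Ideal.Quotient.field P
  haveI : Algebra.FiniteType k (B ⧸ P) :=
    Algebra.FiniteType.of_surjective (Ideal.Quotient.mkₐ k P) (Ideal.Quotient.mkₐ_surjective k P)
  haveI : Module.Finite k (B ⧸ P) := finite_of_finite_type_of_isJacobsonRing k (B ⧸ P)
  obtain ⟨c, hc⟩ := (IsAlgClosed.algebraMap_bijective_of_isIntegral (k := k) (K := B ⧸ P)).2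
    (Ideal.Quotient.mk P b)
  exact ⟨c, Ideal.Quotient.eq.1 hc.symm⟩

variable [IsDedekindDomain B]

theorem exists_finite_element (P : Ideal B) [P.IsMaximal] (hP : P ≠ ⊥) :
    ∃ u : B, (Polynomial.aeval (R := k) u).toRingHom.Finite := by
  obtain ⟨s, g, hgi, hgf⟩ := exists_finite_inj_algHom_of_fg k B
  have hdim := Unibranch.ringKrullDim_eq_of_finite_inj g hgi hgf
  haveI : Ring.KrullDimLE 1 B := Ring.krullDimLE_one_iff_of_noZeroDivisors.2
    fun I hI hI' => Ring.DimensionLEOne.maximalOfPrime hI hI'
  have hs : s = 1 := by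
    have h1 : (s : WithBot ℕ∞) ≤ 1 := hdim ▸ Ring.krullDimLE_iff.1 inferInstance
    have h2 : s ≠ 0 := fun h => by
      subst h
      suffices hF : IsField B from hP (by
        letI := hF.toField
        exact (Ideal.eq_bot_or_top P).resolve_right (Ideal.IsMaximal.ne_top ‹_›))
      letI := g.toRingHom.toAlgebra
      haveI : Module.Finite (MvPolynomial (Fin 0) k) B := hgf
      haveI : FaithfulSMul (MvPolynomial (Fin 0) k) B := (faithfulSMul_iff_algebraMap_injective _ _).2 hgi
      haveI : Algebra.IsIntegral (MvPolynomial (Fin 0) k) B := Algebra.IsIntegral.of_finite _ _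
      exact isField_of_isIntegral_of_isField' (R := MvPolynomial (Fin 0) k) (S := B)
        ((MvPolynomial.isEmptyAlgEquiv k (Fin 0)).toMulEquiv.isField (Field.toIsField k))
    have h3 : s ≤ 1 := by exact_mod_cast h1
    omega
  subst hs
  refine ⟨g (MvPolynomial.X 0), ?_⟩
  let e := (MvPolynomial.pUnitAlgEquiv.{u, 0} k).symm.trans (MvPolynomial.renameEquiv k (Equiv.equivPUnit.{1, 1} (Fin 1)).symm)
  have he : Polynomial.aeval (R := k) (g (MvPolynomial.X 0)) = g.comp e.toAlgHom := by
    refine Polynomial.algHom_ext ?_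
    simp [e]
  rw [he]
  exact (AlgHom.Finite.comp hgf (RingHom.Finite.of_surjective e.toAlgHom.toRingHom e.surjective) :)

theorem exists_param (P : Ideal B) [P.IsMaximal] (hP : P ≠ ⊥) : ∃ t, IsParam (k := k) P t := by
  classical
  obtain ⟨u, hu⟩ := exists_finite_element (k := k) P hP
  obtain ⟨c, hc⟩ := exists_const (k := k) P u
  obtain ⟨a, ha, ha'⟩ := Ideal.exists_mem_pow_notMem_pow_succ P hP (Ideal.IsMaximal.ne_top ‹_›) 1
  rw [pow_one] at ha
  let w := u - algebraMap k B c
  have hw : ∀ b : B, (Polynomial.aeval (R := k) w).toRingHom.IsIntegralElem b := by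
    intro b
    obtain ⟨p, hp, he⟩ := hu.to_isIntegral b
    refine ⟨p.map (Polynomial.aeval (R := k) (X + C c)).toRingHom, hp.map _, ?_⟩
    rw [Polynomial.eval₂_map, ← he]
    congr 1
    refine RingHom.ext fun q => ?_
    show Polynomial.aeval w (Polynomial.aeval (X + C c) q) = Polynomial.aeval u q
    rw [← Polynomial.aeval_algHom_apply]
    congr 1
    simp [w]
  obtain ⟨p, hp, hpa⟩ := hw (-a)
  let N : ℕ := 2 + p.support.sup fun i => (p.coeff i).natDegree
  let t := a + w ^ N
  have hwP : w ∈ P := hc
  have htP2 : t ∉ P ^ 2 := fun h => ha' (by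
    have h2 : w ^ N ∈ P ^ 2 := Ideal.pow_le_pow_right (show 2 ≤ N by omega) (Ideal.pow_mem_pow hwP N)
    simpa [t] using Submodule.sub_mem _ h h2)
  have htP : t ∈ P := Ideal.add_mem _ ha (Ideal.pow_mem_of_mem P hwP N (by omega))
  have hinj : Function.Injective (Polynomial.aeval (R := k) t) := by
    rw [injective_iff_map_eq_zero]
    intro q hq
    by_contra hq0
    have hint : IsIntegral k t := isAlgebraic_iff_isIntegral.1 ⟨q, hq0, hq⟩
    obtain ⟨r, hr⟩ : t ∈ (algebraMap k B).range :=
      minpoly.mem_range_of_degree_eq_one k t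
        (IsAlgClosed.degree_eq_one_of_irreducible k (minpoly.irreducible hint))
    rcases eq_or_ne r 0 with h | h
    · exact htP2 (by rw [← hr, h, map_zero]; exact Submodule.zero_mem _)
    · exact Ideal.IsMaximal.ne_top ‹P.IsMaximal› (Ideal.eq_top_of_isUnit_mem _ (hr ▸ htP) (h.isUnit.map _))
  letI : Algebra k[X] B := (Polynomial.aeval (R := k) t).toRingHom.toAlgebra
  -- `w` is integral over the polynomials in `t`
  have hwint : IsIntegral k[X] w := by
    let Z : k[X][X] := X ^ N - C X
    have hZ : Z.Monic := monic_X_pow_sub_C _ (by omega)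
    have hZd : Z.natDegree = N := natDegree_X_pow_sub_C
    let ψ : k[X] →+* k[X][X] := Polynomial.mapRingHom (Polynomial.C : k →+* k[X])
    refine ⟨p.eval₂ ψ Z, ?_, ?_⟩
    · have hsum : p.eval₂ ψ Z = ∑ i ∈ Finset.range p.natDegree, ψ (p.coeff i) * Z ^ i + Z ^ p.natDegree := by
        rw [Polynomial.eval₂_eq_sum_range, Finset.sum_range_succ]
        simp [hp.coeff_natDegree]
      rw [hsum]
      refine (hZ.pow _).add_of_right ((Polynomial.degree_sum_le _ _).trans_lt
        ((Finset.sup_lt_iff (WithBot.bot_lt_iff_ne_bot.2 fun e => (hZ.pow _).ne_zero (degree_eq_bot.1 e))).2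
          fun i hi => Polynomial.degree_lt_degree ?_))
      have hi' : i < p.natDegree := Finset.mem_range.1 hi
      rw [(hZ.natDegree_pow p.natDegree), hZd]
      refine lt_of_le_of_lt (le_trans Polynomial.natDegree_mul_le
        (add_le_add (Polynomial.natDegree_map_le) (Polynomial.natDegree_pow_le))) ?_
      rw [hZd]
      have h1 : (p.coeff i).natDegree < N := by
        rcases eq_or_ne (p.coeff i) 0 with h | h
        · rw [h, natDegree_zero]; omega
        · have := Finset.le_sup (f := fun i => (p.coeff i).natDegree) (Polynomial.mem_support_iff.2 h)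
          omega
      have h2 : (i + 1) * N ≤ p.natDegree * N := Nat.mul_le_mul_right N hi'
      rw [Nat.add_mul, Nat.one_mul] at h2
      omega
    · refine (Polynomial.hom_eval₂ p ψ (Polynomial.eval₂RingHom (algebraMap k[X] B) w) Z).trans ?_
      have hz : Polynomial.eval₂RingHom (algebraMap k[X] B) w Z = -a := by
        show Polynomial.eval₂ (algebraMap k[X] B) w (X ^ N - C X) = -a
        rw [eval₂_sub, eval₂_X_pow, eval₂_C]
        show w ^ N - Polynomial.aeval t X = -a
        rw [aeval_X]; simp [t]
      rw [hz]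
      refine Eq.trans ?_ hpa
      congr 1
      refine Polynomial.ringHom_ext (fun r => ?_) ?_
      · simp [ψ, RingHom.algebraMap_toAlgebra]
      · simp [ψ]
  have hint : Algebra.IsIntegral k[X] B := ⟨fun b => by
    obtain ⟨p', hp', he'⟩ := hw b
    let D := integralClosure k[X] B
    let ψ' : k[X] →+* D := Polynomial.eval₂RingHom ((algebraMap k[X] D).comp Polynomial.C) ⟨w, hwint⟩
    refine isIntegral_trans (A := D) b ⟨p'.map ψ', hp'.map _, ?_⟩
    rw [Polynomial.eval₂_map]
    refine Eq.trans ?_ he'
    congr 1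
    refine Polynomial.ringHom_ext (fun r => ?_) ?_
    · simp [ψ', RingHom.algebraMap_toAlgebra]
    · simp [ψ']⟩
  haveI : IsScalarTower k k[X] B := IsScalarTower.of_algebraMap_eq fun r => by
    show _ = Polynomial.aeval t (algebraMap k k[X] r)
    simp
  haveI : Algebra.FiniteType k[X] B := Algebra.FiniteType.of_restrictScalars_finiteType k k[X] B
  have hfin : (Polynomial.aeval (R := k) t).toRingHom.Finite := Algebra.IsIntegral.finite
  refine ⟨t, htP, hfin, hinj, fun b hb => ?_⟩
  obtain ⟨J, hJ⟩ := Ideal.dvd_iff_le.2 ((Ideal.span_singleton_le_iff_mem P).2 htP)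
  obtain ⟨s, hsJ, hsP⟩ := SetLike.not_le_iff_exists.1 fun hle : J ≤ P => htP2 (by
    rw [pow_two]
    exact Ideal.mul_mono le_rfl hle (hJ ▸ Ideal.mem_span_singleton_self t))
  have : s * b ∈ Ideal.span {t} := by rw [hJ, mul_comm]; exact Ideal.mul_mem_mul hsJ hb
  obtain ⟨b', hb'⟩ := Ideal.mem_span_singleton.1 this
  exact ⟨s, hsP, b', hb'⟩

variable {P : Ideal B} [P.IsMaximal] {t : B}

omit [IsDedekindDomain B] in
/-- Two maps to a Noetherian local domain centred at `P` which agree at the parameter are equal. -/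
theorem IsParam.hom_ext (ht : IsParam (k := k) P t) {R : Type u} [CommRing R] [IsDomain R] [IsLocalRing R]
    [IsNoetherianRing R] [Algebra k R] {σ₁ σ₂ : B →ₐ[k] R} (h₁ : (IsLocalRing.maximalIdeal R).comap σ₁ = P)
    (h₂ : (IsLocalRing.maximalIdeal R).comap σ₂ = P) (he : σ₁ t = σ₂ t) : σ₁ = σ₂ := by
  have key : ∀ (n : ℕ) (b : B), σ₁ b - σ₂ b ∈ IsLocalRing.maximalIdeal R ^ n := by
    intro n
    induction n with
    | zero => intro b; simp
    | succ n ih =>
      intro b
      obtain ⟨c, hc⟩ := exists_const (k := k) P b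
      obtain ⟨s, hs, b', hb'⟩ := ht.exists_mul_eq _ hc
      have hu : IsUnit (σ₁ s) := IsLocalRing.notMem_maximalIdeal.1 fun h => hs (h₁ ▸ h)
      have e₁ := congrArg σ₁ hb'
      have e₂ := congrArg σ₂ hb'
      simp only [map_mul, map_sub, AlgHom.commutes, ← he] at e₁ e₂
      have hb2 : σ₂ b - algebraMap k R c ∈ IsLocalRing.maximalIdeal R := by
        rw [← σ₂.commutes c, ← map_sub]; exact (h₂.symm ▸ hc : _ ∈ (IsLocalRing.maximalIdeal R).comap σ₂)
      have ht' : σ₁ t ∈ IsLocalRing.maximalIdeal R :=
        (h₁.symm ▸ ht.mem : t ∈ (IsLocalRing.maximalIdeal R).comap σ₁)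
      have : σ₁ s * (σ₁ b - σ₂ b) ∈ IsLocalRing.maximalIdeal R ^ (n + 1) := by
        have e : σ₁ s * (σ₁ b - σ₂ b) =
            σ₁ t * (σ₁ b' - σ₂ b') - (σ₁ s - σ₂ s) * (σ₂ b - algebraMap k R c) := by
          linear_combination e₁ - e₂
        rw [e, pow_succ]
        refine Submodule.sub_mem _ ?_ (Ideal.mul_mem_mul (ih s) hb2)
        rw [_root_.mul_comm (σ₁ t)]
        exact Ideal.mul_mem_mul (ih b') ht'
      exact (Ideal.unit_mul_mem_iff_mem _ hu).1 this
  refine AlgHom.ext fun b => sub_eq_zero.1 ?_
  have h : σ₁ b - σ₂ b ∈ ⨅ n : ℕ, IsLocalRing.maximalIdeal R ^ n := Submodule.mem_iInf _ |>.2 fun n => key n b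
  rwa [Ideal.iInf_pow_eq_bot_of_isLocalRing _ (IsLocalRing.maximalIdeal.isMaximal R).ne_top, Ideal.mem_bot] at h

variable [Algebra k[X] B] (F K : Type u) [Field F] [Field K] [Algebra k[X] F] [IsFractionRing k[X] F]
  [Algebra B K] [IsFractionRing B K] [Algebra F K] [Algebra k[X] K] [IsScalarTower k[X] F K] [IsScalarTower k[X] B K]

omit [IsDedekindDomain B] in
/-- The fraction field is finite separable over the rational functions in the parameter. -/
theorem IsParam.finiteDimensional_and_isSeparable (ht : IsParam (k := k) P t)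
    (halg : algebraMap k[X] B = (Polynomial.aeval (R := k) t).toRingHom) :
    FiniteDimensional F K ∧ Algebra.IsSeparable F K := by
  classical
  haveI : Module.Finite k[X] B := by
    have h : (algebraMap k[X] B).Finite := by rw [halg]; exact ht.finite
    exact RingHom.finite_algebraMap.1 h
  haveI : FaithfulSMul k[X] B := (faithfulSMul_iff_algebraMap_injective _ _).2 (by rw [halg]; exact ht.injective)
  haveI : Algebra.IsIntegral k[X] B := Algebra.IsIntegral.of_finite _ _
  haveI : FiniteDimensional F K := Module.Finite.of_isLocalization k[X] B (nonZeroDivisors k[X])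
  refine ⟨inferInstance, ?_⟩
  haveI : Module.Finite B Ω[B⁄k[X]] := inferInstance
  let D := KaehlerDifferential.D k[X] B
  have hDt : D t = 0 := by
    have : t = algebraMap k[X] B X := by rw [halg]; exact (aeval_X t).symm
    rw [this, Derivation.map_algebraMap]
  have hDc : ∀ c : k, D (algebraMap k B c) = 0 := fun c => by
    have : algebraMap k B c = algebraMap k[X] B (C c) := by rw [halg]; exact (aeval_C t c).symm
    rw [this, Derivation.map_algebraMap]
  have hle : (⊤ : Submodule B Ω[B⁄k[X]]) ≤ P • (⊤ : Submodule B Ω[B⁄k[X]]) := by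
    rw [← KaehlerDifferential.span_range_derivation, Submodule.span_le]
    rintro _ ⟨b, rfl⟩
    obtain ⟨c, hc⟩ := exists_const (k := k) P b
    obtain ⟨s, hs, b', hb'⟩ := ht.exists_mul_eq _ hc
    have h1 : s • D b ∈ P • (⊤ : Submodule B Ω[B⁄k[X]]) := by
      have e := congrArg D hb'
      simp only [Derivation.leibniz, map_sub, hDt, hDc, sub_zero, smul_zero, add_zero] at e
      rw [eq_sub_of_add_eq e]
      exact Submodule.sub_mem _ (Submodule.smul_mem_smul ht.mem trivial) (Submodule.smul_mem_smul hc trivial)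
    obtain ⟨c', hc'⟩ := exists_const (k := k) P s
    have hc0 : c' ≠ 0 := fun h => hs (by rw [h, map_zero, sub_zero] at hc'; exact hc')
    have h2 : algebraMap k B c' • D b ∈ P • (⊤ : Submodule B Ω[B⁄k[X]]) := by
      have : algebraMap k B c' • D b = s • D b - (s - algebraMap k B c') • D b := by
        rw [sub_smul, sub_sub_cancel]
      rw [this]
      exact Submodule.sub_mem _ h1 (Submodule.smul_mem_smul hc' trivial)
    rw [KaehlerDifferential.span_range_derivation]
    have h3 := Submodule.smul_mem _ (algebraMap k B c'⁻¹) h2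
    rwa [smul_smul, ← map_mul, inv_mul_cancel₀ hc0, map_one, one_smul] at h3
  obtain ⟨r, hr1, hr⟩ := Submodule.exists_sub_one_mem_and_smul_eq_zero_of_fg_of_le_smul P ⊤
    Module.Finite.fg_top hle
  have hr0 : r ≠ 0 := fun h => Ideal.IsMaximal.ne_top ‹P.IsMaximal› ((Ideal.eq_top_iff_one P).2 (by
    rw [h, zero_sub, neg_mem_iff] at hr1; exact hr1))
  have hDK : ∀ b : B, KaehlerDifferential.D k[X] K (algebraMap B K b) = 0 := fun b => by
    have h := congrArg (KaehlerDifferential.map k[X] k[X] B K) (hr (D b) trivial)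
    rw [map_smul, map_zero, KaehlerDifferential.map_D] at h
    rw [algebra_compatible_smul K r] at h
    exact (smul_eq_zero.1 h).resolve_left fun e => hr0 (IsFractionRing.injective B K (e.trans (map_zero _).symm))
  haveI : Algebra.FormallyUnramified k[X] K := ⟨by
    have : (⊤ : Submodule K Ω[K⁄k[X]]) = ⊥ := by
      rw [← KaehlerDifferential.span_range_derivation, Submodule.span_eq_bot]
      rintro _ ⟨z, rfl⟩
      obtain ⟨x, y, hy, rfl⟩ := IsFractionRing.div_surjective B z
      rw [Derivation.leibniz_div, hDK, hDK]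
      simp
    exact (Submodule.subsingleton_iff K).1 (subsingleton_of_bot_eq_top this.symm)⟩
  haveI : Algebra.FormallyUnramified F K := Algebra.FormallyUnramified.of_restrictScalars k[X] F K
  exact Algebra.FormallyUnramified.isSeparable F K

end Groth.Agent.Chev
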