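import Groth.Agent.Chev.Fit

/-!
# Translations of rational functions on an integral group
-/

set_option autoImplicit false
set_option backward.isDefEq.respectTransparency false

universe u

open CategoryTheory CategoryTheory.Limits MonoidalCategory CartesianMonoidalCategory MonObj GrpObj AlgebraicGeometry
open IsLocalRing (closedPoint)

noncomputable section

namespace Groth.Agent.Chev

variable {k : Type u} [Field k] {H : Over (Spec (CommRingCat.of k))} [GrpObj H]

/-- The rational points. -/
abbrev RP (H : Over (Spec (CommRingCat.of k))) : Type u := 𝟙_ (Over (Spec (CommRingCat.of k))) ⟶ H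

/-- A rational point as a point with values in an algebra. -/
def rat {A : Type u} [CommRing A] [Algebra k A] (c : RP H) : VecGrp.pt k A ⟶ H := toUnit _ ≫ c

theorem ptMap_rat {A B : Type u} [CommRing A] [Algebra k A] [CommRing B] [Algebra k B] (φ : A →ₐ[k] B)
    (c : RP H) : VecGrp.ptMap φ ≫ rat c = rat (A := B) c := by
  rw [rat, rat, ← Category.assoc, toUnit_unique (VecGrp.ptMap φ ≫ toUnit _) (toUnit _)]

theorem rat_mul {A : Type u} [CommRing A] [Algebra k A] (c d : RP H) :
    rat (A := A) (c * d) = rat c * rat d := MonObj.comp_mul _ _ _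

theorem rat_one {A : Type u} [CommRing A] [Algebra k A] : rat (A := A) (1 : RP H) = 1 := MonObj.comp_one _

/-- Right translation. -/
def tr (c : RP H) : H ⟶ H := 𝟙 H * (toUnit H ≫ c)

theorem comp_tr {T : Over (Spec (CommRingCat.of k))} (x : T ⟶ H) (c : RP H) :
    x ≫ tr c = x * (toUnit T ≫ c) := by
  rw [tr, MonObj.comp_mul, Category.comp_id, ← Category.assoc, toUnit_unique (x ≫ toUnit H) (toUnit T)]

theorem tr_tr (c d : RP H) : tr c ≫ tr d = tr (c * d) := by
  rw [comp_tr, tr, tr, MonObj.comp_mul, _root_.mul_assoc]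

theorem tr_one : tr (1 : RP H) = 𝟙 H := by rw [tr, MonObj.comp_one, _root_.mul_one]

/-- Translation on the underlying space. -/
def sh (y : H.left) (c : RP H) : H.left := (tr c).left y

theorem sh_sh (y : H.left) (c d : RP H) : sh (sh y c) d = sh y (c * d) := by
  rw [sh, sh, sh, ← tr_tr]; rfl

theorem sh_one (y : H.left) : sh y (1 : RP H) = y := by rw [sh, tr_one]; rfl

theorem img_mul_rat {R : Type u} [CommRing R] [Algebra k R] [IsLocalRing R] (x : VecGrp.pt k R ⟶ H)
    (c : RP H) : img (x * rat c) = sh (img x) c := by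
  rw [rat, ← comp_tr]; rfl

theorem img_rat_mul (z c : RP H) :
    img (rat (A := k) (z * c)) = sh (img (rat (A := k) z)) c := by rw [rat_mul, img_mul_rat]

variable [IsIntegral H.left]

theorem sh_generic (c : RP H) : sh (genericPoint H.left) c = genericPoint H.left := by
  have h := (genericPoint_specializes' (sh (genericPoint H.left) c⁻¹)).map (tr c).left.continuous
  have e : (tr c).left (sh (genericPoint H.left) c⁻¹) = genericPoint H.left := by
    show sh (sh (genericPoint H.left) c⁻¹) c = _
    rw [sh_sh, inv_mul_cancel, sh_one]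
  rw [e] at h
  exact (h.antisymm (genericPoint_specializes' _)).eq

/-- The automorphism of the rational functions induced by translation. -/
def tK (c : RP H) : KF H →ₐ[k] KF H :=
  fmap (gen H * rat c) (by rw [img_mul_rat, gen, img, spt_apply, sh_generic])

theorem ptMap_tK (c : RP H) : VecGrp.ptMap (tK c) ≫ gen H = gen H * rat c := ptMap_fmap _ _

theorem tK_comp (c c' : RP H) (a : KF H) : tK c (tK c' a) = tK (c * c') a := by
  have h : Fit (gen H * rat c') a (tK c' a) := Fit.fmap _ _ a
  have h2 := h.map (tK c)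
  rw [MonObj.comp_mul, ptMap_tK, ptMap_rat, _root_.mul_assoc, ← rat_mul] at h2
  exact h2.unique (Fit.fmap _ _ a)

theorem tK_one (a : KF H) : tK (1 : RP H) a = a := by
  have h : Fit (gen H * rat (1 : RP H)) a (tK 1 a) := Fit.fmap _ _ a
  rw [rat_one, _root_.mul_one] at h
  exact h.unique (Fit.gen a)

theorem tK_inv_left (c : RP H) (a : KF H) : tK c⁻¹ (tK c a) = a := by rw [tK_comp, inv_mul_cancel, tK_one]

theorem tK_inv_right (c : RP H) (a : KF H) : tK c (tK c⁻¹ a) = a := by rw [tK_comp, mul_inv_cancel, tK_one]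

/-- The value at a translated point is the value of the translate. -/
theorem Fit.tK {R : Type u} [CommRing R] [Algebra k R] [IsLocalRing R] {y : H.left} {c : RP H}
    {a : KF H} {r : H.left.presheaf.stalk y} (h : Fit (Chev.spt y * rat c) a r)
    (φ : H.left.presheaf.stalk y →ₐ[k] R) :
    Fit (VecGrp.ptMap φ ≫ Chev.spt y) (Chev.tK c a) (φ r) := by
  have e : toKF y r = Chev.tK c a := by
    have h2 := h.map (toKF y)
    rw [MonObj.comp_mul, ptMap_toKF, ptMap_rat] at h2
    exact h2.unique (Fit.fmap _ _ a)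
  rw [← e]
  exact (Fit.spt y r).map φ

theorem exists_fit_shift {y : H.left} {c : RP H} {a : KF H} (h : Mem (sh y c) a) :
    ∃ r, Fit (spt y * rat c) a r ∧ toKF y r = tK c a := by
  obtain ⟨r, hr⟩ := exists_fit (spt y * rat c) (by rwa [img_mul_rat, img, spt_apply])
  refine ⟨r, hr, ?_⟩
  have h2 := hr.map (toKF y)
  rw [MonObj.comp_mul, ptMap_toKF, ptMap_rat] at h2
  exact h2.unique (Fit.fmap _ _ a)

theorem Mem.tK {y : H.left} {c : RP H} {a : KF H} (h : Mem (sh y c) a) : Mem y (Chev.tK c a) :=
  let ⟨r, _, hr⟩ := exists_fit_shift h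
  ⟨r, hr⟩

theorem Un.tK {y : H.left} {c : RP H} {a : KF H} (h : Un (sh y c) a) : Un y (Chev.tK c a) := by
  obtain ⟨r, hr, hra⟩ := exists_fit_shift h.mem
  exact ⟨r, hr.isUnit_iff.2 (by rwa [img_mul_rat, img, spt_apply]), hra⟩

/-- The value of a translate at a rational point. -/
theorem fit_tK_rat {z c : RP H} {a : KF H} {b : k} (h : Fit (rat (A := k) (z * c)) a b) :
    Fit (rat (A := k) z) (tK c a) b := by
  have hmem : Mem (sh (img (rat (A := k) z)) c) a := img_rat_mul z c ▸ h.memImg
  obtain ⟨r, hr, -⟩ := exists_fit_shift hmem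
  have h1 := hr.map (stc (rat (A := k) z))
  rw [MonObj.comp_mul, ptMap_stc, ptMap_rat, ← rat_mul] at h1
  have h2 := Fit.tK hr (stc (rat (A := k) z))
  rw [ptMap_stc, h1.unique h] at h2
  exact h2

end Groth.Agent.Chev
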