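import Groth.Agent.Chev.NonProper
import Groth.Agent.Chev.Param
import Groth.Agent.Chev.Trans
import Mathlib.FieldTheory.Galois.Basic
import Mathlib.FieldTheory.SeparableClosure
import Mathlib.FieldTheory.Normal.Closure
import Mathlib.FieldTheory.IsAlgClosed.AlgebraicClosure

/-!
# A nonconstant point over the rational functions

The norm of an escape to the line is a nonconstant point with values in the rational functions.
-/

set_option autoImplicit false
set_option backward.isDefEq.respectTransparency false

universe u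

open CategoryTheory CategoryTheory.Limits MonoidalCategory CartesianMonoidalCategory MonObj GrpObj AlgebraicGeometry
open Polynomial
open IsLocalRing (closedPoint)

noncomputable section

namespace Groth.Agent.Chev

variable {k : Type u} [Field k] {G : Over (Spec (CommRingCat.of k))}

/-- A point fixed by the Galois group is defined over the base field. -/
theorem exists_descent {F L : Type u} [Field F] [Field L] [Algebra k F] [Algebra k L] [Algebra F L]
    [IsScalarTower k F L] [FiniteDimensional F L] [IsGalois F L] (x : VecGrp.pt k L ⟶ G)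
    (hx : ∀ τ : L ≃ₐ[F] L, VecGrp.ptMap (τ.toAlgHom.restrictScalars k) ≫ x = x) :
    ∃ y : VecGrp.pt k F ⟶ G, VecGrp.ptMap (IsScalarTower.toAlgHom k F L) ≫ y = x := by
  haveI : Mono (G.left.fromSpecStalk (img x)) := inferInstance
  have hfix : ∀ (τ : L ≃ₐ[F] L) (r : G.left.presheaf.stalk (img x)), τ (stc x r) = stc x r := by
    intro τ r
    have h : VecGrp.ptMap ((τ.toAlgHom.restrictScalars k).comp (stc x)) ≫ spt (img x) =
        VecGrp.ptMap (stc x) ≫ spt (img x) := by
      rw [ptMap_comp, Category.assoc, ptMap_stc, hx]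
    have h' : Spec.map (CommRingCat.ofHom ((τ.toAlgHom.restrictScalars k).comp (stc x)).toRingHom) =
        Spec.map (CommRingCat.ofHom (stc x).toRingHom) :=
      (cancel_mono (G.left.fromSpecStalk (img x))).1 (congrArg (fun q => q.left) h)
    exact congr($(Spec.map_injective h') r)
  let ι₀ := IsScalarTower.toAlgHom k F L
  have hmem : ∀ r, stc x r ∈ ι₀.range := fun r =>
    (IsGalois.mem_range_algebraMap_iff_fixed (F := F) (stc x r)).2 fun τ => hfix τ r
  let φ : G.left.presheaf.stalk (img x) →ₐ[k] F :=
    (AlgEquiv.ofInjective ι₀ (algebraMap F L).injective).symm.toAlgHom.comp ((stc x).codRestrict ι₀.range hmem)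
  have hφ : ι₀.comp φ = stc x := AlgHom.ext fun r => congrArg Subtype.val
    ((AlgEquiv.ofInjective ι₀ (algebraMap F L).injective).apply_symm_apply ⟨stc x r, hmem r⟩)
  refine ⟨VecGrp.ptMap φ ≫ spt (img x), ?_⟩
  rw [← Category.assoc, ← ptMap_comp, hφ, ptMap_stc]

section Algebraic

variable [IsAlgClosed k] {B : Type u} [CommRing B] [IsDomain B] [Algebra k B] [Algebra.FiniteType k B]
  [IsDedekindDomain B] {P : Ideal B} [P.IsMaximal] {t : B}
  (F K L : Type u) [Field F] [Field K] [Field L] [Algebra k K] [Algebra k L] [Algebra k F]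
  [Algebra k[X] F] [IsFractionRing k[X] F] [IsScalarTower k k[X] F]
  [Algebra B K] [IsFractionRing B K] [IsScalarTower k B K]
  [Algebra F K] [IsScalarTower k F K] [Algebra F L] [IsScalarTower k F L]
  [FiniteDimensional F L]

set_option maxHeartbeats 1000000 in
/-- A local ring of a field receiving the function field, centred above the point by one embedding only. -/
theorem IsParam.exists_centre (ht : IsParam (k := k) P t)
    (htX : algebraMap F K (algebraMap k[X] F X) = algebraMap B K t) (σ₀ : K →ₐ[F] L) :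
    ∃ (R : Type u) (_ : CommRing R) (_ : IsDomain R) (_ : IsLocalRing R) (_ : Algebra k R) (e : R →ₐ[k] L)
      (σR : (K →ₐ[F] L) → (B →ₐ[k] R)), Function.Injective e ∧
      (∀ σ b, e (σR σ b) = (σ.restrictScalars k) (algebraMap B K b)) ∧
      (IsLocalRing.maximalIdeal R).comap (σR σ₀) = P ∧
      ∀ σ, (IsLocalRing.maximalIdeal R).comap (σR σ) = P → σ = σ₀ := by
  classical
  letI : Algebra k[X] L := ((algebraMap F L).comp (algebraMap k[X] F)).toAlgebra
  haveI : IsScalarTower k[X] F L := IsScalarTower.of_algebraMap_eq fun _ => rfl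
  haveI : IsScalarTower k k[X] L := IsScalarTower.of_algebraMap_eq fun r => by
    show algebraMap k L r = algebraMap F L (algebraMap k[X] F (algebraMap k k[X] r))
    rw [← IsScalarTower.algebraMap_apply k k[X] F, ← IsScalarTower.algebraMap_apply k F L]
  let C := integralClosure k[X] L
  haveI : Module.Finite k[X] C := N2Field.finite_integralClosure k k[X] F L
  haveI : IsNoetherianRing C := IsNoetherianRing.of_finite k[X] C
  haveI : Algebra.IsIntegral k[X] C := Algebra.IsIntegral.of_finite _ _
  letI : Algebra k[X] B := (Polynomial.aeval (R := k) t).toRingHom.toAlgebra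
  haveI : Algebra.IsIntegral k[X] B := ⟨fun b => ht.finite.to_isIntegral b⟩
  have hcomm : ∀ (σ : K →ₐ[F] L) (p : k[X]),
      σ (algebraMap B K (Polynomial.aeval t p)) = algebraMap k[X] L p := by
    intro σ p
    have e : ((σ.restrictScalars k).comp (IsScalarTower.toAlgHom k B K)).comp (Polynomial.aeval t) =
        IsScalarTower.toAlgHom k k[X] L := Polynomial.algHom_ext (by
      simp only [AlgHom.comp_apply, aeval_X, IsScalarTower.toAlgHom_apply, AlgHom.restrictScalars_apply, ← htX,
        AlgHom.commutes]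
      rfl)
    exact congr($e p)
  have hmem : ∀ (σ : K →ₐ[F] L) (b : B), σ (algebraMap B K b) ∈ C := fun σ b =>
    ((Algebra.IsIntegral.isIntegral (R := k[X]) b).map_of_comp_eq (RingHom.id k[X])
      ((σ.toRingHom).comp (algebraMap B K))
      (RingHom.ext fun p => (hcomm σ p).symm) :)
  let σC : (K →ₐ[F] L) → (B →ₐ[k] C) := fun σ =>
    { toFun := fun b => ⟨σ (algebraMap B K b), hmem σ b⟩
      map_one' := Subtype.ext (by simp)
      map_mul' := fun a b => Subtype.ext (by simp)
      map_zero' := Subtype.ext (by simp)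
      map_add' := fun a b => Subtype.ext (by simp)
      commutes' := fun r => Subtype.ext (by
        show (σ.restrictScalars k) (algebraMap B K (algebraMap k B r)) = algebraMap k L r
        rw [← IsScalarTower.algebraMap_apply, AlgHom.commutes]) }
  letI : Algebra B C := (σC σ₀).toRingHom.toAlgebra
  haveI : IsScalarTower k[X] B C := IsScalarTower.of_algebraMap_eq fun p => Subtype.ext (hcomm σ₀ p).symm
  haveI : Algebra.IsIntegral B C := Algebra.IsIntegral.tower_top k[X]
  haveI : FaithfulSMul B C := (faithfulSMul_iff_algebraMap_injective _ _).2 fun a b h =>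
    IsFractionRing.injective B K (σ₀.toRingHom.injective (congrArg Subtype.val h))
  obtain ⟨M, hM, hMP⟩ := Ideal.exists_maximal_ideal_liesOver_of_isIntegral (S := C) P
  haveI := hM.isPrime
  let R := Localization.AtPrime M
  haveI : IsNoetherianRing R := IsLocalization.isNoetherianRing M.primeCompl R inferInstance
  let e : R →ₐ[k] L := IsLocalization.liftAlgHom (M := M.primeCompl) (f := (C.val.restrictScalars k))
    fun y => (show (y : C).1 ≠ 0 from fun h => y.2 (by
      rw [show (y : C) = 0 from Subtype.ext h]; exact M.zero_mem)).isUnit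
  have heC : ∀ x : C, e (algebraMap C R x) = x.1 := fun x => IsLocalization.lift_eq _ x
  have he : Function.Injective e := by
    refine (IsLocalization.lift_injective_iff _).2 fun x y => ⟨fun h => congrArg C.val ?_, fun h => congrArg _ ?_⟩
    · exact IsLocalization.injective R M.primeCompl_le_nonZeroDivisors h
    · exact Subtype.ext h
  let σR : (K →ₐ[F] L) → (B →ₐ[k] R) := fun σ =>
    (IsScalarTower.toAlgHom k C R).comp (σC σ)
  have heσ : ∀ σ b, e (σR σ b) = (σ.restrictScalars k) (algebraMap B K b) := fun σ b => heC _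
  have h0 : (IsLocalRing.maximalIdeal R).comap (σR σ₀) = P := by
    ext b
    show algebraMap C R (σC σ₀ b) ∈ IsLocalRing.maximalIdeal R ↔ _
    rw [IsLocalization.AtPrime.to_map_mem_maximal_iff R M, hMP.over]
    rfl
  have huniq : ∀ σ, (IsLocalRing.maximalIdeal R).comap (σR σ) = P → σ = σ₀ := by
    intro σ hσ
    have hX : σR σ t = σR σ₀ t := he (by
      rw [heσ, heσ]
      show σ (algebraMap B _ t) = σ₀ (algebraMap B _ t)
      rw [← htX, AlgHom.commutes, AlgHom.commutes])
    have h : σR σ = σR σ₀ := ht.hom_ext (R := R) (σ₁ := σR σ) (σ₂ := σR σ₀) hσ h0 hX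
    have hext : σ.toRingHom = σ₀.toRingHom := by
      refine IsLocalization.ringHom_ext (nonZeroDivisors B) (RingHom.ext fun b => ?_)
      show (σ.restrictScalars k) (algebraMap B _ b) = (σ₀.restrictScalars k) (algebraMap B _ b)
      rw [← heσ, ← heσ, h]
    exact AlgHom.coe_ringHom_injective hext
  exact ⟨R, inferInstance, inferInstance, inferInstance, inferInstance, e, σR, he, heσ, h0, huniq⟩

end Algebraic

/-- A finite Galois extension receiving a finite separable one. -/
theorem exists_galois_closure (k F K : Type u) [Field k] [Field F] [Field K] [Algebra k F] [Algebra k K]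
    [Algebra F K] [IsScalarTower k F K] [FiniteDimensional F K] [Algebra.IsSeparable F K] :
    ∃ (L : Type u) (_ : Field L) (_ : Algebra k L) (_ : Algebra F L) (_ : IsScalarTower k F L),
      FiniteDimensional F L ∧ IsGalois F L ∧ Nonempty (K →ₐ[F] L) := by
  haveI : Algebra.IsSeparable F (IntermediateField.normalClosure F K (AlgebraicClosure K)) := by
    rw [normalClosure_def F K (AlgebraicClosure K)]
    haveI : ∀ f : K →ₐ[F] AlgebraicClosure K, Algebra.IsSeparable F f.fieldRange := fun f =>
      AlgEquiv.Algebra.isSeparable (AlgEquiv.ofInjectiveField f)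
    infer_instance
  haveI : IsGalois F (IntermediateField.normalClosure F K (AlgebraicClosure K)) := ⟨⟩
  exact ⟨IntermediateField.normalClosure F K (AlgebraicClosure K), inferInstance, inferInstance, inferInstance,
    inferInstance, inferInstance, inferInstance, ⟨IsScalarTower.toAlgHom F K _⟩⟩

variable [GrpObj G] [IsCommMonObj G] [IsAlgClosed k]

/-- The norm computation. -/
theorem Escape.norm_nonconst (E : Escape G) {t : E.B} (ht : IsParam (k := k) E.P t)
    (L : Type u) [Field L] [Algebra k L] [Algebra (RatFunc k) L] [IsScalarTower k (RatFunc k) L]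
    [FiniteDimensional (RatFunc k) L] [IsGalois (RatFunc k) L]
    [Algebra (RatFunc k) (FractionRing E.B)] [IsScalarTower k (RatFunc k) (FractionRing E.B)]
    [FiniteDimensional (RatFunc k) (FractionRing E.B)]
    (htX : algebraMap (RatFunc k) (FractionRing E.B) (algebraMap k[X] (RatFunc k) X) = algebraMap E.B _ t)
    (σ₀ : FractionRing E.B →ₐ[RatFunc k] L) :
    ∃ g : VecGrp.pt k (RatFunc k) ⟶ G, ∀ c : RP G, g ≠ rat c := by
  classical
  letI : CommGroup (VecGrp.pt k L ⟶ G) := Hom.commGroup
  let fσ : (FractionRing E.B →ₐ[RatFunc k] L) → (VecGrp.pt k L ⟶ G) := fun σ =>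
    VecGrp.ptMap (σ.restrictScalars k) ≫ E.f
  let gL : VecGrp.pt k L ⟶ G := ∏ σ, fσ σ
  have hgal : ∀ τ : L ≃ₐ[RatFunc k] L, VecGrp.ptMap (τ.toAlgHom.restrictScalars k) ≫ gL = gL := fun τ => by
    let h : (VecGrp.pt k L ⟶ G) →* (VecGrp.pt k L ⟶ G) :=
      { toFun := fun q => VecGrp.ptMap (τ.toAlgHom.restrictScalars k) ≫ q
        map_one' := MonObj.comp_one _
        map_mul' := fun a b => MonObj.comp_mul _ a b }
    show h (∏ σ, fσ σ) = gL
    rw [map_prod]
    refine Fintype.prod_equiv ⟨fun σ => τ.toAlgHom.comp σ, fun σ => τ.symm.toAlgHom.comp σ,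
      fun σ => AlgHom.ext fun a => τ.symm_apply_apply (σ a), fun σ => AlgHom.ext fun a => τ.apply_symm_apply (σ a)⟩
      _ _ fun σ => ?_
    show _ ≫ VecGrp.ptMap _ ≫ E.f = VecGrp.ptMap _ ≫ E.f
    rw [← Category.assoc, ← ptMap_comp]
    rfl
  obtain ⟨g, hg⟩ := exists_descent gL hgal
  refine ⟨g, fun c hc => ?_⟩
  obtain ⟨R, _, _, _, _, e, σR, he, heσ, h0, huniq⟩ :=
    ht.exists_centre (RatFunc k) (FractionRing E.B) L htX σ₀
  letI : CommGroup (VecGrp.pt k R ⟶ G) := Hom.commGroup
  have hx : ∀ σ : {σ // σ ∈ (Finset.univ : Finset (FractionRing E.B →ₐ[RatFunc k] L)).erase σ₀},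
      ∃ x : VecGrp.pt k R ⟶ G, VecGrp.ptMap e ≫ x = fσ σ.1 := fun σ =>
    E.extends_away R L (σ.1.restrictScalars k) e (σR σ.1) he (heσ σ.1) fun h =>
      (Finset.mem_erase.1 σ.2).1 (huniq σ.1 h)
  choose x hx using hx
  let res : (VecGrp.pt k R ⟶ G) →* (VecGrp.pt k L ⟶ G) :=
    { toFun := fun q => VecGrp.ptMap e ≫ q
      map_one' := MonObj.comp_one _
      map_mul' := fun a b => MonObj.comp_mul _ a b }
  have hprod : res (∏ σ, x σ) = ∏ σ ∈ Finset.univ.erase σ₀, fσ σ := by
    rw [map_prod, ← Finset.prod_attach (Finset.univ.erase σ₀) fσ, ← Finset.univ_eq_attach]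
    exact Finset.prod_congr rfl fun σ _ => hx σ
  have hgc : gL = rat (A := L) c := by rw [← hg, hc, ptMap_rat]
  refine E.not_extends R L (σ₀.restrictScalars k) e (σR σ₀) he (heσ σ₀) h0 (rat (A := R) c * (∏ σ, x σ)⁻¹) ?_
  show res (rat (A := R) c * (∏ σ, x σ)⁻¹) = fσ σ₀
  rw [map_mul, map_inv, hprod, show res (rat (A := R) c) = rat (A := L) c from ptMap_rat _ _, ← hgc,
    mul_inv_eq_iff_eq_mul]
  exact (Finset.mul_prod_erase _ fσ (Finset.mem_univ σ₀)).symm

/-- A non-proper commutative group has a nonconstant point with values in the rational functions. -/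
theorem exists_nonconst_ratFunc [IsSeparated G.hom] [LocallyOfFiniteType G.hom] [QuasiCompact G.hom]
    (hG : ¬ IsProper G.hom) : ∃ g : VecGrp.pt k (RatFunc k) ⟶ G, ∀ c : RP G, g ≠ rat c := by
  classical
  obtain ⟨E⟩ := nonempty_escape G hG
  obtain ⟨t, ht⟩ := exists_param (k := k) E.P E.P_ne_bot
  let K := FractionRing E.B
  letI : Algebra k[X] E.B := (Polynomial.aeval (R := k) t).toRingHom.toAlgebra
  have hinj : Function.Injective (algebraMap k[X] K) := fun a b h => ht.injective (IsFractionRing.injective E.B K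
    (by rwa [IsScalarTower.algebraMap_apply k[X] E.B K, IsScalarTower.algebraMap_apply k[X] E.B K] at h))
  haveI : FaithfulSMul k[X] K := (faithfulSMul_iff_algebraMap_injective _ _).2 hinj
  letI : Algebra (RatFunc k) K := (IsFractionRing.lift hinj : RatFunc k →+* K).toAlgebra
  haveI : IsScalarTower k[X] (RatFunc k) K :=
    IsScalarTower.of_algebraMap_eq fun p => (IsFractionRing.lift_algebraMap hinj p).symm
  haveI : IsScalarTower k (RatFunc k) K := IsScalarTower.of_algebraMap_eq fun r => by
    rw [IsScalarTower.algebraMap_apply k k[X] (RatFunc k), ← IsScalarTower.algebraMap_apply k[X] (RatFunc k) K,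
      IsScalarTower.algebraMap_apply k E.B K]
    show _ = algebraMap E.B K (Polynomial.aeval t (algebraMap k k[X] r))
    rw [AlgHom.commutes]
  obtain ⟨hfd, hsep⟩ := ht.finiteDimensional_and_isSeparable (RatFunc k) K rfl
  haveI := hfd
  haveI := hsep
  obtain ⟨L, _, _, _, _, hLfin, hLgal, ⟨σ₀⟩⟩ := exists_galois_closure k (RatFunc k) K
  haveI := hLfin
  haveI := hLgal
  refine E.norm_nonconst ht L ?_ σ₀
  rw [← IsScalarTower.algebraMap_apply k[X] (RatFunc k) K, IsScalarTower.algebraMap_apply k[X] E.B K]
  show algebraMap E.B K (Polynomial.aeval t X) = _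
  rw [aeval_X]

end Groth.Agent.Chev
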