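import Groth.Agent.Chev.Affine
import Groth.Agent.Chev.Norm
import Groth.Agent.GrpField.Irreducible
import Groth.Agent.GrpBasic.ReducedNhd
import Groth.Agent.GrpField.QAAffine

/-!
# Affine subgroups of non-proper commutative groups

A non-proper commutative group over an algebraically closed field contains a connected smooth affine subgroup
of positive dimension.
-/

set_option autoImplicit false
set_option backward.isDefEq.respectTransparency false

universe u

open CategoryTheory CategoryTheory.Limits MonoidalCategory CartesianMonoidalCategory MonObj GrpObj AlgebraicGeometry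
open Polynomial

noncomputable section

namespace Groth.Agent.Chev

variable {k : Type u} [Field k] {G : Over (Spec (CommRingCat.of k))}

/-- Points with values in the rational functions are curves. -/
theorem exists_ratCurve_of_point [LocallyOfFiniteType G.hom] (g : VecGrp.pt k (RatFunc k) ⟶ G) :
    ∃ (c : RatCurve G) (ι₁ : Localization.Away c.g →ₐ[k] RatFunc k), VecGrp.ptMap ι₁ ≫ c.map = g := by
  classical
  let y := g.left (IsLocalRing.closedPoint (RatFunc k))
  obtain ⟨_, ⟨V, hV, rfl⟩, hyV, -⟩ := G.left.isBasis_affineOpens.exists_subset_of_mem_open (Set.mem_univ y) isOpen_univ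
  let A := Γ(G.left, V)
  letI : Algebra k A := (Spec.preimage (hV.fromSpec ≫ G.hom)).hom.toAlgebra
  have hAhom : Spec.map (CommRingCat.ofHom (algebraMap k A)) = hV.fromSpec ≫ G.hom := Spec.map_preimage _
  haveI : Algebra.FiniteType k A := by
    have h1 : LocallyOfFiniteType (Spec.map (CommRingCat.ofHom (algebraMap k A))) := by
      rw [hAhom]; infer_instance
    rw [HasRingHomProperty.Spec_iff (P := @LocallyOfFiniteType)] at h1
    exact h1
  have hrange : Set.range g.left ⊆ Set.range hV.fromSpec := by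
    rintro _ ⟨z, rfl⟩
    rw [hV.range_fromSpec]
    rw [show z = IsLocalRing.closedPoint (RatFunc k) from Subsingleton.elim (α := PrimeSpectrum (RatFunc k)) _ _]
    exact hyV
  let χ : A ⟶ CommRingCat.of (RatFunc k) :=
    Spec.preimage (IsOpenImmersion.lift hV.fromSpec g.left hrange)
  have hχ : Spec.map χ ≫ hV.fromSpec = g.left := by
    rw [Spec.map_preimage, IsOpenImmersion.lift_fac]
  have hχk : ∀ r : k, χ.hom (algebraMap k A r) = algebraMap k (RatFunc k) r := fun r => by
    have e : CommRingCat.ofHom (algebraMap k A) ≫ χ = CommRingCat.ofHom (algebraMap k (RatFunc k)) := by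
      apply Spec.map_injective
      rw [Spec.map_comp, hAhom, ← Category.assoc, hχ]
      exact Over.w g
    exact congr($e r)
  let χa : A →ₐ[k] RatFunc k := { toRingHom := χ.hom, commutes' := hχk }
  obtain ⟨S, hS⟩ := (‹Algebra.FiniteType k A›).out
  obtain ⟨⟨g₀, hg₀⟩, hint⟩ := IsLocalization.exist_integer_multiples_of_finset (nonZeroDivisors k[X]) (S.image χa)
  have hg₀0 : g₀ ≠ 0 := nonZeroDivisors.ne_zero hg₀
  let ι₁ : Localization.Away g₀ →ₐ[k] RatFunc k :=
    IsLocalization.liftAlgHom (M := Submonoid.powers g₀) (f := IsScalarTower.toAlgHom k k[X] (RatFunc k)) fun z =>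
      IsLocalization.map_units (M := nonZeroDivisors k[X]) (RatFunc k)
        ⟨z, powers_le_nonZeroDivisors_of_noZeroDivisors hg₀0 z.2⟩
  have hι₁ : ∀ p : k[X], ι₁ (algebraMap _ _ p) = algebraMap k[X] (RatFunc k) p := fun p => IsLocalization.lift_eq _ p
  have hinj : Function.Injective ι₁ := by
    refine (IsLocalization.lift_injective_iff _).2 fun p q => ⟨fun h => congrArg _ ?_, fun h => congrArg _ ?_⟩
    · exact IsLocalization.injective _ (powers_le_nonZeroDivisors_of_noZeroDivisors hg₀0) h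
    · exact IsFractionRing.injective k[X] (RatFunc k) h
  have hmem : ∀ a : A, χa a ∈ ι₁.range := fun a => by
    have ha : a ∈ Algebra.adjoin k (S : Set A) := by rw [hS]; trivial
    refine Algebra.adjoin_le (S := ι₁.range.comap χa) (fun s hs => ?_) ha
    obtain ⟨p, hp⟩ := hint (χa s) (Finset.mem_image_of_mem _ hs)
    refine ⟨IsLocalization.mk' _ p ⟨g₀, Submonoid.mem_powers g₀⟩, ?_⟩
    have hne : algebraMap k[X] (RatFunc k) g₀ ≠ 0 :=
      (IsLocalization.map_units (M := nonZeroDivisors k[X]) (RatFunc k) ⟨g₀, hg₀⟩).ne_zero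
    refine mul_left_cancel₀ hne ?_
    show algebraMap k[X] (RatFunc k) g₀ * ι₁ _ = algebraMap k[X] (RatFunc k) g₀ * χa s
    rw [← hι₁ g₀, ← map_mul]
    refine ((congrArg ι₁ (IsLocalization.mk'_spec' (Localization.Away g₀) p (⟨g₀, Submonoid.mem_powers g₀⟩ :
      Submonoid.powers g₀))).trans ((hι₁ p).trans ?_))
    rw [hp, Algebra.smul_def, hι₁]
  let θ : A →ₐ[k] Localization.Away g₀ :=
    (AlgEquiv.ofInjective ι₁ hinj).symm.toAlgHom.comp (χa.codRestrict ι₁.range hmem)
  have hθ : ι₁.comp θ = χa := AlgHom.ext fun a => congrArg Subtype.val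
    ((AlgEquiv.ofInjective ι₁ hinj).apply_symm_apply ⟨χa a, hmem a⟩)
  let m : VecGrp.pt k (Localization.Away g₀) ⟶ G :=
    Over.homMk (Spec.map (CommRingCat.ofHom θ.toRingHom) ≫ hV.fromSpec) (by
      show (Spec.map _ ≫ hV.fromSpec) ≫ G.hom = _
      rw [Category.assoc, ← hAhom]
      exact Over.w (VecGrp.ptMap θ))
  refine ⟨⟨g₀, hg₀0, m⟩, ι₁, Over.OverMorphism.ext ?_⟩
  show Spec.map _ ≫ Spec.map _ ≫ hV.fromSpec = g.left
  rw [← Spec.map_comp_assoc, ← hχ]
  congr 2
  exact CommRingCat.hom_ext (congrArg AlgHom.toRingHom hθ)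

variable [IsAlgClosed k] [GrpObj G]

/-- Curves through a nonconstant point are nonconstant on rational points. -/
theorem exists_uv_ne [IsSeparated G.hom] [LocallyOfFiniteType G.hom] (c : RatCurve G)
    (ι₁ : Localization.Away c.g →ₐ[k] RatFunc k) (h : ∀ d : RP G, VecGrp.ptMap ι₁ ≫ c.map ≠ rat d) :
    ∃ s s', c.g.eval s ≠ 0 ∧ c.g.eval s' ≠ 0 ∧ c.uv s ≠ c.uv s' := by
  by_contra hc
  push Not at hc
  classical
  haveI : Infinite k := IsAlgClosed.instInfinite
  obtain ⟨v₀, hv₀'⟩ := Infinite.exists_notMem_finset c.g.roots.toFinset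
  have hv₀ : c.g.eval v₀ ≠ 0 := fun h => hv₀' (Multiset.mem_toFinset.2 ((mem_roots c.g_ne_zero).2 h))
  refine h (c.uv v₀) ?_
  have : c.map = rat (A := Localization.Away c.g) (c.uv v₀) := by
    haveI := smooth_dom c.g
    haveI := irreducibleSpace_dom c.g c.g_ne_zero
    haveI : IsReduced (Dom c.g).left := by
      haveI : IsDomain (Localization.Away c.g) :=
        IsLocalization.isDomain_localization (powers_le_nonZeroDivisors_of_noZeroDivisors c.g_ne_zero)
      exact inferInstanceAs (IsReduced (Spec (CommRingCat.of (Localization.Away c.g))))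
    apply Over.OverMorphism.ext
    haveI : LocallyOfFiniteType (c.map.left ≫ G.hom) := by
      rw [Over.w c.map]; exact (inferInstanceAs (LocallyOfFiniteType (Dom c.g).hom))
    refine ext_of_apply_eq G.hom Set.univ isOpen_univ.isLocallyClosed dense_univ (fun x _ hx => ?_)
      ((Over.w c.map).trans (Over.w (rat (A := Localization.Away c.g) (c.uv v₀))).symm)
    obtain ⟨a, rfl⟩ := SubGen.exists_rpt (Y := Dom c.g) (mem_closedPoints_iff.2 hx)
    obtain ⟨s, hs, ha⟩ := c.exists_param a
    show SubGen.rpt (a ≫ c.map) = SubGen.rpt (a ≫ rat (c.uv v₀))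
    rw [ha, hc s v₀ hs hv₀, rat, ← Category.assoc, toUnit_unique (a ≫ toUnit _) (𝟙 _), Category.id_comp]
  rw [this, ptMap_rat]

omit [IsAlgClosed k] in
theorem isCommMonObj_of_mono [IsCommMonObj G] {P : Over (Spec (CommRingCat.of k))} [GrpObj P] (i : P ⟶ G)
    [IsMonHom i] [Mono i] : IsCommMonObj P := by
  refine ⟨(cancel_mono i).1 ?_⟩
  rw [Category.assoc, IsMonHom.mul_hom, ← Category.assoc, ← BraidedCategory.braiding_naturality, Category.assoc,
    IsCommMonObj.mul_comm]

set_option maxHeartbeats 2000000 in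
/-- A non-proper commutative group has a positive dimensional affine subgroup. -/
theorem exists_affine_subgroup_of_comm [IsCommMonObj G] [LocallyOfFiniteType G.hom] [QuasiCompact G.hom]
    (hG : ¬ IsProper G.hom) :
    ∃ (H : Over (Spec (CommRingCat.of k))) (_ : GrpObj H) (j : H ⟶ G), IsMonHom j ∧ IsClosedImmersion j.left ∧
      Smooth H.hom ∧ IsAffine H.left ∧ ConnectedSpace H.left ∧ IsCommMonObj H ∧
      0 < topologicalKrullDim ↥H.left := by
  classical
  haveI : IsSeparated G.hom := GrpField.isSeparated_hom G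
  obtain ⟨g, hg⟩ := exists_nonconst_ratFunc hG
  obtain ⟨c, ι₁, hc⟩ := exists_ratCurve_of_point g
  obtain ⟨s₁, s₂, hs₁, hs₂, hne⟩ := exists_uv_ne c ι₁ fun d => hc ▸ hg d
  let c₁ := c.shift c.g c.g_ne_zero dvd_rfl (c.uv s₂)⁻¹
  have huv : ∀ s, c.g.eval s ≠ 0 → c₁.uv s = (c.uv s₂)⁻¹ * c.uv s := fun s hs =>
    c.uv_shift c.g c.g_ne_zero dvd_rfl _ hs
  have hu₂ : c₁.uv s₂ = 1 := by rw [huv s₂ hs₂, inv_mul_cancel]
  obtain ⟨a₀, ha₀⟩ := c₁.exists_point (s := s₂) hs₂
  obtain ⟨P, hP, i, f', m, him, hci, hf', hred, hconn, hm⟩ :=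
    exists_gen c.g c.g_ne_zero c₁.map (a₀ := a₀) (ha₀.trans hu₂)
  haveI := him
  haveI := hci
  haveI := hred
  haveI := hconn
  haveI : Mono i := GrpField.SchImg.mono_of_isClosedImmersion i
  haveI : LocallyOfFiniteType P.hom := by rw [← Over.w i]; infer_instance
  haveI : QuasiCompact P.hom := by rw [← Over.w i]; infer_instance
  haveI : IsSeparated P.hom := by rw [← Over.w i]; infer_instance
  haveI : IsCommMonObj P := isCommMonObj_of_mono i
  haveI : Nonempty P.left := ⟨SubGen.rpt (1 : RP P)⟩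
  haveI : IrreducibleSpace P.left :=
    GrpField.irreducibleSpace_of_nhds fun y => GrpField.exists_irreducible_nhd P y
  haveI : IsIntegral P.left := isIntegral_of_irreducibleSpace_of_isReduced _
  haveI : Smooth P.hom := GrpBasic.smooth_of_perfect_stalk P (SubGen.rpt (1 : RP P))
  let c' : RatCurve P := ⟨c.g, c.g_ne_zero, f'⟩
  have hc' : ∀ s, c.g.eval s ≠ 0 → c'.uv s ≫ i = (c.uv s₂)⁻¹ * c.uv s := fun s hs => by
    rw [← c'.uv_eq_comp i (s := s) hs, ← huv s hs]
    have e : (⟨c'.g, c'.g_ne_zero, c'.map ≫ i⟩ : RatCurve G) = c₁ := by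
      show (⟨c.g, c.g_ne_zero, f' ≫ i⟩ : RatCurve G) = c₁
      rw [hf']
      rfl
    rw [e]
  have hc'2 : c'.uv s₂ = 1 := by
    rw [← cancel_mono i, hc' s₂ hs₂, inv_mul_cancel, MonObj.one_comp]
  haveI : IsAffine P.left := isAffine_of_ratCurve c' fun K _ j hjm hjc hKc => by
    haveI := hjm
    haveI := hjc
    haveI : LocallyOfFiniteType K.hom := by rw [← Over.w j]; infer_instance
    haveI : JacobsonSpace P.left := LocallyOfFiniteType.jacobsonSpace P.hom
    let T : Subgroup (RP P) :=
      { carrier := {h | ∃ z : RP K, z ≫ j = h}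
        mul_mem' := fun ⟨z, hz⟩ ⟨z', hz'⟩ => ⟨z * z', by rw [MonObj.mul_comp, hz, hz']⟩
        one_mem' := ⟨1, MonObj.one_comp _⟩
        inv_mem' := fun ⟨z, hz⟩ => ⟨z⁻¹, by rw [GrpObj.inv_comp, hz]⟩ }
    have hr : Set.range j.left = Set.univ := by
      have h1 : closedPoints P.left ⊆ Set.range j.left := fun w hw => by
        obtain ⟨h, rfl⟩ := SubGen.exists_rpt hw
        obtain ⟨e, rfl⟩ := hm h
        obtain ⟨z, hz⟩ := word_mem f' T (fun a => by
          obtain ⟨s, hs, ha⟩ := c'.exists_param a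
          obtain ⟨z, hz⟩ := hKc s s₂ hs hs₂
          refine ⟨z, hz.trans ?_⟩
          rw [hc'2, inv_one, _root_.one_mul]
          exact ha.symm) m e
        exact ⟨SubGen.rpt z, congrArg SubGen.rpt hz⟩
      have h2 := closure_minimal h1 j.left.isClosedEmbedding.isClosed_range
      rw [closure_closedPoints] at h2
      exact Set.univ_subset_iff.1 h2
    exact ⟨fun x => hr.ge (Set.mem_univ x)⟩
  refine ⟨P, hP, i, inferInstance, inferInstance, inferInstance, inferInstance, inferInstance, inferInstance, ?_⟩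
  have hne' : SubGen.rpt (c'.uv s₁) ≠ SubGen.rpt (c'.uv s₂) := fun e => hne (by
    have h := congrArg (fun z : RP P => z ≫ i) (SubGen.rpt_injective e)
    simp only [hc' s₁ hs₁, hc' s₂ hs₂] at h
    exact mul_left_cancel h)
  haveI : JacobsonSpace P.left := LocallyOfFiniteType.jacobsonSpace P.hom
  let x := SubGen.rpt (c'.uv s₁)
  rw [topologicalKrullDim, Order.krullDim_pos_iff]
  refine ⟨⟨{x}, isIrreducible_singleton, mem_closedPoints_iff.1 (SubGen.rpt_mem_closedPoints _)⟩,
    ⟨Set.univ, (irreducibleSpace_def _).1 inferInstance, isClosed_univ⟩, ?_⟩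
  refine lt_of_le_of_ne (fun z _ => Set.mem_univ z) fun e => hne' ?_
  have : SubGen.rpt (c'.uv s₂) ∈ ({x} : Set P.left) := by
    rw [show ({x} : Set P.left) = Set.univ from congrArg TopologicalSpace.IrreducibleCloseds.carrier e]; trivial
  exact (Set.mem_singleton_iff.1 this).symm

end Groth.Agent.Chev
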