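import Groth.Agent.Chev.AntiAff
import Groth.Agent.Chev.Subgroup
import Groth.Agent.S0383
import Groth.Agent.GrpField.Isogeny

/-!
# Anti-affine groups are divisible; the centre and the affine part generate
-/

set_option autoImplicit false
set_option backward.isDefEq.respectTransparency false

universe u

open CategoryTheory CategoryTheory.Limits MonoidalCategory CartesianMonoidalCategory MonObj GrpObj AlgebraicGeometry

noncomputable section

namespace Groth.Agent.Chev

open AVDeg (bcK specMap)

variable {k : Type u} [Field k]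

theorem isMonHom_pow (G : Over (Spec (CommRingCat.of k))) [GrpObj G] [IsCommMonObj G] (n : ℕ) :
    IsMonHom (𝟙 G ^ n) := by
  have h : ∀ {T : Over (Spec (CommRingCat.of k))} (x : T ⟶ G), x ≫ (𝟙 G ^ n) = x ^ n := fun x => by
    rw [MonObj.comp_pow, Category.comp_id]
  refine ⟨?_, ?_⟩
  · rw [h, show η[G] = (1 : 𝟙_ _ ⟶ G) by rw [Hom.one_def, toUnit_unit, Category.id_comp], one_pow]
  · rw [h, show μ[G] = fst G G * snd G G from Eq.symm (by rw [Hom.mul_def, lift_fst_snd, Category.id_comp]),
      mul_pow, MonObj.comp_mul, tensorHom_fst, tensorHom_snd, h, h]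

set_option maxHeartbeats 1000000 in
/-- An anti-affine group over an algebraically closed field is divisible. -/
theorem surjective_pow_of_anti [IsAlgClosed k] (M : Over (Spec (CommRingCat.of k))) [GrpObj M] [Smooth M.hom]
    [QuasiCompact M.hom] (hM : IsAnti M) {n : ℕ} (hn : 0 < n) : Surjective (𝟙 M ^ n).left := by
  obtain ⟨hMc, hMcomm⟩ := S3293.result k M hM
  haveI := hMc; haveI := hMcomm
  haveI := isMonHom_pow M n
  haveI : IsSeparated M.hom := GrpField.isSeparated_hom M
  haveI : QuasiCompact (𝟙 M ^ n).left := by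
    haveI : QuasiCompact ((𝟙 M ^ n).left ≫ M.hom) := by rw [Over.w]; infer_instance
    exact QuasiCompact.of_comp _ M.hom
  obtain ⟨C, hC, iC, g, hiC, hg, hgi, hicl, -, -, hgs⟩ := GrpField.SchImg.exists_image (𝟙 M ^ n)
  haveI := hiC; haveI := hicl; haveI := hgs
  obtain ⟨R, hR, r, hrm, hrf, hrs, hrk, hrsep, hRsm, hRq, hRc, -⟩ := exists_quotient_group' iC
    (fun T a x => ⟨x, by rw [_root_.mul_comm a, _root_.mul_assoc, mul_inv_cancel, _root_.mul_one]⟩)
  haveI := hrm; haveI := hrf; haveI := hrs; haveI := hrsep; haveI := hRsm; haveI := hRq; haveI := hRc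
  have hpr : (𝟙 M ^ n) ≫ r = 1 := by
    rw [← hgi, Category.assoc, hrk.w, comp_toUnit_assoc, ← Hom.one_def]
  haveI : Epi r := AVQuot.epi_of_covering r
  have hR1 : 𝟙 R ^ n = (1 : R ⟶ R) := by
    rw [← cancel_epi r, MonObj.comp_pow, Category.comp_id, MonObj.comp_one, ← hpr]
    conv_rhs => rw [MonObj.pow_comp, Category.id_comp]
  obtain ⟨L, hL, l, B, hB, q, hlm, hlc, hla, hls, hlcon, -, hqm, hqs, hqf, hker, hBp, hBs, hBc⟩ := exists_structure R
  haveI := hla; haveI := hqm; haveI := hqs; haveI := hqf; haveI := hBp; haveI := hBs; haveI := hBc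
  haveI := geometricallyIntegral_of_group (A := B)
  haveI := Groth.Agent.S0383.result k B n hn
  haveI : Epi q := AVQuot.epi_of_covering q
  have hB1 : 𝟙 B ^ n = (1 : B ⟶ B) := by
    rw [← cancel_epi q, MonObj.comp_pow, Category.comp_id, MonObj.comp_one]
    conv_lhs => rw [← Category.id_comp q, ← MonObj.pow_comp, hR1, MonObj.one_comp]
  haveI : Subsingleton B.left := by
    have key : ∀ a : B.left, a = SubGen.rpt (1 : RP B) := fun a => by
      obtain ⟨x, rfl⟩ := (𝟙 B ^ n).left.surjective a
      rw [hB1, Hom.one_def, Over.comp_left, Scheme.Hom.comp_apply]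
      exact (SubGen.apply_eq_rpt (η[B] : RP B) _).trans (by rw [Hom.one_def, toUnit_unit, Category.id_comp])
    exact ⟨fun a b => by rw [key a, key b]⟩
  haveI := isIso_hom_of_subsingleton B
  have hq1 : 𝟙 R ≫ q = toUnit R ≫ η[B] := by
    apply Over.OverMorphism.ext
    rw [← cancel_mono B.hom, Over.w, Over.w]
  haveI : IsAffine R.left := by
    haveI : IsClosedImmersion l.left := hlc
    haveI : Mono l := GrpField.SchImg.mono_of_isClosedImmersion l
    have hs : hker.lift (𝟙 R) (toUnit R) hq1 ≫ l = 𝟙 R := hker.lift_fst _ _ _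
    haveI : IsIso l := ⟨hker.lift (𝟙 R) (toUnit R) hq1,
      by rw [← cancel_mono l, Category.assoc, hs, Category.comp_id, Category.id_comp], hs⟩
    haveI : IsIso l.left := inferInstanceAs (IsIso ((Over.forget _).map l))
    exact IsAffine.of_isIso (inv l.left)
  have hr : 𝟙 M ≫ r = toUnit M ≫ η[R] := by rw [Category.id_comp, eq_one_of_anti hM r, Hom.one_def]
  haveI : Surjective iC.left := ⟨fun x => by
    refine ⟨(hrk.lift (𝟙 M) (toUnit M) hr).left x, ?_⟩
    rw [← Scheme.Hom.comp_apply, ← Over.comp_left, hrk.lift_fst, Over.id_left]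
    rfl⟩
  rw [← hgi, Over.comp_left]
  infer_instance

/-- An anti-affine group over any field is divisible. -/
theorem surjective_pow_of_anti' (M : Over (Spec (CommRingCat.of k))) [GrpObj M] [LocallyOfFiniteType M.hom]
    [QuasiCompact M.hom] (hM : IsAnti M) {n : ℕ} (hn : 0 < n) : Surjective (𝟙 M ^ n).left := by
  let K := AlgebraicClosure k
  let F := Over.pullback (specMap k K)
  haveI := smooth_of_anti M hM
  have hMK : IsAnti (bcK k K M) := (Groth.Agent.S19702.result k K M).1 hM
  haveI := surjective_pow_of_anti (bcK k K M) hMK hn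
  have hpow : ∀ m : ℕ, F.map (𝟙 M ^ m) = 𝟙 (bcK k K M) ^ m := by
    intro m
    induction m with
    | zero => rw [pow_zero, pow_zero]; exact bcMap_one K
    | succ m ih => rw [pow_succ, pow_succ, Functor.map_mul, ih, F.map_id]
  have hr := range_bcMap K (𝟙 M ^ n)
  refine ⟨fun x => ?_⟩
  obtain ⟨y, rfl⟩ := (pullback.fst M.hom (specMap k K)).surjective x
  have hy : y ∈ Set.range (F.map (𝟙 M ^ n)).left := by
    rw [hpow n, Set.range_eq_univ.2 (𝟙 (bcK k K M) ^ n).left.surjective]
    trivial
  rw [hr] at hy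
  exact hy

/-- A surjective endomorphism of a connected smooth group is finite. -/
theorem isFinite_endo (M : Over (Spec (CommRingCat.of k))) [GrpObj M] [Smooth M.hom] [QuasiCompact M.hom]
    [ConnectedSpace M.left] (f : M ⟶ M) [IsMonHom f] [Surjective f.left] : IsFinite f.left := by
  haveI := geometricallyIntegral_of_group (A := M)
  haveI : IsIntegral M.left := GeometricallyIntegral.isIntegral_of_subsingleton M.hom
  haveI : IsLocallyNoetherian M.left := LocallyOfFiniteType.isLocallyNoetherian M.hom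
  haveI : CompactSpace M.left := QuasiCompact.compactSpace_of_compactSpace M.hom
  haveI : IsNoetherian M.left := {}
  haveI : JacobsonSpace M.left := LocallyOfFiniteType.jacobsonSpace M.hom
  haveI : IsSeparated M.hom := GrpField.isSeparated_hom M
  haveI : Flat f.left := GrpField.flat_of_surjective f
  haveI : QuasiCompact f.left := by
    haveI : QuasiCompact (f.left ≫ M.hom) := by rw [Over.w]; infer_instance
    exact QuasiCompact.of_comp _ M.hom
  haveI : LocallyOfFiniteType f.left := by
    haveI : LocallyOfFiniteType (f.left ≫ M.hom) := by rw [Over.w]; infer_instance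
    exact locallyOfFiniteType_of_comp f.left M.hom
  have hec := GrpField.isClosed_unit (Y := M)
  have hK := GrpField.finite_fibre_of_flat f hec fun z hz => by
    apply WithBot.coe_injective
    rw [GrpField.coheight_eq_topologicalKrullDim M hz, GrpField.coheight_eq_topologicalKrullDim M hec]
  let κ := (η[M] : 𝟙_ (Over (Spec (CommRingCat.of k))) ⟶ M).left
  haveI : IsClosedImmersion κ := GrpField.isClosedImmersion_unit
  have hlqf : LocallyQuasiFinite (pullback.snd f.left κ) := by
    refine .of_finite_preimage_singleton _ fun x => ?_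
    refine (hK.preimage (pullback.fst f.left κ).isEmbedding.injective.injOn).subset fun w _ => ?_
    show f.left (pullback.fst f.left κ w) = η[M].left (IsLocalRing.closedPoint k)
    rw [← Scheme.Hom.comp_apply, pullback.condition, Scheme.Hom.comp_apply,
      show pullback.snd f.left κ w = IsLocalRing.closedPoint k from
        Subsingleton.elim (α := PrimeSpectrum k) _ _]
  haveI : IsLocallyArtinian (𝟙_ (Over (Spec (CommRingCat.of k)))).left :=
    inferInstanceAs (IsLocallyArtinian (Spec (CommRingCat.of k)))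
  haveI := IsFinite.of_locallyQuasiFinite (pullback.snd f.left κ)
  haveI : IsProper f.left := GrpField.isProper_of_kernel f
  haveI : LocallyQuasiFinite f.left :=
    .of_finite_preimage_singleton _ fun y => GrpField.finite_preimage_singleton f hlqf y
  exact IsFinite.of_isProper_of_locallyQuasiFinite f.left

/-- A group generated by a central anti-affine subgroup and a commutative subgroup is commutative. -/
theorem isCommMonObj_of_generated {G D N : Over (Spec (CommRingCat.of k))} [GrpObj G] [GrpObj D] [GrpObj N]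
    [IsCommMonObj D] [IsCommMonObj N] [Smooth G.hom] [QuasiCompact G.hom] [LocallyOfFiniteType D.hom]
    [QuasiCompact D.hom] [LocallyOfFiniteType N.hom] [QuasiCompact N.hom]
    (j : D ⟶ G) [IsMonHom j] (i : N ⟶ G) [IsMonHom i]
    (hc : ∀ (T : Over (Spec (CommRingCat.of k))) (a : T ⟶ D) (n : T ⟶ N), (a ≫ j) * (n ≫ i) = (n ≫ i) * (a ≫ j))
    (hs : Surjective ((j ⊗ₘ i) ≫ μ[G]).left) : IsCommMonObj G := by
  let m := (j ⊗ₘ i) ≫ μ[G]
  haveI : IsMonHom m := isMonHom_tensor_mul j i hc
  haveI : IsSeparated G.hom := GrpField.isSeparated_hom G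
  haveI : IsLocallyNoetherian G.left := LocallyOfFiniteType.isLocallyNoetherian G.hom
  haveI : LocallyOfFiniteType (D ⊗ N).hom :=
    inferInstanceAs (LocallyOfFiniteType (Limits.pullback.fst D.hom N.hom ≫ D.hom))
  haveI : QuasiCompact (D ⊗ N).hom := inferInstanceAs (QuasiCompact (Limits.pullback.fst D.hom N.hom ≫ D.hom))
  haveI : QuasiCompact m.left := by
    haveI : QuasiCompact (m.left ≫ G.hom) := by rw [Over.w]; infer_instance
    exact QuasiCompact.of_comp _ G.hom
  haveI : LocallyOfFiniteType m.left := by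
    haveI : LocallyOfFiniteType (m.left ≫ G.hom) := by rw [Over.w]; infer_instance
    exact locallyOfFiniteType_of_comp m.left G.hom
  haveI : LocallyOfFinitePresentation m.left := inferInstance
  haveI : IsReduced G.left := isReduced_of_smooth' G
  haveI : Surjective m.left := hs
  haveI : Flat m.left := GrpField.flat_of_surjective_reduced m
  obtain ⟨h1, h2, -⟩ := AVQuot.covering_tensor m m
  haveI := h1; haveI := h2
  haveI := AVQuot.epi_of_covering (m ⊗ₘ m)
  haveI : IsCommMonObj (D ⊗ N) := inferInstance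
  refine ⟨(cancel_epi (m ⊗ₘ m)).1 ?_⟩
  rw [← Category.assoc, BraidedCategory.braiding_naturality, Category.assoc, ← IsMonHom.mul_hom m, ← Category.assoc,
    IsCommMonObj.mul_comm]

/-- The centre and the affine part generate, and the group is commutative when the affine part is. -/
theorem centre_mul_affPart [IsAlgClosed k] {G N : Over (Spec (CommRingCat.of k))} [GrpObj G] [GrpObj N]
    [Smooth G.hom] [QuasiCompact G.hom] [ConnectedSpace G.left] (i : N ⟶ G) [IsMonHom i] [IsClosedImmersion i.left]
    (hNmax : ∀ (N' : Over (Spec (CommRingCat.of k))) [GrpObj N'] (i' : N' ⟶ G) [IsMonHom i'] [IsClosedImmersion i'.left]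
      [Smooth N'.hom] [ConnectedSpace N'.left] [IsAffine N'.left], AlgGrp.IsNormalHom i' → ∃ f : N' ⟶ N, f ≫ i = i') :
    ∃ (D : Over (Spec (CommRingCat.of k))) (_ : GrpObj D) (jD : D ⟶ G),
      (∀ (T : Over (Spec (CommRingCat.of k))) (x : T ⟶ D) (g : T ⟶ G), (x ≫ jD) * g = g * (x ≫ jD)) ∧
      Surjective ((jD ⊗ₘ i) ≫ μ[G]).left ∧ (IsCommMonObj N → IsCommMonObj G) := by
  obtain ⟨L, hL, l, A, hA, q, hlm, hlc, hla, hls, hlcon, hln, hqm, hqs, hqf, hker, hAp, hAs, hAc⟩ := exists_structure G
  haveI := hlm; haveI := hlc; haveI := hla; haveI := hls; haveI := hlcon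
  haveI := hqm; haveI := hqs; haveI := hAp; haveI := hAc
  obtain ⟨f, hf⟩ := hNmax L l hln
  obtain ⟨D, hD, jD, hjm, hjc, hanti, hs⟩ := surjective_anti_to_proper q
  haveI := hjm; haveI := hjc; haveI := hs
  haveI : LocallyOfFiniteType D.hom := by rw [← Over.w jD]; infer_instance
  haveI : QuasiCompact D.hom := by rw [← Over.w jD]; infer_instance
  have hc : ∀ (T : Over (Spec (CommRingCat.of k))) (x : T ⟶ D) (g : T ⟶ G), (x ≫ jD) * g = g * (x ≫ jD) :=
    fun T x g => by simpa only [Category.id_comp] using S7996.result k D G hanti jD T x T (𝟙 T) g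
  have hs₁ := surjective_mul_of_surjective_comp l q hker jD
  have hsurj : Surjective ((jD ⊗ₘ i) ≫ μ[G]).left := by
    have e : (l ⊗ₘ jD) ≫ μ[G] = lift (snd L D) (fst L D ≫ f) ≫ (jD ⊗ₘ i) ≫ μ[G] := by
      rw [← Category.id_comp ((l ⊗ₘ jD) ≫ μ[G]), comp_tensor_mul, comp_tensor_mul, lift_fst, lift_snd,
        Category.id_comp, Category.id_comp, Category.assoc (fst L D) f i, hf, hc]
    rw [e, Over.comp_left] at hs₁
    haveI := hs₁
    exact Surjective.of_comp (lift (snd L D) (fst L D ≫ f)).left _
  refine ⟨D, hD, jD, hc, hsurj, fun hN => ?_⟩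
  haveI := hN
  haveI := (S3293.result k D hanti).2
  haveI : LocallyOfFiniteType N.hom := by rw [← Over.w i]; infer_instance
  haveI : QuasiCompact N.hom := by rw [← Over.w i]; infer_instance
  exact isCommMonObj_of_generated jD i (fun T x y => hc T x _) hsurj

/-- The anti-affine and linear parts generate over a perfect field. -/
theorem anti_mul_linear [PerfectField k] {G N M : Over (Spec (CommRingCat.of k))} [GrpObj G] [GrpObj N] [GrpObj M]
    [Smooth G.hom] [QuasiCompact G.hom] [ConnectedSpace G.left] (i : N ⟶ G) [IsMonHom i]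
    (hNmax : ∀ (N' : Over (Spec (CommRingCat.of k))) [GrpObj N'] (i' : N' ⟶ G) [IsMonHom i'] [IsClosedImmersion i'.left]
      [Smooth N'.hom] [ConnectedSpace N'.left] [IsAffine N'.left], AlgGrp.IsNormalHom i' → ∃ f : N' ⟶ N, f ≫ i = i')
    (j : M ⟶ G) [IsMonHom j] [IsClosedImmersion j.left] (hM : IsAnti M)
    (hMmax : ∀ (M' : Over (Spec (CommRingCat.of k))) [GrpObj M'] (j' : M' ⟶ G) [IsMonHom j'] [IsClosedImmersion j'.left],
      IsAnti M' → ∃ f : M' ⟶ M, f ≫ j = j') :
    IsMonHom ((j ⊗ₘ i) ≫ μ[G]) ∧ Surjective ((j ⊗ₘ i) ≫ μ[G]).left := by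
  obtain ⟨L, hL, l, A, hA, q, hlm, hlc, hla, hls, hlcon, hln, hqm, hqs, hqf, hker, hAp, -, -⟩ :=
    exists_structure_perfect (AlgebraicClosure k) G
  haveI := hlm; haveI := hlc; haveI := hla; haveI := hls; haveI := hlcon
  haveI := hqm; haveI := hqs; haveI := hAp
  obtain ⟨f, hf⟩ := hNmax L l hln
  haveI : LocallyOfFiniteType M.hom := by rw [← Over.w j]; infer_instance
  haveI : QuasiCompact M.hom := by rw [← Over.w j]; infer_instance
  have hc : ∀ (T : Over (Spec (CommRingCat.of k))) (x : T ⟶ M) (g : T ⟶ G), (x ≫ j) * g = g * (x ≫ j) :=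
    fun T x g => by simpa only [Category.id_comp] using S7996.result k M G hM j T x T (𝟙 T) g
  have hs₁ := surjective_mul_anti l q hker j fun M' _ _ _ j' _ _ => hMmax M' j'
  refine ⟨isMonHom_tensor_mul j i fun T x y => hc T x _, ?_⟩
  have e : (l ⊗ₘ j) ≫ μ[G] = lift (snd L M) (fst L M ≫ f) ≫ (j ⊗ₘ i) ≫ μ[G] := by
    rw [← Category.id_comp ((l ⊗ₘ j) ≫ μ[G]), comp_tensor_mul, comp_tensor_mul, lift_fst, lift_snd,
      Category.id_comp, Category.id_comp, Category.assoc (fst L M) f i, hf, hc]
  rw [e, Over.comp_left] at hs₁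
  haveI := hs₁
  exact Surjective.of_comp (lift (snd L M) (fst L M ≫ f)).left _

end Groth.Agent.Chev
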