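import Groth.Agent.Chev.TorusImage
import Groth.Agent.Chev.LargestNormal
import Groth.Agent.Chev.Divisible
import Groth.Agent.TorusKilled.Basic
import Groth.Agent.GrpField.SurjSmooth
import Groth.Agent.GrpComp.Identity
import Groth.Agent.AdjRep.ToGL

/-!
# Semi-abelian varieties
-/

set_option autoImplicit false
set_option linter.style.haveILetI false
set_option backward.isDefEq.respectTransparency false
set_option maxHeartbeats 1000000
set_option synthInstance.maxHeartbeats 400000
universe u

open CategoryTheory Limits MonoidalCategory CartesianMonoidalCategory MonObj GrpObj AlgebraicGeometry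
open AlgGrp
open scoped CategoryTheory.Obj

noncomputable section

namespace Groth.Agent.Chev

open AVDeg (bcK specMap)

variable {k : Type u} [Field k]

/-- An extension of a proper smooth connected group by a torus. -/
def IsSA (G : Over (Spec (CommRingCat.of k))) [GrpObj G] : Prop :=
  ∃ (T : Over (Spec (CommRingCat.of k))) (_ : GrpObj T) (i : T ⟶ G) (A : Over (Spec (CommRingCat.of k))) (_ : GrpObj A)
    (q : G ⟶ A), IsMonHom i ∧ IsClosedImmersion i.left ∧ Red.IsTorus T ∧ IsMonHom q ∧ Surjective q.left ∧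
      Flat q.left ∧ AlgGrp.IsKernel i q ∧ IsProper A.hom ∧ Smooth A.hom ∧ ConnectedSpace A.left

/-- The kernel of a homomorphism is normal. -/
theorem isNormalHom_of_kernel {N G H : Over (Spec (CommRingCat.of k))} [GrpObj N] [GrpObj G] [GrpObj H]
    (i : N ⟶ G) (q : G ⟶ H) [IsMonHom q] (hk : AlgGrp.IsKernel i q) : AlgGrp.IsNormalHom i := fun T g n => by
  have h : (g * (n ≫ i) * g⁻¹) ≫ q = toUnit T ≫ η[H] := by
    rw [MonObj.mul_comp, MonObj.mul_comp, GrpObj.inv_comp, Category.assoc, hk.w, comp_toUnit_assoc,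
      ← Hom.one_def, _root_.mul_one, mul_inv_cancel]
  exact ⟨hk.lift _ _ h, (hk.lift_fst _ _ _).symm⟩

variable {G : Over (Spec (CommRingCat.of k))} [GrpObj G]

/-- Semi-abelian varieties are connected and smooth. -/
theorem IsSA.smooth_connected [LocallyOfFiniteType G.hom] [QuasiCompact G.hom] (h : IsSA G) :
    Smooth G.hom ∧ ConnectedSpace G.left := by
  obtain ⟨T, hT, i, A, hA, q, him, hic, htor, hqm, hqs, hqf, hker, hAp, hAs, hAc⟩ := h
  haveI := him; haveI := hic; haveI := hqm; haveI := hqs; haveI := hqf; haveI := hAp; haveI := hAs; haveI := hAc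
  haveI := smooth_of_isTorus htor
  haveI := connectedSpace_of_isTorus htor
  haveI : IsSeparated G.hom := GrpField.isSeparated_hom G
  haveI : QuasiCompact q.left := by
    haveI : QuasiCompact (q.left ≫ A.hom) := by rw [Over.w]; infer_instance
    exact QuasiCompact.of_comp _ A.hom
  haveI : IsReduced A.left := isReduced_of_smooth' A
  haveI : Smooth q.left := by
    refine GrpField.smooth_of_kernel q ?_
    have hsq : IsPullback i.left (toUnit T).left q.left η[A].left := hker.map (Over.forget _)
    rw [← hsq.isoPullback_inv_snd]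
    haveI : Smooth (toUnit T).left := by rw [Over.toUnit_left]; infer_instance
    infer_instance
  refine ⟨by rw [← Over.w q]; infer_instance, ?_⟩
  obtain ⟨G₀, hG₀, j, hjm, hjc, hjf, hjr, hgi, hG₀c, -⟩ := GrpComp.exists_identity_subgroup G
  haveI := hjm; haveI := hjc; haveI := hjf; haveI := hgi; haveI := hG₀c
  haveI : LocallyOfFiniteType G₀.hom := by rw [← Over.w j]; infer_instance
  haveI : IsLocallyNoetherian A.left := LocallyOfFiniteType.isLocallyNoetherian A.hom
  haveI : IsLocallyNoetherian G.left := LocallyOfFiniteType.isLocallyNoetherian G.hom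
  haveI : LocallyOfFinitePresentation j.left := inferInstance
  haveI : LocallyOfFiniteType q.left := inferInstance
  haveI : LocallyOfFinitePresentation q.left := inferInstance
  haveI : Flat (j ≫ q).left := by rw [Over.comp_left]; infer_instance
  haveI : LocallyOfFinitePresentation (j ≫ q).left := by rw [Over.comp_left]; infer_instance
  haveI : QuasiCompact (j ≫ q).left := by rw [Over.comp_left]; infer_instance
  obtain ⟨C, hC, iC, g, hiC, hg, hgi', hicl, -, -, hgs⟩ := GrpField.SchImg.exists_image (j ≫ q)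
  have hrange : Set.range (j ≫ q).left = Set.range iC.left := by
    rw [← hgi', Over.comp_left]
    exact g.left.surjective.range_comp _
  have hclosed : IsClosed (Set.range (j ≫ q).left) := hrange ▸ hicl.base_closed.isClosed_range
  have hopen : IsOpen (Set.range (j ≫ q).left) := (j ≫ q).left.isOpenMap.isOpen_range
  haveI : IrreducibleSpace G₀.left := GeometricallyIrreducible.irreducibleSpace_of_subsingleton G₀.hom
  haveI : Surjective (j ≫ q).left := ⟨Set.range_eq_univ.1
    ((isClopen_iff.1 ⟨hclosed, hopen⟩).resolve_left (Set.range_nonempty _).ne_empty)⟩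
  haveI := surjective_mul_of_surjective_comp i q hker j
  haveI : GeometricallyConnected T.hom :=
    Groth.Agent.Rigid.geometricallyConnected_of_section T.hom η[T].left (Over.w η[T])
  haveI : ConnectedSpace G₀.left := inferInstance
  haveI : ConnectedSpace (T ⊗ G₀).left := by
    let p := pullback.snd T.hom G₀.hom
    haveI : GeometricallyConnected p := inferInstanceAs (GeometricallyConnected (pullback.snd T.hom G₀.hom))
    haveI : UniversallyOpen p := inferInstanceAs (UniversallyOpen (pullback.snd T.hom G₀.hom))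
    exact GeometricallyConnected.connectedSpace (f := p) p.isOpenMap
  exact ((i ⊗ₘ j) ≫ μ[G]).left.surjective.connectedSpace ((i ⊗ₘ j) ≫ μ[G]).left.continuous

/-- Semi-abelian varieties are commutative, with surjective multiplications. -/
theorem IsSA.exists_generators [Smooth G.hom] [QuasiCompact G.hom] [ConnectedSpace G.left] (h : IsSA G) :
    ∃ (T : Over (Spec (CommRingCat.of k))) (_ : GrpObj T) (i : T ⟶ G) (D : Over (Spec (CommRingCat.of k)))
      (_ : GrpObj D) (j : D ⟶ G), IsMonHom i ∧ IsClosedImmersion i.left ∧ Red.IsTorus T ∧ IsMonHom j ∧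
        IsClosedImmersion j.left ∧ IsAnti D ∧ IsCommMonObj G ∧ Surjective ((j ⊗ₘ i) ≫ μ[G]).left := by
  obtain ⟨T, hT, i, A, hA, q, him, hic, htor, hqm, hqs, hqf, hker, hAp, hAs, hAc⟩ := h
  haveI := him; haveI := hic; haveI := hqm; haveI := hqs; haveI := hAp; haveI := hAc
  haveI : LocallyOfFiniteType T.hom := by rw [← Over.w i]; infer_instance
  haveI : IsSeparated G.hom := GrpField.isSeparated_hom G
  haveI : QuasiCompact T.hom := by rw [← Over.w i]; infer_instance
  obtain ⟨D, hD, j, hjm, hjc, hanti, hs⟩ := surjective_anti_to_proper q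
  haveI := hjm; haveI := hjc; haveI := hs
  haveI : LocallyOfFiniteType D.hom := by rw [← Over.w j]; infer_instance
  haveI : QuasiCompact D.hom := by rw [← Over.w j]; infer_instance
  have hc : ∀ (X : Over (Spec (CommRingCat.of k))) (x : X ⟶ D) (g : X ⟶ G), (x ≫ j) * g = g * (x ≫ j) :=
    fun X x g => by simpa only [Category.id_comp] using S7996.result k D G hanti j X x X (𝟙 X) g
  have hs₁ := surjective_mul_of_surjective_comp i q hker j
  have hsurj : Surjective ((j ⊗ₘ i) ≫ μ[G]).left := by
    have e : (i ⊗ₘ j) ≫ μ[G] = lift (snd T D) (fst T D) ≫ (j ⊗ₘ i) ≫ μ[G] := by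
      rw [← Category.id_comp ((i ⊗ₘ j) ≫ μ[G]), comp_tensor_mul, comp_tensor_mul, lift_fst, lift_snd,
        Category.id_comp, Category.id_comp, hc]
    rw [e, Over.comp_left] at hs₁
    haveI := hs₁
    exact Surjective.of_comp (lift (snd T D) (fst T D)).left _
  haveI : IsCommMonObj D := (S3293.result k D hanti).2
  haveI : IsCommMonObj T := ⟨by
    rw [show μ[T] = fst T T * snd T T from Eq.symm (by rw [Hom.mul_def, lift_fst_snd, Category.id_comp]),
      MonObj.comp_mul, braiding_hom_fst, braiding_hom_snd, RedR1.mul_comm_torus htor]⟩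
  exact ⟨T, hT, i, D, hD, j, him, hic, htor, hjm, hjc, hanti,
    isCommMonObj_of_generated j i (fun X x y => hc X x _) hsurj, hsurj⟩

theorem IsSA.isCommMonObj [Smooth G.hom] [QuasiCompact G.hom] [ConnectedSpace G.left] (h : IsSA G) :
    IsCommMonObj G := by
  obtain ⟨_, _, _, _, _, _, -, -, -, -, -, -, h, -⟩ := h.exists_generators
  exact h

/-- Multiplication by a positive integer is surjective on a torus over an algebraically closed field. -/
theorem surjective_pow_torus_algClosed [IsAlgClosed k] {T : Over (Spec (CommRingCat.of k))} [GrpObj T]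
    [IsCommMonObj T] [Smooth T.hom] [QuasiCompact T.hom] [ConnectedSpace T.left] (hT : Red.IsTorus T) {n : ℕ}
    (hn : 0 < n) : Surjective (𝟙 T ^ n).left := by
  haveI := isMonHom_pow T n
  haveI : IsSeparated T.hom := GrpField.isSeparated_hom T
  haveI : QuasiCompact (𝟙 T ^ n).left := by
    haveI : QuasiCompact ((𝟙 T ^ n).left ≫ T.hom) := by rw [Over.w]; infer_instance
    exact QuasiCompact.of_comp _ T.hom
  obtain ⟨C, hC, iC, g, hiC, hg, hgi, hicl, -, -, hgs⟩ := GrpField.SchImg.exists_image (𝟙 T ^ n)
  haveI := hiC; haveI := hicl; haveI := hgs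
  obtain ⟨R, hR, r, hrm, hrf, hrs, hrk, hrsep, hRsm, hRq, hRc, -⟩ := exists_quotient_group' iC
    (fun X a x => ⟨x, by rw [_root_.mul_comm a, _root_.mul_assoc, mul_inv_cancel, _root_.mul_one]⟩)
  haveI := hrm; haveI := hrf; haveI := hrs; haveI := hrsep; haveI := hRsm; haveI := hRq; haveI := hRc
  have hpr : (𝟙 T ^ n) ≫ r = 1 := by
    rw [← hgi, Category.assoc, hrk.w, comp_toUnit_assoc, ← Hom.one_def]
  haveI : LocallyOfFiniteType R.hom := inferInstance
  haveI : QuasiCompact r.left := by
    haveI : QuasiCompact (r.left ≫ R.hom) := by rw [Over.w]; infer_instance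
    exact QuasiCompact.of_comp _ R.hom
  haveI : Epi r := AVQuot.epi_of_covering r
  have hR1 : 𝟙 R ^ n = (1 : R ⟶ R) := by
    rw [← cancel_epi r, MonObj.comp_pow, Category.comp_id, MonObj.comp_one, ← hpr]
    conv_rhs => rw [MonObj.pow_comp, Category.id_comp]
  haveI : IsIso R.hom := TorusKilled.isTrivial R (isTorus_of_surjective hT r) hn hR1
  have hr1 : r = toUnit T ≫ η[R] := Over.OverMorphism.ext ((cancel_mono R.hom).1 (by
    rw [Over.w, Over.w]))
  let s : T ⟶ C := hrk.lift (𝟙 T) (toUnit T) (by rw [Category.id_comp]; exact hr1)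
  have hs : s ≫ iC = 𝟙 T := hrk.lift_fst _ _ _
  rw [← hgi, Over.comp_left]
  haveI : Surjective iC.left := by
    haveI : Surjective (s.left ≫ iC.left) := by rw [← Over.comp_left, hs]; exact inferInstanceAs (Surjective (𝟙 T.left))
    exact Surjective.of_comp s.left iC.left
  infer_instance

/-- Multiplication by a positive integer is surjective on a torus. -/
theorem surjective_pow_torus {T : Over (Spec (CommRingCat.of k))} [GrpObj T] [IsCommMonObj T]
    (hT : Red.IsTorus T) {n : ℕ} (hn : 0 < n) : Surjective (𝟙 T ^ n).left := by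
  haveI := smooth_of_isTorus hT
  haveI := isAffine_of_isTorus hT
  haveI : QuasiCompact T.hom := haveI := isAffineHom_of_isAffine T.hom; inferInstance
  obtain ⟨L, _, _, w, r, hs⟩ := exists_split_of_isTorus hT
  have htL : Red.IsTorus (Red.bc w T) := isTorus_of_isSplit (𝟙 _) (r := r) <| by
    obtain ⟨e⟩ := hs
    exact ⟨(MTBridge.bcComp w (𝟙 _) T).symm ≪≫ MTBridge.bcCongr (Category.id_comp w) T ≪≫ e⟩
  let F := Over.pullback w
  haveI : Smooth (F.obj T).hom := inferInstanceAs (Smooth (pullback.snd T.hom w))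
  haveI : QuasiCompact (F.obj T).hom := inferInstanceAs (QuasiCompact (pullback.snd T.hom w))
  haveI : ConnectedSpace (F.obj T).left := connectedSpace_of_isTorus htL
  haveI : IsCommMonObj (F.obj T) := ⟨by
    rw [show μ[F.obj T] = fst _ _ * snd _ _ from Eq.symm (by rw [Hom.mul_def, lift_fst_snd, Category.id_comp]),
      MonObj.comp_mul, braiding_hom_fst, braiding_hom_snd, RedR1.mul_comm_torus htL]⟩
  have hpow : ∀ m : ℕ, F.map (𝟙 T ^ m) = 𝟙 (F.obj T) ^ m := by
    intro m
    induction m with
    | zero =>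
      rw [pow_zero, pow_zero]
      have h := Functor.map_mul F (1 : T ⟶ T) 1
      rw [_root_.mul_one, left_eq_mul] at h
      exact h
    | succ m ih => rw [pow_succ, pow_succ, Functor.map_mul, ih, F.map_id]
  haveI hsur : Surjective (F.map (𝟙 T ^ n)).left := by
    rw [hpow]; exact surjective_pow_torus_algClosed htL hn
  haveI : Surjective w := ⟨fun _ => ⟨IsLocalRing.closedPoint _, Subsingleton.elim (α := PrimeSpectrum k) _ _⟩⟩
  haveI : Surjective (pullback.fst T.hom w) := MorphismProperty.pullback_fst _ _ ‹_›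
  haveI : Surjective (pullback.fst T.hom w ≫ (𝟙 T ^ n).left) := by
    haveI : Surjective ((F.map (𝟙 T ^ n)).left ≫ pullback.fst T.hom w) :=
      inferInstanceAs (Surjective (_ ≫ _))
    rwa [show (F.map (𝟙 T ^ n)).left ≫ pullback.fst T.hom w = pullback.fst T.hom w ≫ (𝟙 T ^ n).left from
      pullback.lift_fst _ _ _] at this
  exact Surjective.of_comp (pullback.fst T.hom w) _

/-- Multiplication by a positive integer is surjective on a semi-abelian variety. -/
theorem IsSA.surjective_pow [Smooth G.hom] [QuasiCompact G.hom] [ConnectedSpace G.left] [IsCommMonObj G]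
    (h : IsSA G) {n : ℕ} (hn : 0 < n) : Surjective (𝟙 G ^ n).left := by
  obtain ⟨T, hT, i, D, hD, j, him, hic, htor, hjm, hjc, hanti, -, hs⟩ := h.exists_generators
  haveI := him; haveI := hic; haveI := hjm; haveI := hjc; haveI := hs
  haveI : IsSeparated G.hom := GrpField.isSeparated_hom G
  haveI : LocallyOfFiniteType D.hom := by rw [← Over.w j]; infer_instance
  haveI : QuasiCompact D.hom := by rw [← Over.w j]; infer_instance
  haveI : IsCommMonObj D := (S3293.result k D hanti).2
  haveI : IsCommMonObj T := ⟨by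
    rw [show μ[T] = fst T T * snd T T from Eq.symm (by rw [Hom.mul_def, lift_fst_snd, Category.id_comp]),
      MonObj.comp_mul, braiding_hom_fst, braiding_hom_snd, RedR1.mul_comm_torus htor]⟩
  haveI := surjective_pow_of_anti' D hanti hn
  haveI := surjective_pow_torus htor hn
  haveI : Surjective ((𝟙 D ^ n) ⊗ₘ (𝟙 T ^ n)).left := by
    have e : ((𝟙 D ^ n) ⊗ₘ (𝟙 T ^ n)) = ((𝟙 D ^ n) ▷ T) ≫ (D ◁ (𝟙 T ^ n)) := tensorHom_def _ _
    rw [e, Over.comp_left]
    haveI := surjective_whiskerLeft (A := D) (𝟙 T ^ n)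
    haveI : Surjective ((𝟙 D ^ n) ▷ T).left := by
      rw [show (𝟙 D ^ n) ▷ T = (β_ D T).hom ≫ (T ◁ (𝟙 D ^ n)) ≫ (β_ D T).inv by
        rw [← BraidedCategory.braiding_naturality_left_assoc, Iso.hom_inv_id, Category.comp_id], Over.comp_left,
        Over.comp_left]
      haveI := surjective_whiskerLeft (A := T) (𝟙 D ^ n)
      haveI : IsIso (β_ D T).hom.left := inferInstanceAs (IsIso ((Over.forget _).map (β_ D T).hom))
      haveI : IsIso (β_ D T).inv.left := inferInstanceAs (IsIso ((Over.forget _).map (β_ D T).inv))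
      infer_instance
    infer_instance
  have hm : ∀ {X : Over (Spec (CommRingCat.of k))} (p : X ⟶ D ⊗ T),
      p ≫ (j ⊗ₘ i) ≫ μ[G] = (p ≫ fst D T ≫ j) * (p ≫ snd D T ≫ i) := fun p => comp_tensor_mul j i p
  have e : ((𝟙 D ^ n) ⊗ₘ (𝟙 T ^ n)) ≫ (j ⊗ₘ i) ≫ μ[G] = ((j ⊗ₘ i) ≫ μ[G]) ≫ (𝟙 G ^ n) := by
    have h1 := hm (𝟙 (D ⊗ T))
    rw [Category.id_comp, Category.id_comp, Category.id_comp] at h1
    rw [hm, MonObj.comp_pow, Category.comp_id, h1, mul_pow, tensorHom_fst_assoc, tensorHom_snd_assoc,
      MonObj.pow_comp, MonObj.pow_comp, Category.id_comp, Category.id_comp, MonObj.comp_pow, MonObj.comp_pow]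
  haveI hs' : Surjective (((j ⊗ₘ i) ≫ μ[G]).left ≫ (𝟙 G ^ n).left) := by
    rw [← Over.comp_left, ← e, Over.comp_left]; infer_instance
  exact Surjective.of_comp ((j ⊗ₘ i) ≫ μ[G]).left _

/-- **A smooth connected homomorphic image of a semi-abelian variety is semi-abelian.** -/
theorem isSA_of_surjective {H : Over (Spec (CommRingCat.of k))} [GrpObj H] [LocallyOfFiniteType H.hom]
    [QuasiCompact H.hom] [Smooth G.hom] [QuasiCompact G.hom] [ConnectedSpace G.left] (hH : IsSA H)
    (v : H ⟶ G) [IsMonHom v] [Surjective v.left] : IsSA G := by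
  obtain ⟨T, hT, i, A, hA, q, him, hic, htor, hqm, hqs, hqf, hker, hAp, hAs, hAc⟩ := hH
  haveI := him; haveI := hic; haveI := hqm; haveI := hqs; haveI := hqf; haveI := hAp
  haveI := smooth_of_isTorus htor
  haveI := connectedSpace_of_isTorus htor
  haveI : IsSeparated G.hom := GrpField.isSeparated_hom G
  haveI : IsReduced G.left := isReduced_of_smooth' G
  haveI : QuasiCompact v.left := by
    haveI : QuasiCompact (v.left ≫ G.hom) := by rw [Over.w]; infer_instance
    exact QuasiCompact.of_comp _ G.hom
  haveI : Flat v.left := GrpField.flat_of_surjective_reduced v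
  obtain ⟨T₀, hT₀, i₀, g, hi₀m, hi₀c, hT₀s, hT₀co, hn₀, hgm, hgf, hgs, hg⟩ :=
    exists_image_normal v i (isNormalHom_of_kernel i q hker)
  haveI := hi₀m; haveI := hi₀c; haveI := hT₀s; haveI := hgm; haveI := hgs
  haveI : QuasiCompact T₀.hom := by rw [← Over.w i₀]; infer_instance
  obtain ⟨Q, hQ, r, hrm, hrf, hrs, hrk, hrsep, hQsm, hQq, hQc, -⟩ := exists_quotient_group' i₀ hn₀
  haveI := hrm; haveI := hrs; haveI := hrsep; haveI := hQq
  haveI : IsSeparated A.hom := inferInstance
  haveI : QuasiCompact q.left := by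
    haveI : QuasiCompact (q.left ≫ A.hom) := by rw [Over.w]; infer_instance
    exact QuasiCompact.of_comp _ A.hom
  obtain ⟨d, hd⟩ := AdjRep.exists_desc i q hker (v ≫ r) (by
    rw [← Category.assoc, ← hg, Category.assoc, hrk.w, comp_toUnit_assoc, Hom.one_def])
  haveI : IsProper Q.hom := by
    haveI : Surjective d.left := by
      haveI : Surjective (q.left ≫ d.left) := by rw [← Over.comp_left, hd, Over.comp_left]; infer_instance
      exact Surjective.of_comp q.left d.left
    haveI : UniversallyClosed (d.left ≫ Q.hom) := by rw [Over.w]; infer_instance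
    haveI : UniversallyClosed Q.hom := UniversallyClosed.of_comp_surjective d.left Q.hom
    haveI : LocallyOfFiniteType Q.hom := inferInstance
    exact {}
  exact ⟨T₀, hT₀, i₀, Q, hQ, r, hi₀m, hi₀c, isTorus_of_surjective htor g, hrm, hrs, hrf, hrk, inferInstance,
    hQsm, hQc⟩

end Groth.Agent.Chev
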