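import Groth.Agent.Chev.SAExt
import Groth.Agent.Chev.BcKernel
import Groth.Agent.Chev.SepDesc
import Groth.Agent.Chev.FrobPullback
import Groth.Agent.S14594

/-!
# Descent of semi-abelian varieties
-/

set_option autoImplicit false
set_option linter.style.haveILetI false
set_option backward.isDefEq.respectTransparency false
set_option maxHeartbeats 2000000
set_option synthInstance.maxHeartbeats 400000
universe u

open CategoryTheory Limits MonoidalCategory CartesianMonoidalCategory MonObj GrpObj AlgebraicGeometry
open AlgGrp FrobSch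
open scoped CategoryTheory.Obj

noncomputable section

namespace Groth.Agent.Chev

open AVDeg (bcK specMap)
open WeilLib (frobPow frobPow_comp frobPow_apply frobPow_Spec)

/-- Tori are stable under base change. -/
theorem isTorus_bc {k L : Type u} [Field k] [Field L] {T : Over (Spec (CommRingCat.of k))} [GrpObj T]
    (hT : Red.IsTorus T) (w : Spec (CommRingCat.of L) ⟶ Spec (CommRingCat.of k)) : Red.IsTorus (Red.bc w T) := by
  obtain ⟨M, _, _, v, r, ⟨e⟩⟩ := exists_split_of_isTorus hT
  haveI : Surjective v := ⟨fun _ => ⟨IsLocalRing.closedPoint _, Subsingleton.elim (α := PrimeSpectrum k) _ _⟩⟩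
  haveI : Surjective (pullback.fst w v) := MorphismProperty.pullback_fst _ _ ‹_›
  obtain ⟨x, -⟩ := (pullback.fst w v).surjective (IsLocalRing.closedPoint L)
  let Ω := (pullback w v).residueField x
  let a : Spec (CommRingCat.of Ω) ⟶ Spec (CommRingCat.of L) := (pullback w v).fromSpecResidueField x ≫ pullback.fst w v
  let b : Spec (CommRingCat.of Ω) ⟶ Spec (CommRingCat.of M) := (pullback w v).fromSpecResidueField x ≫ pullback.snd w v
  have h : a ≫ w = b ≫ v := by simp only [a, b, Category.assoc, pullback.condition]
  obtain ⟨e'⟩ : Red.IsSplitTorusWith (Fin r → ℤ) (Red.bc (b ≫ v) T) :=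
    MTBridge.nonempty_bc_split ⟨e⟩ b
  exact isTorus_of_isSplit a (r := r) ⟨(MTBridge.bcComp w a T).symm ≪≫ MTBridge.bcCongr h T ≪≫ e'⟩

/-- Semi-abelian varieties are stable under base change. -/
theorem IsSA.bc {k L : Type u} [Field k] [Field L] {G : Over (Spec (CommRingCat.of k))} [GrpObj G] (h : IsSA G)
    (w : Spec (CommRingCat.of L) ⟶ Spec (CommRingCat.of k)) : IsSA (Red.bc w G) := by
  obtain ⟨T, hT, i, A, hA, q, him, hic, htor, hqm, hqs, hqf, hker, hAp, hAs, hAc⟩ := h
  haveI := him; haveI := hic; haveI := hqm; haveI := hqs; haveI := hqf; haveI := hAp; haveI := hAs; haveI := hAc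
  haveI : Mono i := GrpField.SchImg.mono_of_isClosedImmersion i
  let F := Over.pullback w
  haveI : GeometricallyConnected A.hom :=
    Groth.Agent.Rigid.geometricallyConnected_of_section A.hom η[A].left (Over.w η[A])
  haveI : ConnectedSpace (F.obj A).left :=
    GeometricallyConnected.geometrically_connectedSpace _ _ _ (IsPullback.of_hasPullback A.hom w)
  exact ⟨F.obj T, inferInstance, F.map i, F.obj A, inferInstance, F.map q, inferInstance,
    MorphismProperty.baseChange_map (P := @IsClosedImmersion) w i hic, isTorus_bc htor w, inferInstance,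
    MorphismProperty.baseChange_map (P := @Surjective) w q hqs, MorphismProperty.baseChange_map (P := @Flat) w q hqf,
    isKernel_bc w i q hker, inferInstanceAs (IsProper (pullback.snd A.hom w)),
    inferInstanceAs (Smooth (pullback.snd A.hom w)), inferInstance⟩

variable {k : Type u} [Field k]

/-- The image of a semi-abelian variety under an isomorphism is semi-abelian. -/
theorem IsSA.of_iso {G H : Over (Spec (CommRingCat.of k))} [GrpObj G] [GrpObj H] [LocallyOfFiniteType G.hom]
    [QuasiCompact G.hom] [Smooth H.hom] [QuasiCompact H.hom] [ConnectedSpace H.left] (h : IsSA G) (e : G ⟶ H)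
    [IsMonHom e] [IsIso e] : IsSA H := by
  haveI : IsIso e.left := inferInstanceAs (IsIso ((Over.forget _).map e))
  exact isSA_of_surjective h e

/-- The linear part over a perfect field of a group which is semi-abelian over the algebraic closure is a torus. -/
theorem isSA_perfect {K : Type u} [Field K] [Algebra k K] [PerfectField k] [IsAlgClosed K] [Algebra.IsAlgebraic k K]
    {G : Over (Spec (CommRingCat.of k))} [GrpObj G] [Smooth G.hom] [QuasiCompact G.hom] [ConnectedSpace G.left]
    (h : IsSA (bcK k K G)) : IsSA G := by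
  obtain ⟨T, hT, i, A, hA, q, him, hic, htor, hqm, hqs, hqf, hker, hAp, hAs, hAc⟩ := h
  haveI := him; haveI := hic; haveI := hqm; haveI := hAp
  obtain ⟨L, hL, l, Q, hQ, ρ, hlm, hlc, hla, hls, hlo, hln, hρm, hρs, hρf, hρk, hQp, hQs, hQc⟩ :=
    exists_structure_perfect K G
  haveI := hlm; haveI := hlc; haveI := hla; haveI := hls; haveI := hlo
  haveI := connectedSpace_bcK K (X := L)
  haveI := isAffine_bcK K (X := L)
  let F := Over.pullback (specMap k K)
  haveI : IsClosedImmersion (F.map l).left := MorphismProperty.baseChange_map (P := @IsClosedImmersion) _ l hlc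
  let u : bcK k K L ⟶ T := hker.lift (F.map l) (toUnit _) ((eq_one_of_affine_of_proper _).trans Hom.one_def)
  have hu : u ≫ i = F.map l := hker.lift_fst _ _ _
  haveI : Mono i := GrpField.SchImg.mono_of_isClosedImmersion i
  haveI : IsMonHom (u ≫ i) := by rw [hu]; infer_instance
  haveI := isMonHom_of_comp u i
  haveI := locallyOfFiniteType_of_isTorus htor
  haveI : IsSeparated T.hom := GrpField.isSeparated_hom T
  haveI : IsClosedImmersion u.left := by
    haveI : IsClosedImmersion (u.left ≫ i.left) := by rw [← Over.comp_left, hu]; infer_instance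
    exact IsClosedImmersion.of_comp u.left i.left
  obtain ⟨r, hr⟩ := exists_split_algClosed (isTorus_of_subgroup htor u)
  exact ⟨L, hL, l, Q, hQ, ρ, hlm, hlc, isTorus_of_isSplit _ hr, hρm, hρs, hρf, hρk, hQp, hQs, hQc⟩

/-- A semi-abelian variety over an algebraic extension is semi-abelian over a finite subextension. -/
theorem exists_finite_level_isSA (Ω : Type u) [Field Ω] [Algebra k Ω] [Algebra.IsAlgebraic k Ω]
    (G : Over (Spec (CommRingCat.of k))) [GrpObj G] [IsCommMonObj G] [Smooth G.hom] [QuasiCompact G.hom]
    [ConnectedSpace G.left] (h : IsSA (bcK k Ω G)) :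
    ∃ E : IntermediateField k Ω, FiniteDimensional k E ∧ IsSA (bcK k E G) := by
  obtain ⟨T, hT, i, A, hA, q, him, hic, htor, hqm, hqs, hqf, hker, hAp, hAs, hAc⟩ := h
  haveI := him; haveI := hic; haveI := hqm; haveI := hqs; haveI := hqf; haveI := hAp
  obtain ⟨E, hE, hI⟩ := exists_finite_level Ω G (fun _ : Unit => i.left.ker)
  refine ⟨E, hE, ?_⟩
  let Y := bcK k E G
  let α := midApp k E Ω G
  haveI := isMonHom_midApp (K := E) (S := Ω) G
  haveI : IsIso α := isIso_midApp G
  haveI : IsIso α.left := inferInstanceAs (IsIso ((Over.forget _).map α))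
  let z : T ⟶ bcK E Ω Y := i ≫ α
  haveI : IsMonHom z := inferInstanceAs (IsMonHom (i ≫ α))
  haveI : IsClosedImmersion z.left := by show IsClosedImmersion (i ≫ α).left; rw [Over.comp_left]; infer_instance
  let π := pullback.fst Y.hom (specMap E Ω)
  have hα : α.left ≫ π = toLevel Ω E G := pullback.lift_fst _ _ _
  obtain ⟨T₀, hT₀, t₀, e, ht₀m, hem, ht₀c, he⟩ := exists_desc_subgroup Ω z (by
    have hz : z.left.ker = i.left.ker.map α.left := (Scheme.IdealSheafData.map_ker i.left α.left).symm
    have hmc : ∀ X : (bcK E Ω Y).left.IdealSheafData, (X.comap α.left).map α.left ≤ X := fun X => by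
      have h1 := Scheme.IdealSheafData.comap_mono (inv α.left) (Scheme.IdealSheafData.comap_map_le (X.comap α.left) α.left)
      simpa only [← Scheme.IdealSheafData.comap_comp, IsIso.inv_hom_id, Scheme.IdealSheafData.comap_id] using h1
    calc z.left.ker = i.left.ker.map α.left := hz
      _ = (((i.left.ker.map (α.left ≫ π)).comap π).comap α.left).map α.left := by
          rw [← Scheme.IdealSheafData.comap_comp, hα]
          exact congrArg (fun J => J.map α.left) (hI ()).symm
      _ ≤ (i.left.ker.map (α.left ≫ π)).comap π := hmc _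
      _ = _ := by rw [Scheme.IdealSheafData.map_comp, ← hz])
  haveI := ht₀m; haveI := hem; haveI := ht₀c
  haveI : ConnectedSpace Y.left := connectedSpace_bcK E (X := G)
  haveI : IsCommMonObj Y := inferInstanceAs (IsCommMonObj ((Over.pullback (specMap k E)).obj G))
  have hT₀t : Red.IsTorus T₀ := by
    obtain ⟨M, _, _, v, r, ⟨s⟩⟩ := exists_split_of_isTorus htor
    exact isTorus_of_isSplit (v ≫ specMap E Ω) (r := r)
      ⟨MTBridge.bcComp (specMap E Ω) v T₀ ≪≫ MTBridge.bcMapIso v (Grp.mkIso' e).symm ≪≫ s⟩
  obtain ⟨Q, hQ, r, hrm, hrf, hrs, hrk, hrsep, hQsm, hQq, hQc, hrp⟩ := exists_quotient_group' t₀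
    (fun X a x => ⟨x, by rw [_root_.mul_comm a, _root_.mul_assoc, mul_inv_cancel, _root_.mul_one]⟩)
  haveI := hrm; haveI := hrf; haveI := hrs; haveI := hrsep; haveI := hQsm; haveI := hQq; haveI := hrp
  let F := Over.pullback (specMap E Ω)
  haveI : Mono t₀ := GrpField.SchImg.mono_of_isClosedImmersion t₀
  haveI : Surjective (F.map r).left := MorphismProperty.baseChange_map (P := @Surjective) _ r hrs
  haveI : QuasiCompact q.left := by
    haveI : QuasiCompact (q.left ≫ A.hom) := by rw [Over.w]; infer_instance
    exact QuasiCompact.of_comp _ A.hom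
  haveI : IsMonHom (α ≫ F.map r) := inferInstance
  obtain ⟨d, hd⟩ := AdjRep.exists_desc i q hker (α ≫ F.map r) (by
    rw [← Category.assoc]
    show z ≫ F.map r = 1
    rw [← he, Category.assoc, ← F.map_comp, hrk.w, show toUnit T₀ ≫ η[Q] = (1 : T₀ ⟶ Q) from Hom.one_def.symm,
      bc_map_one, MonObj.comp_one])
  haveI : IsSeparated (F.obj Q).hom := inferInstanceAs (IsSeparated (pullback.snd Q.hom (specMap E Ω)))
  haveI : Surjective d.left := by
    haveI : Surjective (q.left ≫ d.left) := by rw [← Over.comp_left, hd, Over.comp_left]; infer_instance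
    exact Surjective.of_comp q.left d.left
  haveI : UniversallyClosed (F.obj Q).hom := by
    haveI : UniversallyClosed (d.left ≫ (F.obj Q).hom) := by rw [Over.w]; infer_instance
    exact UniversallyClosed.of_comp_surjective d.left (F.obj Q).hom
  haveI : Flat (specMap E Ω) :=
    (HasRingHomProperty.Spec_iff (P := @Flat)).2 (RingHom.flat_algebraMap_iff.2 inferInstance)
  haveI : Surjective (specMap E Ω) :=
    ⟨fun _ => ⟨IsLocalRing.closedPoint _, Subsingleton.elim (α := PrimeSpectrum E) _ _⟩⟩
  haveI : UniversallyClosed Q.hom := MorphismProperty.of_pullback_snd_of_descendsAlong (P := @UniversallyClosed)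
    (Q := @Surjective ⊓ @Flat ⊓ @QuasiCompact) (g := specMap E Ω) ⟨⟨inferInstance, inferInstance⟩, inferInstance⟩
    (inferInstanceAs (UniversallyClosed (F.obj Q).hom))
  exact ⟨T₀, hT₀, t₀, Q, hQ, r, ht₀m, ht₀c, hT₀t, hrm, hrs, hrf, hrk, {}, hQsm, hQc⟩

/-- Semi-abelian varieties descend along finite purely inseparable extensions. -/
theorem isSA_of_purelyInseparable {E : Type u} [Field E] [Algebra k E] [IsPurelyInseparable k E]
    [FiniteDimensional k E] (p : ℕ) [Fact p.Prime] [CharP k p] (G : Over (Spec (CommRingCat.of k))) [GrpObj G]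
    [Smooth G.hom] [QuasiCompact G.hom] [ConnectedSpace G.left] (h : IsSA (bcK k E G)) : IsSA G := by
  haveI : ExpChar k p := ExpChar.prime Fact.out
  haveI : CharP E p := charP_of_injective_algebraMap (algebraMap k E).injective p
  haveI : ExpChar E p := ExpChar.prime Fact.out
  obtain ⟨n, hn⟩ := exists_isFrobRetract (k := k) (K := E) p
  obtain ⟨ψ, hψ⟩ := hn n le_rfl
  haveI : IsCharP G.left p := IsCharP.of_hom G.hom p
  haveI : IsCharP (Spec (CommRingCat.of E)) p := IsCharP.of_hom (specMap k E) p
  let X := bcK k E G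
  haveI : IsCharP X.left p := IsCharP.of_hom X.hom p
  let H := (twistFun ψ).obj X
  haveI : IsCharP H.left p := IsCharP.of_hom H.hom p
  haveI : LocallyOfFiniteType H.hom :=
    inferInstanceAs (LocallyOfFiniteType (pullback.snd (pullback.snd G.hom (specMap k E)) _))
  haveI : QuasiCompact H.hom :=
    inferInstanceAs (QuasiCompact (pullback.snd (pullback.snd G.hom (specMap k E)) _))
  haveI : IsSeparated H.hom := GrpField.isSeparated_hom H
  let f := frobToApp hψ G
  haveI : IsMonHom f := isMonHom_frobToApp hψ G
  let g₁ := pullback.fst X.hom (Spec.map (CommRingCat.ofHom ψ))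
  have hg₁ : Function.Injective g₁ := by
    obtain ⟨φ, hφ₁, hφ₂⟩ := exists_frobFrom hψ X
    haveI : IsCharP (pullback X.hom (Spec.map (CommRingCat.ofHom ψ))) p := ‹IsCharP H.left p›
    haveI : IsCharP (Spec (CommRingCat.of k)) p := IsCharP.of_hom (𝟙 _) p
    have h1 : g₁ ≫ φ.left ≫ pullback.fst H.hom (specMap k E) = frobPow p (pullback X.hom (Spec.map (CommRingCat.ofHom ψ))) n := by
      apply pullback.hom_ext
      · simp only [Category.assoc]
        refine (congrArg (g₁ ≫ ·) hφ₁).trans ?_
        exact (frobPow_comp p g₁ n).symm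
      · simp only [Category.assoc]
        refine (congrArg (g₁ ≫ ·) hφ₂).trans ?_
        rw [frobPow_comp p (pullback.snd X.hom (Spec.map (CommRingCat.ofHom ψ))) n,
          ← specMap_ofHom_comp (k := k) (K := E) hψ]
        exact pullback.condition_assoc _
    intro a b hab
    have h2 := congrArg (φ.left ≫ pullback.fst H.hom (specMap k E)) hab
    rw [← Scheme.Hom.comp_apply, ← Scheme.Hom.comp_apply, h1] at h2
    exact (frobPow_apply p n a).symm.trans (h2.trans (frobPow_apply p n b))
  have hfp : ∀ x, pullback.fst G.hom (specMap k E) (g₁ (f.left x)) = x := by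
    intro x
    have e : f.left ≫ g₁ ≫ pullback.fst G.hom (specMap k E) = frobPow p G.left n := by
      rw [← Category.assoc]
      erw [frobTo_app_fst hψ G, toBase_fst hψ G]
    exact (congrArg (fun φ : G.left ⟶ G.left => φ x) e).trans (frobPow_apply p n x)
  haveI : Surjective f.left := ⟨fun y => ⟨pullback.fst G.hom (specMap k E) (g₁ y),
    hg₁ (injective_fst_bcK (p := p) hψ G (hfp _))⟩⟩
  obtain ⟨N, hN, i, him, hic, -, hik⟩ := AdjRep.exists_kernel f
  haveI := him; haveI := hic
  haveI : LocallyOfFiniteType N.hom := by rw [← Over.w i]; infer_instance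
  haveI : Subsingleton N.left := by
    refine ⟨fun a b => i.left.isClosedEmbedding.injective ?_⟩
    have hf : ∀ x, f.left (i.left x) = η[H].left (IsLocalRing.closedPoint k) := by
      intro x
      rw [← Scheme.Hom.comp_apply, ← Over.comp_left, hik.w, Over.comp_left, Scheme.Hom.comp_apply]
      exact congrArg η[H].left (Subsingleton.elim (α := PrimeSpectrum k) _ _)
    rw [← hfp (i.left a), hf, ← hf b, hfp]
  haveI : Finite N.left := inferInstance
  haveI : CompactSpace N.left := inferInstance
  haveI : QuasiCompact N.hom := inferInstance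
  haveI : LocallyQuasiFinite N.hom := LocallyQuasiFinite.of_finite_preimage_singleton N.hom fun y => Set.toFinite _
  haveI : IsFinite N.hom := IsFinite.of_locallyQuasiFinite N.hom
  exact S14594.result k G H f N i hik (h.bc _)

/-- **Semi-abelian varieties descend from the algebraic closure.** -/
theorem isSA_of_algClosure (K : Type u) [Field K] [Algebra k K] [IsAlgClosed K] [Algebra.IsAlgebraic k K]
    (G : Over (Spec (CommRingCat.of k))) [GrpObj G] [LocallyOfFiniteType G.hom] [QuasiCompact G.hom]
    (h : IsSA (bcK k K G)) : IsSA G := by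
  haveI : LocallyOfFiniteType (bcK k K G).hom := inferInstanceAs (LocallyOfFiniteType (pullback.snd G.hom _))
  obtain ⟨hs, hc⟩ := h.smooth_connected
  haveI := hs; haveI := hc
  haveI : Flat (specMap k K) :=
    (HasRingHomProperty.Spec_iff (P := @Flat)).2 (RingHom.flat_algebraMap_iff.2 inferInstance)
  haveI : Surjective (specMap k K) :=
    ⟨fun _ => ⟨IsLocalRing.closedPoint _, Subsingleton.elim (α := PrimeSpectrum k) _ _⟩⟩
  haveI : Smooth G.hom := MorphismProperty.of_pullback_snd_of_descendsAlong (P := @Smooth)
    (Q := @Surjective ⊓ @Flat ⊓ @QuasiCompact) (g := specMap k K) ⟨⟨inferInstance, inferInstance⟩, inferInstance⟩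
    (inferInstanceAs (Smooth (bcK k K G).hom))
  haveI : ConnectedSpace (pullback G.hom (specMap k K) :) := hc
  haveI : ConnectedSpace G.left :=
    (pullback.fst G.hom (specMap k K)).surjective.connectedSpace (pullback.fst G.hom (specMap k K)).continuous
  haveI := h.isCommMonObj
  have hcomm : IsCommMonObj G := ⟨by
    rw [show μ[G] = fst G G * snd G G from Eq.symm (by rw [Hom.mul_def, lift_fst_snd, Category.id_comp]),
      MonObj.comp_mul, braiding_hom_fst, braiding_hom_snd]
    apply bcMap_injective K
    rw [Functor.map_mul, Functor.map_mul, _root_.mul_comm]⟩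
  haveI := hcomm
  let P := perfectClosure k K
  haveI : PerfectField K := inferInstance
  haveI : PerfectField P := inferInstance
  haveI : Algebra.IsAlgebraic P K := Algebra.IsAlgebraic.tower_top (K := k) P
  have hP : IsSA (bcK k P G) := by
    haveI : ConnectedSpace (bcK k P G).left := connectedSpace_bcK P (X := G)
    haveI := isMonHom_midApp (K := P) (S := K) G
    haveI : IsIso (midApp k P K G) := isIso_midApp G
    haveI : ConnectedSpace (bcK P K (bcK k P G)).left := connectedSpace_bcK K (X := bcK k P G)
    exact isSA_perfect (h.of_iso (midApp k P K G))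
  obtain ⟨p, hp⟩ := CharP.exists k
  rcases CharP.char_is_prime_or_zero k p with hpp | rfl
  · haveI := Fact.mk hpp
    haveI : ConnectedSpace G.left := inferInstance
    obtain ⟨E, hE, hSA⟩ := exists_finite_level_isSA (k := k) P G hP
    haveI := hE
    haveI : IsPurelyInseparable k E := IsPurelyInseparable.tower_bot k E P
    exact isSA_of_purelyInseparable p G hSA
  · haveI : CharZero k := CharP.charP_to_charZero k
    exact isSA_perfect h

end Groth.Agent.Chev
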