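import Groth.Agent.Chev.NonAffine
import Groth.Agent.Chev.SADesc
import Groth.Agent.S5247

/-!
# Tori in connected algebraic groups
-/

set_option autoImplicit false
set_option backward.isDefEq.respectTransparency false

universe u

open CategoryTheory CategoryTheory.Limits MonoidalCategory CartesianMonoidalCategory MonObj GrpObj AlgebraicGeometry
open Groth.Agent.SubGen (rpt exists_rpt map_rpt)

noncomputable section

namespace Groth.Agent.Chev.Borel

open BorelFixed

/-- Isomorphisms descend along fpqc base change. -/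
theorem isIso_of_isIso_pullback {S T : Scheme.{u}} (τ : T ⟶ S) [Surjective τ] [Flat τ] [QuasiCompact τ] {A B : Over S}
    (f : A ⟶ B) [IsIso ((Over.pullback τ).map f)] : IsIso f := by
  have hsq : IsPullback ((Over.pullback τ).map f).left (pullback.fst A.hom τ) (pullback.fst B.hom τ) f.left := by
    refine (IsPullback.of_bot ?_ ?_ (IsPullback.of_hasPullback B.hom τ)).flip
    · have e1 : ((Over.pullback τ).map f).left ≫ pullback.snd B.hom τ = pullback.snd A.hom τ :=
        Over.w ((Over.pullback τ).map f)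
      rw [e1, Over.w f]
      exact IsPullback.of_hasPullback A.hom τ
    · simp only [Over.pullback_map_left]; exact (pullback.lift_fst _ _ _).symm
  haveI hi : IsIso ((Over.pullback τ).map f).left :=
    inferInstanceAs (IsIso ((Over.forget _).map ((Over.pullback τ).map f)))
  haveI : IsIso f.left := MorphismProperty.of_isPullback_of_descendsAlong
    (P := MorphismProperty.isomorphisms Scheme) (Q := @Surjective ⊓ @Flat ⊓ @QuasiCompact) hsq
    ⟨⟨MorphismProperty.pullback_fst _ _ ‹Surjective τ›, MorphismProperty.pullback_fst _ _ ‹Flat τ›⟩,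
      MorphismProperty.pullback_fst _ _ ‹QuasiCompact τ›⟩ hi
  haveI : IsIso ((Over.forget _).map f) := ‹IsIso f.left›
  exact isIso_of_reflects_iso f (Over.forget _)

/-- Isomorphisms descend along base change to the geometric point. -/
theorem isIso_of_isIso_geomPt {k : Type u} [Field k] (s : Spec (CommRingCat.of k)) {A B : Over (Spec (CommRingCat.of k))}
    (f : A ⟶ B) [IsIso ((Over.pullback (Red.geomPt s)).map f)] : IsIso f := by
  haveI : Subsingleton (Spec (CommRingCat.of k)) := inferInstanceAs (Subsingleton (PrimeSpectrum k))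
  haveI hw : Surjective (Red.geomPt s) := ⟨fun x => ⟨IsLocalRing.closedPoint _, Subsingleton.elim _ _⟩⟩
  haveI : Flat (Red.geomPt s) := inferInstance
  haveI : QuasiCompact (Red.geomPt s) := inferInstance
  exact isIso_of_isIso_pullback (Red.geomPt s) f

/-- A geometrically maximal torus is maximal. -/
theorem isMaxTorus_of_isMaximalTorus {k : Type u} [Field k] {G T : Over (Spec (CommRingCat.of k))} [GrpObj G] [GrpObj T]
    (i : T ⟶ G) (h : Red.IsMaximalTorus i) : AGF.IsMaxTorus i := by
  obtain ⟨hm, hmono, hT, hmax⟩ := h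
  refine ⟨hm, hmono, hT, fun T' _ j _ _ f hT' hf => ?_⟩
  let s : Spec (CommRingCat.of k) := IsLocalRing.closedPoint k
  haveI : PreservesLimitsOfShape WalkingCospan (Over.pullback (Red.geomPt s)) :=
    (Adjunction.rightAdjoint_preservesLimits (Over.mapPullbackAdj (Red.geomPt s))).preservesLimitsOfShape
  haveI : IsIso ((Over.pullback (Red.geomPt s)).map f) :=
    hmax s _ ((Over.pullback (Red.geomPt s)).map j) ((Over.pullback (Red.geomPt s)).map f)
      (Groth.Agent.Chev.isTorus_bc hT' _) (by rw [← Functor.map_comp, hf])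
  exact isIso_of_isIso_geomPt s f

variable {k : Type u} [Field k] [IsAlgClosed k]
variable {G L D Q : Over (Spec (CommRingCat.of k))} [GrpObj G] [GrpObj L] [GrpObj D] [GrpObj Q]
  {l : L ⟶ G} {d : D ⟶ G} {q : G ⟶ Q}

/-- Tori lie in the affine part. -/
theorem exists_factor_torus (R : AffReduction l d q) {T : Over (Spec (CommRingCat.of k))} [GrpObj T] (i : T ⟶ G)
    [IsMonHom i] [Mono i] (hT : Red.IsTorus T) : ∃ t : T ⟶ L, t ≫ l = i ∧ IsMonHom t ∧ Mono t := by
  haveI := isAffine_of_isTorus hT
  haveI := smooth_of_isTorus hT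
  haveI := connectedSpace_of_isTorus hT
  haveI := R.l_hom; haveI := R.l_closed
  haveI : Mono l := GrpField.SchImg.mono_of_isClosedImmersion l
  obtain ⟨t, ht⟩ := R.factor T i
  haveI : Mono (t ≫ l) := by rw [ht]; infer_instance
  exact ⟨t, ht, MTSplit.isMonHom_of_comp_mono t l i ht, mono_of_mono t l⟩

/-- Maximal tori are maximal in the affine part. -/
theorem exists_factor_maxTorus (R : AffReduction l d q) {T : Over (Spec (CommRingCat.of k))} [GrpObj T] (i : T ⟶ G)
    (hT : AGF.IsMaxTorus i) : ∃ t : T ⟶ L, t ≫ l = i ∧ AGF.IsMaxTorus t := by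
  obtain ⟨hm, hmono, hTt, hmax⟩ := hT
  haveI := hm; haveI := hmono; haveI := R.l_hom; haveI := R.l_closed
  haveI : Mono l := GrpField.SchImg.mono_of_isClosedImmersion l
  obtain ⟨t, ht, htm, htmono⟩ := exists_factor_torus R i hTt
  refine ⟨t, ht, htm, htmono, hTt, fun T' _ j _ _ f hT' hf => ?_⟩
  exact hmax T' (j ≫ l) f hT' (by rw [← Category.assoc, hf, ht])

/-- Centralizers of tori in connected algebraic groups are connected. -/
theorem connectedSpace_centralizer [Smooth G.hom] [QuasiCompact G.hom] (R : AffReduction l d q)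
    {T C : Over (Spec (CommRingCat.of k))} [GrpObj T] [GrpObj C] (i : T ⟶ G) [IsMonHom i] [Mono i] (hT : Red.IsTorus T)
    (c : C ⟶ G) (hc : Red.IsCentralizerOf i c) [LocallyOfFiniteType C.hom] : ConnectedSpace C.left := by
  haveI := R.l_hom; haveI := R.l_closed; haveI := R.l_affine; haveI := R.l_smooth; haveI := R.l_connected
  haveI := R.d_hom; haveI := R.d_closed; haveI := R.d_connected; haveI := R.d_smooth
  haveI : Mono l := GrpField.SchImg.mono_of_isClosedImmersion l
  obtain ⟨t, ht, htm, htmono⟩ := exists_factor_torus R i hT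
  haveI := htm; haveI := htmono
  obtain ⟨hcm, hcmono, hcu⟩ := hc
  haveI := hcm; haveI := hcmono
  obtain ⟨CL, _, cL, hCL, -, -⟩ := Groth.Agent.S5247.result T L (MTBridge.isMultTypeFT_of_isTorus T hT)
    ‹Smooth L.hom› inferInstance t
  obtain ⟨hCs, hCa, hCcl, hCconn, -⟩ := centralizer_torus t hT cL hCL
  haveI := hCs; haveI := hCconn inferInstance; haveI := hCL.1
  obtain ⟨w, hw⟩ := (hcu _ ((fst CL D ≫ cL ≫ l) * (snd CL D ≫ d))).2 fun X' x h => by
    have h1 := (hCL.2.2 _ cL).1 ⟨𝟙 _, Category.id_comp _⟩ X' (x ≫ fst CL D) h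
    have h1' := congrArg (fun m => m ≫ l) h1
    simp only [MonObj.mul_comp, Category.assoc, ht] at h1'
    rw [MonObj.comp_mul, ← Category.assoc x (snd CL D) d, _root_.mul_assoc, R.central _ (x ≫ snd CL D) (h ≫ i),
      ← _root_.mul_assoc, h1', _root_.mul_assoc]
  haveI := connectedSpace_tensor' CL D
  have hsub : closedPoints C.left ⊆ Set.range w.left := fun x hx => by
    obtain ⟨p, rfl⟩ := exists_rpt hx
    obtain ⟨a, z, haz⟩ := R.decomp (p ≫ c)
    have hcomm : ∀ (X' : Over (Spec (CommRingCat.of k))) (x : X' ⟶ 𝟙_ _) (h : X' ⟶ T),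
        (x ≫ a) * (h ≫ t) = (h ≫ t) * (x ≫ a) := fun X' x h => by
      have h1 := (hcu _ (p ≫ c)).1 ⟨p, rfl⟩ X' x h
      rw [← haz, MonObj.comp_mul, ← Category.assoc x z d, ← ht, _root_.mul_assoc,
        R.central _ (x ≫ z) (h ≫ t ≫ l), ← _root_.mul_assoc, ← _root_.mul_assoc] at h1
      apply (cancel_mono l).1
      simpa only [MonObj.mul_comp, Category.assoc] using mul_right_cancel h1
    obtain ⟨a', ha'⟩ := (hCL.2.2 _ a).2 hcomm
    refine ⟨rpt (lift a' z), ?_⟩
    rw [map_rpt]
    congr 1
    rw [← cancel_mono c, Category.assoc, hw, MonObj.comp_mul, lift_fst_assoc, lift_snd_assoc, reassoc_of% ha', haz]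
  haveI : JacobsonSpace C.left := LocallyOfFiniteType.jacobsonSpace C.hom
  have hd : DenseRange w.left := by
    rw [denseRange_iff_closure_range]
    refine Set.eq_univ_of_univ_subset ?_
    rw [← closure_closedPoints]
    exact closure_mono hsub
  haveI : Nonempty C.left := ⟨rpt (1 : RP C)⟩
  exact connectedSpace_iff_univ.2 (by
    rw [← hd.closure_range]
    exact (isConnected_range w.left.continuous).closure)

end Groth.Agent.Chev.Borel
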