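import Groth.Agent.Chev.NonAffBorel

/-!
# Reduction to the identity component
-/

set_option autoImplicit false
set_option backward.isDefEq.respectTransparency false

universe u

open CategoryTheory CategoryTheory.Limits MonoidalCategory CartesianMonoidalCategory MonObj GrpObj AlgebraicGeometry
open Groth.Agent.SubGen (rpt exists_rpt map_rpt)

noncomputable section

namespace Groth.Agent.Chev.Borel

open BorelFixed

variable {k : Type u} [Field k] [IsAlgClosed k]
variable {G G₀ : Over (Spec (CommRingCat.of k))} [GrpObj G] [GrpObj G₀] {c : G₀ ⟶ G}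

omit [IsAlgClosed k] in
/-- Connected reduced subgroups lie in the identity component. -/
theorem exists_factor_component [IsClosedImmersion c.left]
    (hcr : Set.range c.left = connectedComponent (GrpComp.ept G)) {H : Over (Spec (CommRingCat.of k))} [GrpObj H]
    (h : H ⟶ G) [IsMonHom h] [IsReduced H.left] [ConnectedSpace H.left] : ∃ f : H ⟶ G₀, f ≫ c = h := by
  refine exists_lift_range h c ?_
  rw [hcr]
  refine (isPreconnected_range h.left.continuous).subset_connectedComponent
    ⟨η[H].left (IsLocalRing.closedPoint k), ?_⟩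
  show (η[H] ≫ h).left (IsLocalRing.closedPoint k) = _
  rw [IsMonHom.one_hom]
  rfl

/-- Borel subgroups are Borel subgroups of the identity component. -/
theorem exists_borel_component [IsMonHom c] [IsClosedImmersion c.left]
    (hcr : Set.range c.left = connectedComponent (GrpComp.ept G))
    {B : Over (Spec (CommRingCat.of k))} [GrpObj B] (b : B ⟶ G) (hB : Red.IsBorelOver k b) :
    ∃ b' : B ⟶ G₀, b' ≫ c = b ∧ Red.IsBorelOver k b' := by
  obtain ⟨hbm, hbc, hbs, hbconn, hbsol, hbmax⟩ := hB
  haveI := hbm; haveI := hbc; haveI := hbs; haveI := hbconn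
  haveI : Mono c := GrpField.SchImg.mono_of_isClosedImmersion c
  haveI : IsReduced B.left := SmoothRed.isReduced_of_smooth_scheme B.hom
  obtain ⟨b', hb'⟩ := exists_factor_component hcr b
  haveI : IsMonHom b' := MTSplit.isMonHom_of_comp_mono b' c b hb'
  haveI : IsClosedImmersion (b'.left ≫ c.left) := by rw [← Over.comp_left, hb']; infer_instance
  refine ⟨b', hb', inferInstance, IsClosedImmersion.of_comp b'.left c.left, hbs, hbconn, hbsol,
    fun B' _ i' _ f hc' hs' hconn' hsol' hf => ?_⟩
  haveI := hc'
  exact hbmax B' (i' ≫ c) f (inferInstanceAs (IsClosedImmersion (i'.left ≫ c.left))) hs' hconn' hsol'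
    (by rw [← Category.assoc, hf, hb'])

/-- Maximal tori of the identity component are maximal tori. -/
theorem isMaxTorus_comp_component [IsMonHom c] [IsClosedImmersion c.left]
    (hcr : Set.range c.left = connectedComponent (GrpComp.ept G))
    {T : Over (Spec (CommRingCat.of k))} [GrpObj T] (i : T ⟶ G₀) (hT : AGF.IsMaxTorus i) :
    AGF.IsMaxTorus (i ≫ c) := by
  obtain ⟨him, himono, hTt, hmax⟩ := hT
  haveI := him; haveI := himono
  haveI : Mono c := GrpField.SchImg.mono_of_isClosedImmersion c
  refine ⟨inferInstance, inferInstance, hTt, fun T' _ j _ _ f hT' hf => ?_⟩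
  haveI := smooth_of_isTorus hT'
  haveI := connectedSpace_of_isTorus hT'
  haveI : IsReduced T'.left := SmoothRed.isReduced_of_smooth_scheme T'.hom
  obtain ⟨j', hj'⟩ := exists_factor_component hcr j
  haveI : IsMonHom j' := MTSplit.isMonHom_of_comp_mono j' c j hj'
  haveI : Mono (j' ≫ c) := by rw [hj']; infer_instance
  haveI : Mono j' := mono_of_mono j' c
  exact hmax T' j' f hT' ((cancel_mono c).1 (by rw [Category.assoc, hj', hf]))

end Groth.Agent.Chev.Borel
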