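import Groth.Agent.Chev.NonAffTori
import Groth.Agent.MTBridge.CentralFibres

/-!
# The geometric point of an algebraically closed field
-/

set_option autoImplicit false
set_option backward.isDefEq.respectTransparency false

universe u

open CategoryTheory CategoryTheory.Limits MonoidalCategory CartesianMonoidalCategory MonObj GrpObj AlgebraicGeometry
open Groth.Agent.MTBridge (toBC toBC_mul toBC_comp)

noncomputable section

namespace Groth.Agent.Chev.Borel

/-- The geometric point of an algebraically closed field is an isomorphism. -/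
theorem isIso_geomPt (k : Type u) [Field k] [IsAlgClosed k] (s : Spec (CommRingCat.of k)) : IsIso (Red.geomPt s) := by
  haveI : s.asIdeal.IsMaximal := by
    rw [Ideal.eq_bot_of_prime s.asIdeal]
    exact Ideal.bot_isMaximal
  have hb : Function.Bijective (algebraMap k s.asIdeal.ResidueField) :=
    ⟨RingHom.injective _, Ideal.algebraMap_residueField_surjective s.asIdeal⟩
  haveI h0 : IsIso (CommRingCat.ofHom (algebraMap k s.asIdeal.ResidueField)) :=
    (ConcreteCategory.isIso_iff_bijective _).2 hb
  haveI : IsIso ((Spec (CommRingCat.of k)).fromSpecResidueField s) := by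
    rw [← Scheme.Spec.map_residueFieldIso_inv_eq_fromSpecResidueField]
    infer_instance
  haveI : IsAlgClosed ((Spec (CommRingCat.of k)).residueField s) :=
    IsAlgClosed.of_ringEquiv k _
      ((RingEquiv.ofBijective _ hb).trans (Scheme.Spec.residueFieldIso (CommRingCat.of k) s).symm.commRingCatIsoToRingEquiv)
  haveI : IsIso (CommRingCat.ofHom (algebraMap ((Spec (CommRingCat.of k)).residueField s)
      (AlgebraicClosure ((Spec (CommRingCat.of k)).residueField s)))) :=
    (ConcreteCategory.isIso_iff_bijective _).2 IsAlgClosed.algebraMap_bijective_of_isIntegral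
  infer_instance

section

variable {S T : Scheme.{u}} (τ : T ⟶ S) (w : S ⟶ T) (hwτ : w ≫ τ = 𝟙 S)

/-- An object over `S` seen after going back and forth. -/
def backIso (X : Over S) : (Over.map τ).obj ((Over.map w).obj X) ≅ X :=
  Over.isoMk (Iso.refl _) (by
    show 𝟙 _ ≫ X.hom = (X.hom ≫ w) ≫ τ
    rw [Category.id_comp, Category.assoc, hwτ, Category.comp_id])

/-- The comparison with the double base change. -/
def backHom (G : Over S) : G ⟶ (Over.pullback w).obj ((Over.pullback τ).obj G) :=
  toBC w (toBC τ (backIso τ w hwτ G).hom)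

theorem comp_backHom {X G : Over S} (u : X ⟶ G) :
    u ≫ backHom τ w hwτ G = toBC w (toBC τ ((backIso τ w hwτ X).hom ≫ u)) := by
  have e : (Over.map τ).map ((Over.map w).map u) ≫ (backIso τ w hwτ G).hom = (backIso τ w hwτ X).hom ≫ u :=
    Over.OverMorphism.ext (by
      show u.left ≫ 𝟙 _ = 𝟙 _ ≫ u.left
      rw [Category.comp_id, Category.id_comp])
  rw [← e, backHom, toBC, toBC, toBC, toBC, Adjunction.homEquiv_naturality_left,
    Adjunction.homEquiv_naturality_left]

theorem backHom_naturality {G H : Over S} (i : H ⟶ G) :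
    i ≫ backHom τ w hwτ G = backHom τ w hwτ H ≫ (Over.pullback w).map ((Over.pullback τ).map i) := by
  rw [comp_backHom, toBC_comp, toBC_comp]
  rfl

theorem isMonHom_backHom (G : Over S) [GrpObj G] : IsMonHom (backHom τ w hwτ G) := by
  have hmul : ∀ {X : Over S} (u v : X ⟶ G),
      (u * v) ≫ backHom τ w hwτ G = (u ≫ backHom τ w hwτ G) * (v ≫ backHom τ w hwτ G) := fun u v => by
    rw [comp_backHom, comp_backHom, comp_backHom, MonObj.comp_mul, toBC_mul, toBC_mul]
  refine ⟨?_, ?_⟩
  · have h1 := hmul (1 : 𝟙_ (Over S) ⟶ G) 1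
    rw [_root_.mul_one, left_eq_mul] at h1
    rw [show (η[G] : 𝟙_ _ ⟶ G) = 1 by rw [Hom.one_def, toUnit_unit, Category.id_comp], h1, Hom.one_def, toUnit_unit,
      Category.id_comp]
  · have e1 : μ[G] = fst G G * snd G G := by rw [Hom.mul_def, lift_fst_snd, Category.id_comp]
    rw [e1, hmul, Hom.mul_def]
    congr 1

theorem isIso_backHom (G : Over S) : IsIso (backHom τ w hwτ G) := by
  refine ⟨(backIso τ w hwτ _).inv ≫ ((Over.mapPullbackAdj τ).homEquiv _ G).symm
    (((Over.mapPullbackAdj w).homEquiv _ _).symm (𝟙 _)), ?_, ?_⟩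
  all_goals
    have hinj : ∀ {X : Over S} (u v : X ⟶ G), u ≫ backHom τ w hwτ G = v ≫ backHom τ w hwτ G → u = v := by
      intro X u v h
      rw [comp_backHom, comp_backHom] at h
      exact (cancel_epi (backIso τ w hwτ X).hom).1
        (((Over.mapPullbackAdj τ).homEquiv _ G).injective (((Over.mapPullbackAdj w).homEquiv _ _).injective h))
    have hz : ((backIso τ w hwτ _).inv ≫ ((Over.mapPullbackAdj τ).homEquiv _ G).symm
        (((Over.mapPullbackAdj w).homEquiv _ _).symm (𝟙 ((Over.pullback w).obj ((Over.pullback τ).obj G))))) ≫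
        backHom τ w hwτ G = 𝟙 _ := by
      rw [comp_backHom, Iso.hom_inv_id_assoc]
      show toBC w (toBC τ _) = _
      unfold toBC Red.bc
      erw [Equiv.apply_symm_apply, Equiv.apply_symm_apply]
  · exact hinj _ _ (by rw [Category.assoc, hz, Category.comp_id, Category.id_comp])
  · exact hz

end

/-- Over an algebraically closed field a maximal torus is geometrically maximal. -/
theorem isMaximalTorus_of_isMaxTorus {k : Type u} [Field k] [IsAlgClosed k] {G T : Over (Spec (CommRingCat.of k))}
    [GrpObj G] [GrpObj T] (i : T ⟶ G) (h : AGF.IsMaxTorus i) : Red.IsMaximalTorus i := by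
  obtain ⟨hm, hmono, hT, hmax⟩ := h
  haveI := hm
  refine ⟨hm, hmono, hT, fun s T' _ j _ _ f hT' hf => ?_⟩
  haveI := isIso_geomPt k s
  let τ := Red.geomPt s
  let w := inv τ
  have hwτ : w ≫ τ = 𝟙 _ := IsIso.inv_hom_id τ
  haveI : PreservesLimitsOfShape WalkingCospan (Over.pullback w) :=
    (Adjunction.rightAdjoint_preservesLimits (Over.mapPullbackAdj w)).preservesLimitsOfShape
  haveI := isMonHom_backHom τ w hwτ G
  haveI := isIso_backHom τ w hwτ G
  haveI := isMonHom_backHom τ w hwτ T
  haveI := isIso_backHom τ w hwτ T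
  haveI : IsMonHom (asIso (backHom τ w hwτ G)).hom := isMonHom_backHom τ w hwτ G
  haveI : IsMonHom (inv (backHom τ w hwτ G)) := inferInstanceAs (IsMonHom (asIso (backHom τ w hwτ G)).inv)
  let F := Over.pullback w
  haveI : IsIso (backHom τ w hwτ T ≫ F.map f) :=
    hmax (F.obj T') (F.map j ≫ inv (backHom τ w hwτ G)) (backHom τ w hwτ T ≫ F.map f)
      (Groth.Agent.Chev.isTorus_bc hT' w) (by
      rw [Category.assoc, ← Category.assoc (F.map f), ← F.map_comp, hf, ← Category.assoc, ← backHom_naturality,
        Category.assoc, IsIso.hom_inv_id, Category.comp_id])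
  haveI : IsIso (F.map f) := IsIso.of_isIso_comp_left (backHom τ w hwτ T) (F.map f)
  exact isIso_of_isIso_pullback w f

end Groth.Agent.Chev.Borel
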