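import Groth.Agent.Chev.CommSubgroup
import Groth.Agent.S4107
import Groth.Agent.S11412
import Groth.Agent.S3293
import Groth.Agent.S7983
import Groth.Agent.S14584
import Groth.Agent.AdjRep.KerObj

/-!
# Affine subgroups of non-proper groups

Over an algebraically closed field every non-proper smooth group of finite type contains a connected smooth
affine subgroup of positive dimension.
-/

set_option autoImplicit false
set_option backward.isDefEq.respectTransparency false

universe u

open CategoryTheory CategoryTheory.Limits MonoidalCategory CartesianMonoidalCategory MonObj GrpObj AlgebraicGeometry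
open IsLocalRing (closedPoint)

noncomputable section

namespace Groth.Agent.Chev

/-- A morphism is universally closed if it is so on each member of a finite cover. -/
theorem universallyClosed_of_cover {P T : Scheme.{u}} (π : P ⟶ T) {J : Type*} [Finite J]
    (Y : J → Scheme.{u}) (q : ∀ i, Y i ⟶ P) (hq : ∀ i, UniversallyClosed (q i ≫ π))
    (hcov : ∀ p : P, ∃ i, p ∈ Set.range (q i)) : UniversallyClosed π := by
  refine ⟨fun {P' T'} i₁ i₂ π' hc => ?_⟩
  intro C hC
  have e : π' '' C = ⋃ i, (pullback.snd (q i) i₁ ≫ π') '' (pullback.snd (q i) i₁ ⁻¹' C) := by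
    ext t
    simp only [Set.mem_iUnion, Set.mem_image, Set.mem_preimage]
    constructor
    · rintro ⟨p, hp, rfl⟩
      obtain ⟨i, hi⟩ := hcov (i₁ p)
      obtain ⟨w, hw⟩ : p ∈ Set.range (pullback.snd (q i) i₁) := by
        rw [Scheme.Pullback.range_snd]; exact hi
      exact ⟨i, w, hw ▸ hp, by rw [Scheme.Hom.comp_apply, hw]⟩
    · rintro ⟨i, w, hw, rfl⟩
      exact ⟨_, hw, rfl⟩
  rw [e]
  refine isClosed_iUnion_of_finite fun i => ?_
  haveI : UniversallyClosed (pullback.snd (q i) i₁ ≫ π') :=
    MorphismProperty.of_isPullback ((IsPullback.of_hasPullback (q i) i₁).paste_vert hc.flip) (hq i)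
  exact (pullback.snd (q i) i₁ ≫ π').isClosedMap _ (hC.preimage (pullback.snd (q i) i₁).continuous)

variable {k : Type u} [Field k] [IsAlgClosed k]

/-- A group is proper if its identity component is. -/
theorem isProper_of_component (G : Over (Spec (CommRingCat.of k))) [GrpObj G] [LocallyOfFiniteType G.hom]
    [QuasiCompact G.hom] {G₀ : Over (Spec (CommRingCat.of k))} (c : G₀ ⟶ G)
    (hr : Set.range c.left = connectedComponent (GrpComp.ept G)) [IsProper G₀.hom] : IsProper G.hom := by
  classical
  haveI : IsSeparated G.hom := GrpField.isSeparated_hom G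
  haveI : JacobsonSpace G.left := LocallyOfFiniteType.jacobsonSpace G.hom
  haveI : IsLocallyNoetherian G.left := LocallyOfFiniteType.isLocallyNoetherian G.hom
  haveI : CompactSpace G.left := QuasiCompact.compactSpace_of_compactSpace G.hom
  haveI : IsNoetherian G.left := { }
  have hone : GrpComp.ept G = SubGen.rpt (1 : RP G) := (GrpComp.one_apply _).symm
  have hpick : ∀ C : irreducibleComponents G.left, ∃ z : RP G, SubGen.rpt z ∈ C.1 := fun C => by
    obtain ⟨w, hw, hwc⟩ := nonempty_inter_closedPoints C.2.1.nonempty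
      (isClosed_of_mem_irreducibleComponents C.1 C.2).isLocallyClosed
    obtain ⟨z, rfl⟩ := SubGen.exists_rpt hwc
    exact ⟨z, hw⟩
  choose z hz using hpick
  haveI : Finite (irreducibleComponents G.left) :=
    TopologicalSpace.NoetherianSpace.finite_irreducibleComponents.to_subtype
  haveI : UniversallyClosed G.hom := by
    refine universallyClosed_of_cover G.hom (fun _ => G₀.left) (fun C => (c ≫ tr (z C)).left) (fun C => ?_)
      fun p => ⟨⟨_, irreducibleComponent_mem_irreducibleComponents p⟩, ?_⟩
    · rw [Over.w]; infer_instance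
    · let C : irreducibleComponents G.left := ⟨_, irreducibleComponent_mem_irreducibleComponents p⟩
      have hp : p ∈ connectedComponent (SubGen.rpt (z C)) :=
        C.2.1.isConnected.subset_connectedComponent (hz C) mem_irreducibleComponent
      have hc : (tr (z C)⁻¹).left (SubGen.rpt (z C)) = GrpComp.ept G := by
        rw [hone, SubGen.map_rpt, comp_tr, toUnit_unique (toUnit _) (𝟙 _), Category.id_comp, mul_inv_cancel]
      have h1 : (tr (z C)⁻¹).left p ∈ connectedComponent (GrpComp.ept G) := by
        rw [← hc]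
        exact ((tr (z C)⁻¹).left.continuous.image_connectedComponent_subset _) ⟨p, hp, rfl⟩
      rw [← hr] at h1
      obtain ⟨w, hw⟩ := h1
      refine ⟨w, ?_⟩
      show (tr (z C)).left (c.left w) = p
      rw [hw]
      have h2 := congrArg (fun q : G ⟶ G => q.left p) ((tr_tr (z C)⁻¹ (z C)).trans (by rw [inv_mul_cancel, tr_one]))
      simpa using h2
  exact { }

/-- The identity component of a smooth group. -/
theorem exists_component (G : Over (Spec (CommRingCat.of k))) [GrpObj G] [Smooth G.hom] [QuasiCompact G.hom] :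
    ∃ (G₀ : Over (Spec (CommRingCat.of k))) (_ : GrpObj G₀) (c : G₀ ⟶ G), IsMonHom c ∧ IsClosedImmersion c.left ∧
      Smooth G₀.hom ∧ IrreducibleSpace G₀.left ∧ Set.range c.left = connectedComponent (GrpComp.ept G) := by
  obtain ⟨N₀, hN₀, c, hcm, hcc, -, hcr, hgi, -, hbij⟩ := GrpComp.exists_identity_subgroup G
  haveI := hcm
  haveI := hcc
  haveI := hgi
  haveI : LocallyOfFiniteType N₀.hom := by rw [← Over.w c]; infer_instance
  haveI : IsReduced G.left := isReduced_of_smooth G
  haveI : ∀ w, _root_.IsReduced (N₀.left.presheaf.stalk w) := fun w =>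
    isReduced_of_injective _ (RingEquiv.ofBijective _ (hbij w)).symm.injective
  haveI : IrreducibleSpace N₀.left := GeometricallyIrreducible.irreducibleSpace N₀.hom
    (fun _ _ => @isOpen_discrete _ _ (by
      have : Subsingleton (Spec (CommRingCat.of k)) := inferInstanceAs (Subsingleton (PrimeSpectrum k))
      infer_instance) _)
  haveI : Smooth N₀.hom := GrpBasic.smooth_of_perfect_stalk N₀ (SubGen.rpt (1 : RP N₀))
  exact ⟨N₀, hN₀, c, hcm, hcc, inferInstance, inferInstance, hcr⟩

/-- A morphism from a reduced scheme landing in a closed subscheme factors through it. -/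
theorem exists_lift_of_range {X Y Z : Over (Spec (CommRingCat.of k))} [IsReduced X.left] (f : X ⟶ Y) (i : Z ⟶ Y)
    [IsClosedImmersion i.left] (h : Set.range f.left ⊆ Set.range i.left) : ∃ g : X ⟶ Z, g ≫ i = f := by
  haveI : Surjective (pullback.fst f.left i.left) := ⟨fun x => by
    have : x ∈ Set.range (pullback.fst f.left i.left) := by
      rw [Scheme.Pullback.range_fst]; exact h ⟨x, rfl⟩
    exact this⟩
  haveI := isIso_of_isClosedImmersion_of_surjective (pullback.fst f.left i.left)
  let g := inv (pullback.fst f.left i.left) ≫ pullback.snd f.left i.left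
  have hg : g ≫ i.left = f.left := by rw [Category.assoc, ← pullback.condition, IsIso.inv_hom_id_assoc]
  exact ⟨Over.homMk g (by rw [← Over.w i, ← Category.assoc, hg, Over.w f]), Over.OverMorphism.ext hg⟩

/-- The image of a rational point of the source can be hit. -/
theorem exists_rat_lift {X Y : Over (Spec (CommRingCat.of k))} [LocallyOfFiniteType X.hom] [LocallyOfFiniteType Y.hom]
    (q : X ⟶ Y) [Surjective q.left] (w : RP Y) : ∃ z : RP X, z ≫ q = w := by
  haveI : JacobsonSpace X.left := LocallyOfFiniteType.jacobsonSpace X.hom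
  obtain ⟨x₀, hx₀⟩ := q.left.surjective (SubGen.rpt w)
  obtain ⟨x, hx, hxc⟩ := nonempty_inter_closedPoints (Z := q.left ⁻¹' {SubGen.rpt w}) ⟨x₀, hx₀⟩
    ((mem_closedPoints_iff.1 (SubGen.rpt_mem_closedPoints w)).preimage q.left.continuous).isLocallyClosed
  obtain ⟨z, rfl⟩ := SubGen.exists_rpt hxc
  exact ⟨z, SubGen.rpt_injective hx⟩

set_option maxHeartbeats 1000000 in
/-- The preimage of a commutative subgroup under an extension by an abelian variety contains a commutative
connected non-proper subgroup. -/
theorem exists_comm_nonproper {G Q D M : Over (Spec (CommRingCat.of k))} [GrpObj G] [GrpObj Q] [GrpObj D] [GrpObj M]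
    [Smooth G.hom] [QuasiCompact G.hom] [LocallyOfFiniteType Q.hom] [IsAffine Q.left]
    (i : D ⟶ G) [IsMonHom i] [IsClosedImmersion i.left] [IsProper D.hom] [Smooth D.hom] [ConnectedSpace D.left]
    (q : G ⟶ Q) [IsMonHom q] [Surjective q.left] (hker : AlgGrp.IsKernel i q)
    (j : M ⟶ Q) [IsMonHom j] [IsClosedImmersion j.left] [IsCommMonObj M] (h0 : 0 < topologicalKrullDim M.left) :
    ∃ (H : Over (Spec (CommRingCat.of k))) (_ : GrpObj H) (h : H ⟶ G), IsMonHom h ∧ IsClosedImmersion h.left ∧
      Smooth H.hom ∧ IsCommMonObj H ∧ ¬ IsProper H.hom := by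
  classical
  haveI : IsSeparated G.hom := GrpField.isSeparated_hom G
  haveI : IsSeparated Q.hom := GrpField.isSeparated_hom Q
  haveI : LocallyOfFiniteType M.hom := by rw [← Over.w j]; infer_instance
  haveI : JacobsonSpace M.left := LocallyOfFiniteType.jacobsonSpace M.hom
  let S : Subgroup (RP G) :=
    { carrier := {z | ∃ w : RP M, w ≫ j = z ≫ q}
      mul_mem' := fun ⟨w, hw⟩ ⟨w', hw'⟩ => ⟨w * w', by rw [MonObj.mul_comp, hw, hw', MonObj.mul_comp]⟩
      one_mem' := ⟨1, by rw [MonObj.one_comp, MonObj.one_comp]⟩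
      inv_mem' := fun ⟨w, hw⟩ => ⟨w⁻¹, by rw [GrpObj.inv_comp, hw, GrpObj.inv_comp]⟩ }
  obtain ⟨H, hH, h, hhm, hhc, hhs, hr⟩ := S15608.result k G S
  haveI := hhm
  haveI := hhc
  haveI := hhs
  haveI : QuasiCompact H.hom := by rw [← Over.w h]; infer_instance
  haveI : IsReduced H.left := isReduced_of_smooth H
  haveI : IsSeparated H.hom := GrpField.isSeparated_hom H
  haveI : JacobsonSpace H.left := LocallyOfFiniteType.jacobsonSpace H.hom
  have hsub : Set.range (h ≫ q).left ⊆ Set.range j.left := by
    rintro _ ⟨x, rfl⟩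
    have hx : h.left x ∈ closure ((fun s : RP G => s.left (closedPoint k)) '' (S : Set (RP G))) := by
      have : h.left x ∈ Set.range h.left := ⟨x, rfl⟩
      rw [hr] at this
      exact this
    refine closure_minimal ?_ (j.left.isClosedEmbedding.isClosed_range.preimage q.left.continuous) hx
    rintro _ ⟨s, ⟨w, hw⟩, rfl⟩
    exact ⟨SubGen.rpt w, congrArg SubGen.rpt hw⟩
  obtain ⟨g, hg⟩ := exists_lift_of_range (h ≫ q) j hsub
  haveI : Surjective g.left := by
    haveI : LocallyOfFiniteType (g.left ≫ M.hom) := by rw [Over.w g]; infer_instance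
    haveI : LocallyOfFiniteType g.left := locallyOfFiniteType_of_comp g.left M.hom
    haveI : IsLocallyNoetherian M.left := LocallyOfFiniteType.isLocallyNoetherian M.hom
    haveI : QuasiCompact g.left := by
      haveI : IsSeparated M.hom := GrpField.isSeparated_hom M
      haveI : QuasiCompact (g.left ≫ M.hom) := by rw [Over.w]; infer_instance
      exact QuasiCompact.of_comp g.left M.hom
    refine ⟨fun x => ?_⟩
    have hr' : Set.range g.left = Set.univ := by
      rw [← Set.image_univ]
      refine SubGen.eq_univ_of_closedPoints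
        (g.left.isLocallyConstructible_image Topology.IsConstructible.univ.isLocallyConstructible) fun w hw => ?_
      obtain ⟨w, rfl⟩ := SubGen.exists_rpt hw
      obtain ⟨z, hz⟩ := exists_rat_lift q (w ≫ j)
      have : SubGen.rpt z ∈ Set.range h.left := by
        rw [hr]; exact subset_closure ⟨z, ⟨w, hz.symm⟩, rfl⟩
      obtain ⟨x, hx⟩ := this
      refine ⟨x, trivial, j.left.isClosedEmbedding.injective ?_⟩
      show (g ≫ j).left x = _
      rw [hg, Over.comp_left, Scheme.Hom.comp_apply, hx, SubGen.map_rpt, SubGen.map_rpt, hz]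
    exact hr'.ge (Set.mem_univ x)
  obtain ⟨H₀, hH₀, c, hcm, hcc, hcs, hirr, hcr⟩ := exists_component H
  haveI := hcm
  haveI := hcc
  haveI := hcs
  haveI := hirr
  haveI : QuasiCompact H₀.hom := by rw [← Over.w c]; infer_instance
  haveI : IsReduced H₀.left := isReduced_of_smooth H₀
  haveI : IsSeparated H₀.hom := GrpField.isSeparated_hom H₀
  haveI : IsClosedImmersion (c ≫ h).left := by rw [Over.comp_left]; infer_instance
  haveI : IsReduced D.left := isReduced_of_smooth D
  haveI : GeometricallyIntegral H₀.hom := by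
    haveI : GeometricallyReduced H₀.hom := Rigid.geometricallyReduced_of_smooth _
    haveI : GeometricallyIrreducible H₀.hom := GrpField.geometricallyIrreducible_of_connected H₀
    exact GeometricallyIntegral.of_geometricallyReduced_of_geometricallyIrreducible _
  have hnp : ¬ IsProper H₀.hom := fun hp => by
    haveI := hp
    haveI : IsProper H.hom := isProper_of_component H c hcr
    haveI : IsSeparated M.hom := GrpField.isSeparated_hom M
    haveI : UniversallyClosed M.hom := by
      haveI : UniversallyClosed (g.left ≫ M.hom) := by rw [Over.w]; infer_instance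
      exact UniversallyClosed.of_comp_surjective g.left M.hom
    haveI : QuasiCompact M.hom := inferInstance
    haveI : IsAffine M.left := isAffine_of_isAffineHom j.left
    haveI : IsProper M.hom := { }
    haveI : IsAffineHom M.hom := isAffineHom_of_isAffine _
    haveI : IsFinite M.hom := IsFinite.iff_isProper_and_isAffineHom.2 ⟨inferInstance, inferInstance⟩
    haveI : Finite M.left := by
      have hfin := M.hom.finite_preimage_singleton (closedPoint k)
      haveI : Subsingleton (Spec (CommRingCat.of k)) := inferInstanceAs (Subsingleton (PrimeSpectrum k))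
      rw [show M.hom ⁻¹' {closedPoint k} = Set.univ from Set.eq_univ_of_forall fun x =>
        Subsingleton.elim (α := Spec (CommRingCat.of k)) _ _] at hfin
      exact Set.finite_univ_iff.1 hfin
    haveI : T1Space M.left := ⟨fun w => by
      have hcp : closedPoints M.left = Set.univ := by
        have hcl : IsClosed (closedPoints M.left) := by
          rw [← Set.biUnion_of_singleton (closedPoints M.left)]
          exact (Set.toFinite _).isClosed_biUnion fun w hw => mem_closedPoints_iff.1 hw
        exact hcl.closure_eq.symm.trans closure_closedPoints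
      exact mem_closedPoints_iff.1 (hcp.ge (Set.mem_univ w))⟩
    exact absurd h0 (topologicalKrullDim_zero_of_discreteTopology M.left).not_gt
  refine ⟨H₀, hH₀, c ≫ h, inferInstance, inferInstance, inferInstance, ?_, hnp⟩
  -- the commutator lands in the abelian variety
  let a : H₀ ⊗ H₀ ⟶ G := fst H₀ H₀ ≫ c ≫ h
  let b : H₀ ⊗ H₀ ⟶ G := snd H₀ H₀ ≫ c ≫ h
  let κ : H₀ ⊗ H₀ ⟶ G := a * b * a⁻¹ * b⁻¹
  haveI : Smooth (H₀ ⊗ H₀).hom := inferInstanceAs (Smooth (pullback.fst H₀.hom H₀.hom ≫ H₀.hom))
  haveI : IsReduced (H₀ ⊗ H₀).left := isReduced_of_smooth (H₀ ⊗ H₀)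
  have hpt : ∀ z : RP H₀, ∃ w : RP M, w ≫ j = (z ≫ c ≫ h) ≫ q := fun z =>
    ⟨z ≫ c ≫ g, by rw [Category.assoc, Category.assoc, hg]; simp only [Category.assoc]⟩
  have hκq : κ ≫ q = 1 := by
    refine hom_ext_rat fun p => ?_
    obtain ⟨w₁, hw₁⟩ := hpt (p ≫ fst H₀ H₀)
    obtain ⟨w₂, hw₂⟩ := hpt (p ≫ snd H₀ H₀)
    rw [MonObj.comp_one, ← Category.assoc]
    simp only [κ, MonObj.comp_mul, GrpObj.comp_inv, MonObj.mul_comp, GrpObj.inv_comp, a, b]
    simp only [Category.assoc] at hw₁ hw₂ ⊢
    rw [← hw₁, ← hw₂, ← GrpObj.inv_comp, ← GrpObj.inv_comp, ← MonObj.mul_comp, ← MonObj.mul_comp, ← MonObj.mul_comp]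
    letI : CommGroup (RP M) := Hom.commGroup
    rw [show w₁ * w₂ * w₁⁻¹ * w₂⁻¹ = 1 by
      rw [mul_comm w₁ w₂, mul_inv_cancel_right, mul_inv_cancel], MonObj.one_comp]
  let f : H₀ ⊗ H₀ ⟶ D := hker.lift κ (toUnit _) (by rw [hκq]; rfl)
  have hf : f ≫ i = κ := hker.lift_fst _ _ _
  haveI : Mono i := GrpField.SchImg.mono_of_isClosedImmersion i
  have hl : lift (toUnit H₀ ≫ (1 : RP H₀)) (𝟙 H₀) ≫ f = 1 := by
    rw [← cancel_mono i, Category.assoc, hf, MonObj.one_comp]
    simp only [κ, a, b, MonObj.comp_mul, GrpObj.comp_inv, lift_fst_assoc, lift_snd_assoc, MonObj.comp_one,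
      MonObj.one_comp, Category.id_comp]
    group
  have hr₂ : lift (𝟙 H₀) (toUnit H₀ ≫ (1 : RP H₀)) ≫ f = 1 := by
    rw [← cancel_mono i, Category.assoc, hf, MonObj.one_comp]
    simp only [κ, a, b, MonObj.comp_mul, GrpObj.comp_inv, lift_fst_assoc, lift_snd_assoc, MonObj.comp_one,
      MonObj.one_comp, Category.id_comp]
    group
  have h00 : lift (1 : RP H₀) (1 : RP H₀) ≫ f = 1 := by
    rw [← cancel_mono i, Category.assoc, hf, MonObj.one_comp]
    simp only [κ, a, b, MonObj.comp_mul, GrpObj.comp_inv, lift_fst_assoc, lift_snd_assoc, MonObj.one_comp]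
    group
  have hκ : κ = 1 := by
    rw [← hf, S14584.result k H₀ H₀ D 1 1 f, h00, hl, hr₂]
    simp only [MonObj.comp_one, inv_one, _root_.one_mul, MonObj.one_comp]
  refine isCommMonObj_of_rat H₀ fun z z' => ?_
  haveI : Mono (c ≫ h) := GrpField.SchImg.mono_of_isClosedImmersion (c ≫ h)
  rw [← cancel_mono (c ≫ h), MonObj.mul_comp, MonObj.mul_comp]
  have e := congrArg (fun t => lift z z' ≫ t) hκ
  simp only [κ, a, b, MonObj.comp_mul, GrpObj.comp_inv, lift_fst_assoc, lift_snd_assoc, MonObj.comp_one] at e
  rw [mul_inv_eq_one, mul_inv_eq_iff_eq_mul] at e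
  exact e

set_option maxHeartbeats 1000000 in
/-- A connected non-proper group contains a positive dimensional connected affine subgroup. -/
theorem exists_affine_subgroup_of_connected (G : Over (Spec (CommRingCat.of k))) [GrpObj G] [Smooth G.hom]
    [QuasiCompact G.hom] [ConnectedSpace G.left] (hG : ¬ IsProper G.hom) :
    ∃ (H : Over (Spec (CommRingCat.of k))) (_ : GrpObj H) (j : H ⟶ G), IsMonHom j ∧ IsClosedImmersion j.left ∧
      Smooth H.hom ∧ IsAffine H.left ∧ ConnectedSpace H.left ∧ 0 < topologicalKrullDim ↥H.left := by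
  classical
  obtain ⟨hQ, hqm, hqf, hqs, hql, hQl, hqi⟩ := S4107.hull_cover G
  letI := hQ
  haveI := hqm
  haveI := hqf
  haveI := hqs
  haveI := hql
  haveI := hQl
  haveI := hqi
  let q : G ⟶ AffHull.hull G := AffHull.toHull G
  haveI : IsSeparated G.hom := GrpField.isSeparated_hom G
  haveI : QuasiCompact (AffHull.hull G).hom := inferInstance
  obtain ⟨D, hD, i, him, hic, -, hker⟩ := AdjRep.exists_kernel q
  haveI := him
  haveI := hic
  haveI : LocallyOfFiniteType D.hom := by rw [← Over.w i]; infer_instance
  haveI : QuasiCompact D.hom := by rw [← Over.w i]; infer_instance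
  have hO : Function.Bijective ((Scheme.ΓSpecIso (CommRingCat.of k)).inv ≫ D.hom.appTop).hom := by
    haveI := S4107.isIso_appTop_kernel G i hker
    exact ConcreteCategory.bijective_of_isIso _
  haveI := (S11412.result k D hO).1
  obtain ⟨hDc, hDcomm⟩ := S3293.result k D hO
  haveI := hDc
  haveI := hDcomm
  by_cases hp : IsProper D.hom
  swap
  · obtain ⟨H, hH, j, hjm, hjc, hs, ha, hc, -, hd⟩ := exists_affine_subgroup_of_comm (G := D) hp
    haveI := hjm
    haveI := hjc
    exact ⟨H, hH, j ≫ i, inferInstance, by rw [Over.comp_left]; infer_instance, hs, ha, hc, hd⟩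
  haveI := hp
  haveI : Smooth (AffHull.hull G).hom := (S7983.result k G _ q).2.1 inferInstance
  haveI : ConnectedSpace (AffHull.hull G).left := (S7983.result k G _ q).2.2 inferInstance
  by_cases h0 : 0 < topologicalKrullDim (AffHull.hull G).left
  · obtain ⟨M, hM, j, hjm, hjc, -, -, hMc, hMd⟩ := exists_comm_subgroup (AffHull.hull G) h0
    haveI := hjm
    haveI := hjc
    haveI := hMc
    obtain ⟨H, hH, h, hhm, hhc, hhs, hHc, hHp⟩ := exists_comm_nonproper i q hker j hMd
    haveI := hhm
    haveI := hhc
    haveI := hhs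
    haveI := hHc
    haveI : QuasiCompact H.hom := by rw [← Over.w h]; infer_instance
    obtain ⟨A, hA, a, ham, hac, hs, ha, hc, -, hd⟩ := exists_affine_subgroup_of_comm (G := H) hHp
    haveI := ham
    haveI := hac
    exact ⟨A, hA, a ≫ h, inferInstance, by rw [Over.comp_left]; infer_instance, hs, ha, hc, hd⟩
  · exfalso
    haveI : IrreducibleSpace (AffHull.hull G).left :=
      GrpField.irreducibleSpace_of_nhds fun y => GrpField.exists_irreducible_nhd (AffHull.hull G) y
    haveI : IsReduced G.left := isReduced_of_smooth G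
    haveI : IsSeparated (AffHull.hull G).hom := GrpField.isSeparated_hom _
    have hq : q = 1 := hom_ext_rat fun z => SubGen.rpt_injective (eq_of_dim_nonpos h0 _ _)
    haveI : Mono i := GrpField.SchImg.mono_of_isClosedImmersion i
    let s : G ⟶ D := hker.lift (𝟙 G) (toUnit _) (by rw [Category.id_comp, hq]; rfl)
    have hs : s ≫ i = 𝟙 G := hker.lift_fst _ _ _
    haveI : IsIso i := ⟨s, by rw [← cancel_mono i, Category.assoc, hs, Category.comp_id, Category.id_comp], hs⟩
    haveI : IsIso i.left := inferInstanceAs (IsIso ((Over.forget _).map i))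
    refine hG ?_
    have e : G.hom = inv i.left ≫ D.hom := by rw [IsIso.eq_inv_comp, Over.w]
    rw [e]; infer_instance

/-- A non-proper smooth group over an algebraically closed field contains a positive dimensional connected
affine subgroup. -/
theorem exists_affine_subgroup (G : Over (Spec (CommRingCat.of k))) [GrpObj G] [Smooth G.hom]
    [QuasiCompact G.hom] (hG : ¬ IsProper G.hom) :
    ∃ (H : Over (Spec (CommRingCat.of k))) (_ : GrpObj H) (j : H ⟶ G), IsMonHom j ∧ IsClosedImmersion j.left ∧
      Smooth H.hom ∧ IsAffine H.left ∧ ConnectedSpace H.left ∧ 0 < topologicalKrullDim ↥H.left := by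
  obtain ⟨G₀, hG₀, c, hcm, hcc, hcs, hirr, hcr⟩ := exists_component G
  haveI := hcm
  haveI := hcc
  haveI := hcs
  haveI := hirr
  haveI : QuasiCompact G₀.hom := by rw [← Over.w c]; infer_instance
  haveI : ConnectedSpace G₀.left := inferInstance
  obtain ⟨H, hH, j, hjm, hjc, hs, ha, hc, hd⟩ := exists_affine_subgroup_of_connected G₀ fun hp => hG (by
    haveI := hp
    exact isProper_of_component G c hcr)
  haveI := hjm
  haveI := hjc
  exact ⟨H, hH, j ≫ c, inferInstance, by rw [Over.comp_left]; infer_instance, hs, ha, hc, hd⟩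

end Groth.Agent.Chev
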