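import Groth.Agent.Chev.MaxTorusExt
import Groth.Agent.Chev.NonAffTori

/-!
# Maximal tori under base change
-/

set_option autoImplicit false
set_option linter.style.haveILetI false
set_option backward.isDefEq.respectTransparency false
set_option maxHeartbeats 1000000

universe u

noncomputable section

open CategoryTheory Limits MonoidalCategory CartesianMonoidalCategory MonObj GrpObj AlgebraicGeometry
open scoped CategoryTheory.Obj

namespace Groth.Agent.Chev.MaxTorusBC

open MaxTorusExt

variable {S U V : Scheme.{u}}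

/-- The comparison of iterated base changes. -/
theorem exists_trIso {g : V ⟶ U} {f : U ⟶ S} {ψ : V ⟶ S} (h : g ≫ f = ψ) (G : Over S) :
    ∃ e : Red.bc ψ G ≅ Red.bc g (Red.bc f G), e.hom = MaxTorusExt.tr h (𝟙 _) ∧ ([GrpObj G] → IsMonHom e.hom) := by
  obtain ⟨y, hy⟩ := exists_tr h (𝟙 (Red.bc g (Red.bc f G)))
  refine ⟨⟨MaxTorusExt.tr h (𝟙 _), y, tr_injective h ?_, ?_⟩, rfl, fun {_} => MTTorus.isMonHom_of_mul _ fun u v => ?_⟩
  · rw [tr_naturality, hy, Category.comp_id]
  · rw [← tr_naturality, Category.comp_id, hy]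
  · rw [← tr_naturality, ← tr_naturality, ← tr_naturality, Category.comp_id, Category.comp_id, Category.comp_id, tr_mul]

/-- Maximality passes along isomorphisms. -/
theorem isMaxTorus_of_iso {G G' T T' : Over S} [GrpObj G] [GrpObj G'] [GrpObj T] [GrpObj T'] (a : T ≅ T') (b : G ≅ G')
    [IsMonHom a.hom] [IsMonHom b.hom] (i : T ⟶ G) (i' : T' ⟶ G') (hsq : i ≫ b.hom = a.hom ≫ i')
    (hT' : Red.IsTorus T') (h : AGF.IsMaxTorus i) : AGF.IsMaxTorus i' := by
  obtain ⟨him, himono, -, hmax⟩ := h
  haveI := him; haveI := himono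
  haveI : IsMonHom a.inv := inferInstance
  haveI : IsMonHom b.inv := inferInstance
  have e : i' = a.inv ≫ i ≫ b.hom := by rw [hsq, a.inv_hom_id_assoc]
  refine ⟨e ▸ inferInstance, e ▸ mono_comp _ _, hT', fun X _ j _ _ f hX hf => ?_⟩
  have hiso := hmax X (j ≫ b.inv) (a.hom ≫ f) hX (by
    rw [Category.assoc, reassoc_of% hf, ← reassoc_of% hsq, b.hom_inv_id, Category.comp_id])
  exact @IsIso.of_isIso_comp_left _ _ _ _ _ a.hom f a.isIso_hom hiso

/-- A maximal torus is maximal over every geometric point. -/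
theorem isMaxTorus_pt {G T : Over S} [GrpObj G] [GrpObj T] [LocallyOfFiniteType G.hom] [QuasiCompact G.hom]
    (i : T ⟶ G) (hT : Red.IsMaximalTorus i) {K : Type u} [Field K] [IsAlgClosed K]
    (φ : Spec (CommRingCat.of K) ⟶ S) : AGF.IsMaxTorus ((Over.pullback φ).map i) := by
  obtain ⟨him, himono, hTt, hmax⟩ := hT
  haveI := him; haveI := himono
  let s : S := φ (IsLocalRing.closedPoint K)
  let a := S.descResidueField (Scheme.stalkClosedPointTo φ)
  letI : Algebra (S.residueField s) K := a.hom.toAlgebra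
  let k := AlgebraicClosure (S.residueField s)
  let iota : k →ₐ[S.residueField s] K := IsAlgClosed.lift
  letI : Algebra k K := iota.toRingHom.toAlgebra
  let τ := Spec.map (CommRingCat.ofHom (algebraMap k K))
  have hτ : τ ≫ Red.geomPt s = φ := by
    show Spec.map _ ≫ Spec.map _ ≫ S.fromSpecResidueField s = φ
    rw [← Category.assoc, ← Spec.map_comp,
      show CommRingCat.ofHom (algebraMap (S.residueField s) k) ≫ CommRingCat.ofHom (algebraMap k K) = a from
        CommRingCat.hom_ext (iota.comp_algebraMap)]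
    exact Scheme.descResidueField_stalkClosedPointTo_fromSpecResidueField K S φ
  let gam := Red.geomPt s
  haveI : LocallyOfFiniteType (Red.bc gam G).hom := inferInstanceAs (LocallyOfFiniteType (pullback.snd G.hom gam))
  haveI : QuasiCompact (Red.bc gam G).hom := inferInstanceAs (QuasiCompact (pullback.snd G.hom gam))
  haveI : PreservesLimitsOfShape WalkingCospan (Over.pullback gam) :=
    (Adjunction.rightAdjoint_preservesLimits (Over.mapPullbackAdj gam)).preservesLimitsOfShape
  have h₁ : AGF.IsMaxTorus ((Over.pullback gam).map i) :=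
    ⟨inferInstance, inferInstance, Borel.isTorus_bc_scheme T gam hTt, hmax s⟩
  have h₂ := isMaxTorus_ext (K := K) _ h₁
  obtain ⟨eT, heT, hT'⟩ := exists_trIso hτ T
  obtain ⟨eG, heG, hG'⟩ := exists_trIso hτ G
  haveI : IsMonHom eT.hom := hT'
  haveI : IsMonHom eG.hom := hG'
  haveI : IsMonHom eT.symm.hom := inferInstanceAs (IsMonHom eT.inv)
  haveI : IsMonHom eG.symm.hom := inferInstanceAs (IsMonHom eG.inv)
  refine isMaxTorus_of_iso eT.symm eG.symm _ _ ?_ (Borel.isTorus_bc_scheme T φ hTt) h₂
  show _ ≫ eG.inv = eT.inv ≫ (Over.pullback φ).map i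
  rw [Iso.eq_inv_comp, ← Category.assoc, Iso.comp_inv_eq, heT, heG, ← tr_naturality, Category.comp_id]
  conv_rhs => rw [← Category.id_comp ((Over.pullback φ).map i)]
  exact (tr_comp hτ i (𝟙 _)).symm

/-- **Maximal tori are stable under base change.** -/
theorem isMaximalTorus_bc {G T : Over S} [GrpObj G] [GrpObj T] [LocallyOfFiniteType G.hom] [QuasiCompact G.hom]
    (i : T ⟶ G) (hT : Red.IsMaximalTorus i) (f : U ⟶ S) : Red.IsMaximalTorus ((Over.pullback f).map i) := by
  haveI := hT.1
  haveI := hT.2.1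
  haveI : PreservesLimitsOfShape WalkingCospan (Over.pullback f) :=
    (Adjunction.rightAdjoint_preservesLimits (Over.mapPullbackAdj f)).preservesLimitsOfShape
  refine ⟨inferInstance, inferInstance, Borel.isTorus_bc_scheme T f hT.2.2.1, fun x => ?_⟩
  let gam := Red.geomPt x
  obtain ⟨eT, heT, hT'⟩ := exists_trIso (show gam ≫ f = gam ≫ f from rfl) T
  obtain ⟨eG, heG, hG'⟩ := exists_trIso (show gam ≫ f = gam ≫ f from rfl) G
  haveI : IsMonHom eT.hom := hT'
  haveI : IsMonHom eG.hom := hG'
  have h := isMaxTorus_of_iso eT eG _ ((Over.pullback gam).map ((Over.pullback f).map i)) (by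
    rw [heT, heG, ← tr_naturality, Category.comp_id, ← tr_comp, Category.id_comp])
    (Borel.isTorus_bc_scheme _ gam (Borel.isTorus_bc_scheme T f hT.2.2.1)) (isMaxTorus_pt i hT (gam ≫ f))
  exact h.2.2.2

/-- Maximality descends along surjective flat quasi-compact base change. -/
theorem isMaxTorus_descend {G T : Over S} [GrpObj G] [GrpObj T] (τ : U ⟶ S) [Surjective τ] [Flat τ] [QuasiCompact τ]
    (i : T ⟶ G) [IsMonHom i] [Mono i] (hTt : Red.IsTorus T) (h : AGF.IsMaxTorus ((Over.pullback τ).map i)) :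
    AGF.IsMaxTorus i := by
  refine ⟨‹_›, ‹_›, hTt, fun T' _ j _ _ f hT' hf => ?_⟩
  haveI : PreservesLimitsOfShape WalkingCospan (Over.pullback τ) :=
    (Adjunction.rightAdjoint_preservesLimits (Over.mapPullbackAdj τ)).preservesLimitsOfShape
  haveI := h.2.2.2 _ ((Over.pullback τ).map j) ((Over.pullback τ).map f) (Borel.isTorus_bc_scheme T' τ hT') (by
    rw [← Functor.map_comp, hf])
  exact Borel.isIso_of_isIso_pullback τ f

/-- A torus whose base change along a surjective map is maximal is maximal. -/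
theorem isMaximalTorus_descend {G T : Over S} [GrpObj G] [GrpObj T] [LocallyOfFiniteType G.hom] [QuasiCompact G.hom]
    (f : U ⟶ S) [Surjective f] (i : T ⟶ G) [IsMonHom i] [Mono i] (hTt : Red.IsTorus T)
    (h : Red.IsMaximalTorus ((Over.pullback f).map i)) : Red.IsMaximalTorus i := by
  refine ⟨‹_›, ‹_›, hTt, fun s => ?_⟩
  obtain ⟨x, hx⟩ := f.surjective s
  haveI : LocallyOfFiniteType (Red.bc f G).hom := inferInstanceAs (LocallyOfFiniteType (pullback.snd G.hom f))
  haveI : QuasiCompact (Red.bc f G).hom := inferInstanceAs (QuasiCompact (pullback.snd G.hom f))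
  subst hx
  let K := AlgebraicClosure (U.residueField x)
  let κ := S.residueField (f x)
  let a := f.residueFieldMap x
  letI : Algebra κ K := ((algebraMap (U.residueField x) K).comp a.hom).toAlgebra
  let k := AlgebraicClosure κ
  let iota : k →ₐ[κ] K := IsAlgClosed.lift
  letI : Algebra k K := iota.toRingHom.toAlgebra
  let τ := Spec.map (CommRingCat.ofHom (algebraMap k K))
  have hτ : τ ≫ Red.geomPt (f x) = Red.geomPt x ≫ f := by
    show Spec.map _ ≫ Spec.map _ ≫ S.fromSpecResidueField _ = (Spec.map _ ≫ U.fromSpecResidueField x) ≫ f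
    rw [← Category.assoc, ← Spec.map_comp,
      show CommRingCat.ofHom (algebraMap κ k) ≫ CommRingCat.ofHom (algebraMap k K) =
        a ≫ CommRingCat.ofHom (algebraMap (U.residueField x) K) from CommRingCat.hom_ext (iota.comp_algebraMap),
      Spec.map_comp, Category.assoc, Category.assoc, Scheme.Hom.SpecMap_residueFieldMap_fromSpecResidueField]
  haveI : Subsingleton (Spec (CommRingCat.of k)) := inferInstanceAs (Subsingleton (PrimeSpectrum k))
  haveI : Surjective τ := ⟨fun y => ⟨IsLocalRing.closedPoint K, Subsingleton.elim _ _⟩⟩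
  haveI : Flat τ := (Flat.SpecMap_iff).2 (RingHom.flat_algebraMap_iff.2 inferInstance)
  let gam := Red.geomPt (f x)
  haveI : PreservesLimitsOfShape WalkingCospan (Over.pullback gam) :=
    (Adjunction.rightAdjoint_preservesLimits (Over.mapPullbackAdj gam)).preservesLimitsOfShape
  have h₀ := isMaxTorus_pt ((Over.pullback f).map i) h (Red.geomPt x)
  obtain ⟨eT, heT, hT'⟩ := exists_trIso (show Red.geomPt x ≫ f = Red.geomPt x ≫ f from rfl) T
  obtain ⟨eG, heG, hG'⟩ := exists_trIso (show Red.geomPt x ≫ f = Red.geomPt x ≫ f from rfl) G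
  obtain ⟨eT₂, heT₂, hT₂'⟩ := exists_trIso hτ T
  obtain ⟨eG₂, heG₂, hG₂'⟩ := exists_trIso hτ G
  haveI : IsMonHom eT.hom := hT'
  haveI : IsMonHom eG.hom := hG'
  haveI : IsMonHom eT₂.hom := hT₂'
  haveI : IsMonHom eG₂.hom := hG₂'
  haveI : IsMonHom eT.symm.hom := inferInstanceAs (IsMonHom eT.inv)
  haveI : IsMonHom eG.symm.hom := inferInstanceAs (IsMonHom eG.inv)
  have h₁ : AGF.IsMaxTorus ((Over.pullback (Red.geomPt x ≫ f)).map i) :=
    isMaxTorus_of_iso eT.symm eG.symm _ _ (by
      show _ ≫ eG.inv = eT.inv ≫ _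
      rw [Iso.eq_inv_comp, ← Category.assoc, Iso.comp_inv_eq, heT, heG, ← tr_naturality, Category.comp_id, ← tr_comp,
        Category.id_comp]) (Borel.isTorus_bc_scheme T _ hTt) h₀
  have h₂ : AGF.IsMaxTorus ((Over.pullback τ).map ((Over.pullback gam).map i)) :=
    isMaxTorus_of_iso eT₂ eG₂ _ _ (by
      rw [heT₂, heG₂, ← tr_naturality, Category.comp_id, ← tr_comp, Category.id_comp])
      (Borel.isTorus_bc_scheme _ τ (Borel.isTorus_bc_scheme T gam hTt)) h₁
  exact (isMaxTorus_descend τ _ (Borel.isTorus_bc_scheme T gam hTt) h₂).2.2.2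

end Groth.Agent.Chev.MaxTorusBC
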