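import Groth.Agent.Chev.BorelTheory
import Groth.Agent.Chev.SolvTorus

/-!
# Maximal tori over an algebraically closed field
-/

set_option autoImplicit false
set_option backward.isDefEq.respectTransparency false

universe u

open CategoryTheory CategoryTheory.Limits MonoidalCategory CartesianMonoidalCategory MonObj GrpObj AlgebraicGeometry
open TensorProduct WithConv

noncomputable section

namespace Groth.Agent.Chev.Borel

variable {k : Type u} [Field k] [IsAlgClosed k]

/-- The rational points of a torus commute. -/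
theorem rp_torus_comm {T : Over (Spec (CommRingCat.of k))} [GrpObj T] (hT : Red.IsTorus T) (p q : RP T) :
    p * q = q * p := by
  obtain ⟨B, _, _, e, he, hft, hdom, ⟨M, _, ⟨E⟩⟩⟩ := exists_hopf_torus hT
  haveI := he
  apply (ProjRep.ptsEquiv e).injective
  rw [map_mul, map_mul]
  generalize ProjRep.ptsEquiv e p = φ
  generalize ProjRep.ptsEquiv e q = χ
  refine WithConv.ext (AlgHom.ext fun b => ?_)
  rw [AlgHom.convMul_apply, AlgHom.convMul_apply]
  have key : ∀ x : MonoidAlgebra k M, Algebra.TensorProduct.lift φ.ofConv χ.ofConv (fun _ _ => Commute.all _ _)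
      (Coalgebra.comul (R := k) ((E.symm : MonoidAlgebra k M →ₐc[k] B) x)) =
      Algebra.TensorProduct.lift χ.ofConv φ.ofConv (fun _ _ => Commute.all _ _)
      (Coalgebra.comul (R := k) ((E.symm : MonoidAlgebra k M →ₐc[k] B) x)) := by
    intro x
    induction x using MonoidAlgebra.induction_linear with
    | zero => simp only [map_zero]
    | add x y hx hy => simp only [map_add, hx, hy]
    | single m c =>
      rw [show MonoidAlgebra.single m c = c • MonoidAlgebra.single m (1 : k) by simp, map_smul, map_smul]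
      simp only [map_smul]
      rw [((MonoidAlgebra.isGroupLikeElem_single_one (R := k) (A := k) m).map (E.symm : MonoidAlgebra k M →ₐc[k] B)).comul_eq_tmul_self,
        Algebra.TensorProduct.lift_tmul, Algebra.TensorProduct.lift_tmul, mul_comm]
  obtain ⟨x, hx⟩ := E.symm.surjective b
  rw [← hx]
  exact key x

variable {G : Over (Spec (CommRingCat.of k))} [GrpObj G] [IsAffine G.left] [Smooth G.hom] [ConnectedSpace G.left]

variable (G) in
/-- There is a torus, contained in a Borel subgroup, into which every torus is conjugate. -/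
theorem exists_universal_torus :
    ∃ (T B : Over (Spec (CommRingCat.of k))) (_ : GrpObj T) (_ : GrpObj B) (t : T ⟶ B) (b : B ⟶ G),
      IsMonHom t ∧ IsClosedImmersion t.left ∧ Red.IsBorelOver k b ∧ Red.IsTorus T ∧
      ∀ (T' : Over (Spec (CommRingCat.of k))) [GrpObj T'] (j : T' ⟶ G) [IsMonHom j] [Mono j], Red.IsTorus T' →
        ∃ (g : RP G) (f : T' ⟶ T), IsMonHom f ∧ f ≫ t ≫ b = AGF.conjBy g j := by
  obtain ⟨B, hB, b, hb, X, a, o, hX, hp⟩ := exists_borel_proper G
  obtain ⟨hm, hc, hs, hconn, hsol, -⟩ := id hb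
  haveI := hm; haveI := hc; haveI := hs; haveI := hconn; haveI := hp
  haveI : IsAffine B.left := isAffine_of_isAffineHom b.left
  haveI := isSolvable_rp hsol
  obtain ⟨T, hT, t, π, htm, -, htc, -, htor, huniv, -⟩ := exists_section_torus B
  haveI := htm
  haveI : Mono b := GrpField.SchImg.mono_of_isClosedImmersion b
  refine ⟨T, B, hT, hB, t, b, htm, htc, hb, htor, fun T' _ j hj hjm hT' => ?_⟩
  haveI := isAffine_of_isTorus hT'
  haveI := smooth_of_isTorus hT'
  haveI := connectedSpace_of_isTorus hT'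
  haveI : Group.IsSolvable (RP T') := Group.isSolvable_of_comm (rp_torus_comm hT')
  obtain ⟨g₁, f₁, hf₁⟩ := exists_conj_le b a o hX j
  haveI := isMonHom_conjBy g₁ j
  haveI : IsMonHom f₁ := MTSplit.isMonHom_of_comp_mono f₁ b (AGF.conjBy g₁ j) hf₁
  haveI : Mono (f₁ ≫ b) := by
    rw [hf₁]
    refine ⟨fun {Z} p q h => (cancel_mono j).1 ?_⟩
    rw [comp_conjBy, comp_conjBy] at h
    exact mul_left_cancel (mul_right_cancel h)
  haveI : Mono f₁ := mono_of_mono f₁ b
  obtain ⟨g₂, f, hfm, hf⟩ := huniv T' f₁ hT'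
  refine ⟨(g₂ ≫ b) * g₁, f, hfm, ?_⟩
  rw [← conjBy_conjBy, ← hf₁, ← Category.assoc, hf]
  simp only [AGF.conjBy, MonObj.mul_comp, GrpObj.inv_comp, Category.assoc]

omit [IsAlgClosed k] [IsAffine G.left] [Smooth G.hom] [ConnectedSpace G.left] in
theorem mono_conjBy {H : Over (Spec (CommRingCat.of k))} (g : RP G) (i : H ⟶ G) [Mono i] :
    Mono (AGF.conjBy g i) :=
  ⟨fun {Z} p q h => (cancel_mono i).1 (by
    rw [comp_conjBy, comp_conjBy] at h
    exact mul_left_cancel (mul_right_cancel h))⟩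

variable (G) in
/-- There is a maximal torus contained in a Borel subgroup, to which all maximal tori are conjugate. -/
theorem exists_maxTorus :
    ∃ (T B : Over (Spec (CommRingCat.of k))) (_ : GrpObj T) (_ : GrpObj B) (t : T ⟶ B) (b : B ⟶ G),
      IsMonHom t ∧ IsClosedImmersion t.left ∧ Red.IsBorelOver k b ∧ AGF.IsMaxTorus (t ≫ b) ∧
      ∀ (T' : Over (Spec (CommRingCat.of k))) [GrpObj T'] (j : T' ⟶ G), AGF.IsMaxTorus j →
        ∃ (g : RP G) (f : T' ≅ T), IsMonHom f.hom ∧ f.hom ≫ t ≫ b = AGF.conjBy g j := by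
  obtain ⟨T, B, hT, hB, t, b, htm, htc, hb, htor, huniv⟩ := exists_universal_torus G
  haveI := htm; haveI := htc; haveI := hb.1; haveI := hb.2.1
  haveI : Mono t := GrpField.SchImg.mono_of_isClosedImmersion t
  haveI : Mono b := GrpField.SchImg.mono_of_isClosedImmersion b
  refine ⟨T, B, hT, hB, t, b, htm, htc, hb, ⟨inferInstance, inferInstance, htor, fun T' _ j _ _ f₀ hT' h0 => ?_⟩,
    fun T' _ j hj => ?_⟩
  · obtain ⟨g, f, hfm, hf⟩ := huniv T' j hT'
    haveI := hfm
    haveI : IsMonHom f₀ := MTSplit.isMonHom_of_comp_mono f₀ j (t ≫ b) h0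
    haveI : Mono (f₀ ≫ j) := by rw [h0]; infer_instance
    haveI : Mono f₀ := mono_of_mono f₀ j
    haveI := mono_conjBy g j
    haveI : Mono (f ≫ t ≫ b) := by rw [hf]; infer_instance
    haveI : Mono f := mono_of_mono f (t ≫ b)
    haveI := isIso_endo_torus htor (f₀ ≫ f)
    haveI : IsSplitEpi f := ⟨⟨inv (f₀ ≫ f) ≫ f₀, by rw [Category.assoc, IsIso.inv_hom_id]⟩⟩
    haveI : IsIso f := isIso_of_mono_of_isSplitEpi f
    exact IsIso.of_isIso_comp_right f₀ f
  · obtain ⟨hjm, hjmono, hT', hmax⟩ := hj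
    haveI := hjm; haveI := hjmono
    obtain ⟨g, f, hfm, hf⟩ := huniv T' j hT'
    haveI := hfm
    haveI := isMonHom_conjBy g⁻¹ (t ≫ b)
    haveI := mono_conjBy g⁻¹ (t ≫ b)
    haveI : IsIso f := hmax T (AGF.conjBy g⁻¹ (t ≫ b)) f htor (by
      rw [comp_conjBy', hf, conjBy_conjBy, inv_mul_cancel, conjBy_one])
    exact ⟨g, asIso f, hfm, hf⟩

/-- Maximal tori are conjugate. -/
theorem maxTorus_conj {T T' : Over (Spec (CommRingCat.of k))} [GrpObj T] [GrpObj T'] (iT : T ⟶ G) (iT' : T' ⟶ G)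
    (hT : AGF.IsMaxTorus iT) (hT' : AGF.IsMaxTorus iT') :
    ∃ (g : RP G) (f : T ≅ T'), IsMonHom f.hom ∧ f.hom ≫ iT' = AGF.conjBy g iT := by
  obtain ⟨T₀, B, _, _, t, b, -, -, -, -, hconj⟩ := exists_maxTorus G
  obtain ⟨g, f, hfm, hf⟩ := hconj T iT hT
  obtain ⟨g', f', hfm', hf'⟩ := hconj T' iT' hT'
  haveI := hfm; haveI := hfm'
  refine ⟨g'⁻¹ * g, f ≪≫ f'.symm, inferInstanceAs (IsMonHom (f.hom ≫ f'.inv)), ?_⟩
  have e : iT' = AGF.conjBy g'⁻¹ (f'.hom ≫ t ≫ b) := by rw [hf', conjBy_conjBy, inv_mul_cancel, conjBy_one]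
  rw [Iso.trans_hom, Iso.symm_hom, Category.assoc, e, comp_conjBy', f'.inv_hom_id_assoc, comp_conjBy', hf,
    conjBy_conjBy]

end Groth.Agent.Chev.Borel
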