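import Groth.Agent.Chev.Trans
import Groth.Agent.AdjRep.ToGL

/-!
# Matrices of points of the general linear group
-/

set_option autoImplicit false
set_option backward.isDefEq.respectTransparency false

universe u

open CategoryTheory CategoryTheory.Limits MonoidalCategory CartesianMonoidalCategory MonObj GrpObj AlgebraicGeometry
open scoped TensorProduct

noncomputable section

namespace Groth.Agent.Chev

variable {k : Type u} [Field k] {n : ℕ}

/-- The point of an algebra map. -/
def glPt {A : Type u} [CommRing A] [Algebra k A] (φ : CoordGrp.GLn n k →ₐ[k] A) :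
    VecGrp.pt k A ⟶ AdjRep.GLSpec k n :=
  Over.homMk (Spec.map (CommRingCat.ofHom φ.toRingHom)) (by
    show Spec.map _ ≫ Spec.map (CommRingCat.ofHom (algebraMap k (CoordGrp.GLn n k))) = Spec.map _
    rw [← Spec.map_comp]
    congr 1
    exact CommRingCat.hom_ext φ.comp_algebraMap)

/-- Identification of the functions on the base. -/
def unitVal : Γ((𝟙_ (Over (Spec (CommRingCat.of k)))).left, ⊤) →+* k :=
  (Scheme.ΓSpecIso (CommRingCat.of k)).hom.hom

/-- The matrix of a rational point. -/
def mat (z : RP (AdjRep.GLSpec k n)) : Matrix (Fin n) (Fin n) k :=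
  fun i j => unitVal (AffHull.fn z.left (CoordGrp.GLn.X i j))

theorem mat_mul (a b : RP (AdjRep.GLSpec k n)) : mat (a * b) = mat a * mat b := by
  ext i j
  obtain ⟨Φ, hΦ, hm⟩ := AffHull.exists_fn_mul (A := CoordGrp.GLn n k) a b
  show unitVal _ = _
  rw [hm, CoordGrp.GLn.comul_X, map_sum, map_sum, Matrix.mul_apply]
  refine Finset.sum_congr rfl fun l _ => ?_
  rw [hΦ, map_mul]
  rfl

set_option synthInstance.maxHeartbeats 2000000 in
set_option maxHeartbeats 4000000 in
theorem mat_one : mat (1 : RP (AdjRep.GLSpec k n)) = 1 := by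
  ext i j
  show unitVal _ = _
  rw [AffHull.fn_one, CoordGrp.GLn.counit_X, Matrix.one_apply]
  split_ifs
  · exact map_one (unitVal.comp (AffHull.fn (A := CommRingCat.of k) _))
  · exact map_zero (unitVal.comp (AffHull.fn (A := CommRingCat.of k) _))

theorem mat_comp_glPt {A : Type u} [CommRing A] [Algebra k A] (φ : CoordGrp.GLn n k →ₐ[k] A) (ψ : A →ₐ[k] k)
    (e : 𝟙_ (Over (Spec (CommRingCat.of k))) ⟶ VecGrp.pt k A)
    (he : e.left = Spec.map (CommRingCat.ofHom ψ.toRingHom)) (i j : Fin n) :
    mat (e ≫ glPt φ) i j = ψ (φ (CoordGrp.GLn.X i j)) := by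
  show unitVal (AffHull.fn (e.left ≫ Spec.map (CommRingCat.ofHom φ.toRingHom)) _) = _
  rw [he, ← Spec.map_comp, ← Category.id_comp (Spec.map _), AffHull.fn_map]
  exact congr($(Iso.inv_hom_id (Scheme.ΓSpecIso (CommRingCat.of k))) (ψ (φ (CoordGrp.GLn.X i j))))

end Groth.Agent.Chev
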