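import Groth.Agent.Chev.Kolchin
import Groth.Agent.Chev.GLPoints
import Groth.Agent.Chev.Subgroup
import Groth.Agent.AffHull.GLn
import Groth.Agent.GrpComp.Identity
import Groth.Agent.Rigid.DimDrop
import Groth.Agent.S15608
import Mathlib.LinearAlgebra.Matrix.Charpoly.Coeff

/-!
# Positive dimensional commutative subgroups of affine groups

Over an algebraically closed field a connected smooth affine group of positive dimension contains a connected
smooth commutative subgroup of positive dimension: a minimal positive dimensional subgroup which is not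
commutative would be unipotent with finite centralizers.
-/

set_option autoImplicit false
set_option backward.isDefEq.respectTransparency false

universe u

open CategoryTheory CategoryTheory.Limits MonoidalCategory CartesianMonoidalCategory MonObj GrpObj AlgebraicGeometry
open IsLocalRing (closedPoint)

noncomputable section

namespace Groth.Agent.Chev

variable {k : Type u} [Field k] [IsAlgClosed k]

/-- Morphisms from a reduced scheme agree if they agree at rational points. -/
theorem hom_ext_rat {X Y : Over (Spec (CommRingCat.of k))} [IsReduced X.left] [LocallyOfFiniteType X.hom]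
    [IsSeparated Y.hom] [LocallyOfFiniteType Y.hom] {f g : X ⟶ Y} (h : ∀ q : RP X, q ≫ f = q ≫ g) : f = g := by
  refine Over.OverMorphism.ext ?_
  haveI : LocallyOfFiniteType (f.left ≫ Y.hom) := by rw [Over.w f]; infer_instance
  refine ext_of_apply_eq Y.hom Set.univ isOpen_univ.isLocallyClosed dense_univ (fun x _ hx => ?_)
    ((Over.w f).trans (Over.w g).symm)
  obtain ⟨q, rfl⟩ := SubGen.exists_rpt (Y := X) (mem_closedPoints_iff.2 hx)
  exact congrArg SubGen.rpt (h q)

theorem isReduced_of_smooth (G : Over (Spec (CommRingCat.of k))) [Smooth G.hom] : IsReduced G.left := by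
  haveI : GeometricallyReduced G.hom := Rigid.geometricallyReduced_of_smooth _
  exact GeometricallyReduced.geometrically_isReduced (f := G.hom) (K := k) (𝟙 _) (𝟙 _) G.hom
    (IsPullback.of_horiz_isIso ⟨by rw [Category.id_comp, Category.comp_id]⟩)

/-- A smooth group is commutative if its rational points are. -/
theorem isCommMonObj_of_rat (G : Over (Spec (CommRingCat.of k))) [GrpObj G] [Smooth G.hom]
    (h : ∀ a b : RP G, a * b = b * a) : IsCommMonObj G := by
  haveI : IsSeparated G.hom := GrpField.isSeparated_hom G
  haveI : Smooth (G ⊗ G).hom := inferInstanceAs (Smooth (pullback.fst G.hom G.hom ≫ G.hom))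
  haveI := isReduced_of_smooth (G ⊗ G)
  refine ⟨hom_ext_rat fun q => ?_⟩
  rw [← Category.assoc]
  calc (q ≫ (β_ G G).hom) ≫ μ[G]
      = (q ≫ snd G G) * (q ≫ fst G G) := by
        rw [Hom.mul_def]
        congr 1
        apply CartesianMonoidalCategory.hom_ext <;> simp
    _ = (q ≫ fst G G) * (q ≫ snd G G) := h _ _
    _ = q ≫ μ[G] := by
        rw [Hom.mul_def, ← comp_lift, lift_fst_snd, Category.comp_id]

variable {M : Over (Spec (CommRingCat.of k))}

/-- The rational points of a closed subset are closed: an equalizer at rational points. -/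
theorem mem_of_rpt_mem_closure [LocallyOfFiniteType M.hom] [IsSeparated M.hom] (f g : M ⟶ M) (S : Set (RP M))
    (hS : ∀ z ∈ S, z ≫ f = z ≫ g) (z : RP M) (hz : SubGen.rpt z ∈ closure (SubGen.rpt '' S)) :
    z ≫ f = z ≫ g := by
  let e : pullback (pullback.diagonal M.hom) (pullback.lift f.left g.left ((Over.w f).trans (Over.w g).symm)) ⟶
      M.left := pullback.snd _ _
  have hr : ∀ z : RP M, z ≫ f = z ≫ g → SubGen.rpt z ∈ Set.range e := fun z hz => by
    refine ⟨(pullback.lift (z ≫ f).left z.left ?_ : _ ⟶ pullback (pullback.diagonal M.hom)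
      (pullback.lift f.left g.left ((Over.w f).trans (Over.w g).symm))) (closedPoint k), ?_⟩
    · apply pullback.hom_ext
      · rw [Category.assoc, Category.assoc, pullback.diagonal_fst, pullback.lift_fst, Category.comp_id]
        rfl
      · rw [Category.assoc, Category.assoc, pullback.diagonal_snd, pullback.lift_snd, Category.comp_id, hz]
        rfl
    · rw [← Scheme.Hom.comp_apply, pullback.lift_snd]; rfl
  have hcl : IsClosed (Set.range e) := e.isClosedEmbedding.isClosed_range
  obtain ⟨w, hw⟩ := closure_minimal (by rintro _ ⟨s, hs, rfl⟩; exact hr s (hS s hs)) hcl hz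
  apply SubGen.rpt_injective
  rw [← SubGen.map_rpt, ← SubGen.map_rpt, ← hw, ← Scheme.Hom.comp_apply, ← Scheme.Hom.comp_apply]
  have h1 : e ≫ f.left = pullback.fst _ _ := by
    have := congrArg (· ≫ pullback.fst M.hom M.hom) (pullback.condition (f := pullback.diagonal M.hom)
      (g := pullback.lift f.left g.left ((Over.w f).trans (Over.w g).symm)))
    simpa [e] using this.symm
  have h2 : e ≫ g.left = pullback.fst _ _ := by
    have := congrArg (· ≫ pullback.snd M.hom M.hom) (pullback.condition (f := pullback.diagonal M.hom)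
      (g := pullback.lift f.left g.left ((Over.w f).trans (Over.w g).symm)))
    simpa [e] using this.symm
  rw [h1, h2]

/-- A morphism of irreducible schemes with a zero-dimensional fibre into a scheme of no larger dimension is
dominant. -/
theorem denseRange_of_fiber_dim {X Y : Over (Spec (CommRingCat.of k))} [LocallyOfFiniteType X.hom]
    [LocallyOfFiniteType Y.hom] [IrreducibleSpace X.left] [IrreducibleSpace Y.left] (f : X ⟶ Y)
    (hdim : topologicalKrullDim Y.left ≤ topologicalKrullDim X.left) (x : X.left)
    (hx : topologicalKrullDim ↥(f.left.fiber (f.left x)) ≤ 0) : DenseRange f.left := by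
  have : LocallyOfFiniteType (f.left ≫ Y.hom) := by rw [Over.w f]; infer_instance
  have : LocallyOfFiniteType f.left := locallyOfFiniteType_of_comp f.left Y.hom
  have hξ : f.left.QuasiFiniteAt (genericPoint X.left) :=
    ((genericPoint_spec X.left).specializes trivial).mem_open f.left.isOpen_quasiFiniteAt
      (Rigid.quasiFiniteAt_of_fiber_dim f.left x hx)
  have h1 : WeilCoh.pdim Y.left (f.left (genericPoint X.left)) = WeilCoh.pdim X.left (genericPoint X.left) :=
    WeilLib.pdim_eq_of_residueDegree_ne_zero X.hom f.left Y.hom (Over.w f)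
      (Rigid.residueDegree_ne_zero_of_quasiFiniteAt f.left hξ)
  have hle : WeilCoh.pdim Y.left (genericPoint Y.left) ≤ WeilCoh.pdim X.left (genericPoint X.left) := by
    rw [Rigid.topologicalKrullDim_eq_pdim X.hom, Rigid.topologicalKrullDim_eq_pdim Y.hom] at hdim
    exact_mod_cast hdim
  have hgen : f.left (genericPoint X.left) = genericPoint Y.left := by
    by_contra hne
    have := WeilLib.pdim_lt Y.hom (genericPoint_specializes (f.left (genericPoint X.left))) hne
    omega
  intro y
  have hy := (genericPoint_specializes y).mem_closure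
  rw [← hgen] at hy
  exact closure_mono (Set.singleton_subset_iff.2 (Set.mem_range_self (f := f.left) _)) hy

/-- Closed immersions of irreducible schemes of the same dimension are surjective. -/
theorem surjective_of_dim_le {X Y : Over (Spec (CommRingCat.of k))} [LocallyOfFiniteType X.hom]
    [LocallyOfFiniteType Y.hom] [IrreducibleSpace X.left] [IrreducibleSpace Y.left] (f : X ⟶ Y)
    [IsClosedImmersion f.left] (hdim : topologicalKrullDim Y.left ≤ topologicalKrullDim X.left) :
    Surjective f.left := by
  obtain ⟨x⟩ : Nonempty X.left := inferInstance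
  have hsub : Subsingleton ↥(f.left.fiber (f.left x)) := by
    refine ⟨fun a b => (f.left.fiberHomeo (f.left x)).injective (Subtype.ext ?_)⟩
    exact f.left.isClosedEmbedding.injective
      (((f.left.fiberHomeo (f.left x)) a).2.trans ((f.left.fiberHomeo (f.left x)) b).2.symm)
  haveI : Nonempty ↥(f.left.fiber (f.left x)) := ⟨(f.left.fiberHomeo (f.left x)).symm ⟨x, rfl⟩⟩
  have h := denseRange_of_fiber_dim f hdim x (topologicalKrullDim_zero_of_discreteTopology _)
  refine ⟨fun y => ?_⟩
  have hy : y ∈ closure (Set.range f.left) := h y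
  rwa [f.left.isClosedEmbedding.isClosed_range.closure_eq] at hy

/-- The points of the scheme of rational points. -/
theorem finite_of_zero_dim_component (N : Over (Spec (CommRingCat.of k))) [GrpObj N] [LocallyOfFiniteType N.hom]
    [QuasiCompact N.hom] (h : connectedComponent (SubGen.rpt (1 : RP N)) = {SubGen.rpt (1 : RP N)}) :
    Finite (RP N) := by
  classical
  haveI : JacobsonSpace N.left := LocallyOfFiniteType.jacobsonSpace N.hom
  haveI : IsLocallyNoetherian N.left := LocallyOfFiniteType.isLocallyNoetherian N.hom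
  haveI : CompactSpace N.left := QuasiCompact.compactSpace_of_compactSpace N.hom
  haveI : IsNoetherian N.left := { }
  have hcc : ∀ z : RP N, connectedComponent (SubGen.rpt z) = {SubGen.rpt z} := fun z => by
    refine Set.eq_singleton_iff_unique_mem.2 ⟨mem_connectedComponent, fun w hw => ?_⟩
    have hc : (tr z⁻¹).left (SubGen.rpt z) = SubGen.rpt (1 : RP N) := by
      rw [SubGen.map_rpt, comp_tr, toUnit_unique (toUnit _) (𝟙 _), Category.id_comp, mul_inv_cancel]
    have h1 : (tr z⁻¹).left w ∈ connectedComponent (SubGen.rpt (1 : RP N)) := by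
      rw [← hc]
      exact ((tr z⁻¹).left.continuous.image_connectedComponent_subset _) ⟨w, hw, rfl⟩
    rw [h, Set.mem_singleton_iff] at h1
    have h2 := congrArg (fun q : N ⟶ N => q.left w) ((tr_tr z⁻¹ z).trans (by rw [inv_mul_cancel, tr_one]))
    simp only [Over.comp_left, Scheme.Hom.comp_apply, Over.id_left, Scheme.Hom.id_base] at h2
    rw [h1, SubGen.map_rpt, comp_tr, toUnit_unique (toUnit _) (𝟙 _), Category.id_comp, _root_.one_mul] at h2
    exact h2.symm
  have hopen : ∀ x ∈ closedPoints N.left, IsOpen ({x} : Set N.left) := by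
    intro x hx
    obtain ⟨z, rfl⟩ := SubGen.exists_rpt hx
    let T : Set (Set N.left) := irreducibleComponents N.left \ {{SubGen.rpt z}}
    have hT : ({SubGen.rpt z} : Set N.left) = (⋃₀ T)ᶜ := by
      ext w
      constructor
      · rintro rfl ⟨C, ⟨hC, hne⟩, hw⟩
        refine hne (Set.mem_singleton_iff.2 (Set.eq_singleton_iff_unique_mem.2 ⟨hw, fun v hv => ?_⟩))
        have := hC.1.isConnected.subset_connectedComponent hw hv
        rwa [hcc] at this
      · intro hw
        by_contra hne
        refine hw ⟨irreducibleComponent w, ⟨irreducibleComponent_mem_irreducibleComponents w, fun e => hne ?_⟩,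
          mem_irreducibleComponent⟩
        have := mem_irreducibleComponent (x := w)
        rw [Set.mem_singleton_iff.1 e] at this
        exact this
    rw [hT]
    rw [Set.sUnion_eq_biUnion]
    exact (Set.Finite.isClosed_biUnion (Set.Finite.subset
      TopologicalSpace.NoetherianSpace.finite_irreducibleComponents Set.diff_subset)
      fun C hC => isClosed_of_mem_irreducibleComponents C hC.1).isOpen_compl
  have hall : ∀ x : N.left, x ∈ closedPoints N.left := by
    by_contra hne
    push Not at hne
    obtain ⟨x, hx⟩ := hne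
    have hcl : IsClosed ((⋃ y ∈ closedPoints N.left, ({y} : Set N.left))ᶜ) :=
      (isOpen_biUnion hopen).isClosed_compl
    obtain ⟨y, hy, hy'⟩ := nonempty_inter_closedPoints ⟨x, fun hm => by
      obtain ⟨i, hi, rfl⟩ := Set.mem_iUnion₂.1 hm
      exact hx hi⟩ hcl.isLocallyClosed
    exact hy (Set.mem_iUnion₂.2 ⟨y, hy', rfl⟩)
  haveI : DiscreteTopology N.left := discreteTopology_iff_isOpen_singleton.2 fun x => hopen x (hall x)
  haveI : Finite N.left := finite_of_compact_of_discrete
  exact Finite.of_injective SubGen.rpt SubGen.rpt_injective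

theorem eq_of_dim_nonpos {X : Over (Spec (CommRingCat.of k))} [LocallyOfFiniteType X.hom] [IrreducibleSpace X.left]
    (h : ¬ 0 < topologicalKrullDim X.left) (a b : X.left) : a = b := by
  haveI : JacobsonSpace X.left := LocallyOfFiniteType.jacobsonSpace X.hom
  obtain ⟨x, -, hx⟩ := nonempty_inter_closedPoints (Z := (Set.univ : Set X.left)) Set.univ_nonempty
    isOpen_univ.isLocallyClosed
  have huniv : ({x} : Set X.left) = Set.univ := by
    by_contra hne
    refine h ?_
    rw [topologicalKrullDim, Order.krullDim_pos_iff]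
    refine ⟨⟨{x}, isIrreducible_singleton, mem_closedPoints_iff.1 hx⟩,
      ⟨Set.univ, (irreducibleSpace_def _).1 inferInstance, isClosed_univ⟩, ?_⟩
    exact lt_of_le_of_ne (fun z _ => Set.mem_univ z) fun e =>
      hne (congrArg TopologicalSpace.IrreducibleCloseds.carrier e)
  have ha : a ∈ ({x} : Set X.left) := huniv ▸ Set.mem_univ a
  have hb : b ∈ ({x} : Set X.left) := huniv ▸ Set.mem_univ b
  exact ha.trans hb.symm

/-- In a minimal positive dimensional subgroup closed subgroups of points are finite. -/
theorem finite_subgroup [GrpObj M] [Smooth M.hom] [QuasiCompact M.hom] [IrreducibleSpace M.left]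
    (hmin : ∀ (N : Over (Spec (CommRingCat.of k))) (_ : GrpObj N) (j : N ⟶ M), IsMonHom j → IsClosedImmersion j.left →
      Smooth N.hom → ConnectedSpace N.left → 0 < topologicalKrullDim N.left →
      topologicalKrullDim M.left ≤ topologicalKrullDim N.left)
    (S : Subgroup (RP M)) (hS : ∀ z, SubGen.rpt z ∈ closure (SubGen.rpt '' (S : Set (RP M))) → z ∈ S)
    (hne : S ≠ ⊤) : (S : Set (RP M)).Finite := by
  obtain ⟨N, hN, i, him, hci, hsm, hr⟩ := S15608.result k M S
  haveI := him
  haveI := hci
  haveI := hsm
  haveI : QuasiCompact N.hom := by rw [← Over.w i]; infer_instance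
  haveI : JacobsonSpace N.left := LocallyOfFiniteType.jacobsonSpace N.hom
  obtain ⟨N₀, hN₀, c, hcm, hcc, hcf, hcr, hgi, hcpt, hbij⟩ := GrpComp.exists_identity_subgroup N
  haveI := hcm
  haveI := hcc
  haveI := hgi
  haveI : LocallyOfFiniteType N₀.hom := by rw [← Over.w c]; infer_instance
  haveI : IsReduced N.left := isReduced_of_smooth N
  haveI : ∀ w, _root_.IsReduced (N₀.left.presheaf.stalk w) := fun w =>
    isReduced_of_injective _ (RingEquiv.ofBijective _ (hbij w)).symm.injective
  haveI : IrreducibleSpace N₀.left := GeometricallyIrreducible.irreducibleSpace N₀.hom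
    (fun _ _ => @isOpen_discrete _ _ (by
      have : Subsingleton (Spec (CommRingCat.of k)) := inferInstanceAs (Subsingleton (PrimeSpectrum k))
      infer_instance) _)
  haveI : Smooth N₀.hom := GrpBasic.smooth_of_perfect_stalk N₀ (SubGen.rpt (1 : RP N₀))
  have hmem : ∀ z : RP N, z ≫ i ∈ S := fun z => hS _ (by
    have : SubGen.rpt (z ≫ i) ∈ Set.range i.left := ⟨SubGen.rpt z, rfl⟩
    rw [hr] at this
    exact this)
  by_cases h0 : 0 < topologicalKrullDim N₀.left
  · refine absurd (eq_top_iff.2 fun z _ => ?_) hne
    haveI : IsClosedImmersion (c ≫ i).left := by rw [Over.comp_left]; infer_instance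
    have hs := surjective_of_dim_le (c ≫ i) (hmin N₀ hN₀ (c ≫ i) inferInstance inferInstance inferInstance
      inferInstance h0)
    obtain ⟨w, hw⟩ := hs.surj (SubGen.rpt z)
    refine hS z ?_
    have : SubGen.rpt z ∈ Set.range i.left := ⟨c.left w, hw⟩
    rw [hr] at this
    exact this
  · have hone : GrpComp.ept N = SubGen.rpt (1 : RP N) := (GrpComp.one_apply _).symm
    have hfin : Finite (RP N) := finite_of_zero_dim_component N (by
      rw [← hone, ← hcr]
      refine Set.eq_singleton_iff_unique_mem.2 ⟨hcr ▸ mem_connectedComponent, ?_⟩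
      rintro _ ⟨w, rfl⟩
      obtain ⟨w₁, hw₁⟩ : GrpComp.ept N ∈ Set.range c.left := hcr ▸ mem_connectedComponent
      rw [← hw₁, eq_of_dim_nonpos h0 w w₁])
    refine (Set.finite_range fun z : RP N => z ≫ i).subset fun s hs => ?_
    have hin : SubGen.rpt s ∈ Set.range i.left := by rw [hr]; exact subset_closure ⟨s, hs, rfl⟩
    obtain ⟨w, hw⟩ := hin
    have hwc : w ∈ closedPoints N.left := mem_closedPoints_iff.2 (by
      have : ({w} : Set N.left) = i.left ⁻¹' {SubGen.rpt s} := by
        ext v
        exact ⟨fun hv => (congrArg i.left hv).trans hw, fun hv => i.left.isClosedEmbedding.injective (hv.trans hw.symm)⟩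
      rw [this]
      exact (mem_closedPoints_iff.1 (SubGen.rpt_mem_closedPoints s)).preimage i.left.continuous)
    obtain ⟨z, rfl⟩ := SubGen.exists_rpt hwc
    exact ⟨z, SubGen.rpt_injective (by rw [← hw]; rfl)⟩

/-- The value of a function at a rational point of an affine scheme. -/
theorem rpt_mem_zeroLocus {A : Type u} [CommRing A] [Algebra k A]
    (z : RP ((Spec (CommRingCat.of A)).asOver (Spec (CommRingCat.of k)))) (b : A) :
    SubGen.rpt z ∈ PrimeSpectrum.zeroLocus {b} ↔ unitVal (AffHull.fn z.left b) = 0 := by
  let χ : CommRingCat.of A ⟶ CommRingCat.of k := Spec.preimage z.left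
  have hz : z.left = Spec.map χ := (Spec.map_preimage _).symm
  have hv : unitVal (AffHull.fn z.left b) = χ.hom b := by
    rw [hz, ← Category.id_comp (Spec.map χ), AffHull.fn_map]
    exact congr($(Iso.inv_hom_id (Scheme.ΓSpecIso (CommRingCat.of k))) (χ.hom b))
  rw [hv, PrimeSpectrum.mem_zeroLocus, Set.singleton_subset_iff]
  show b ∈ (z.left (closedPoint k)).asIdeal ↔ _
  rw [hz]
  show χ.hom b ∈ IsLocalRing.maximalIdeal k ↔ _
  rw [IsLocalRing.maximalIdeal_eq_bot, Ideal.mem_bot]

theorem mat_injective {n : ℕ} : Function.Injective (mat (k := k) (n := n)) := fun a b h =>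
  AdjRep.gl_ext fun i j => by
    have hinj : Function.Injective (unitVal (k := k)) :=
      (ConcreteCategory.bijective_of_isIso (Scheme.ΓSpecIso (CommRingCat.of k)).hom).1
    exact hinj (congrFun (congrFun h i) j)

/-- An affine group of finite type is a closed subgroup of a general linear group. -/
theorem exists_closedImmersion_GLSpec (P : Over (Spec (CommRingCat.of k))) [GrpObj P] [IsAffine P.left]
    [LocallyOfFiniteType P.hom] :
    ∃ (n : ℕ) (u : P ⟶ AdjRep.GLSpec k n), IsMonHom u ∧ IsClosedImmersion u.left := by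
  obtain ⟨A, _, e, he⟩ := FinHopf.exists_hopf (R := CommRingCat.of k) P
  haveI := he
  haveI : IsIso e.hom.left := inferInstanceAs (IsIso ((Over.forget _).map e.hom))
  haveI : IsIso e.inv.left := inferInstanceAs (IsIso ((Over.forget _).map e.inv))
  have hfin : (algebraMap k A).FiniteType := by
    have h0 : LocallyOfFiniteType (e.hom.left ≫ P.hom) := inferInstance
    rw [Over.w e.hom] at h0
    exact (HasRingHomProperty.Spec_iff (P := @LocallyOfFiniteType)).1 h0
  haveI : Algebra.FiniteType k A := RingHom.finiteType_algebraMap.1 hfin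
  obtain ⟨n, π, hπ⟩ := S16480.result k A
  let m := (hopfSpec (CommRingCat.of k)).map (CommHopfAlgCat.ofHom π).op
  let v : (Spec A).asOver (Spec (CommRingCat.of k)) ⟶ AdjRep.GLSpec k n := m.hom.hom
  haveI : IsMonHom v := m.hom.isMonHom_hom
  haveI : IsClosedImmersion v.left := IsClosedImmersion.spec_of_surjective _ hπ
  exact ⟨n, e.inv ≫ v, inferInstance, by rw [Over.comp_left]; infer_instance⟩

set_option maxHeartbeats 2000000 in
set_option synthInstance.maxHeartbeats 1000000 in
/-- A minimal positive dimensional subgroup of an affine group is commutative. -/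
theorem isCommMonObj_of_minimal [GrpObj M] [Smooth M.hom] [QuasiCompact M.hom] [IrreducibleSpace M.left]
    [IsAffine M.left] (h0 : 0 < topologicalKrullDim M.left)
    (hmin : ∀ (N : Over (Spec (CommRingCat.of k))) (_ : GrpObj N) (j : N ⟶ M), IsMonHom j → IsClosedImmersion j.left →
      Smooth N.hom → ConnectedSpace N.left → 0 < topologicalKrullDim N.left →
      topologicalKrullDim M.left ≤ topologicalKrullDim N.left) : IsCommMonObj M := by
  classical
  haveI : IsSeparated M.hom := GrpField.isSeparated_hom M
  haveI : JacobsonSpace M.left := LocallyOfFiniteType.jacobsonSpace M.hom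
  by_contra hnc
  have hzR : ∀ (z x : RP M), z ≫ tr x = z * x := fun z x => by
    rw [comp_tr, toUnit_unique (toUnit _) (𝟙 _), Category.id_comp]
  have hzL : ∀ (z x : RP M), z ≫ ((toUnit M ≫ x) * 𝟙 M) = x * z := fun z x => by
    rw [MonObj.comp_mul, Category.comp_id, ← Category.assoc, toUnit_unique (z ≫ toUnit _) (𝟙 _), Category.id_comp]
  have hclosed : ∀ (x : RP M) (S : Set (RP M)), (∀ s ∈ S, s * x = x * s) →
      ∀ z, SubGen.rpt z ∈ closure (SubGen.rpt '' S) → z * x = x * z := by
    intro x S hS z hz
    have := mem_of_rpt_mem_closure (tr x) ((toUnit M ≫ x) * 𝟙 M) S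
      (fun s hs => by rw [hzR, hzL]; exact hS s hs) z hz
    rwa [hzR, hzL] at this
  -- centre and centralizers are finite
  have hZ : (Subgroup.center (RP M) : Set (RP M)).Finite := by
    refine finite_subgroup hmin _ (fun z hz => Subgroup.mem_center_iff.2 fun g => ?_) fun htop => hnc ?_
    · exact (hclosed g _ (fun s hs => ((Subgroup.mem_center_iff.1 hs) g).symm) z hz).symm
    · exact isCommMonObj_of_rat M fun a b => by
        have hb : b ∈ Subgroup.center (RP M) := htop ▸ Subgroup.mem_top b
        exact Subgroup.mem_center_iff.1 hb a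
  have hC : ∀ x : RP M, x ∉ Subgroup.center (RP M) → {y : RP M | y * x = x * y}.Finite := fun x hx => by
    let C : Subgroup (RP M) := Subgroup.centralizer {x}
    have hCm : ∀ y, y ∈ C ↔ y * x = x * y := fun y => by
      rw [Subgroup.mem_centralizer_singleton_iff]
    refine (finite_subgroup hmin C (fun z hz => (hCm z).2 (hclosed x _ (fun s hs => (hCm s).1 hs) z hz))
      fun htop => hx (Subgroup.mem_center_iff.2 fun g => (hCm g).1 (htop ▸ Subgroup.mem_top g))).subset
      fun y hy => (hCm y).2 hy
  obtain ⟨x, hx⟩ : ∃ x : RP M, x ∉ Subgroup.center (RP M) := by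
    by_contra h
    push Not at h
    exact hnc (isCommMonObj_of_rat M fun a b => Subgroup.mem_center_iff.1 (h b) a)
  -- the conjugacy class is dense
  let f : M ⟶ M := 𝟙 M * (toUnit M ≫ x) * (𝟙 M)⁻¹
  have hf : ∀ z : RP M, z ≫ f = z * x * z⁻¹ := fun z => by
    rw [MonObj.comp_mul, MonObj.comp_mul, GrpObj.comp_inv, Category.comp_id, ← Category.assoc,
      toUnit_unique (z ≫ toUnit _) (𝟙 _), Category.id_comp]
  have hdense : DenseRange f.left := by
    refine denseRange_of_fiber_dim f le_rfl (SubGen.rpt (1 : RP M)) ?_
    have hpt : f.left (SubGen.rpt (1 : RP M)) = SubGen.rpt x := by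
      rw [SubGen.map_rpt, hf, _root_.one_mul, inv_one, _root_.mul_one]
    rw [hpt]
    let F : Set M.left := f.left ⁻¹' {SubGen.rpt x}
    have hFcl : IsClosed F :=
      (mem_closedPoints_iff.1 (SubGen.rpt_mem_closedPoints x)).preimage f.left.continuous
    have hFfin : (F ∩ closedPoints M.left).Finite := by
      refine ((hC x hx).image SubGen.rpt).subset ?_
      rintro w ⟨hw, hwc⟩
      obtain ⟨z, rfl⟩ := SubGen.exists_rpt hwc
      refine ⟨z, ?_, rfl⟩
      have hzx : z ≫ f = x := SubGen.rpt_injective hw
      rw [hf] at hzx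
      show z * x = x * z
      calc z * x = z * x * z⁻¹ * z := by rw [inv_mul_cancel_right]
        _ = x * z := by rw [hzx]
    have hFc : F ⊆ closedPoints M.left := by
      have h1 : closure (F ∩ closedPoints M.left) = F := by
        rw [JacobsonSpace.closure_inter_closedPoints_eq_closure hFcl.isLocallyClosed, hFcl.closure_eq]
      have h2 : IsClosed (F ∩ closedPoints M.left) := by
        rw [← Set.biUnion_of_singleton (F ∩ closedPoints M.left)]
        exact hFfin.isClosed_biUnion fun w hw => mem_closedPoints_iff.1 hw.2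
      rw [h2.closure_eq] at h1
      exact fun w hw => (h1.ge hw).2
    haveI : Finite F := (hFfin.subset fun w hw => ⟨hw, hFc hw⟩).to_subtype
    haveI : T1Space F := ⟨fun w => by
      have : ({w} : Set F) = Subtype.val ⁻¹' {(w : M.left)} := by ext v; simp [Subtype.ext_iff]
      rw [this]
      exact (mem_closedPoints_iff.1 (hFc w.2)).preimage continuous_subtype_val⟩
    haveI : DiscreteTopology F := inferInstance
    haveI : DiscreteTopology ↥(f.left.fiber (SubGen.rpt x)) :=
      (f.left.fiberHomeo (SubGen.rpt x)).symm.discreteTopology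
    exact topologicalKrullDim_zero_of_discreteTopology _
  -- all points are unipotent
  obtain ⟨n, u, hum, huc⟩ := exists_closedImmersion_GLSpec M
  haveI := hum
  haveI := huc
  haveI : Mono u := GrpField.SchImg.mono_of_isClosedImmersion u
  let ρ : RP M →* Module.End k (Fin n → k) :=
    { toFun := fun z => Matrix.toLinAlgEquiv' (mat (z ≫ u))
      map_one' := by rw [MonObj.one_comp, mat_one, map_one]
      map_mul' := fun a b => by rw [MonObj.mul_comp, mat_mul, map_mul] }
  have hρi : Function.Injective ρ := fun a b h =>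
    (cancel_mono u).1 (mat_injective (Matrix.toLinAlgEquiv'.injective h))
  let φ : RP M → CoordGrp.GLn n k →+* k := fun z => unitVal.comp (AffHull.fn (z ≫ u).left)
  have hcp : ∀ z, (mat (z ≫ u)).charpoly = (CoordGrp.GLn.genMat n k).charpoly.map (φ z) := fun z => by
    rw [← Matrix.charpoly_map]
    rfl
  have hconst : ∀ z, (mat (z ≫ u)).charpoly = (mat (x ≫ u)).charpoly := by
    intro z
    ext d
    let a := (CoordGrp.GLn.genMat n k).charpoly.coeff d
    let b := a - algebraMap k (CoordGrp.GLn n k) ((mat (x ≫ u)).charpoly.coeff d)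
    have hval : ∀ w : RP M, φ w b = (mat (w ≫ u)).charpoly.coeff d - (mat (x ≫ u)).charpoly.coeff d := by
      intro w
      rw [map_sub, hcp w, Polynomial.coeff_map]
      congr 1
      show unitVal (AffHull.fn (w ≫ u).left _) = _
      have hw : (w ≫ u).left ≫ Spec.map (CommRingCat.ofHom (algebraMap k (CoordGrp.GLn n k))) = 𝟙 _ := Over.w (w ≫ u)
      have hm := AffHull.fn_map (A := CommRingCat.of k) (B := CommRingCat.of (CoordGrp.GLn n k))
        (T := (𝟙_ (Over (Spec (CommRingCat.of k)))).left) (w ≫ u).left
        (CommRingCat.ofHom (algebraMap k (CoordGrp.GLn n k))) ((mat (x ≫ u)).charpoly.coeff d)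
      refine (congrArg unitVal hm.symm).trans ?_
      rw [hw]
      exact congr($(Iso.inv_hom_id (Scheme.ΓSpecIso (CommRingCat.of k))) _)
    let V : Set M.left := u.left ⁻¹' PrimeSpectrum.zeroLocus {b}
    have hV : IsClosed V := (PrimeSpectrum.isClosed_zeroLocus _).preimage u.left.continuous
    have hVm : ∀ w : RP M, SubGen.rpt w ∈ V ↔ (mat (w ≫ u)).charpoly.coeff d = (mat (x ≫ u)).charpoly.coeff d := by
      intro w
      rw [← sub_eq_zero, ← hval]
      exact rpt_mem_zeroLocus (w ≫ u) b
    have hclass : ∀ y : RP M, SubGen.rpt (y ≫ f) ∈ V := fun y => (hVm _).2 (by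
      rw [hf, MonObj.mul_comp, MonObj.mul_comp, mat_mul, mat_mul, Matrix.charpoly_mul_comm, ← _root_.mul_assoc,
        ← mat_mul, GrpObj.inv_comp, inv_mul_cancel, mat_one, _root_.one_mul])
    have hpre : f.left ⁻¹' V = Set.univ := by
      have h1 : closedPoints M.left ⊆ f.left ⁻¹' V := fun w hw => by
        obtain ⟨y, rfl⟩ := SubGen.exists_rpt hw
        exact hclass y
      have h2 := closure_minimal h1 (hV.preimage f.left.continuous)
      rw [closure_closedPoints] at h2
      exact Set.univ_subset_iff.1 h2
    refine (hVm z).1 (closure_minimal ?_ hV (hdense (SubGen.rpt z)))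
    rintro _ ⟨w, rfl⟩
    exact hpre.ge (Set.mem_univ w)
  have hnil : ∀ z, IsNilpotent (ρ z - 1) := fun z => by
    refine ⟨n, ?_⟩
    have h1 : (mat (z ≫ u)).charpoly = (Polynomial.X - 1) ^ n := by
      rw [hconst z, ← hconst 1, MonObj.one_comp, mat_one, Matrix.charpoly_one, Fintype.card_fin]
    have h2 := Matrix.aeval_self_charpoly (mat (z ≫ u))
    rw [h1, map_pow, map_sub, Polynomial.aeval_X, map_one] at h2
    show (Matrix.toLinAlgEquiv' (mat (z ≫ u)) - 1) ^ n = 0
    rw [← map_one Matrix.toLinAlgEquiv', ← map_sub, ← map_pow, h2, map_zero]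
  haveI := finite_of_unipotent ρ hρi hnil hZ hC
  -- finitely many rational points
  have hfin : (closedPoints M.left).Finite :=
    (Set.finite_range (SubGen.rpt : RP M → M.left)).subset fun w hw =>
      let ⟨z, hz⟩ := SubGen.exists_rpt hw; ⟨z, hz⟩
  have hcl : IsClosed (closedPoints M.left) := by
    rw [← Set.biUnion_of_singleton (closedPoints M.left)]
    exact hfin.isClosed_biUnion fun w hw => mem_closedPoints_iff.1 hw
  have huniv : closedPoints M.left = Set.univ := hcl.closure_eq.symm.trans closure_closedPoints
  haveI : Finite M.left := by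
    rw [← Set.finite_univ_iff, ← huniv]; exact hfin
  haveI : T1Space M.left := ⟨fun w => mem_closedPoints_iff.1 (huniv.ge (Set.mem_univ w))⟩
  exact absurd h0 (topologicalKrullDim_zero_of_discreteTopology M.left).not_gt

/-- A positive dimensional connected affine group has a positive dimensional commutative subgroup. -/
theorem exists_comm_subgroup (Q : Over (Spec (CommRingCat.of k))) [GrpObj Q] [Smooth Q.hom] [QuasiCompact Q.hom]
    [IsAffine Q.left] [ConnectedSpace Q.left] (h0 : 0 < topologicalKrullDim Q.left) :
    ∃ (M : Over (Spec (CommRingCat.of k))) (_ : GrpObj M) (i : M ⟶ Q), IsMonHom i ∧ IsClosedImmersion i.left ∧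
      Smooth M.hom ∧ ConnectedSpace M.left ∧ IsCommMonObj M ∧ 0 < topologicalKrullDim M.left := by
  classical
  have key : ∀ (M : Over (Spec (CommRingCat.of k))) [GrpObj M] [LocallyOfFiniteType M.hom] [ConnectedSpace M.left],
      IrreducibleSpace M.left ∧ ∃ n : ℕ, topologicalKrullDim M.left = (n : ℕ∞) := fun M _ _ _ => by
    haveI : IrreducibleSpace M.left :=
      GrpField.irreducibleSpace_of_nhds fun y => GrpField.exists_irreducible_nhd M y
    exact ⟨inferInstance, _, Rigid.topologicalKrullDim_eq_pdim M.hom⟩
  let P : ℕ → Prop := fun n => ∃ (M : Over (Spec (CommRingCat.of k))) (_ : GrpObj M) (i : M ⟶ Q), IsMonHom i ∧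
    IsClosedImmersion i.left ∧ Smooth M.hom ∧ ConnectedSpace M.left ∧ 0 < topologicalKrullDim M.left ∧
      topologicalKrullDim M.left = (n : ℕ∞)
  have hP : ∃ n, P n := by
    obtain ⟨-, n, hn⟩ := key Q
    exact ⟨n, Q, inferInstance, 𝟙 Q, inferInstance, inferInstanceAs (IsClosedImmersion (𝟙 Q.left)), inferInstance,
      inferInstance, h0, hn⟩
  obtain ⟨M, hM, i, him, hci, hsm, hconn, hpos, hdim⟩ := Nat.find_spec hP
  haveI := him
  haveI := hci
  haveI := hsm
  haveI := hconn
  haveI : QuasiCompact M.hom := by rw [← Over.w i]; infer_instance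
  haveI := (key M).1
  haveI : IsAffine M.left := isAffine_of_isAffineHom i.left
  refine ⟨M, hM, i, inferInstance, inferInstance, inferInstance, inferInstance,
    isCommMonObj_of_minimal hpos fun N hN j hjm hjc hNs hNc hNpos => ?_, hpos⟩
  haveI := hjm
  haveI := hjc
  haveI := hNs
  haveI := hNc
  obtain ⟨-, n, hn⟩ := key N
  rw [hdim, hn]
  exact_mod_cast Nat.find_le (h := hP) ⟨N, hN, j ≫ i, inferInstance, by rw [Over.comp_left]; infer_instance, hNs, hNc, hNpos, hn⟩

end Groth.Agent.Chev
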