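import Groth.Agent.Chev.Descent
import Groth.Agent.WeilLib.FrobPow
import Mathlib.CategoryTheory.Monoidal.Cartesian.Over
import Mathlib.FieldTheory.PurelyInseparable.Exponent
import Mathlib.RingTheory.Noetherian.Nilpotent

/-!
# Frobenius twists of groups along purely inseparable extensions
-/

set_option autoImplicit false
set_option backward.isDefEq.respectTransparency false

universe u

open CategoryTheory CategoryTheory.Limits MonoidalCategory CartesianMonoidalCategory MonObj GrpObj AlgebraicGeometry
open scoped CategoryTheory.Obj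
open FrobSch

noncomputable section

namespace Groth.Agent.Chev

open AVDeg (bcK specMap)
open WeilLib (frobPow frobPow_comp frobPow_preimage frobPow_Spec frobPow_app)

instance isAffineHom_frobPow {X : Scheme.{u}} (p : ℕ) [Fact p.Prime] [IsCharP X p] (n : ℕ) :
    IsAffineHom (frobPow p X n) :=
  ⟨fun U hU => by rw [frobPow_preimage]; exact hU⟩

theorem frobPow_add {X : Scheme.{u}} (p : ℕ) [Fact p.Prime] [IsCharP X p] (m n : ℕ) :
    frobPow p X (m + n) = frobPow p X m ≫ frobPow p X n := by
  induction n with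
  | zero => show frobPow p X m = frobPow p X m ≫ 𝟙 X; rw [Category.comp_id]
  | succ n ih => show frobPow p X (m + n) ≫ frob X p = _ ≫ frobPow p X n ≫ frob X p; rw [ih, Category.assoc]

/-- A high power of Frobenius factors through closed subschemes with full support. -/
theorem exists_frobPow_factor {X Z : Scheme.{u}} (p : ℕ) [Fact p.Prime] [IsCharP X p] [IsLocallyNoetherian X]
    [CompactSpace X] (i : Z ⟶ X) [IsClosedImmersion i] [Surjective i] :
    ∃ m : ℕ, ∀ n, m ≤ n → ∃ w : X ⟶ Z, w ≫ i = frobPow p X n := by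
  classical
  have hex : ∀ x : X, ∃ U : X.affineOpens, x ∈ U.1 := fun x => by
    obtain ⟨U, hU, hxU, -⟩ := exists_isAffineOpen_mem_and_subset (x := x) (U := ⊤) trivial
    exact ⟨⟨U, hU⟩, hxU⟩
  choose U hxU using hex
  obtain ⟨s, hs⟩ := CompactSpace.elim_nhds_subcover (fun x : X => ((U x).1 : Set X))
    fun x => (U x).1.2.mem_nhds (hxU x)
  have hU : ⨆ x : s, ((U x).1 : X.Opens) = ⊤ := by
    ext z
    simp only [TopologicalSpace.Opens.coe_iSup, Set.mem_iUnion, TopologicalSpace.Opens.coe_top, Set.mem_univ,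
      iff_true]
    have hz : z ∈ (⊤ : Set X) := trivial
    rw [← hs] at hz
    obtain ⟨x, hx, hzx⟩ := Set.mem_iUnion₂.1 hz
    exact ⟨⟨x, hx⟩, hzx⟩
  have he : ∀ x : X, ∃ e : ℕ, ∀ a ∈ i.ker.ideal (U x), a ^ e = 0 := fun x => by
    haveI : IsNoetherianRing Γ(X, U x) := IsLocallyNoetherian.component_noetherian (U x)
    obtain ⟨e, he⟩ := IsNoetherianRing.isNilpotent_nilradical Γ(X, U x)
    refine ⟨e, fun a ha => ?_⟩
    have hnil : a ∈ nilradical Γ(X, U x) := by
      rw [mem_nilradical, Scheme.isNilpotent_iff_basicOpen_eq_bot_of_isCompact (U x).2.isCompact]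
      refine eq_bot_iff.2 fun y hy => ?_
      have hsupp : y ∈ (i.ker.support : Set X) := i.range_subset_ker_support (i.surjective y)
      have hyU : y ∈ (U x).1 := X.basicOpen_le a hy
      rw [SetLike.mem_coe, Scheme.IdealSheafData.mem_support_iff_of_mem hyU, Scheme.mem_zeroLocus_iff] at hsupp
      exact absurd hy (hsupp a ha)
    have := Ideal.pow_mem_pow hnil e
    rwa [he, Submodule.zero_eq_bot, Ideal.mem_bot] at this
  choose e he using he
  refine ⟨s.sup e, fun n hn => ?_⟩
  have hker : i.ker ≤ (frobPow p X n).ker := by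
    refine Scheme.IdealSheafData.le_of_iSup_eq_top (fun x : s => U x) hU fun x a ha => ?_
    rw [Scheme.Hom.ker_apply, RingHom.mem_ker]
    have h0 : a ^ p ^ n = 0 := pow_eq_zero_of_le
      (((Finset.le_sup x.2).trans hn).trans (Nat.lt_pow_self (Fact.out : p.Prime).one_lt).le) (he x a ha)
    rw [← Scheme.Hom.appLE_eq_app]
    refine (frobPow_app p n _ _ le_rfl (frobPow_preimage p n _).le a).trans ?_
    rw [← map_pow, h0, map_zero]
  exact ⟨IsClosedImmersion.lift i (frobPow p X n) hker, IsClosedImmersion.lift_fac _ _ _⟩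

variable {k K : Type u} [Field k] [Field K] [Algebra k K] (p : ℕ) [Fact p.Prime] [CharP k p]

/-- A retraction of a purely inseparable extension up to Frobenius. -/
def IsFrobRetract (n : ℕ) (ψ : K →+* k) : Prop :=
  ∀ a : k, ψ (algebraMap k K a) = a ^ p ^ n

omit [Fact p.Prime] [CharP k p] in
theorem exists_isFrobRetract [ExpChar k p] [IsPurelyInseparable k K] [FiniteDimensional k K] :
    ∃ n₀ : ℕ, ∀ n, n₀ ≤ n → ∃ ψ : K →+* k, IsFrobRetract p n ψ :=
  ⟨IsPurelyInseparable.exponent k K, fun _ hn => ⟨IsPurelyInseparable.iterateFrobenius k K p hn,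
    fun a => IsPurelyInseparable.iterateFrobenius_algebraMap K p hn a⟩⟩

/-- Pullback along a retraction up to Frobenius. -/
abbrev twistFun (ψ : K →+* k) : Over (Spec (CommRingCat.of K)) ⥤ Over (Spec (CommRingCat.of k)) :=
  Over.pullback (Spec.map (CommRingCat.ofHom ψ))

variable {p}

theorem specMap_ofHom_comp {n : ℕ} {ψ : K →+* k} (hψ : IsFrobRetract p n ψ) :
    Spec.map (CommRingCat.ofHom ψ) ≫ specMap k K = frobPow p (Spec (CommRingCat.of k)) n := by
  haveI : ExpChar k p := ExpChar.prime Fact.out
  rw [frobPow_Spec p k n, ← Spec.map_comp, ← CommRingCat.ofHom_comp]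
  congr 2
  exact RingHom.ext fun a => (hψ a).trans (iterateFrobenius_def p n a).symm

variable (p) in
/-- The iterated Frobenius into the base change. -/
def toBase (n : ℕ) (ψ : K →+* k) (hψ : IsFrobRetract p n ψ) (X : Over (Spec (CommRingCat.of k))) :
    X.left ⟶ (bcK k K X).left :=
  haveI : IsCharP X.left p := IsCharP.of_hom X.hom p
  pullback.lift (frobPow p X.left n) (X.hom ≫ Spec.map (CommRingCat.ofHom ψ)) (by
    rw [Category.assoc, specMap_ofHom_comp hψ, frobPow_comp])

variable {n : ℕ} {ψ : K →+* k} (hψ : IsFrobRetract p n ψ)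

@[reassoc]
theorem toBase_fst (X : Over (Spec (CommRingCat.of k))) [IsCharP X.left p] :
    toBase p n ψ hψ X ≫ pullback.fst X.hom (specMap k K) = frobPow p X.left n :=
  pullback.lift_fst _ _ _

@[reassoc]
theorem toBase_snd (X : Over (Spec (CommRingCat.of k))) :
    toBase p n ψ hψ X ≫ pullback.snd X.hom (specMap k K) = X.hom ≫ Spec.map (CommRingCat.ofHom ψ) :=
  pullback.lift_snd _ _ _

/-- A map preserving products of points is a homomorphism. -/
theorem isMonHom_of_map_mul {S : Scheme.{u}} {A B : Over S} [GrpObj A] [GrpObj B] (φ : A ⟶ B)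
    (h : ∀ {T : Over S} (f g : T ⟶ A), (f * g) ≫ φ = (f ≫ φ) * (g ≫ φ)) : IsMonHom φ := by
  refine ⟨?_, ?_⟩
  · have h1 := h (1 : 𝟙_ _ ⟶ A) 1
    rw [_root_.mul_one, left_eq_mul] at h1
    rw [show η[A] = (1 : 𝟙_ _ ⟶ A) by rw [Hom.one_def, toUnit_unit, Category.id_comp], h1, Hom.one_def, toUnit_unit,
      Category.id_comp]
  · rw [show μ[A] = fst A A * snd A A from Eq.symm (by rw [Hom.mul_def, lift_fst_snd, Category.id_comp]), h,
      Hom.mul_def]
    congr 1

/-- The relative Frobenius into the twist. -/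
def frobTo : 𝟭 (Over (Spec (CommRingCat.of k))) ⟶ Over.pullback (specMap k K) ⋙ twistFun ψ where
  app X := Over.homMk (pullback.lift (toBase p n ψ hψ X) X.hom (toBase_snd hψ X)) (pullback.lift_snd _ _ _)
  naturality X Y f := by
    haveI : IsCharP X.left p := IsCharP.of_hom X.hom p
    haveI : IsCharP Y.left p := IsCharP.of_hom Y.hom p
    apply Over.OverMorphism.ext
    apply pullback.hom_ext
    · apply pullback.hom_ext
      · simp [toBase, Over.pullback]
        exact (frobPow_comp p f.left n).symm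
      · simp [toBase, Over.pullback]
    · simp [Over.pullback]

theorem frobTo_app_fst (X : Over (Spec (CommRingCat.of k))) :
    ((frobTo hψ).app X).left ≫ pullback.fst (bcK k K X).hom (Spec.map (CommRingCat.ofHom ψ)) = toBase p n ψ hψ X :=
  pullback.lift_fst _ _ _

/-- The relative Frobenius of one object. -/
abbrev frobToApp (X : Over (Spec (CommRingCat.of k))) : X ⟶ (twistFun ψ).obj (bcK k K X) :=
  (frobTo hψ).app X

theorem isMonHom_frobToApp (G : Over (Spec (CommRingCat.of k))) [GrpObj G] : IsMonHom (frobToApp hψ G) := by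
  refine isMonHom_of_map_mul _ fun {T} f g => ?_
  have e : ∀ v : T ⟶ G, v ≫ frobToApp hψ G =
      frobToApp hψ T ≫ (twistFun ψ).map ((Over.pullback (specMap k K)).map v) :=
    fun v => (frobTo hψ).naturality v
  rw [e, e, e, Functor.map_mul, Functor.map_mul, MonObj.comp_mul]

theorem isAffineHom_frobTo (X : Over (Spec (CommRingCat.of k))) : IsAffineHom (frobToApp hψ X).left := by
  haveI : IsCharP X.left p := IsCharP.of_hom X.hom p
  let g : ((twistFun ψ).obj (bcK k K X)).left ⟶ X.left :=
    pullback.fst (bcK k K X).hom (Spec.map (CommRingCat.ofHom ψ)) ≫ pullback.fst X.hom (specMap k K)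
  haveI : IsAffineHom g :=
    haveI : IsAffineHom (pullback.fst (bcK k K X).hom (Spec.map (CommRingCat.ofHom ψ))) :=
      MorphismProperty.pullback_fst _ _ inferInstance
    haveI : IsAffineHom (pullback.fst X.hom (specMap k K)) := MorphismProperty.pullback_fst _ _ inferInstance
    inferInstanceAs (IsAffineHom (_ ≫ _))
  haveI : IsCharP ((𝟭 (Over (Spec (CommRingCat.of k)))).obj X).left p := ‹IsCharP X.left p›
  haveI : IsAffineHom ((frobToApp hψ X).left ≫ g) := by
    show IsAffineHom (((frobTo hψ).app X).left ≫ _ ≫ _)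
    rw [← Category.assoc]
    have e : (((frobTo hψ).app X).left ≫ pullback.fst (bcK k K X).hom (Spec.map (CommRingCat.ofHom ψ))) ≫
        pullback.fst X.hom (specMap k K) = frobPow p X.left n :=
      (congrArg (· ≫ pullback.fst X.hom (specMap k K)) (frobTo_app_fst hψ X)).trans (toBase_fst hψ X)
    exact e ▸ isAffineHom_frobPow p n
  exact IsAffineHom.of_comp _ g

omit hψ in
/-- For large levels the Frobenius into the base change factors through a closed subscheme with full support. -/
theorem exists_factor_twist [IsPurelyInseparable k K] [FiniteDimensional k K]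
    (X : Over (Spec (CommRingCat.of k))) [LocallyOfFiniteType X.hom] [QuasiCompact X.hom]
    {Z : Over (Spec (CommRingCat.of K))} (z : Z ⟶ bcK k K X) [IsClosedImmersion z.left] [Surjective z.left] :
    ∃ (n : ℕ) (ψ : K →+* k) (hψ : IsFrobRetract p n ψ) (u : X ⟶ (twistFun ψ).obj Z),
      u ≫ (twistFun ψ).map z = frobToApp hψ X := by
  haveI : ExpChar k p := ExpChar.prime Fact.out
  haveI : IsCharP X.left p := IsCharP.of_hom X.hom p
  obtain ⟨n₀, h₀⟩ := exists_isFrobRetract (k := k) (K := K) p
  obtain ⟨ψ₀, hψ₀⟩ := h₀ n₀ le_rfl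
  haveI : IsLocallyNoetherian X.left := LocallyOfFiniteType.isLocallyNoetherian X.hom
  haveI : CompactSpace X.left := QuasiCompact.compactSpace_of_compactSpace X.hom
  let a := toBase p n₀ ψ₀ hψ₀ X
  haveI : Surjective (pullback.fst a z.left) := MorphismProperty.pullback_fst _ _ ‹Surjective z.left›
  obtain ⟨m, hm⟩ := exists_frobPow_factor p (pullback.fst a z.left)
  obtain ⟨w, hw⟩ := hm m le_rfl
  let ψ : K →+* k := (iterateFrobenius k p m).comp ψ₀
  have hψ : IsFrobRetract p (m + n₀) ψ := fun c => by
    show iterateFrobenius k p m (ψ₀ (algebraMap k K c)) = _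
    rw [hψ₀ c, iterateFrobenius_def, ← pow_mul, ← pow_add, add_comm]
  have hfrob : frobPow p (Spec (CommRingCat.of k)) m ≫ Spec.map (CommRingCat.ofHom ψ₀) =
      Spec.map (CommRingCat.ofHom ψ) := by
    rw [frobPow_Spec p k m, ← Spec.map_comp, ← CommRingCat.ofHom_comp]
  have hfac : (w ≫ pullback.snd a z.left) ≫ z.left = toBase p (m + n₀) ψ hψ X := by
    rw [Category.assoc, ← pullback.condition, reassoc_of% hw]
    apply pullback.hom_ext
    · rw [Category.assoc]
      erw [toBase_fst hψ₀ X, toBase_fst hψ X]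
      exact (frobPow_add p m n₀).symm
    · rw [Category.assoc]
      erw [toBase_snd hψ₀ X, toBase_snd hψ X]
      rw [← Category.assoc, frobPow_comp, Category.assoc, hfrob]
  refine ⟨m + n₀, ψ, hψ, Over.homMk (pullback.lift (w ≫ pullback.snd a z.left) X.hom ?_) (pullback.lift_snd _ _ _), ?_⟩
  · rw [← Over.w z, ← Category.assoc, hfac]
    exact toBase_snd hψ X
  · apply Over.OverMorphism.ext
    apply pullback.hom_ext
    · refine Eq.trans ?_ (frobTo_app_fst hψ X).symm
      refine Eq.trans ?_ hfac
      simp [Over.pullback]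
    · simp [frobToApp, frobTo, Over.pullback]

end Groth.Agent.Chev
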