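import Groth.Agent.Chev.SemiAbelian
import Groth.Agent.MTBridge.Prim
import Groth.Agent.MTBridge.Charts
import Groth.Agent.WittUnip.Affine
import Groth.Agent.MultT.Basic2
import Groth.Agent.S3273
import Groth.Agent.HopfPoint.Scheme
import Groth.Agent.Chev.CommSubgroup
import Groth.Agent.Chev.FrobTwist

/-!
# Splitting of tori over algebraically closed fields, and commutative extensions of tori
-/

set_option autoImplicit false
set_option linter.style.haveILetI false
set_option backward.isDefEq.respectTransparency false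
set_option maxHeartbeats 1000000
set_option synthInstance.maxHeartbeats 400000
universe u

open CategoryTheory Limits MonoidalCategory CartesianMonoidalCategory MonObj GrpObj AlgebraicGeometry
open TensorProduct Opposite
open AlgGrp
open scoped CategoryTheory.Obj

noncomputable section

namespace Groth.Agent.Chev

open MTBridge (specGrp)

variable {K : Type u} [Field K]

/-- Over an algebraically closed field a domain spanned by group-like elements is a lattice algebra. -/
theorem exists_lattice_of_span [IsAlgClosed K] {B : Type u} [CommRing B] [IsDomain B] [HopfAlgebra K B]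
    [Algebra.FiniteType K B] (h : Submodule.span K {g : B | IsGroupLikeElem K g} = ⊤) :
    ∃ r : ℕ, Nonempty (B ≃ₐc[K] MonoidAlgebra K (Multiplicative (Fin r → ℤ))) := by
  classical
  obtain ⟨M, _, ⟨e⟩⟩ := MultT.isDiag_of_span h
  have htf : ∀ (g : M) (n : ℕ), 0 < n → g ^ n = 1 → g = 1 := by
    intro g n hn hg
    let x : B := e.symm (MonoidAlgebra.single g 1)
    have hx : x ^ n = 1 := by
      show (e.symm (MonoidAlgebra.single g 1)) ^ n = 1
      rw [← map_pow, MonoidAlgebra.single_pow, hg, one_pow, ← MonoidAlgebra.one_def, map_one]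
    have hint : IsIntegral K x :=
      ⟨Polynomial.X ^ n - 1, by simpa using Polynomial.monic_X_pow_sub_C (1 : K) hn.ne', by simp [hx]⟩
    obtain ⟨c, hc⟩ : x ∈ (algebraMap K B).range :=
      minpoly.mem_range_of_degree_eq_one K x (IsAlgClosed.degree_eq_one_of_irreducible K (minpoly.irreducible hint))
    have hcu : Coalgebra.counit (R := K) x = 1 :=
      ((MonoidAlgebra.isGroupLikeElem_single_one (R := K) g).map e.symm).counit_eq_one
    rw [← hc, Bialgebra.counit_algebraMap] at hcu
    rw [hcu, map_one] at hc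
    have hge := congrArg e hc
    simp only [x, map_one] at hge
    rw [show e (e.symm (MonoidAlgebra.single g (1 : K))) = MonoidAlgebra.single g 1 from
      e.apply_symm_apply _, MonoidAlgebra.one_def] at hge
    exact ((MonoidAlgebra.single_left_inj (one_ne_zero (α := K))).1 hge).symm
  haveI : Algebra.FiniteType K (MonoidAlgebra K M) := Algebra.FiniteType.equiv ‹_› e.toAlgEquiv
  haveI : Monoid.FG M := MonoidAlgebra.finiteType_iff_fg.1 ‹_›
  haveI : AddGroup.FG (Additive M) :=
    AddGroup.fg_iff_addMonoid_fg.2 (Monoid.fg_iff_add_fg.1 ‹_›)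
  haveI : Module.Finite ℤ (Additive M) := Module.Finite.iff_addGroup_fg.2 ‹_›
  haveI : IsAddTorsionFree (Additive M) := by
    refine ⟨fun n hn a b hab => ?_⟩
    have h1 : (a.toMul / b.toMul) ^ n = 1 := by
      rw [div_pow, div_eq_one]
      exact congrArg Additive.toMul hab
    exact Additive.toMul.injective (div_eq_one.1 (htf _ n (Nat.pos_of_ne_zero hn) h1))
  haveI : Module.Free ℤ (Additive M) := Module.free_of_finite_type_torsion_free'
  let b := Module.finBasis ℤ (Additive M)
  let g : M ≃* Multiplicative (Fin (Module.finrank ℤ (Additive M)) → ℤ) :=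
    AddEquiv.toMultiplicativeRight b.equivFun.toAddEquiv
  exact ⟨_, ⟨e.trans (MonoidAlgebra.domCongrBialgEquiv K K g)⟩⟩

/-- A commutative group whose coordinate ring has no primitive elements is a split torus. -/
theorem exists_split_of_noPrimitive [IsAlgClosed K] (G : Over (Spec (CommRingCat.of K))) [GrpObj G]
    {A : Type u} [CommRing A] [HopfAlgebra K A] [IsDomain A] [Algebra.FiniteType K A] [Coalgebra.IsCocomm K A]
    (e : specGrp K A ≅ Grp.mk G)
    (h : ∀ f : A, Coalgebra.comul (R := K) f = f ⊗ₜ[K] (1 : A) + (1 : A) ⊗ₜ[K] f → f = 0) :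
    ∃ r : ℕ, Red.IsSplitTorusWith (Fin r → ℤ) G := by
  obtain ⟨r, ⟨c⟩⟩ := exists_lattice_of_span ((S3273.result K A).2 h)
  obtain ⟨e₂⟩ := MTBridge.nonempty_specGrp_iso c
  obtain ⟨e₃⟩ := MTBridge.nonempty_DS_iso K (Fin r → ℤ)
  exact ⟨r, ⟨e.symm ≪≫ e₂.symm ≪≫ e₃.symm⟩⟩

theorem isDomain_of_specGrp_iso {G : Over (Spec (CommRingCat.of K))} [GrpObj G] [Smooth G.hom] [ConnectedSpace G.left]
    {A : Type u} [CommRing A] [HopfAlgebra K A] (e : specGrp K A ≅ Grp.mk G) : IsDomain A := by
  haveI : IsIso e.hom.hom.hom.left :=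
    inferInstanceAs (IsIso ((Over.forget _).map ((Grp.forget _).map e.hom)))
  haveI := geometricallyIntegral_of_group (A := G)
  haveI : IsIntegral G.left := GeometricallyIntegral.isIntegral_of_subsingleton G.hom
  haveI : Nonempty ↥(Spec (CommRingCat.of A)) := ⟨(inv e.hom.hom.hom.left) (Classical.arbitrary G.left)⟩
  haveI : IsIntegral (Spec (CommRingCat.of A)) := isIntegral_of_isOpenImmersion e.hom.hom.hom.left
  exact (affine_isIntegral_iff (CommRingCat.of A)).1 inferInstance

/-- A torus over an algebraically closed field is split. -/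
theorem exists_split_algClosed [IsAlgClosed K] {T : Over (Spec (CommRingCat.of K))} [GrpObj T] (hT : Red.IsTorus T) :
    ∃ r : ℕ, Red.IsSplitTorusWith (Fin r → ℤ) T := by
  obtain ⟨A, _, _, hA, hft, ⟨e⟩⟩ := MTBridge.exists_hopf T (MTBridge.isMultTypeFT_of_isTorus T hT)
  haveI := smooth_of_isTorus hT
  haveI := connectedSpace_of_isTorus hT
  haveI := isDomain_of_specGrp_iso e.symm
  haveI := hft
  haveI := MultT.isCocomm hA
  exact exists_split_of_noPrimitive T e.symm (MTBridge.primitive_eq_zero hA)

/-- A torus has no nontrivial homomorphism to the additive group. -/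
theorem eq_one_of_torus_sym {T : Over (Spec (CommRingCat.of K))} [GrpObj T] (hT : Red.IsTorus T)
    (u : T ⟶ (specGrp K (SymmetricAlgebra K K)).X) [IsMonHom u] : u = 1 := by
  obtain ⟨A, _, _, hA, -, ⟨e⟩⟩ := MTBridge.exists_hopf T (MTBridge.isMultTypeFT_of_isTorus T hT)
  haveI : IsIso e.inv.hom.hom := inferInstanceAs (IsIso ((Grp.forget _).map e.inv))
  haveI : IsMonHom (e.inv.hom.hom ≫ u) := inferInstance
  obtain ⟨f, hf⟩ := MTBridge.exists_bialgHom (e.inv.hom.hom ≫ u)
  rw [← cancel_epi e.inv.hom.hom, MonObj.comp_one]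
  apply Over.OverMorphism.ext
  rw [hf, show (f : SymmetricAlgebra K K →ₐ[K] A) =
      (Algebra.ofId K A).comp (Bialgebra.counitAlgHom K (SymmetricAlgebra K K)) from
    SymmetricAlgebra.algHom_ext (LinearMap.ext fun y => by
      show f (SymmetricAlgebra.ι K K y) = algebraMap K A (Coalgebra.counit (R := K) (SymmetricAlgebra.ι K K y))
      rw [SymmetricAlgebra.counit_ι, map_zero]
      refine MTBridge.primitive_eq_zero hA _ ?_
      rw [← CoalgHomClass.map_comp_comul_apply f, SymmetricAlgebra.comul_ι, map_add, TensorProduct.map_tmul,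
        TensorProduct.map_tmul]
      erw [map_one f]
      rfl)]
  exact congrArg (fun x => x.left)
    (map_one (Spec.mapMulEquiv (R := K) (S := SymmetricAlgebra K K) (T := A)))

/-- Base change along the identity. -/
def bcIdIso {X : Scheme.{u}} (H : Over X) [GrpObj H] : Grp.mk (Red.bc (𝟙 X) H) ≅ Grp.mk H :=
  (Functor.mapGrpNatIso Over.pullbackId).app (Grp.mk H) ≪≫ Functor.mapGrpIdIso.app (Grp.mk H)

/-- **A commutative extension of a torus by a torus is a torus.** -/
theorem isTorus_of_comm_extension [IsAlgClosed K] {T L S : Over (Spec (CommRingCat.of K))} [GrpObj T] [GrpObj L]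
    [GrpObj S] [IsCommMonObj L] [Smooth L.hom] [ConnectedSpace L.left] [IsAffine L.left]
    (hT : Red.IsTorus T) (hS : Red.IsTorus S) (i : T ⟶ L) [IsMonHom i] (π : L ⟶ S) [IsMonHom π] [Surjective π.left]
    (hker : AlgGrp.IsKernel i π) : Red.IsTorus L := by
  obtain ⟨A, _, d, hd⟩ := FinHopf.exists_hopf L
  haveI := hd
  let e : specGrp K A ≅ Grp.mk L := Grp.mkIso' d
  haveI := isDomain_of_specGrp_iso e
  haveI : IsSeparated L.hom := GrpField.isSeparated_hom L
  haveI : QuasiCompact L.hom := haveI := isAffineHom_of_isAffine L.hom; inferInstance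
  haveI : Algebra.FiniteType K A := by
    have h : LocallyOfFiniteType (Spec.map (CommRingCat.ofHom (algebraMap K A))) := by
      haveI : IsIso d.hom.left := inferInstanceAs (IsIso ((Over.forget _).map d.hom))
      rw [show Spec.map (CommRingCat.ofHom (algebraMap K A)) = d.hom.left ≫ L.hom from (Over.w d.hom).symm]
      infer_instance
    rw [HasRingHomProperty.Spec_iff (P := @LocallyOfFiniteType)] at h
    exact RingHom.finiteType_algebraMap.1 h
  haveI : Coalgebra.IsCocomm K A := WittUnip.isCocomm_of_iso d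
  obtain ⟨r, hr⟩ := exists_split_of_noPrimitive L e fun f hf => by
    let φa : SymmetricAlgebra K K →ₐ[K] A := SymmetricAlgebra.lift (LinearMap.toSpanSingleton K A f)
    have hf0 : Coalgebra.counit (R := K) f = 0 := by
      have h := congrArg (fun t => TensorProduct.lid K A ((Coalgebra.counit (R := K) (A := A)).rTensor A t)) hf
      simp only [Coalgebra.rTensor_counit_comul, map_add, LinearMap.rTensor_tmul, TensorProduct.lid_tmul,
        one_smul, Bialgebra.counit_one] at h
      replace h : Coalgebra.counit (R := K) f • (1 : A) = 0 := by linear_combination -h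
      rw [← Algebra.algebraMap_eq_smul_one] at h
      exact (algebraMap K A).injective (h.trans (map_zero _).symm)
    let φ : SymmetricAlgebra K K →ₐc[K] A := BialgHom.ofAlgHom φa
      (SymmetricAlgebra.algHom_ext (LinearMap.ext fun y => by
        simp [φa, hf0, SymmetricAlgebra.algebraMapInv_ι]))
      (SymmetricAlgebra.algHom_ext (LinearMap.ext fun y => by
        simp [φa, hf, Algebra.TensorProduct.one_def, TensorProduct.smul_tmul', TensorProduct.tmul_smul, smul_add]))
    let ug : specGrp K A ⟶ specGrp K (SymmetricAlgebra K K) :=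
      (hopfSpec (CommRingCat.of K)).map (CommHopfAlgCat.ofHom (R := K) φ).op
    let u : L ⟶ (specGrp K (SymmetricAlgebra K K)).X := (e.inv ≫ ug).hom.hom
    haveI : IsMonHom u := (e.inv ≫ ug).hom.isMonHom_hom
    haveI := smooth_of_isTorus hS
    haveI : IsReduced S.left := isReduced_of_smooth' S
    haveI := isAffine_of_isTorus hS
    haveI : QuasiCompact S.hom := haveI := isAffineHom_of_isAffine S.hom; inferInstance
    haveI : IsSeparated S.hom := GrpField.isSeparated_hom S
    haveI : QuasiCompact π.left := by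
      haveI : QuasiCompact (π.left ≫ S.hom) := by rw [Over.w]; infer_instance
      exact QuasiCompact.of_comp _ S.hom
    haveI : Flat π.left := GrpField.flat_of_surjective_reduced π
    haveI : IsLocallyNoetherian S.left := LocallyOfFiniteType.isLocallyNoetherian S.hom
    haveI : LocallyOfFinitePresentation π.left := by
      haveI : LocallyOfFiniteType (π.left ≫ S.hom) := by rw [Over.w]; infer_instance
      haveI : LocallyOfFiniteType π.left := locallyOfFiniteType_of_comp π.left S.hom
      infer_instance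
    obtain ⟨d', hd'⟩ := AdjRep.exists_desc i π hker u (eq_one_of_torus_sym hT (i ≫ u))
    haveI : IsMonHom (π ≫ d') := by rw [hd']; infer_instance
    haveI := isMonHom_desc π d'
    have hu : u = 1 := by rw [← hd', eq_one_of_torus_sym hS d', MonObj.comp_one]
    have hug : ug.hom.hom = 1 := by
      haveI : IsIso e.inv.hom.hom := inferInstanceAs (IsIso ((Grp.forget _).map e.inv))
      rw [← cancel_epi e.inv.hom.hom, MonObj.comp_one]
      exact hu
    have hl := congrArg (fun x => x.left) (hug.trans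
      (map_one (Spec.mapMulEquiv (R := K) (S := SymmetricAlgebra K K) (T := A))).symm)
    have hl' : (CommRingCat.ofHom (φ : SymmetricAlgebra K K →ₐ[K] A).toRingHom) =
        CommRingCat.ofHom ((Algebra.ofId K A).comp (Bialgebra.counitAlgHom K (SymmetricAlgebra K K))).toRingHom :=
      Spec.map_injective hl
    have := congrArg (fun g => g.hom (SymmetricAlgebra.ι K K 1)) hl'
    simpa [φ, φa, SymmetricAlgebra.algebraMapInv_ι] using this
  exact isTorus_of_isSplit (𝟙 _) (r := r) <| by
    obtain ⟨x⟩ := hr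
    exact ⟨bcIdIso L ≪≫ x⟩


/-- A smooth connected closed subgroup of a torus is a torus. -/
theorem isTorus_of_subgroup [IsAlgClosed K] {C T : Over (Spec (CommRingCat.of K))} [GrpObj C] [GrpObj T]
    [Smooth C.hom] [ConnectedSpace C.left] (hT : Red.IsTorus T) (s : C ⟶ T) [IsMonHom s] [IsClosedImmersion s.left] :
    Red.IsTorus C := by
  haveI := isAffine_of_isTorus hT
  haveI := locallyOfFiniteType_of_isTorus hT
  haveI : IsAffine C.left := isAffine_of_isAffineHom s.left
  obtain ⟨r, ⟨x⟩⟩ := exists_split_algClosed hT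
  obtain ⟨x₀⟩ := MTBridge.nonempty_DS_iso K (Fin r → ℤ)
  let eT := x ≪≫ x₀
  obtain ⟨B, _, d, hd⟩ := FinHopf.exists_hopf C
  haveI := hd
  let e : specGrp K B ≅ Grp.mk C := Grp.mkIso' d
  haveI := isDomain_of_specGrp_iso e
  haveI : IsIso eT.hom.hom.hom.left :=
    inferInstanceAs (IsIso ((Over.forget _).map ((Grp.forget _).map eT.hom)))
  haveI : IsIso d.hom.left := inferInstanceAs (IsIso ((Over.forget _).map d.hom))
  let u : (specGrp K B).X ⟶ (specGrp K (MonoidAlgebra K (Multiplicative (Fin r → ℤ)))).X :=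
    d.hom ≫ s ≫ eT.hom.hom.hom
  obtain ⟨f, hf⟩ := MTBridge.exists_bialgHom u
  haveI : IsClosedImmersion (Spec.map (CommRingCat.ofHom (f : MonoidAlgebra K (Multiplicative (Fin r → ℤ)) →ₐ[K] B).toRingHom)) := by
    rw [← hf]
    show IsClosedImmersion (d.hom.left ≫ s.left ≫ eT.hom.hom.hom.left)
    infer_instance
  have hsurj : Function.Surjective f := by
    have h := (IsClosedImmersion.isAffine_surjective_of_isAffine
      (Spec.map (CommRingCat.ofHom (f : MonoidAlgebra K (Multiplicative (Fin r → ℤ)) →ₐ[K] B).toRingHom))).2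
    intro b
    obtain ⟨a, ha⟩ := h ((Scheme.ΓSpecIso B).inv.hom b)
    refine ⟨(Scheme.ΓSpecIso (CommRingCat.of _)).hom.hom a, ?_⟩
    have hn := congrArg (fun g => g.hom a)
      (Scheme.ΓSpecIso_naturality (CommRingCat.ofHom (f : MonoidAlgebra K (Multiplicative (Fin r → ℤ)) →ₐ[K] B).toRingHom))
    simp only [CommRingCat.hom_comp, RingHom.comp_apply] at hn
    have hb := congrArg (fun g => g.hom b) (Scheme.ΓSpecIso B).inv_hom_id
    simp only [CommRingCat.hom_comp, RingHom.comp_apply, CommRingCat.hom_id, RingHom.id_apply] at hb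
    rw [← hb, ← ha]
    exact hn.symm
  haveI : Algebra.FiniteType K B := Algebra.FiniteType.of_surjective (f : MonoidAlgebra K (Multiplicative (Fin r → ℤ)) →ₐ[K] B) hsurj
  have hspan : Submodule.span K {g : B | IsGroupLikeElem K g} = ⊤ := by
    rw [eq_top_iff]
    intro b _
    obtain ⟨a, rfl⟩ := hsurj b
    induction a using MonoidAlgebra.induction_linear with
    | zero => rw [map_zero]; exact zero_mem _
    | add p q hp hq => rw [map_add]; exact add_mem (hp trivial) (hq trivial)
    | single m c =>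
      rw [show MonoidAlgebra.single m c = c • MonoidAlgebra.single m (1 : K) by
        rw [MonoidAlgebra.smul_single, smul_eq_mul, _root_.mul_one], map_smul]
      exact Submodule.smul_mem _ _ (Submodule.subset_span
        ((MonoidAlgebra.isGroupLikeElem_single_one (R := K) m).map f))
  obtain ⟨r', ⟨c⟩⟩ := exists_lattice_of_span hspan
  obtain ⟨e₂⟩ := MTBridge.nonempty_specGrp_iso c
  obtain ⟨e₃⟩ := MTBridge.nonempty_DS_iso K (Fin r' → ℤ)
  exact isTorus_of_isSplit (𝟙 _) (r := r') ⟨bcIdIso C ≪≫ e.symm ≪≫ e₂.symm ≪≫ e₃.symm⟩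

/-- A homomorphism of tori which is an `n`-th power for arbitrarily large `n` is trivial. -/
theorem eq_one_of_divisible' [IsAlgClosed K] {S T : Over (Spec (CommRingCat.of K))} [GrpObj S] [GrpObj T]
    (hS : Red.IsTorus S) (hT : Red.IsTorus T) (v : S ⟶ T) [IsMonHom v]
    (hv : ∀ n : ℕ, ∃ m, n < m ∧ ∃ w : S ⟶ T, IsMonHom w ∧ w ^ m = v) : v = 1 := by
  obtain ⟨a, ⟨xS⟩⟩ := exists_split_algClosed hS
  obtain ⟨b, ⟨xT⟩⟩ := exists_split_algClosed hT
  obtain ⟨yS⟩ := MTBridge.nonempty_DS_iso K (Fin a → ℤ)
  obtain ⟨yT⟩ := MTBridge.nonempty_DS_iso K (Fin b → ℤ)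
  let P := (xS ≪≫ yS).inv.hom.hom
  let Q := (xT ≪≫ yT).hom.hom.hom
  haveI : IsIso P := inferInstanceAs (IsIso ((Grp.forget _).map (xS ≪≫ yS).inv))
  haveI : IsIso Q := inferInstanceAs (IsIso ((Grp.forget _).map (xT ≪≫ yT).hom))
  haveI : IsMonHom P := (xS ≪≫ yS).inv.hom.isMonHom_hom
  haveI : IsMonHom Q := (xT ≪≫ yT).hom.hom.isMonHom_hom
  obtain ⟨f, hf⟩ := MTBridge.exists_bialgHom (P ≫ v ≫ Q)
  let MA := MonoidAlgebra K (Multiplicative (Fin a → ℤ))
  let MB := MonoidAlgebra K (Multiplicative (Fin b → ℤ))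
  let E := Spec.mapMulEquiv (R := K) (S := MB) (T := MA)
  have hf' : P ≫ v ≫ Q = E (WithConv.toConv (f : MB →ₐ[K] MA)) := Over.OverMorphism.ext hf
  have key : ∀ m, f (MonoidAlgebra.single m 1) = 1 := by
    intro m
    obtain ⟨g, hg⟩ := MonoidAlgebra.isGroupLikeElem_iff_mem_range_single_one.1
      ((MonoidAlgebra.isGroupLikeElem_single_one (R := K) m).map f)
    simp only at hg
    have hdiv : ∀ N : ℕ, ∃ n g', N < n ∧ g' ^ n = g := by
      intro N
      obtain ⟨n, hn, w, hw, hwn⟩ := hv N
      haveI := hw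
      obtain ⟨f', hf'w⟩ := MTBridge.exists_bialgHom (P ≫ w ≫ Q)
      have hf'' : P ≫ w ≫ Q = E (WithConv.toConv (f' : MB →ₐ[K] MA)) := Over.OverMorphism.ext hf'w
      have h1 : (P ≫ w ≫ Q) ^ n = P ≫ v ≫ Q := by
        rw [← MonObj.comp_pow, ← MonObj.pow_comp, hwn]
      rw [hf', hf'', ← map_pow] at h1
      have h2 := congrArg (fun φ : WithConv (MB →ₐ[K] MA) => φ.ofConv (MonoidAlgebra.single m 1)) (E.injective h1)
      obtain ⟨g', hg'⟩ := MonoidAlgebra.isGroupLikeElem_iff_mem_range_single_one.1
        ((MonoidAlgebra.isGroupLikeElem_single_one (R := K) m).map f')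
      simp only at hg'
      have hp : ∀ l : ℕ, ((WithConv.toConv (f' : MB →ₐ[K] MA)) ^ l).ofConv (MonoidAlgebra.single m 1) =
          MonoidAlgebra.single (g' ^ l) 1 := by
        intro l
        induction l with
        | zero =>
          simp [AlgHom.convOne_apply, MonoidAlgebra.one_def]
        | succ l ih =>
          rw [pow_succ, AlgHom.convMul_apply, (MonoidAlgebra.isGroupLikeElem_single_one (R := K) m).comul_eq_tmul_self]
          simp [ih, ← hg', pow_succ, MonoidAlgebra.single_mul_single]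
      refine ⟨n, g', hn, (MonoidAlgebra.single_left_inj (one_ne_zero (α := K))).1 (((hp n).symm.trans h2).trans hg.symm)⟩
    have hg1 : g = 1 := by
      refine Multiplicative.toAdd.injective (funext fun j => ?_)
      obtain ⟨n, g', hn, hg'⟩ := hdiv (g.toAdd j).natAbs
      have h := congrFun (congrArg Multiplicative.toAdd hg') j
      rw [toAdd_pow, Pi.smul_apply, nsmul_eq_mul] at h
      rw [toAdd_one, Pi.zero_apply]
      refine Int.eq_zero_of_dvd_of_natAbs_lt_natAbs ⟨g'.toAdd j, h.symm⟩ ?_
      rw [Int.natAbs_natCast]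
      exact hn
    rw [← hg, hg1, MonoidAlgebra.one_def]
  have hone : (f : MB →ₐ[K] MA) = (Algebra.ofId K MA).comp (Bialgebra.counitAlgHom K MB) :=
    AlgHom.ext fun x => by
      show f x = algebraMap K MA (Coalgebra.counit (R := K) x)
      induction x using MonoidAlgebra.induction_linear with
      | zero => simp only [map_zero]
      | add p q hp hq => simp only [map_add, hp, hq]
      | single m c =>
        rw [show MonoidAlgebra.single m c = c • MonoidAlgebra.single m (1 : K) by
          rw [MonoidAlgebra.smul_single, smul_eq_mul, _root_.mul_one], map_smul, map_smul, key,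
          (MonoidAlgebra.isGroupLikeElem_single_one (R := K) m).counit_eq_one, smul_eq_mul, _root_.mul_one,
          Algebra.algebraMap_eq_smul_one]
  rw [← cancel_epi P, MonObj.comp_one, ← cancel_mono Q, MonObj.one_comp, Category.assoc, hf', hone]
  exact map_one E

/-- A homomorphism of tori which is an `n`-th power for every `n` is trivial. -/
theorem eq_one_of_divisible [IsAlgClosed K] {S T : Over (Spec (CommRingCat.of K))} [GrpObj S] [GrpObj T]
    (hS : Red.IsTorus S) (hT : Red.IsTorus T) (v : S ⟶ T) [IsMonHom v]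
    (hv : ∀ n : ℕ, 0 < n → ∃ w : S ⟶ T, IsMonHom w ∧ w ^ n = v) : v = 1 :=
  eq_one_of_divisible' hS hT v fun n => ⟨n + 1, n.lt_succ_self, hv (n + 1) n.succ_pos⟩

/-- **A central extension of a torus by a torus is commutative, hence a torus.** -/
theorem isTorus_of_central_extension [IsAlgClosed K] {T L S : Over (Spec (CommRingCat.of K))} [GrpObj T] [GrpObj L]
    [GrpObj S] [Smooth L.hom] [ConnectedSpace L.left] [IsAffine L.left]
    (hT : Red.IsTorus T) (hS : Red.IsTorus S) (i : T ⟶ L) [IsMonHom i] (π : L ⟶ S) [IsMonHom π] [Surjective π.left]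
    (hker : AlgGrp.IsKernel i π)
    (hc : ∀ (X : Over (Spec (CommRingCat.of K))) (t : X ⟶ T) (g : X ⟶ L), (t ≫ i) * g = g * (t ≫ i)) :
    Red.IsTorus L := by
  haveI := isAffine_of_isTorus hS
  haveI := isAffine_of_isTorus hT
  haveI := smooth_of_isTorus hS
  haveI := connectedSpace_of_isTorus hS
  haveI := locallyOfFiniteType_of_isTorus hT
  haveI : QuasiCompact L.hom := haveI := isAffineHom_of_isAffine L.hom; inferInstance
  haveI : QuasiCompact S.hom := haveI := isAffineHom_of_isAffine S.hom; inferInstance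
  haveI : IsSeparated L.hom := GrpField.isSeparated_hom L
  haveI : IsSeparated S.hom := GrpField.isSeparated_hom S
  haveI : IsSeparated T.hom := GrpField.isSeparated_hom T
  haveI : IsReduced L.left := isReduced_of_smooth' L
  haveI : IsReduced S.left := isReduced_of_smooth' S
  haveI : QuasiCompact π.left := by
    haveI : QuasiCompact (π.left ≫ S.hom) := by rw [Over.w]; infer_instance
    exact QuasiCompact.of_comp _ S.hom
  haveI : Flat π.left := GrpField.flat_of_surjective_reduced π
  haveI : IsLocallyNoetherian S.left := LocallyOfFiniteType.isLocallyNoetherian S.hom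
  haveI : LocallyOfFinitePresentation π.left := by
    haveI : LocallyOfFiniteType (π.left ≫ S.hom) := by rw [Over.w]; infer_instance
    haveI : LocallyOfFiniteType π.left := locallyOfFiniteType_of_comp π.left S.hom
    infer_instance
  haveI : IsClosedImmersion η[S].left := GrpField.isClosedImmersion_eta S
  haveI : Mono i := by
    haveI : Mono (η[S] : 𝟙_ _ ⟶ S) := GrpField.SchImg.mono_of_isClosedImmersion _
    exact ⟨fun a b h => hker.hom_ext h (toUnit_unique _ _)⟩
  haveI : IsCommMonObj S := ⟨by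
    rw [show μ[S] = fst S S * snd S S from Eq.symm (by rw [Hom.mul_def, lift_fst_snd, Category.id_comp]),
      MonObj.comp_mul, braiding_hom_fst, braiding_hom_snd, RedR1.mul_comm_torus hS]⟩
  haveI := isMonHom_pow S
  -- the commutator with a rational point
  have hcomm : ∀ y : 𝟙_ _ ⟶ L, ∀ {X} (x : X ⟶ L),
      (x * (toUnit X ≫ y) * x⁻¹ * (toUnit X ≫ y)⁻¹) ≫ π = toUnit X ≫ η[S] := fun y X x => by
    simp only [MonObj.mul_comp, GrpObj.inv_comp]
    rw [mul_inv_cancel_comm, mul_inv_cancel, Hom.one_def]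
  let φ : (𝟙_ _ ⟶ L) → (L ⟶ T) := fun y => hker.lift _ _ (hcomm y (𝟙 L))
  have hφ : ∀ y, φ y ≫ i = 𝟙 L * (toUnit L ≫ y) * (𝟙 L)⁻¹ * (toUnit L ≫ y)⁻¹ := fun y => hker.lift_fst _ _ _
  have hφx : ∀ y {X} (x : X ⟶ L), (x ≫ φ y) ≫ i = x * (toUnit X ≫ y) * x⁻¹ * (toUnit X ≫ y)⁻¹ := fun y X x => by
    rw [Category.assoc, hφ]
    simp only [MonObj.comp_mul, GrpObj.comp_inv, comp_toUnit_assoc, Category.comp_id]
  -- multiplicativity in both variables
  have hmulx : ∀ y, IsMonHom (φ y) := fun y => by
    refine isMonHom_of_map_mul (φ y) fun {X} f g => ?_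
    rw [← cancel_mono i, hφx, MonObj.mul_comp, hφx, hφx]
    set c := toUnit X ≫ y
    have h1 : f * (g * c * g⁻¹ * c⁻¹) = (g * c * g⁻¹ * c⁻¹) * f := by
      rw [← hφx y g]; exact (hc X _ _).symm
    calc f * g * c * (f * g)⁻¹ * c⁻¹ = (f * (g * c * g⁻¹ * c⁻¹)) * c * f⁻¹ * c⁻¹ := by group
      _ = (g * c * g⁻¹ * c⁻¹) * (f * c * f⁻¹ * c⁻¹) := by rw [h1]; group
      _ = _ := by rw [← hφx y g, ← hφx y f, ← MonObj.mul_comp (g ≫ φ y) (f ≫ φ y) i, ← MonObj.mul_comp (f ≫ φ y) (g ≫ φ y) i, RedR1.mul_comm_torus hT]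
  have hmuly : ∀ y y', φ (y * y') = φ y * φ y' := fun y y' => by
    rw [← cancel_mono i, MonObj.mul_comp, hφ, hφ, hφ, MonObj.comp_mul]
    have h1 := hc L (φ y') (toUnit L ≫ y)
    rw [hφ] at h1
    set x := 𝟙 L
    set c := toUnit L ≫ y
    set c' := toUnit L ≫ y'
    calc x * (c * c') * x⁻¹ * (c * c')⁻¹ = x * c * x⁻¹ * ((x * c' * x⁻¹ * c'⁻¹) * c⁻¹) := by group
      _ = x * c * x⁻¹ * (c⁻¹ * ((x * c' * x⁻¹ * c'⁻¹) * c) * c⁻¹) := by rw [h1]; group
      _ = _ := by group
  have hφT : ∀ y, i ≫ φ y = 1 := fun y => by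
    rw [← cancel_mono i, hφx, MonObj.one_comp]
    have h1 := hc _ (𝟙 T) (toUnit T ≫ y)
    rw [Category.id_comp] at h1
    rw [h1]; group
  haveI : Epi π := AVQuot.epi_of_covering π
  have hex : ∀ y, ∃ d, π ≫ d = φ y := fun y => by
    haveI := hmulx y
    exact AdjRep.exists_desc i π hker (φ y) (hφT y)
  choose d hd using hex
  haveI : ∀ y, IsMonHom (d y) := fun y => by
    haveI := hmulx y
    haveI : IsMonHom (π ≫ d y) := by rw [hd]; infer_instance
    exact isMonHom_desc π (d y)
  have hd1 : ∀ y, d y = 1 := fun y => eq_one_of_divisible hS hT _ fun n hn => by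
    haveI := surjective_pow_torus hS hn
    obtain ⟨s, hs⟩ := HopfPoint.surjective_points (𝟙 S ^ n) inferInstance (y ≫ π)
    obtain ⟨y', hy'⟩ := HopfPoint.surjective_points π inferInstance s
    have h2 : (y * (y' ^ n)⁻¹) ≫ π = toUnit _ ≫ η[S] := by
      rw [MonObj.mul_comp, GrpObj.inv_comp, MonObj.pow_comp, hy', ← hs, MonObj.comp_pow, Category.comp_id,
        mul_inv_cancel, Hom.one_def]
    have hker1 : φ (y * (y' ^ n)⁻¹) = 1 := by
      rw [← cancel_mono i, hφ, MonObj.one_comp]
      have h3 := hc L (toUnit L ≫ hker.lift _ _ h2) (𝟙 L)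
      rw [Category.assoc, hker.lift_fst] at h3
      rw [← h3]; group
    have hpow : ∀ m : ℕ, φ (y' ^ m) = φ y' ^ m := fun m => by
      induction m with
      | zero =>
        have h := hmuly 1 1
        rw [_root_.mul_one, left_eq_mul] at h
        rw [pow_zero, pow_zero, h]
      | succ m ih => rw [pow_succ, pow_succ, hmuly, ih]
    refine ⟨d y', inferInstance, (cancel_epi π).1 ?_⟩
    rw [MonObj.comp_pow, hd, hd, ← hpow]
    conv_rhs => rw [← inv_mul_cancel_right y (y' ^ n), hmuly, hker1, _root_.one_mul]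
  haveI : IsCommMonObj L := isCommMonObj_of_rat L fun x y => by
    have h := hφx y x
    rw [← hd, hd1, MonObj.comp_one, MonObj.comp_one, MonObj.one_comp, toUnit_unit, Category.id_comp] at h
    exact (mul_inv_eq_iff_eq_mul.1 (mul_inv_eq_one.1 h.symm))
  exact isTorus_of_comm_extension hT hS i π hker

end Groth.Agent.Chev
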