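import Groth.Agent.Chev.SAQuot
import Groth.Agent.Chev.TorusExt
import Groth.Agent.AVDeg.Pow
import Groth.Agent.LimGrp.Hom

/-!
# Subgroups of semi-abelian varieties without `ℓ`-torsion are finite
-/

set_option autoImplicit false
set_option linter.style.haveILetI false
set_option backward.isDefEq.respectTransparency false
set_option maxHeartbeats 1000000
set_option synthInstance.maxHeartbeats 400000
universe u

open CategoryTheory Limits MonoidalCategory CartesianMonoidalCategory MonObj GrpObj AlgebraicGeometry
open AlgGrp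
open scoped CategoryTheory.Obj

noncomputable section

namespace Groth.Agent.Chev

open AVDeg (bcK specMap)

variable {k : Type u} [Field k]

/-- The dimension of the trivial group. -/
theorem dim_unit : topologicalKrullDim (𝟙_ (Over (Spec (CommRingCat.of k)))).left = 0 := by
  show topologicalKrullDim (PrimeSpectrum k) = 0
  rw [PrimeSpectrum.topologicalKrullDim_eq_ringKrullDim, ringKrullDim_eq_zero_of_field]

/-- A semi-abelian variety on which multiplication by `ℓ > 1` is invertible is trivial. -/
theorem isIso_eta_of_isIso_pow [IsAlgClosed k] {G : Over (Spec (CommRingCat.of k))} [GrpObj G] [IsCommMonObj G]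
    [Smooth G.hom] [QuasiCompact G.hom] [ConnectedSpace G.left] (hG : IsSA G) {l : ℕ} (hl : 1 < l)
    [IsIso (𝟙 G ^ l)] : IsIso η[G] := by
  haveI := isMonHom_pow G l
  obtain ⟨T, hT, i, A, hA, q, him, hic, htor, hqm, hqs, hqf, hker, hAp, hAs, hAc⟩ := hG
  haveI := him; haveI := hic; haveI := hqm; haveI := hqs; haveI := hqf; haveI := hAp; haveI := hAs; haveI := hAc
  haveI : IsSeparated G.hom := GrpField.isSeparated_hom G
  haveI : Mono i := GrpField.SchImg.mono_of_isClosedImmersion i
  haveI := isAffine_of_isTorus htor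
  let ψ := inv (𝟙 G ^ l)
  have hψ : ψ ^ l = 𝟙 G := by
    rw [show ψ ^ l = ψ ≫ (𝟙 G ^ l) by rw [MonObj.comp_pow, Category.comp_id], IsIso.inv_hom_id]
  haveI : IsMonHom ψ :=
    { one_hom := by
        show η[G] ≫ inv (𝟙 G ^ l) = η[G]
        rw [IsIso.comp_inv_eq, IsMonHom.one_hom]
      mul_hom := by
        show μ[G] ≫ inv (𝟙 G ^ l) = (inv (𝟙 G ^ l) ⊗ₘ inv (𝟙 G ^ l)) ≫ μ[G]
        rw [IsIso.comp_inv_eq, Category.assoc, IsMonHom.mul_hom, ← Category.assoc, tensorHom_comp_tensorHom,
          IsIso.inv_hom_id, id_tensorHom_id, Category.id_comp] }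
  have h1 : (i ≫ ψ) ≫ q = toUnit T ≫ η[A] := (eq_one_of_isTorus_of_proper htor _).trans Hom.one_def
  let w : T ⟶ T := hker.lift (i ≫ ψ) _ h1
  have hw : w ≫ i = i ≫ ψ := hker.lift_fst _ _ _
  haveI : IsMonHom (w ≫ i) := by rw [hw]; infer_instance
  haveI : IsMonHom w := isMonHom_of_comp w i
  have hwl : w ^ l = 𝟙 T := by
    rw [← cancel_mono i, MonObj.pow_comp, hw, ← MonObj.comp_pow, hψ, Category.comp_id, Category.id_comp]
  have hit : ∀ j : ℕ, ∃ v : T ⟶ T, IsMonHom v ∧ v ^ (l ^ j) = 𝟙 T := by
    intro j
    induction j with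
    | zero => exact ⟨𝟙 T, inferInstance, by rw [pow_zero, pow_one]⟩
    | succ j ih =>
      obtain ⟨v, hv, hvl⟩ := ih
      haveI := hv
      refine ⟨v ≫ w, inferInstance, ?_⟩
      rw [pow_succ, pow_mul, ← MonObj.pow_comp, hvl, Category.id_comp, hwl]
  have hT1 : (𝟙 T : T ⟶ T) = 1 := eq_one_of_divisible' htor htor (𝟙 T) fun n =>
    ⟨l ^ (n + 1), (n.lt_succ_self).trans (Nat.lt_pow_self hl), (hit (n + 1))⟩
  haveI : QuasiCompact q.left := by
    haveI : QuasiCompact (q.left ≫ A.hom) := by rw [Over.w]; infer_instance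
    exact QuasiCompact.of_comp _ A.hom
  haveI : Flat (𝟙 G ≫ q).left := by rw [Category.id_comp]; infer_instance
  haveI : Surjective (𝟙 G ≫ q).left := by rw [Category.id_comp]; infer_instance
  haveI : QuasiCompact (𝟙 G ≫ q).left := by rw [Category.id_comp]; infer_instance
  haveI : IsIso q.left :=
    GrpField.AffImage.isIso_of_kernel (𝟙 G) q (Scheme.Hom.ker_eq_bot_of_isIso _) fun U z hz => by
      rw [Category.id_comp] at hz
      rw [Category.comp_id]
      have e := hker.lift_fst z (toUnit U) (hz.trans Hom.one_def)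
      refine e.symm.trans ?_
      rw [← Category.comp_id (hker.lift z (toUnit U) (hz.trans Hom.one_def)), hT1, MonObj.comp_one, MonObj.one_comp]
  haveI : IsIso ((Over.forget _).map q) := ‹IsIso q.left›
  haveI : IsIso q := isIso_of_reflects_iso q (Over.forget _)
  haveI := geometricallyIntegral_of_group (A := A)
  haveI : IsCommMonObj A := isCommMonObj_of_isProper_of_geometricallyIntegral _
  haveI : Nonempty A.left := ⟨η[A].left (IsLocalRing.closedPoint k)⟩
  obtain ⟨g, hg⟩ := AVDeg.exists_dim A
  haveI := AVDeg.isMonHom_id_pow (A := A) l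
  haveI : IsIso (𝟙 A ^ l) := by
    have h : 𝟙 A ^ l = inv q ≫ (𝟙 G ^ l) ≫ q := by
      rw [IsIso.eq_inv_comp, MonObj.comp_pow, Category.comp_id, MonObj.pow_comp, Category.id_comp]
    rw [h]; infer_instance
  haveI : IsIso (𝟙 A ^ l).left := inferInstanceAs (IsIso ((Over.forget _).map (𝟙 A ^ l)))
  have hdeg := AVDeg.deg_pow_id hg l
  haveI := AVDeg.isIntegral_av A
  rw [← AVDeg.finrank_eq_deg hg (𝟙 A ^ l) inferInstance (genericPoint A.left),
    Scheme.Hom.finrank_eq_one_of_isIso] at hdeg
  have hg0 : g = 0 := by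
    by_contra h
    have : 1 < l ^ (2 * g) := Nat.one_lt_pow (by omega) hl
    rw [← hdeg] at this
    exact lt_irrefl 1 (by simpa using this)
  haveI : Smooth (𝟙_ (Over (Spec (CommRingCat.of k)))).hom := inferInstanceAs (Smooth (𝟙 _))
  haveI : QuasiCompact (𝟙_ (Over (Spec (CommRingCat.of k)))).hom := inferInstanceAs (QuasiCompact (𝟙 _))
  haveI : ConnectedSpace (𝟙_ (Over (Spec (CommRingCat.of k)))).left :=
    inferInstanceAs (ConnectedSpace (PrimeSpectrum k))
  haveI : IsSeparated A.hom := inferInstance
  haveI := GrpField.isClosedImmersion_eta A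
  haveI : IsIso η[A] := isIso_of_dim_eq η[A] (by rw [dim_unit, hg, hg0, Nat.cast_zero])
  rw [show η[G] = η[A] ≫ inv q by rw [IsIso.eq_comp_inv, IsMonHom.one_hom]]
  infer_instance

/-- Torsion points of a base change. -/
theorem eq_one_bc_of_torsion {S S' : Scheme.{u}} (w : S' ⟶ S) {H : Over S} [GrpObj H] {l : ℕ}
    (htors : ∀ (Y : Over S) (h : Y ⟶ H), h ^ l = 1 → h = 1) (Y : Over S') (h : Y ⟶ (Over.pullback w).obj H)
    (hh : h ^ l = 1) : h = 1 := by
  let E : (Y ⟶ (Over.pullback w).obj H) →* ((Over.map w).obj Y ⟶ H) :=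
    MonoidHom.mk' (fun x => ((Over.mapPullbackAdj w).homEquiv Y H).symm x)
      fun a b => LimGrp.homEquiv_symm_mul w Y H a b
  have hE : Function.Injective E := ((Over.mapPullbackAdj w).homEquiv Y H).symm.injective
  apply hE
  rw [map_one]
  exact htors _ _ (by rw [← map_pow, hh, map_one])

/-- A group of finite type over an algebraically closed field with trivial identity component is finite. -/
theorem finite_of_component_singleton (R : Over (Spec (CommRingCat.of k))) [GrpObj R] [LocallyOfFiniteType R.hom]
    [QuasiCompact R.hom]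
    (h : ∀ x : R.left, x ⤳ η[R].left (IsLocalRing.closedPoint k) → x = η[R].left (IsLocalRing.closedPoint k)) :
    Finite R.left := by
  haveI : IsSeparated R.hom := GrpField.isSeparated_hom R
  haveI : IsLocallyNoetherian R.left := LocallyOfFiniteType.isLocallyNoetherian R.hom
  haveI : CompactSpace R.left := QuasiCompact.compactSpace_of_compactSpace R.hom
  haveI : IsNoetherian R.left := {}
  haveI : Nonempty R.left := ⟨η[R].left (IsLocalRing.closedPoint k)⟩
  have hec := GrpField.isClosed_unit (Y := R)
  have h0 : Order.coheight (η[R].left (IsLocalRing.closedPoint k)) = 0 := by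
    rw [Order.coheight_eq_zero]
    intro x hx
    exact (h x hx).le
  have hdim : topologicalKrullDim R.left = 0 := by
    rw [← GrpField.coheight_eq_topologicalKrullDim R hec, h0]; rfl
  have hT1 : ∀ x y : R.left, x ⤳ y → x = y := by
    intro x y hxy
    by_contra hne
    have hlt : y < x := lt_of_le_not_ge hxy fun hyx => hne (hxy.antisymm hyx).eq
    have h1 : (1 : WithBot ℕ∞) ≤ Order.krullDim R.left :=
      Order.one_le_krullDim_iff.2 ⟨y, x, hlt⟩
    rw [← Order.krullDim_eq_of_orderIso (irreducibleSetEquivPoints (α := R.left))] at h1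
    rw [show Order.krullDim (TopologicalSpace.IrreducibleCloseds R.left) = topologicalKrullDim R.left from rfl,
      hdim] at h1
    exact absurd h1 (by decide)
  haveI : Finite (irreducibleComponents R.left) :=
    TopologicalSpace.NoetherianSpace.finite_irreducibleComponents.to_subtype
  let φ : R.left → irreducibleComponents R.left := fun x =>
    ⟨irreducibleComponent x, irreducibleComponent_mem_irreducibleComponents x⟩
  refine Finite.of_injective φ fun a b hab => ?_
  have hZ := irreducibleComponent_mem_irreducibleComponents a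
  have he : irreducibleComponent a = irreducibleComponent b := congrArg Subtype.val hab
  obtain ⟨g, hg⟩ := QuasiSober.sober hZ.1 isClosed_irreducibleComponent
  rw [← hT1 g a (hg.specializes mem_irreducibleComponent),
    hT1 g b (hg.specializes (he ▸ mem_irreducibleComponent))]

/-- **A subgroup of a semi-abelian variety without `ℓ`-torsion is finite.** -/
theorem isFinite_of_torsion_trivial {G H : Over (Spec (CommRingCat.of k))} [GrpObj G] [IsCommMonObj G]
    [Smooth G.hom] [QuasiCompact G.hom] [ConnectedSpace G.left] [GrpObj H]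
    (hK : IsSA (bcK k (AlgebraicClosure k) G)) (j : H ⟶ G) [IsMonHom j] [IsClosedImmersion j.left] {l : ℕ}
    (hl : 1 < l) (htors : ∀ (Y : Over (Spec (CommRingCat.of k))) (h : Y ⟶ H), h ^ l = 1 → h = 1) :
    IsFinite H.hom := by
  let K := AlgebraicClosure k
  let w := specMap k K
  let F := Over.pullback w
  haveI : IsSeparated G.hom := GrpField.isSeparated_hom G
  haveI : LocallyOfFiniteType H.hom := by rw [← Over.w j]; infer_instance
  haveI : QuasiCompact H.hom := by rw [← Over.w j]; infer_instance
  haveI : IsSeparated H.hom := by rw [← Over.w j]; infer_instance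
  haveI : LocallyOfFiniteType (F.obj H).hom := inferInstanceAs (LocallyOfFiniteType (pullback.snd H.hom w))
  haveI : QuasiCompact (F.obj H).hom := inferInstanceAs (QuasiCompact (pullback.snd H.hom w))
  haveI : Smooth (F.obj G).hom := inferInstanceAs (Smooth (pullback.snd G.hom w))
  haveI : QuasiCompact (F.obj G).hom := inferInstanceAs (QuasiCompact (pullback.snd G.hom w))
  haveI : ConnectedSpace (F.obj G).left := connectedSpace_bcK K (X := G)
  haveI : IsCommMonObj (F.obj G) := inferInstanceAs (IsCommMonObj ((Over.pullback w).obj G))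
  haveI : IsClosedImmersion (F.map j).left :=
    MorphismProperty.baseChange_map (P := @IsClosedImmersion) w j ‹_›
  obtain ⟨R, hR, r, hrm, hrc, hrs, hRsm⟩ := exists_red_group (F.obj H)
  haveI := hrm; haveI := hrc; haveI := hrs; haveI := hRsm
  haveI : QuasiCompact R.hom := by rw [← Over.w r]; infer_instance
  haveI : IsLocallyNoetherian R.left := LocallyOfFiniteType.isLocallyNoetherian R.hom
  obtain ⟨R₀, hR₀, incl, hinm, hinc, hinf, hrange, hgi, hR₀c, -⟩ := GrpComp.exists_identity_subgroup R
  haveI := hinm; haveI := hinc; haveI := hinf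
  haveI : IsOpenImmersion incl.left := IsOpenImmersion.of_flat_of_mono incl.left
  haveI : Smooth R₀.hom := by rw [← Over.w incl]; infer_instance
  haveI : QuasiCompact R₀.hom := by rw [← Over.w incl]; infer_instance
  haveI : ConnectedSpace R₀.left := by
    haveI := hgi
    haveI : IrreducibleSpace R₀.left := GeometricallyIrreducible.irreducibleSpace_of_subsingleton R₀.hom
    infer_instance
  let e : R₀ ⟶ F.obj G := incl ≫ r ≫ F.map j
  haveI : IsMonHom e := inferInstance
  haveI : IsClosedImmersion e.left := by simp only [e, Over.comp_left]; infer_instance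
  haveI : Mono e := GrpField.SchImg.mono_of_isClosedImmersion e
  haveI : IsCommMonObj R₀ := ⟨by
    rw [← cancel_mono e, Category.assoc, IsMonHom.mul_hom (f := e), ← Category.assoc,
      ← BraidedCategory.braiding_naturality, Category.assoc, IsCommMonObj.mul_comm]⟩
  have hsa : IsSA R₀ := isSA_of_subgroup hK e
  haveI := hsa.surjective_pow (show 0 < l by omega)
  haveI := isMonHom_pow R₀ l
  haveI : IsSeparated R₀.hom := GrpField.isSeparated_hom R₀
  haveI : IsReduced R₀.left := isReduced_of_smooth' R₀
  haveI : QuasiCompact (𝟙 R₀ ^ l).left := by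
    haveI : QuasiCompact ((𝟙 R₀ ^ l).left ≫ R₀.hom) := by rw [Over.w]; infer_instance
    exact QuasiCompact.of_comp _ R₀.hom
  haveI : Flat (𝟙 R₀ ^ l).left := GrpField.flat_of_surjective_reduced _
  haveI : Flat (𝟙 R₀ ≫ (𝟙 R₀ ^ l)).left := by rw [Category.id_comp]; infer_instance
  haveI : Surjective (𝟙 R₀ ≫ (𝟙 R₀ ^ l)).left := by rw [Category.id_comp]; infer_instance
  haveI : QuasiCompact (𝟙 R₀ ≫ (𝟙 R₀ ^ l)).left := by rw [Category.id_comp]; infer_instance
  haveI : IsIso (𝟙 R₀ ^ l).left :=
    GrpField.AffImage.isIso_of_kernel (𝟙 R₀) (𝟙 R₀ ^ l) (Scheme.Hom.ker_eq_bot_of_isIso _) fun U z hz => by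
      rw [Category.id_comp, MonObj.comp_pow, Category.comp_id] at hz
      rw [Category.comp_id]
      haveI : Mono (F.map j) := GrpField.SchImg.mono_of_isClosedImmersion (F.map j)
      haveI : Mono (incl ≫ r) := mono_of_mono_fac (h := e) (by simp [e] : (incl ≫ r) ≫ F.map j = e)
      rw [← cancel_mono (incl ≫ r), MonObj.one_comp]
      refine eq_one_bc_of_torsion w htors U _ ?_
      rw [← MonObj.pow_comp, hz, MonObj.one_comp]
  haveI : IsIso ((Over.forget _).map (𝟙 R₀ ^ l)) := ‹IsIso (𝟙 R₀ ^ l).left›
  haveI : IsIso (𝟙 R₀ ^ l) := isIso_of_reflects_iso _ (Over.forget _)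
  haveI := isIso_eta_of_isIso_pow hsa hl
  haveI : Finite R.left := by
    refine finite_of_component_singleton R fun x hx => ?_
    have hx' : x ∈ connectedComponent (η[R].left (IsLocalRing.closedPoint K)) := by
      refine isPreconnected_singleton.closure.subset_connectedComponent (specializes_iff_mem_closure.1 hx) ?_
      exact subset_closure rfl
    obtain ⟨y, rfl⟩ : x ∈ Set.range incl.left := by
      rw [hrange]; exact hx'
    haveI : IsIso η[R₀].left := inferInstanceAs (IsIso ((Over.forget _).map η[R₀]))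
    obtain ⟨s, rfl⟩ := η[R₀].left.surjective y
    rw [← Scheme.Hom.comp_apply, ← Over.comp_left, IsMonHom.one_hom,
      Subsingleton.elim (α := PrimeSpectrum K) s (IsLocalRing.closedPoint K)]
  haveI : Finite (F.obj H).left := Finite.of_surjective r.left r.left.surjective
  haveI : Surjective w := ⟨fun _ => ⟨IsLocalRing.closedPoint _, Subsingleton.elim (α := PrimeSpectrum k) _ _⟩⟩
  haveI : Surjective (pullback.fst H.hom w) := MorphismProperty.pullback_fst _ _ ‹_›
  haveI : Finite (pullback H.hom w :) := ‹Finite (F.obj H).left›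
  haveI : Finite H.left := Finite.of_surjective _ (pullback.fst H.hom w).surjective
  haveI : LocallyQuasiFinite H.hom := LocallyQuasiFinite.of_finite_preimage_singleton H.hom fun y => Set.toFinite _
  exact IsFinite.of_locallyQuasiFinite H.hom

end Groth.Agent.Chev
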