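import Groth.Agent.Chev.SAExt
import Groth.Agent.Chev.TorsionFinite
import Groth.Agent.Chev.Complement
import Groth.Agent.HomDiag.Local
import Groth.Agent.S16113
import Groth.Agent.S16114
import Groth.Agent.RelHull.Field
import Groth.Agent.FlatMor.ReducedDescent

/-!
# The largest torus quotient through which all characters factor

Over an algebraically closed field: the lattice of characters of a smooth connected group gives a
surjection onto a split torus; quotients which are tori coincide with it.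
-/

set_option autoImplicit false

universe u

open CategoryTheory Limits MonoidalCategory CartesianMonoidalCategory MonObj GrpObj AlgebraicGeometry
open AlgGrp
open scoped CategoryTheory.Obj

noncomputable section

namespace Groth.Agent.Chev.CharQuot

open Groth.Agent.Chev Groth.Agent.HomDiag

variable {k : Type u} [Field k]

theorem smooth_tensor_irreducible [IsAlgClosed k] (G : Over (Spec (CommRingCat.of k))) [GrpObj G] [Smooth G.hom]
    [ConnectedSpace G.left] : IsIntegral G.left := by
  haveI hgi := Groth.Agent.GrpField.geometricallyIrreducible_of_connected G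
  haveI : UniversallyOpen G.hom := inferInstance
  haveI : IrreducibleSpace ↥(Spec (CommRingCat.of k)) := inferInstanceAs (IrreducibleSpace (PrimeSpectrum k))
  haveI : IrreducibleSpace ↥G.left := GeometricallyIrreducible.irreducibleSpace G.hom G.hom.isOpenMap
  haveI : IsReduced G.left := isReduced_of_smooth' G
  exact isIntegral_of_irreducibleSpace_of_isReduced _

/-- A split torus is a torus. -/
theorem isTorus_DS (r : ℕ) : Red.IsTorus (Red.DS (Spec (CommRingCat.of k)) (Fin r → ℤ)) :=
  isTorus_of_isSplit (𝟙 _) (r := r) ⟨bcIdIso _⟩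

/-- Homomorphisms of diagonalisable groups over a field come from the character groups. -/
theorem exists_DSmap {M N : Type} [AddCommGroup M] [AddCommGroup N] [AddGroup.FG N]
    (χ : Red.DS (Spec (CommRingCat.of k)) M ⟶ Red.DS (Spec (CommRingCat.of k)) N) [IsMonHom χ] :
    ∃ θ : N →+ M, χ = Red.DSmap _ θ := by
  let O := 𝟙_ (Over (Spec (CommRingCat.of k)))
  have hφ : AutFam.IsHomFamily _ _ (fst (Red.DS (Spec (CommRingCat.of k)) M) O ≫ χ) := fun U a b t => by
    rw [lift_fst_assoc, lift_fst_assoc, lift_fst_assoc, MonObj.mul_comp]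
  obtain ⟨T', v, hv, hp, θ, hθ⟩ := exists_locally_DSmap hφ (IsLocalRing.closedPoint k)
  haveI := hv
  haveI : Surjective v.left := ⟨fun x => by
    obtain ⟨y, hy⟩ := hp
    exact ⟨y, by rw [hy]; exact Subsingleton.elim (α := PrimeSpectrum k) _ _⟩⟩
  haveI : IsIso v.left := isIso_of_isOpenImmersion_of_opensRange_eq_top v.left (TopologicalSpace.Opens.ext
    (Set.range_eq_univ.2 v.left.surjective))
  haveI : IsIso v := by
    haveI : IsIso ((Over.forget _).map v) := inferInstanceAs (IsIso v.left)
    exact isIso_of_reflects_iso v (Over.forget _)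
  refine ⟨θ, ?_⟩
  have h := congrArg (fun z => lift (𝟙 _) (toUnit _ ≫ inv v) ≫ z) hθ
  simpa only [whiskerLeft_fst_assoc, lift_fst_assoc, Category.id_comp] using h

/-- A map of character groups which is zero gives the trivial homomorphism. -/
theorem DSmap_zero {M N : Type} [AddCommGroup M] [AddCommGroup N] (θ : N →+ M) (h : ∀ n, θ n = 0) :
    Red.DSmap (Spec (CommRingCat.of k)) θ = 1 := by
  apply ch_ext
  intro m
  rw [← Category.id_comp (Red.DSmap _ θ), ch_DSmap, h, ch_one, ofAdd_zero, map_one]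

variable [IsAlgClosed k]

/-- **The lattice of characters.** -/
theorem exists_char_lattice (G : Over (Spec (CommRingCat.of k))) [GrpObj G] [Smooth G.hom] [QuasiCompact G.hom]
    [ConnectedSpace G.left] :
    ∃ (n : ℕ) (q : G ⟶ Red.DS (Spec (CommRingCat.of k)) (Fin n → ℤ)), IsMonHom q ∧
      (∀ m, ch q m = 1 → m = 1) ∧
      ∀ (M : Type) [AddCommGroup M] (χ : G ⟶ Red.DS (Spec (CommRingCat.of k)) M), IsMonHom χ →
        ∃ θ : M →+ (Fin n → ℤ), q ≫ Red.DSmap _ θ = χ := by
  haveI := smooth_tensor_irreducible G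
  haveI : IsSeparated G.hom := GrpField.isSeparated_hom G
  haveI : LocallyOfFiniteType G.hom := inferInstance
  obtain ⟨n, v, hv, hker⟩ := S16113.result k G
  let ε : (Γ(G.left, ⊤))ˣ →* (Γ((𝟙_ (Over (Spec (CommRingCat.of k)))).left, ⊤))ˣ :=
    Units.map η[G].left.appTop.hom.toMonoidHom
  have hconst : ∀ z : Γ(Spec (CommRingCat.of k), ⊤), η[G].left.appTop (G.hom.appTop z) = z := by
    intro z
    rw [← CommRingCat.comp_apply, ← Scheme.Hom.comp_appTop, Over.w η[G]]
    exact RingHom.congr_fun (congrArg CommRingCat.Hom.hom (Scheme.Hom.id_appTop (X := Spec (CommRingCat.of k)))) z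
  let v₁ : ε.ker →* Multiplicative (Fin n → ℤ) := v.comp ε.ker.subtype
  have hcst : ∀ z : (Γ(Spec (CommRingCat.of k), ⊤))ˣ, v (Units.map G.hom.appTop.hom.toMonoidHom z) = 1 := by
    intro z
    rw [← MonoidHom.mem_ker, hker]
    refine ⟨Units.map (Scheme.ΓSpecIso (CommRingCat.of k)).hom.hom.toMonoidHom z, Units.ext ?_⟩
    show ((Scheme.ΓSpecIso (CommRingCat.of k)).inv ≫ G.hom.appTop) ((Scheme.ΓSpecIso (CommRingCat.of k)).hom z.1) = _
    rw [← CommRingCat.comp_apply, Iso.hom_inv_id_assoc]
    rfl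
  have hbij : Function.Bijective v₁ := by
    refine ⟨(injective_iff_map_eq_one v₁).2 fun x hx => ?_, fun m => ?_⟩
    · have hx' : x.1 ∈ v.ker := hx
      rw [hker] at hx'
      obtain ⟨a, ha⟩ := hx'
      have h1 : η[G].left.appTop (x.1 : Γ(G.left, ⊤)) = 1 := congrArg Units.val (MonoidHom.mem_ker.1 x.2)
      rw [← ha] at h1
      have h2 := h1
      erw [hconst] at h2
      refine Subtype.ext (Units.ext ?_)
      rw [← ha]
      show G.hom.appTop ((Scheme.ΓSpecIso (CommRingCat.of k)).inv (a : k)) = 1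
      exact (congrArg G.hom.appTop h2).trans (map_one _)
    · obtain ⟨f, hf⟩ := hv m
      let c := Units.map G.hom.appTop.hom.toMonoidHom (ε f)
      refine ⟨⟨f * c⁻¹, ?_⟩, ?_⟩
      · rw [MonoidHom.mem_ker, map_mul, map_inv, mul_inv_eq_one]
        exact Units.ext (hconst _).symm
      · show v (f * c⁻¹) = m
        rw [map_mul, map_inv, hcst, inv_one, _root_.mul_one, hf]
  let e : ε.ker ≃* Multiplicative (Fin n → ℤ) := MulEquiv.ofBijective v₁ hbij
  let φ : Multiplicative (Fin n → ℤ) →* Γ(G.left, ⊤) :=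
    (Units.coeHom _).comp (ε.ker.subtype.comp e.symm.toMonoidHom)
  have hφε : ∀ m, η[G].left.appTop (φ m) = 1 := fun m => congrArg Units.val (MonoidHom.mem_ker.1 (e.symm m).2)
  have hφu : ∀ m, IsUnit (φ m) := fun m => (e.symm m).1.isUnit
  obtain ⟨q, hq⟩ := exists_ch (S := Spec (CommRingCat.of k)) (X := G) φ
  have hqm : IsMonHom q := by
    constructor
    · rw [show η[Red.DS (Spec (CommRingCat.of k)) (Fin n → ℤ)] = 1 from by
        rw [Hom.one_def, toUnit_unit, Category.id_comp]]
      apply ch_ext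
      intro m
      rw [ch_comp, ch_one, hq, hφε]
    · rw [show μ[Red.DS (Spec (CommRingCat.of k)) (Fin n → ℤ)] = fst _ _ * snd _ _ from
        Eq.symm (by rw [Hom.mul_def, lift_fst_snd, Category.id_comp]), MonObj.comp_mul, tensorHom_fst, tensorHom_snd]
      apply ch_ext
      intro m
      rw [ch_comp, ch_mul, ch_comp, ch_comp, hq, S16114.result k G _ (hφu m) (hφε m)]
  refine ⟨n, q, hqm, fun m hm => ?_, fun M _ χ hχ => ?_⟩
  · rw [hq] at hm
    have h2 : e.symm m = 1 := Subtype.ext (Units.ext hm)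
    simpa using congrArg e h2
  · haveI := hχ
    let U : Multiplicative M →* ε.ker := ((ch χ).toHomUnits).codRestrict ε.ker fun m => by
      rw [MonoidHom.mem_ker]
      apply Units.ext
      show η[G].left.appTop (ch χ m) = 1
      rw [← ch_comp η[G] χ m, IsMonHom.one_hom,
        show η[Red.DS (Spec (CommRingCat.of k)) M] = 1 from by rw [Hom.one_def, toUnit_unit, Category.id_comp], ch_one]
    let θ : M →+ (Fin n → ℤ) := AddMonoidHom.mk' (fun m => (e (U (Multiplicative.ofAdd m))).toAdd) (fun a b => by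
      rw [ofAdd_add, map_mul, map_mul, toAdd_mul])
    refine ⟨θ, ch_ext fun m => ?_⟩
    rw [ch_DSmap, hq]
    show (((e.symm (Multiplicative.ofAdd (e (U (Multiplicative.ofAdd m.toAdd))).toAdd)).1 : (Γ(G.left, ⊤))ˣ) : Γ(G.left, ⊤)) = ch χ m
    rw [ofAdd_toAdd, ofAdd_toAdd]
    rw [MulEquiv.symm_apply_apply]
    rfl

/-- The map to the torus of characters is flat and surjective. -/
theorem surjective_of_char_lattice {G : Over (Spec (CommRingCat.of k))} [GrpObj G] [Smooth G.hom] [QuasiCompact G.hom]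
    [ConnectedSpace G.left] {n : ℕ} (q : G ⟶ Red.DS (Spec (CommRingCat.of k)) (Fin n → ℤ)) [IsMonHom q]
    (hinj : ∀ m, ch q m = 1 → m = 1) :
    Surjective q.left ∧ Flat q.left ∧ QuasiCompact q.left ∧ Epi q := by
  let T := Red.DS (Spec (CommRingCat.of k)) (Fin n → ℤ)
  have hT : Red.IsTorus T := isTorus_DS n
  haveI := smooth_of_isTorus hT
  haveI := connectedSpace_of_isTorus hT
  haveI := isAffine_of_isTorus hT
  haveI : QuasiCompact T.hom := haveI := isAffineHom_of_isAffine T.hom; inferInstance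
  haveI : IsSeparated T.hom := GrpField.isSeparated_hom T
  haveI : IsReduced T.left := isReduced_of_smooth' T
  haveI : IsSeparated G.hom := GrpField.isSeparated_hom G
  haveI := isCommMonObj_of_isTorus hT
  obtain ⟨S', hS', g, iS, hS't, hgm, hgs, hiSm, hiSc, hgi⟩ := exists_torus_image hT q
  haveI := hgm; haveI := hgs; haveI := hiSm; haveI := hiSc
  haveI : Mono iS := GrpField.SchImg.mono_of_isClosedImmersion iS
  have hn : AlgGrp.IsNormalHom iS := fun U a b => ⟨b, by
    rw [RedR1.mul_comm_torus hT a]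
    exact mul_inv_cancel_right (G := U ⟶ Red.DS (Spec (CommRingCat.of k)) (Fin n → ℤ)) (b ≫ iS) a⟩
  obtain ⟨Q, hQ, p, hpm, hpf, hps, hpk, hQsep, hQsm, hQqc, hQc, hplfp⟩ := exists_quotient_group' iS hn
  haveI := hpm; haveI := hpf; haveI := hps; haveI := hQsm; haveI := hQqc; haveI := hQc
  have hQt : Red.IsTorus Q := isTorus_of_surjective hT p
  obtain ⟨r, ⟨eQ⟩⟩ := exists_split_algClosed hQt
  let eh : Q ≅ Red.DS (Spec (CommRingCat.of k)) (Fin r → ℤ) := (Grp.forget _).mapIso eQ
  haveI : IsMonHom eh.hom := inferInstanceAs (IsMonHom eQ.hom.hom.hom)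
  obtain ⟨θ, hθ⟩ := exists_DSmap (k := k) (p ≫ eh.hom)
  have h1 : q ≫ Red.DSmap _ θ = 1 := by
    rw [← hθ, ← hgi, Category.assoc, reassoc_of% hpk.w, IsMonHom.one_hom, comp_toUnit_assoc, ← Hom.one_def]
  have h2 : p ≫ eh.hom = 1 := by
    rw [hθ]
    refine DSmap_zero θ fun m => ?_
    have := hinj (Multiplicative.ofAdd (θ m)) (by
      have e := ch_DSmap θ q (Multiplicative.ofAdd m)
      rw [h1, ch_one] at e
      exact e.symm)
    simpa using this
  have h3 : p = 1 := by rw [← cancel_mono eh.hom, h2, MonObj.one_comp]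
  let s : T ⟶ S' := hpk.lift (𝟙 T) (toUnit T) (by rw [Category.id_comp, h3, Hom.one_def])
  have hs : s ≫ iS = 𝟙 T := hpk.lift_fst _ _ _
  haveI : IsIso iS := ⟨s, by rw [← cancel_mono iS, Category.assoc, hs, Category.comp_id, Category.id_comp], hs⟩
  haveI : IsIso iS.left := inferInstanceAs (IsIso ((Over.forget _).map iS))
  haveI hsur : Surjective q.left := by
    rw [← hgi, Over.comp_left]; infer_instance
  haveI : QuasiCompact q.left := by
    haveI : QuasiCompact (q.left ≫ T.hom) := by rw [Over.w]; infer_instance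
    exact QuasiCompact.of_comp _ T.hom
  haveI : Flat q.left := GrpField.flat_of_surjective_reduced q
  exact ⟨hsur, inferInstance, inferInstance, AVQuot.epi_of_covering q⟩

/-- A torus quotient over the torus of characters is the torus of characters. -/
theorem isIso_of_torus_quotient {G L : Over (Spec (CommRingCat.of k))} [GrpObj G] [GrpObj L] {n : ℕ}
    (q : G ⟶ Red.DS (Spec (CommRingCat.of k)) (Fin n → ℤ)) [Epi q]
    (hfac : ∀ (M : Type) [AddCommGroup M] (χ : G ⟶ Red.DS (Spec (CommRingCat.of k)) M), IsMonHom χ →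
        ∃ θ : M →+ (Fin n → ℤ), q ≫ Red.DSmap _ θ = χ)
    (hL : Red.IsTorus L) (p : G ⟶ L) [IsMonHom p] [Epi p] (π : L ⟶ Red.DS (Spec (CommRingCat.of k)) (Fin n → ℤ))
    (hpπ : p ≫ π = q) : IsIso π := by
  obtain ⟨r, ⟨eL⟩⟩ := exists_split_algClosed hL
  let eh : L ≅ Red.DS (Spec (CommRingCat.of k)) (Fin r → ℤ) := (Grp.forget _).mapIso eL
  haveI : IsMonHom eh.hom := inferInstanceAs (IsMonHom eL.hom.hom.hom)
  obtain ⟨θ, hθ⟩ := hfac _ (p ≫ eh.hom) inferInstance
  refine ⟨Red.DSmap _ θ ≫ eh.inv, ?_, ?_⟩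
  · rw [← cancel_epi p, reassoc_of% hpπ, reassoc_of% hθ, Iso.hom_inv_id]
  · rw [← cancel_epi q, Category.assoc, reassoc_of% hθ, Iso.hom_inv_id_assoc, hpπ, Category.comp_id]

/-- An isogeny onto a torus has a torus as source. -/
theorem isTorus_of_finite_kernel {L T N : Over (Spec (CommRingCat.of k))} [GrpObj L] [GrpObj T] [GrpObj N]
    [Smooth L.hom] [QuasiCompact L.hom] [ConnectedSpace L.left] (hT : Red.IsTorus T) (π : L ⟶ T) [IsMonHom π]
    [Surjective π.left] (i : N ⟶ L) [IsMonHom i] [IsClosedImmersion i.left] [IsFinite N.hom]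
    (hker : AlgGrp.IsKernel i π) : Red.IsTorus L := by
  haveI := isCommMonObj_of_isTorus hT
  haveI := smooth_of_isTorus hT
  haveI := connectedSpace_of_isTorus hT
  haveI := isAffine_of_isTorus hT
  haveI : QuasiCompact T.hom := haveI := isAffineHom_of_isAffine T.hom; inferInstance
  haveI := isCommMonObj_of_finite_kernel π N i hker
  obtain ⟨ψ, hψm, hψs⟩ := exists_back L T π N i hker fun r hr => surjective_pow_torus_algClosed hT hr
  haveI := hψm; haveI := hψs
  exact isTorus_of_surjective hT ψ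

/-- A torus is semi-abelian. -/
theorem isSA_of_torus {T : Over (Spec (CommRingCat.of k))} [GrpObj T] (hT : Red.IsTorus T) : IsSA T := by
  haveI := smooth_of_isTorus hT
  haveI := connectedSpace_of_isTorus hT
  haveI : Surjective T.hom := ⟨fun x => ⟨η[T].left x, by
    rw [← Scheme.Hom.comp_apply, Over.w η[T]]; rfl⟩⟩
  haveI : Flat T.hom := inferInstance
  refine ⟨T, inferInstance, 𝟙 T, 𝟙_ _, inferInstance, toUnit T, inferInstance, ?_, hT, inferInstance, ?_, ?_, ?_,
    ?_, ?_, ?_⟩
  · rw [Over.id_left]; infer_instance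
  · rw [Over.toUnit_left]; infer_instance
  · rw [Over.toUnit_left]; infer_instance
  · exact IsPullback.mk' (toUnit_unique _ _) (fun U a b h _ => by simpa using h)
      (fun U a b _ => ⟨a, Category.comp_id _, toUnit_unique _ _⟩)
  · exact inferInstanceAs (IsProper (𝟙 (Spec (CommRingCat.of k))))
  · exact inferInstanceAs (Smooth (𝟙 (Spec (CommRingCat.of k))))
  · exact inferInstanceAs (ConnectedSpace (PrimeSpectrum k))

/-- The identity component of a normal subgroup is normal. -/
theorem isNormalHom_component {G N N₀ : Over (Spec (CommRingCat.of k))} [GrpObj G] [GrpObj N] [GrpObj N₀]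
    [LocallyOfFiniteType N.hom] [QuasiCompact N.hom]
    (i : N ⟶ G) [IsMonHom i] [IsClosedImmersion i.left] (hin : AlgGrp.IsNormalHom i)
    (c : N₀ ⟶ N) [IsMonHom c] [IsClosedImmersion c.left] [Flat c.left] [ConnectedSpace N₀.left]
    (hcr : Set.range c.left = connectedComponent (GrpComp.ept N)) : AlgGrp.IsNormalHom (c ≫ i) := by
  haveI : LocallyOfFiniteType N₀.hom := by rw [← Over.w c]; infer_instance
  haveI : QuasiCompact N₀.hom := by rw [← Over.w c]; infer_instance
  haveI : IsLocallyNoetherian N.left := LocallyOfFiniteType.isLocallyNoetherian N.hom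
  haveI : CompactSpace N.left := QuasiCompact.compactSpace_of_compactSpace N.hom
  haveI : IsNoetherian N.left := {}
  haveI : GeometricallyConnected N₀.hom :=
    Groth.Agent.Rigid.geometricallyConnected_of_section N₀.hom η[N₀].left (Over.w η[N₀])
  have hopen : IsOpen (Set.range c.left) := by
    rw [hcr]; exact Groth.Agent.LocNoethTop.isOpen_connectedComponent_of_noetherian _
  have hclosed : IsClosed (Set.range c.left) := c.left.isClosedEmbedding.isClosed_range
  obtain ⟨y, hy⟩ := hin (G ⊗ N₀) (fst G N₀) (snd G N₀ ≫ c)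
  let s : G ⟶ G ⊗ N₀ := lift (𝟙 G) 1
  have hs : s ≫ y = (1 : G ⟶ N₀) ≫ c := by
    haveI : Mono i := GrpField.SchImg.mono_of_isClosedImmersion i
    rw [← cancel_mono i, Category.assoc, ← hy]
    simp [s, MonObj.comp_mul, GrpObj.comp_inv]
  have hrange : Set.range y.left ⊆ Set.range c.left := by
    rintro _ ⟨x, rfl⟩
    let p : (G ⊗ N₀).left ⟶ G.left := pullback.fst G.hom N₀.hom
    haveI : GeometricallyConnected p := inferInstanceAs (GeometricallyConnected (pullback.fst G.hom N₀.hom))
    have hfib : _root_.IsPreconnected (p ⁻¹' {p x}) := by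
      rw [← p.range_fiberι]
      exact isPreconnected_range (p.fiberι (p x)).continuous
    have hsec : s.left (p x) ∈ p ⁻¹' {p x} := by
      show p (s.left (p x)) = p x
      rw [← Scheme.Hom.comp_apply]
      exact congrArg (fun φ => φ (p x)) (congrArg (fun φ => φ.left) (lift_fst (𝟙 G) (1 : G ⟶ N₀)))
    have hmem : s.left (p x) ∈ y.left ⁻¹' Set.range c.left :=
      ⟨(1 : G ⟶ N₀).left (p x), (congrArg (fun φ => φ.left (p x)) hs).symm⟩
    exact hfib.subset_isClopen ⟨hclosed.preimage y.left.continuous, hopen.preimage y.left.continuous⟩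
      ⟨_, hsec, hmem⟩ (Set.mem_singleton _ : x ∈ p ⁻¹' {p x})
  obtain ⟨w₀, hw₀⟩ := GrpComp.exists_factor_flat c.left y.left hrange
  let w : G ⊗ N₀ ⟶ N₀ := Over.homMk w₀ (by rw [← Over.w c, reassoc_of% hw₀, Over.w])
  have hw : w ≫ c = y := Over.OverMorphism.ext hw₀
  intro T g x
  refine ⟨lift g x ≫ w, ?_⟩
  have := congrArg (fun φ => lift g x ≫ φ) hy
  simp only [MonObj.comp_mul, GrpObj.comp_inv, lift_fst, lift_snd_assoc, Category.assoc] at this
  rw [Category.assoc, reassoc_of% hw]
  exact this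

end Groth.Agent.Chev.CharQuot
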