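import Groth.Agent.Chev.SmallestKer

/-!
# Pointed maps from groups to abelian varieties and the Albanese quotient
-/

set_option autoImplicit false
set_option backward.isDefEq.respectTransparency false

universe u

open CategoryTheory CategoryTheory.Limits MonoidalCategory CartesianMonoidalCategory MonObj GrpObj AlgebraicGeometry

noncomputable section

namespace Groth.Agent.Chev

variable {k : Type u} [Field k]

/-- Pointed maps from connected smooth groups to abelian varieties are homomorphisms. -/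
theorem isMonHom_of_pointed {G B : Over (Spec (CommRingCat.of k))} [GrpObj G] [GrpObj B]
    [Smooth G.hom] [QuasiCompact G.hom] [ConnectedSpace G.left]
    [IsProper B.hom] [Smooth B.hom] [ConnectedSpace B.left] (f : G ⟶ B) (h0 : η[G] ≫ f = η[B]) :
    IsMonHom f := by
  haveI := geometricallyIntegral_of_group (A := G)
  haveI := geometricallyIntegral_of_group (A := B)
  haveI : IsCommMonObj B := isCommMonObj_of_isProper_of_geometricallyIntegral B
  haveI : IsSeparated G.hom := GrpField.isSeparated_hom G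
  have h1 : (1 : G ⟶ G) ≫ f = 1 := by rw [Hom.one_def, Category.assoc, h0, Hom.one_def]
  have hη : lift η[G] η[G] ≫ μ[G] = η[G] := by
    rw [← Hom.mul_def, show η[G] = (1 : 𝟙_ _ ⟶ G) by rw [Hom.one_def, toUnit_unit, Category.id_comp], _root_.mul_one]
  have hl : lift (toUnit G ≫ η[G]) (𝟙 G) ≫ μ[G] = 𝟙 G := by rw [← Hom.mul_def, ← Hom.one_def, _root_.one_mul]
  have hr : lift (𝟙 G) (toUnit G ≫ η[G]) ≫ μ[G] = 𝟙 G := by rw [← Hom.mul_def, ← Hom.one_def, _root_.mul_one]
  have hmul := Groth.Agent.S14584.result k G G B η η (μ[G] ≫ f)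
  rw [reassoc_of% hη, reassoc_of% hl, reassoc_of% hr, h0, ← Hom.one_def, inv_one, _root_.one_mul,
    _root_.mul_comm] at hmul
  refine ⟨h0, ?_⟩
  rw [hmul, Hom.mul_def]
  congr 1

/-- The Albanese quotient. -/
theorem exists_albanese (G : Over (Spec (CommRingCat.of k))) [GrpObj G] [Smooth G.hom] [QuasiCompact G.hom]
    [ConnectedSpace G.left] :
    ∃ (N : Over (Spec (CommRingCat.of k))) (_ : GrpObj N) (i : N ⟶ G) (A : Over (Spec (CommRingCat.of k)))
      (_ : GrpObj A) (α : G ⟶ A),
      IsMonHom i ∧ IsClosedImmersion i.left ∧ AlgGrp.IsNormalHom i ∧ ConnectedSpace N.left ∧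
      IsProper A.hom ∧ Smooth A.hom ∧ ConnectedSpace A.left ∧ IsMonHom α ∧ Surjective α.left ∧ Flat α.left ∧
      AlgGrp.IsKernel i α ∧
      (∀ (P : Over (Spec (CommRingCat.of k))) [GrpObj P] [IsProper P.hom] (f : G ⟶ P) [IsMonHom f], i ≫ f = 1) ∧
      ∀ (B : Over (Spec (CommRingCat.of k))) [GrpObj B] [IsProper B.hom] [Smooth B.hom] [ConnectedSpace B.left]
        (f : G ⟶ B), η[G] ≫ f = η[B] → ∃! g : A ⟶ B, α ≫ g = f := by
  obtain ⟨N, hN, i, him, hic, hin, hNc, ⟨Q, hQ, q, hqm, hqs, hqf, hqk, hQp⟩, hkill⟩ := exists_smallest_kernel_connected G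
  haveI := him; haveI := hic; haveI := hqm; haveI := hqs; haveI := hqf; haveI := hQp
  haveI : IsSeparated G.hom := GrpField.isSeparated_hom G
  obtain ⟨A, hA, α, hαm, hαf, hαs, hαk, hAsep, hAsm, hAq, hAc, hαp⟩ := exists_quotient_group' i hin
  haveI := hαm; haveI := hαf; haveI := hαs; haveI := hAsm; haveI := hAc; haveI := hαp
  haveI : QuasiCompact α.left := by
    haveI : QuasiCompact (α.left ≫ A.hom) := by rw [Over.w]; infer_instance
    exact QuasiCompact.of_comp _ A.hom
  haveI : QuasiCompact q.left := by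
    haveI : QuasiCompact (q.left ≫ Q.hom) := by rw [Over.w]; infer_instance
    exact QuasiCompact.of_comp _ Q.hom
  obtain ⟨iso⟩ := AdjRep.exists_iso_of_same_kernel i α q hαk hqk
  haveI : IsIso iso.hom.left := inferInstanceAs (IsIso ((Over.forget _).map iso.hom))
  haveI : IsProper A.hom := by rw [← Over.w iso.hom]; infer_instance
  refine ⟨N, hN, i, A, hA, α, him, hic, hin, hNc, inferInstance, hAsm, hAc, hαm, hαs, hαf, hαk, hkill,
    fun B _ _ _ _ f h0 => ?_⟩
  haveI := isMonHom_of_pointed f h0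
  haveI : EffectiveEpi α.left := inferInstance
  haveI : Epi α := (Over.forget _).epi_of_epi_map (inferInstanceAs (Epi α.left))
  obtain ⟨d, hd⟩ := AdjRep.exists_desc i α hαk f (hkill B f)
  exact ⟨d, hd, fun g hg => by rw [← cancel_epi α]; exact hg.trans hd.symm⟩

end Groth.Agent.Chev
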