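import Groth.Agent.Chev.AffineKer
import Groth.Agent.Chev.Albanese

/-!
# Extending homomorphisms to proper groups from the identity component
-/

set_option autoImplicit false
set_option backward.isDefEq.respectTransparency false

universe u

open CategoryTheory CategoryTheory.Limits MonoidalCategory CartesianMonoidalCategory MonObj GrpObj AlgebraicGeometry
open scoped CategoryTheory.Obj

noncomputable section

namespace Groth.Agent.Chev

open AVDeg (bcK specMap)

variable {k : Type u} [Field k]

/-- A product of finitely many homomorphisms to a proper group. -/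
theorem exists_prod_hom {G A : Over (Spec (CommRingCat.of k))} [GrpObj G] [GrpObj A] [IsProper A.hom]
    {J : Type*} (s : Finset J) (f : J → (G ⟶ A)) (hf : ∀ i, IsMonHom (f i)) :
    ∃ (P : Over (Spec (CommRingCat.of k))) (_ : GrpObj P) (Φ : G ⟶ P), IsMonHom Φ ∧ IsProper P.hom ∧
      ∀ {T : Over (Spec (CommRingCat.of k))} (x : T ⟶ G), x ≫ Φ = 1 ↔ ∀ i ∈ s, x ≫ f i = 1 := by
  classical
  induction s using Finset.induction with
  | empty =>
    refine ⟨𝟙_ _, inferInstance, toUnit G, inferInstance, inferInstanceAs (IsProper (𝟙 (Spec (CommRingCat.of k)))),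
      fun {T} x => ?_⟩
    simp only [Finset.notMem_empty, false_implies, implies_true, iff_true]
    exact toUnit_unique _ _
  | insert a s has ih =>
    obtain ⟨P, hP, Φ, hΦm, hPp, hΦ⟩ := ih
    haveI := hΦm; haveI := hPp; haveI := hf a
    haveI : IsProper (A ⊗ P).hom := inferInstanceAs (IsProper (Limits.pullback.fst A.hom P.hom ≫ A.hom))
    haveI : IsMonHom (lift (f a) Φ) := by
      refine ⟨?_, ?_⟩
      · apply CartesianMonoidalCategory.hom_ext <;> simp [IsMonHom.one_hom]
      · apply CartesianMonoidalCategory.hom_ext <;> simp [IsMonHom.mul_hom]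
    refine ⟨A ⊗ P, inferInstance, lift (f a) Φ, inferInstance, inferInstance, fun {T} x => ?_⟩
    rw [Finset.forall_mem_insert, ← hΦ x]
    constructor
    · intro h
      exact ⟨by rw [← lift_fst (f a) Φ, ← Category.assoc, h, MonObj.one_comp],
        by rw [← lift_snd (f a) Φ, ← Category.assoc, h, MonObj.one_comp]⟩
    · rintro ⟨h1, h2⟩
      apply CartesianMonoidalCategory.hom_ext
      · rw [Category.assoc, lift_fst, h1, MonObj.one_comp]
      · rw [Category.assoc, lift_snd, h2, MonObj.one_comp]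

/-- Left translation by a rational point. -/
def trl {H : Over (Spec (CommRingCat.of k))} [GrpObj H] (z : RP H) : H ⟶ H := (toUnit H ≫ z) * 𝟙 H

theorem comp_trl {H : Over (Spec (CommRingCat.of k))} [GrpObj H] (z : RP H) {T : Over (Spec (CommRingCat.of k))}
    (x : T ⟶ H) : x ≫ trl z = (toUnit T ≫ z) * x := by
  rw [trl, MonObj.comp_mul, Category.comp_id, comp_toUnit_assoc]

theorem isIso_trl {H : Over (Spec (CommRingCat.of k))} [GrpObj H] (z : RP H) : IsIso (trl z) := by
  refine ⟨trl z⁻¹, ?_, ?_⟩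
  · rw [comp_trl, trl, GrpObj.comp_inv, inv_mul_cancel_left]
  · rw [comp_trl, trl, GrpObj.comp_inv, mul_inv_cancel_left]

/-- The range of an open connected subgroup of a smooth group is the identity component. -/
theorem range_eq_component {H H₀ : Over (Spec (CommRingCat.of k))} [GrpObj H] [GrpObj H₀]
    [LocallyOfFiniteType H.hom] [QuasiCompact H.hom] (i : H₀ ⟶ H) [IsMonHom i] [IsOpenImmersion i.left]
    [ConnectedSpace H₀.left] : IsClosed (Set.range i.left) ∧ Set.range i.left = connectedComponent (GrpComp.ept H) := by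
  haveI : IsLocallyNoetherian H.left := LocallyOfFiniteType.isLocallyNoetherian H.hom
  haveI : CompactSpace H.left := QuasiCompact.compactSpace_of_compactSpace H.hom
  haveI : IsNoetherian H.left := { }
  have hmem : GrpComp.ept H ∈ Set.range i.left := ⟨GrpComp.ept H₀, by
    show i.left (η[H₀].left _) = η[H].left _
    rw [← Scheme.Hom.comp_apply, ← Over.comp_left, IsMonHom.one_hom i]⟩
  have hclosed : IsClosed (Set.range i.left) :=
    (GrpField.isSubgroupSet_range i).isClosed_of_isOpen i.left.isOpenEmbedding.isOpen_range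
  exact ⟨hclosed, Set.Subset.antisymm ((isConnected_range i.left.continuous).subset_connectedComponent hmem)
    (IsClopen.connectedComponent_subset ⟨hclosed, i.left.isOpenEmbedding.isOpen_range⟩ hmem)⟩

theorem exists_lift_open {T X Y : Over (Spec (CommRingCat.of k))} (f : T ⟶ Y) (i : X ⟶ Y) [IsOpenImmersion i.left]
    (h : Set.range f.left ⊆ Set.range i.left) : ∃ g : T ⟶ X, g ≫ i = f :=
  ⟨Over.homMk (IsOpenImmersion.lift i.left f.left h) (by
    rw [← Over.w i, ← Category.assoc, IsOpenImmersion.lift_fac, Over.w]),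
    Over.OverMorphism.ext (IsOpenImmersion.lift_fac _ _ _)⟩

/-- Conjugation preserves the identity component. -/
theorem exists_conj_component {H H₀ : Over (Spec (CommRingCat.of k))} [GrpObj H] [GrpObj H₀]
    [LocallyOfFiniteType H.hom] [QuasiCompact H.hom] (i : H₀ ⟶ H) [IsMonHom i] [IsOpenImmersion i.left]
    [ConnectedSpace H₀.left] :
    ∃ y : H ⊗ H₀ ⟶ H₀, y ≫ i = fst H H₀ * (snd H H₀ ≫ i) * (fst H H₀)⁻¹ := by
  refine exists_lift_open _ i ?_
  obtain ⟨hclosed, -⟩ := range_eq_component i
  haveI : GeometricallyConnected H₀.hom :=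
    Groth.Agent.Rigid.geometricallyConnected_of_section H₀.hom η[H₀].left (Over.w η[H₀])
  set w := fst H H₀ * (snd H H₀ ≫ i) * (fst H H₀)⁻¹
  let s : H ⟶ H ⊗ H₀ := lift (𝟙 H) 1
  have hs : s ≫ w = (1 : H ⟶ H₀) ≫ i := by simp [s, w, MonObj.comp_mul, GrpObj.comp_inv]
  rintro _ ⟨x, rfl⟩
  let p : (H ⊗ H₀).left ⟶ H.left := pullback.fst H.hom H₀.hom
  haveI : GeometricallyConnected p := inferInstanceAs (GeometricallyConnected (pullback.fst H.hom H₀.hom))
  have hfib : _root_.IsPreconnected (p ⁻¹' {p x}) := by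
    rw [← p.range_fiberι]
    exact isPreconnected_range (p.fiberι (p x)).continuous
  have hsec : s.left (p x) ∈ p ⁻¹' {p x} := by
    show p (s.left (p x)) = p x
    rw [← Scheme.Hom.comp_apply]
    exact congrArg (fun φ => φ (p x)) (congrArg (fun φ => φ.left) (lift_fst (𝟙 H) (1 : H ⟶ H₀)))
  have hmem : s.left (p x) ∈ w.left ⁻¹' Set.range i.left :=
    ⟨(1 : H ⟶ H₀).left (p x), (congrArg (fun φ => φ.left (p x)) hs).symm⟩
  exact hfib.subset_isClopen ⟨hclosed.preimage w.left.continuous,
    i.left.isOpenEmbedding.isOpen_range.preimage w.left.continuous⟩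
    ⟨_, hsec, hmem⟩ (Set.mem_singleton _ : x ∈ p ⁻¹' {p x})

set_option maxHeartbeats 1000000 in
/-- The normal core of the kernel of a homomorphism from the identity component, over an algebraically closed
field. -/
theorem exists_core [IsAlgClosed k] {H H₀ A : Over (Spec (CommRingCat.of k))} [GrpObj H] [GrpObj H₀] [GrpObj A]
    [Smooth H.hom] [QuasiCompact H.hom] (i : H₀ ⟶ H) [IsMonHom i] [IsOpenImmersion i.left]
    [ConnectedSpace H₀.left] [IsProper A.hom] (ψ : H₀ ⟶ A) [IsMonHom ψ]
    (y₀ : H ⊗ H₀ ⟶ H₀) (hy₀ : y₀ ≫ i = fst H H₀ * (snd H H₀ ≫ i) * (fst H H₀)⁻¹) :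
    ∃ (C : Over (Spec (CommRingCat.of k))) (_ : GrpObj C) (c : C ⟶ H₀) (R : Over (Spec (CommRingCat.of k)))
      (_ : GrpObj R) (r : H ⟶ R),
      IsMonHom c ∧ IsClosedImmersion c.left ∧ AlgGrp.IsNormalHom (c ≫ i) ∧ IsMonHom r ∧ Surjective r.left ∧
      Flat r.left ∧ AlgGrp.IsKernel (c ≫ i) r ∧ IsProper R.hom ∧
      (∀ {T : Over (Spec (CommRingCat.of k))} (g : T ⟶ H) (n : T ⟶ C), lift g (n ≫ c) ≫ y₀ ≫ ψ = 1) ∧
      ∀ {T : Over (Spec (CommRingCat.of k))} (x : T ⟶ H₀),
        (∀ z : RP H, lift (toUnit T ≫ z) x ≫ y₀ ≫ ψ = 1) → ∃ n : T ⟶ C, n ≫ c = x := by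
  classical
  haveI : IsSeparated H.hom := GrpField.isSeparated_hom H
  haveI : IsLocallyNoetherian H.left := LocallyOfFiniteType.isLocallyNoetherian H.hom
  haveI : CompactSpace H.left := QuasiCompact.compactSpace_of_compactSpace H.hom
  haveI : IsNoetherian H.left := { }
  haveI : JacobsonSpace H.left := LocallyOfFiniteType.jacobsonSpace H.hom
  haveI : Smooth H₀.hom := by rw [← Over.w i]; infer_instance
  haveI : IsLocallyNoetherian H₀.left := LocallyOfFiniteType.isLocallyNoetherian H₀.hom
  haveI : QuasiCompact H₀.hom := by rw [← Over.w i]; infer_instance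
  haveI : IsSeparated H₀.hom := GrpField.isSeparated_hom H₀
  haveI : Mono i := by
    haveI : Mono ((Over.forget (Spec (CommRingCat.of k))).map i) := inferInstanceAs (Mono i.left)
    exact (Over.forget _).mono_of_mono_map this
  obtain ⟨hclosed, hrange⟩ := range_eq_component i
  haveI : Finite (irreducibleComponents H.left) :=
    TopologicalSpace.NoetherianSpace.finite_irreducibleComponents.to_subtype
  have hpick : ∀ C : irreducibleComponents H.left, ∃ z : RP H, SubGen.rpt z ∈ C.1 := fun C => by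
    obtain ⟨w, hw, hwc⟩ := nonempty_inter_closedPoints C.2.1.nonempty
      (isClosed_of_mem_irreducibleComponents C.1 C.2).isLocallyClosed
    obtain ⟨z, rfl⟩ := SubGen.exists_rpt hwc
    exact ⟨z, hw⟩
  choose z hz using hpick
  -- translates of the identity component cover
  have hcover : ∀ p : H.left, ∃ C : irreducibleComponents H.left, p ∈ Set.range (i ≫ trl (z C)).left := by
    intro p
    let C : irreducibleComponents H.left := ⟨_, irreducibleComponent_mem_irreducibleComponents p⟩
    refine ⟨C, ?_⟩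
    have hp : p ∈ connectedComponent (SubGen.rpt (z C)) :=
      C.2.1.isConnected.subset_connectedComponent (hz C) mem_irreducibleComponent
    have hc : (trl (z C)⁻¹).left (SubGen.rpt (z C)) = GrpComp.ept H := by
      rw [SubGen.map_rpt, comp_trl, toUnit_unique (toUnit _) (𝟙 _), Category.id_comp, inv_mul_cancel]
      exact GrpComp.one_apply _
    have h1 : (trl (z C)⁻¹).left p ∈ Set.range i.left := by
      rw [hrange, ← hc]
      exact ((trl (z C)⁻¹).left.continuous.image_connectedComponent_subset _) ⟨p, hp, rfl⟩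
    obtain ⟨w, hw⟩ := h1
    refine ⟨w, ?_⟩
    have h2 : trl (z C)⁻¹ ≫ trl (z C) = 𝟙 H := by rw [comp_trl, trl, GrpObj.comp_inv, mul_inv_cancel_left]
    calc (i ≫ trl (z C)).left w = (trl (z C)).left ((trl (z C)⁻¹).left p) := congrArg (trl (z C)).left hw
      _ = p := congrArg (fun q : H ⟶ H => q.left p) h2
  -- conjugates
  let cz : RP H → (H₀ ⟶ H₀) := fun w => lift (toUnit H₀ ≫ w) (𝟙 H₀) ≫ y₀
  have hcz : ∀ w, cz w ≫ i = i ≫ conjPt w := fun w => by
    rw [Category.assoc, hy₀, comp_conjPt]
    simp [MonObj.comp_mul, GrpObj.comp_inv]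
  haveI hczm : ∀ w, IsMonHom (cz w) := fun w => by
    haveI : IsMonHom (cz w ≫ i) := by rw [hcz]; infer_instance
    exact isMonHom_of_comp (cz w) i
  haveI := Fintype.ofFinite (irreducibleComponents H.left)
  obtain ⟨P, hP, Φ, hΦm, hPp, hΦ⟩ := exists_prod_hom Finset.univ (fun C => cz (z C) ≫ ψ)
    (fun C => haveI := hczm (z C); inferInstance)
  haveI := hΦm; haveI := hPp
  haveI : QuasiCompact Φ.left := by
    haveI : QuasiCompact (Φ.left ≫ P.hom) := by rw [Over.w]; infer_instance
    exact QuasiCompact.of_comp _ P.hom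
  obtain ⟨C', hC', c, hcm, hcc, -, hck⟩ := AdjRep.exists_kernel Φ
  haveI := hcm; haveI := hcc
  haveI : LocallyOfFiniteType C'.hom := by rw [← Over.w c]; infer_instance
  -- conjugates of the core are killed
  have hP1 : ∀ {T : Over (Spec (CommRingCat.of k))} (g : T ⟶ H) (n : T ⟶ C'), lift g (n ≫ c) ≫ y₀ ≫ ψ = 1 := by
    intro T g n
    apply Over.OverMorphism.ext
    haveI : ∀ C, IsOpenImmersion (i ≫ trl (z C)).left := fun C => by
      haveI := isIso_trl (z C)
      haveI : IsIso (trl (z C)).left := inferInstanceAs (IsIso ((Over.forget _).map (trl (z C))))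
      rw [Over.comp_left]; infer_instance
    haveI : ∀ C, IsOpenImmersion (pullback.fst g.left (i ≫ trl (z C)).left) := fun C => inferInstance
    let 𝒰 : T.left.OpenCover := Scheme.Cover.mkOfCovers (irreducibleComponents H.left)
      (fun C => pullback g.left (i ≫ trl (z C)).left) (fun C => pullback.fst g.left (i ≫ trl (z C)).left)
      (fun t => by
        obtain ⟨C, hC⟩ := hcover (g.left t)
        have : t ∈ Set.range (pullback.fst g.left (i ≫ trl (z C)).left) := by
          rw [Scheme.Pullback.range_fst]; exact hC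
        exact ⟨C, this⟩)
    refine 𝒰.hom_ext _ _ fun C => ?_
    let T' : Over (Spec (CommRingCat.of k)) := Over.mk (pullback.fst g.left (i ≫ trl (z C)).left ≫ T.hom)
    let a : T' ⟶ T := Over.homMk (pullback.fst g.left (i ≫ trl (z C)).left) rfl
    let h : T' ⟶ H₀ := Over.homMk (pullback.snd g.left (i ≫ trl (z C)).left) (by
      show _ ≫ H₀.hom = pullback.fst _ _ ≫ T.hom
      rw [← Over.w (i ≫ trl (z C)), ← pullback.condition_assoc, Over.w g])
    have hg : a ≫ g = (toUnit T' ≫ z C) * (h ≫ i) := by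
      rw [← comp_trl, Category.assoc]
      exact Over.OverMorphism.ext pullback.condition
    haveI := hczm (z C)
    have he : a ≫ lift g (n ≫ c) ≫ y₀ = (h * (a ≫ n ≫ c) * h⁻¹) ≫ cz (z C) := by
      rw [← cancel_mono i, Category.assoc, Category.assoc, hy₀, Category.assoc, hcz, ← Category.assoc _ i, comp_conjPt]
      simp only [MonObj.comp_mul, GrpObj.comp_inv, lift_fst, lift_snd_assoc, Category.assoc, MonObj.mul_comp,
        GrpObj.inv_comp, hg]
      group
    have hn : (a ≫ n ≫ c) ≫ cz (z C) ≫ ψ = 1 := (hΦ _).1 (by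
      rw [Category.assoc, Category.assoc, hck.w, comp_toUnit_assoc, comp_toUnit_assoc, ← Hom.one_def]) C
      (Finset.mem_univ (α := irreducibleComponents H.left) C)
    have hfin : a ≫ lift g (n ≫ c) ≫ y₀ ≫ ψ = a ≫ (1 : T ⟶ A) := by
      rw [← Category.assoc (lift g (n ≫ c)), ← Category.assoc a, he, Category.assoc, MonObj.mul_comp, MonObj.mul_comp,
        hn, GrpObj.inv_comp, _root_.mul_one, mul_inv_cancel, MonObj.comp_one]
    exact congrArg (fun φ => φ.left) hfin
  have hback : ∀ {T : Over (Spec (CommRingCat.of k))} (x : T ⟶ H₀),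
      (∀ w : RP H, lift (toUnit T ≫ w) x ≫ y₀ ≫ ψ = 1) → ∃ n : T ⟶ C', n ≫ c = x := by
    intro T x hx
    refine ⟨hck.lift x (toUnit T) ?_, hck.lift_fst _ _ _⟩
    rw [(hΦ x).2 fun C _ => ?_, Hom.one_def]
    rw [← hx (z C), show cz (z C) = lift (toUnit H₀ ≫ z C) (𝟙 H₀) ≫ y₀ from rfl, Category.assoc, ← Category.assoc x,
      comp_lift, comp_toUnit_assoc, Category.comp_id]
  -- normality
  haveI : IsClosedImmersion (c ≫ i).left := by
    haveI : IsClosedImmersion i.left := IsClosedImmersion.of_isPreimmersion i.left hclosed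
    rw [Over.comp_left]; infer_instance
  have hn : AlgGrp.IsNormalHom (c ≫ i) := by
    intro T g n
    obtain ⟨n', hn'⟩ := hback (lift g (n ≫ c) ≫ y₀) fun w => by
      refine Eq.trans ?_ (hP1 ((toUnit T ≫ w) * g) n)
      rw [← Category.assoc, ← Category.assoc]
      congr 1
      rw [← cancel_mono i, Category.assoc, Category.assoc, hy₀]
      simp [MonObj.comp_mul, GrpObj.comp_inv, MonObj.mul_comp, GrpObj.inv_comp, hy₀, _root_.mul_assoc]
    refine ⟨n', ?_⟩
    rw [reassoc_of% hn', hy₀]
    simp [MonObj.comp_mul, GrpObj.comp_inv]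
  -- the quotient
  haveI : Mono (c ≫ i) := GrpField.SchImg.mono_of_isClosedImmersion (c ≫ i)
  obtain ⟨R, hR, r, hrm, hrf, hrs, hrp, hrk, hsep, -, hsm⟩ := S3030.result k C' H (c ≫ i) hn
  haveI := hrm; haveI := hrf; haveI := hrs; haveI := hsep
  haveI : Smooth R.hom := hsm inferInstance
  haveI : QuasiCompact R.hom := by
    haveI : QuasiCompact (r.left ≫ R.hom) := by rw [Over.w r]; infer_instance
    exact ThickLib.quasiCompact_of_comp_surjective r.left R.hom
  obtain ⟨I, hI, iI, g₀, hiI, hg₀, hgI, hIc, hgd, hgq, hgs⟩ := GrpField.SchImg.exists_image Φ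
  haveI := hiI; haveI := hg₀; haveI := hIc; haveI := hgq; haveI := hgs
  haveI : IsProper I.hom := by rw [← Over.w iI]; infer_instance
  haveI : IsSchemeTheoreticallyDominant g₀.left := hgd
  haveI : Flat g₀.left := GrpField.flat_of_schDom g₀ g₀.left.ker_eq_bot
  haveI : Mono iI := GrpField.SchImg.mono_of_isClosedImmersion iI
  have hk₀ : AlgGrp.IsKernel c g₀ := by
    haveI : Mono c := GrpField.SchImg.mono_of_isClosedImmersion c
    refine IsPullback.mk' ?_ (fun T φ φ' e₁ _ => (cancel_mono c).1 e₁) fun T a b e => ?_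
    · rw [← cancel_mono iI, Category.assoc, hgI, hck.w, Category.assoc, IsMonHom.one_hom]
    · refine ⟨hck.lift a (toUnit T) ?_, hck.lift_fst _ _ _, toUnit_unique _ _⟩
      rw [← hgI, ← Category.assoc, e, Category.assoc, IsMonHom.one_hom, toUnit_unique b (toUnit T)]
  obtain ⟨d, hd⟩ := AdjRep.exists_desc c g₀ hk₀ (i ≫ r) (by
    rw [← Category.assoc, hrk.w, ← Hom.one_def])
  haveI : UniversallyClosed R.hom := by
    refine universallyClosed_of_cover R.hom (fun _ : irreducibleComponents H.left => I.left)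
      (fun C => (d ≫ trl (z C ≫ r)).left) (fun C => ?_) fun p => ?_
    · rw [Over.w]; infer_instance
    · obtain ⟨q, rfl⟩ := r.left.surjective p
      obtain ⟨C, w, rfl⟩ := hcover q
      refine ⟨C, g₀.left w, ?_⟩
      have e : g₀ ≫ d ≫ trl (z C ≫ r) = (i ≫ trl (z C)) ≫ r := by
        rw [reassoc_of% hd, Category.assoc]
        congr 1
        rw [comp_trl, trl, MonObj.mul_comp, Category.id_comp, Category.assoc]
      exact congrArg (fun φ => φ.left w) e
  exact ⟨C', hC', c, R, hR, r, hcm, hcc, hn, hrm, hrs, hrf, hrk, { }, hP1, hback⟩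

/-- The structure morphism to the base seen through a field extension. -/
abbrev restr (Ω : Type u) [Field Ω] [Algebra k Ω] (T : Over (Spec (CommRingCat.of Ω))) :
    Over (Spec (CommRingCat.of k)) :=
  Over.mk (T.hom ≫ specMap k Ω)

set_option maxHeartbeats 1000000 in
/-- A homomorphism to a proper group whose kernel lies in the kernel of a given one on the identity component. -/
theorem exists_extend_kernel {G G₀ A : Over (Spec (CommRingCat.of k))} [GrpObj G] [GrpObj G₀] [GrpObj A]
    [Smooth G.hom] [QuasiCompact G.hom] (i₀ : G₀ ⟶ G) [IsMonHom i₀] [IsOpenImmersion i₀.left]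
    [ConnectedSpace G₀.left] [IsProper A.hom] (α : G₀ ⟶ A) [IsMonHom α] :
    ∃ (R : Over (Spec (CommRingCat.of k))) (_ : GrpObj R) (r : G ⟶ R), IsMonHom r ∧ IsProper R.hom ∧
      ∀ {T : Over (Spec (CommRingCat.of k))} (x : T ⟶ G), x ≫ r = 1 → ∃ y : T ⟶ G₀, y ≫ i₀ = x ∧ y ≫ α = 1 := by
  let Ω := AlgebraicClosure k
  let F := Over.pullback (specMap k Ω)
  haveI : Flat (specMap k Ω) := AlgSpLib.flat_of_field _
  haveI : Smooth G₀.hom := by rw [← Over.w i₀]; infer_instance
  haveI : IsLocallyNoetherian G.left := LocallyOfFiniteType.isLocallyNoetherian G.hom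
  haveI : QuasiCompact G₀.hom := by rw [← Over.w i₀]; infer_instance
  haveI : IsSeparated G₀.hom := GrpField.isSeparated_hom G₀
  haveI : IsSeparated G.hom := GrpField.isSeparated_hom G
  haveI : IsOpenImmersion (F.map i₀).left := by
    have hsq : IsPullback (F.map i₀).left (pullback.fst G₀.hom (specMap k Ω)) (pullback.fst G.hom (specMap k Ω))
        i₀.left := by
      refine IsPullback.of_right ?_ (bcMap_fst Ω i₀) (IsPullback.of_hasPullback G.hom (specMap k Ω)).flip
      rw [show (F.map i₀).left ≫ pullback.snd G.hom (specMap k Ω) = pullback.snd G₀.hom (specMap k Ω) from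
        pullback.lift_snd _ _ _, Over.w i₀]
      exact (IsPullback.of_hasPullback G₀.hom (specMap k Ω)).flip
    exact MorphismProperty.of_isPullback (P := @IsOpenImmersion) hsq.flip ‹IsOpenImmersion i₀.left›
  haveI : ConnectedSpace (F.obj G₀).left := connectedSpace_bcK Ω (X := G₀)
  haveI : IsProper (F.obj A).hom := inferInstanceAs (IsProper (pullback.snd A.hom (specMap k Ω)))
  obtain ⟨φ, hφ⟩ := exists_conj_component i₀
  obtain ⟨y₀, hy₀⟩ := exists_conj_component (F.map i₀)
  obtain ⟨C, hC, c, R', hR', r', hcm, hcc, hn, hrm, hrs, hrf, hrk, hRp, hP, hback⟩ :=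
    exists_core (F.map i₀) (F.map α) y₀ hy₀
  haveI := hcm; haveI := hcc; haveI := hrm; haveI := hrs; haveI := hrf; haveI := hRp
  haveI : Mono (F.map i₀) := by
    haveI : Mono ((Over.forget (Spec (CommRingCat.of Ω))).map (F.map i₀)) := inferInstanceAs (Mono (F.map i₀).left)
    exact (Over.forget _).mono_of_mono_map this
  -- compatibility of the two conjugations
  have hconj : ∀ {T : Over (Spec (CommRingCat.of Ω))} (t : T ⟶ F.obj (G ⊗ G₀)),
      t ≫ F.map φ = lift (t ≫ F.map (fst G G₀)) (t ≫ F.map (snd G G₀)) ≫ y₀ := by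
    intro T t
    rw [← cancel_mono (F.map i₀), Category.assoc, Category.assoc, ← F.map_comp, hφ, hy₀, Functor.map_mul,
      Functor.map_mul, bcMap_inv, F.map_comp]
    simp [MonObj.comp_mul, GrpObj.comp_inv]
    rfl
  -- the image in `G₀`
  let Ck := restr (k := k) Ω C
  let v : Ck ⟶ G₀ := Over.homMk (c.left ≫ pullback.fst G₀.hom (specMap k Ω)) (by
    show (c.left ≫ pullback.fst G₀.hom (specMap k Ω)) ≫ G₀.hom = C.hom ≫ specMap k Ω
    rw [← Over.w c, Category.assoc, pullback.condition]
    exact (Category.assoc _ _ _).symm)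
  haveI : QuasiCompact v.left := inferInstanceAs (QuasiCompact (c.left ≫ pullback.fst G₀.hom (specMap k Ω)))
  let J := v.left.ker
  let Z : Over (Spec (CommRingCat.of k)) := Over.mk (J.subschemeι ≫ G₀.hom)
  let zZ : Z ⟶ G₀ := Over.homMk J.subschemeι rfl
  haveI : IsClosedImmersion zZ.left := inferInstanceAs (IsClosedImmersion J.subschemeι)
  let w : Ck ⟶ Z := Over.homMk v.left.toImage (by
    show v.left.toImage ≫ v.left.imageι ≫ G₀.hom = Ck.hom
    rw [Scheme.Hom.toImage_imageι_assoc, Over.w])
  have hw : w ≫ zZ = v := Over.OverMorphism.ext v.left.toImage_imageι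
  haveI : QuasiCompact v.left.toImage := by
    haveI : QuasiCompact (v.left.toImage ≫ v.left.imageι) := by rw [Scheme.Hom.toImage_imageι]; infer_instance
    exact QuasiCompact.of_comp _ v.left.imageι
  haveI : IsSchemeTheoreticallyDominant w.left := GrpField.SchImg.schDom_toImage v.left
  haveI : QuasiCompact w.left := inferInstanceAs (QuasiCompact v.left.toImage)
  -- conjugates of the image are killed
  have hker : (G ◁ zZ) ≫ φ ≫ α = 1 := by
    haveI : IsSchemeTheoreticallyDominant (G ◁ w).left := by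
      have h2 := FMTool.isPullback_whiskerLeft (A := G) w
      haveI : Flat (snd G Z).left := by
        haveI : Flat G.hom := AlgSpLib.flat_of_field G.hom
        exact inferInstanceAs (Flat (pullback.snd G.hom Z.hom))
      exact IsSchemeTheoreticallyDominant.of_isPullback h2.flip
    have hGv : (G ◁ v) ≫ φ ≫ α = 1 := by
      let T : Over (Spec (CommRingCat.of Ω)) := Over.mk ((snd G Ck).left ≫ C.hom)
      let n : T ⟶ C := Over.homMk (snd G Ck).left rfl
      let t : T ⟶ F.obj (G ⊗ G₀) := Over.homMk (pullback.lift (G ◁ v).left ((snd G Ck).left ≫ C.hom) (by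
        rw [Over.w (G ◁ v), Category.assoc]
        exact (Over.w (snd G Ck)).symm)) (pullback.lift_snd _ _ _)
      have e : t ≫ F.map (snd G G₀) = n ≫ c := by
        apply Over.OverMorphism.ext
        apply pullback.hom_ext
        · show (t.left ≫ (F.map (snd G G₀)).left) ≫ _ = ((snd G Ck).left ≫ c.left) ≫ _
          rw [Category.assoc, Category.assoc, bcMap_fst, ← Category.assoc]
          refine (congrArg (· ≫ (snd G G₀).left) (pullback.lift_fst _ _ _)).trans ?_
          exact congrArg (fun x => x.left) (whiskerLeft_snd G v)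
        · exact (Over.w (t ≫ F.map (snd G G₀))).trans (Over.w (n ≫ c)).symm
      have h1 : t ≫ F.map (φ ≫ α) = t ≫ F.map 1 := by
        rw [bcMap_one, MonObj.comp_one, F.map_comp, ← Category.assoc, hconj, Category.assoc, e]
        exact hP _ n
      apply Over.OverMorphism.ext
      have h2 := congrArg (fun x => x.left ≫ pullback.fst A.hom (specMap k Ω)) h1
      have h4 : ∀ x : G ⊗ G₀ ⟶ A, (F.map x).left ≫ pullback.fst A.hom (specMap k Ω) =
          pullback.fst (G ⊗ G₀).hom (specMap k Ω) ≫ x.left := bcMap_fst Ω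
      simp only [Over.comp_left, Category.assoc] at h2
      rw [h4, h4] at h2
      have h3 : t.left ≫ pullback.fst (G ⊗ G₀).hom (specMap k Ω) = (G ◁ v).left := pullback.lift_fst _ _ _
      rw [reassoc_of% h3, reassoc_of% h3] at h2
      exact h2.trans (congrArg (fun x : G ⊗ Ck ⟶ A => x.left) (MonObj.comp_one (G ◁ v)))
    have h1 : (G ◁ w) ≫ (G ◁ zZ) ≫ φ ≫ α = 1 := by
      rw [← Category.assoc, ← MonoidalCategory.whiskerLeft_comp, hw, hGv]
    haveI := GrpField.isClosedImmersion_eta A
    obtain ⟨u, hu⟩ := exists_factor_of_schDom η[A].left ((G ◁ zZ) ≫ φ ≫ α).left (G ◁ w).left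
      (toUnit (G ⊗ Ck)).left (by
        rw [← Over.comp_left, ← Over.comp_left, h1, Hom.one_def])
    apply Over.OverMorphism.ext
    rw [← hu, Hom.one_def, Over.comp_left]
    congr 1
    have hid : η[A].left ≫ A.hom = 𝟙 _ := Over.w η[A]
    have hU := congrArg (· ≫ A.hom) hu
    simp only [Category.assoc, hid, Category.comp_id, Over.w] at hU
    exact hU.trans ((Over.w (toUnit (G ⊗ Z))).symm.trans (Category.comp_id _))
  -- the image descends the core
  obtain ⟨n₀, hn₀⟩ := hback (F.map zZ) fun z => by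
    let t := lift (toUnit (F.obj Z) ≫ z) (𝟙 _) ≫ Functor.LaxMonoidal.μ F G Z
    have e1 : t ≫ F.map (fst G Z) = toUnit (F.obj Z) ≫ z := by
      simp [t, Functor.Monoidal.μ_fst]
    have e2 : t ≫ F.map (snd G Z) = 𝟙 _ := by
      simp [t, Functor.Monoidal.μ_snd]
    have := congrArg (fun x => t ≫ F.map x) hker
    rw [bcMap_one, MonObj.comp_one, F.map_comp, F.map_comp, ← Category.assoc (F.map (G ◁ zZ)), ← Category.assoc t,
      ← Category.assoc t, hconj, Category.assoc t, Category.assoc t, ← F.map_comp, ← F.map_comp, whiskerLeft_fst,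
      whiskerLeft_snd, F.map_comp, e1, reassoc_of% e2, Category.assoc] at this
    exact this
  have hJ : c.left.ker ≤ (c.left.ker.map (pullback.fst G₀.hom (specMap k Ω))).comap
      (pullback.fst G₀.hom (specMap k Ω)) := by
    rw [Scheme.IdealSheafData.map_ker]
    show c.left.ker ≤ J.comap _
    have hk : (F.map zZ).left.ker = J.comap (pullback.fst G₀.hom (specMap k Ω)) := by
      have hsq : IsPullback (F.map zZ).left (pullback.fst Z.hom (specMap k Ω)) (pullback.fst G₀.hom (specMap k Ω))
          zZ.left := by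
        refine IsPullback.of_right ?_ (bcMap_fst Ω zZ) (IsPullback.of_hasPullback G₀.hom (specMap k Ω)).flip
        rw [show (F.map zZ).left ≫ pullback.snd G₀.hom (specMap k Ω) = pullback.snd Z.hom (specMap k Ω) from
          pullback.lift_snd _ _ _, Over.w zZ]
        exact (IsPullback.of_hasPullback Z.hom (specMap k Ω)).flip
      conv_rhs => rw [← J.ker_subschemeι, ← Scheme.IdealSheafData.ker_fst_of_isClosedImmersion]
      rw [← hsq.isoPullback_hom_fst, Scheme.Hom.ker_comp_of_isIso]
      rfl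
    rw [← hk, ← hn₀, Over.comp_left]
    exact Scheme.Hom.le_ker_comp _ _
  obtain ⟨C₀, hC₀, c₀, e, hc₀m, hem, hc₀c, he⟩ := exists_desc_subgroup Ω c hJ
  haveI := hc₀m; haveI := hc₀c
  have he' : F.map c₀ = e.inv ≫ c := by rw [Iso.eq_inv_comp]; exact he
  haveI : IsClosedImmersion (c₀ ≫ i₀).left := by
    haveI : IsClosedImmersion i₀.left := IsClosedImmersion.of_isPreimmersion i₀.left (range_eq_component i₀).1
    rw [Over.comp_left]; infer_instance
  haveI : Mono (c₀ ≫ i₀) := GrpField.SchImg.mono_of_isClosedImmersion _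
  haveI : LocallyOfFiniteType C₀.hom := by rw [← Over.w c₀]; infer_instance
  have hn₀' : AlgGrp.IsNormalHom (c₀ ≫ i₀) := by
    obtain ⟨n', hn'⟩ := hn (F.obj (G ⊗ C₀)) (F.map (fst G C₀)) (F.map (snd G C₀) ≫ e.inv)
    obtain ⟨d, hd⟩ := exists_factor_of_bc Ω (c₀ ≫ i₀) (fst G C₀ * (snd G C₀ ≫ c₀ ≫ i₀) * (fst G C₀)⁻¹)
      (n' ≫ e.hom) (by
        rw [Category.assoc, F.map_comp c₀, reassoc_of% he, ← hn', Functor.map_mul, Functor.map_mul, bcMap_inv,
          F.map_comp, F.map_comp, he']
        simp only [Category.assoc]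
        rfl)
    intro T g x
    refine ⟨lift g x ≫ d, ?_⟩
    rw [Category.assoc, hd, MonObj.comp_mul, MonObj.comp_mul, GrpObj.comp_inv, lift_fst, lift_snd_assoc]
  haveI : Flat G.hom := AlgSpLib.flat_of_field G.hom
  haveI : Flat C₀.hom := AlgSpLib.flat_of_field C₀.hom
  obtain ⟨R, hR, r, hRm, hRf, hRs, hRlp, hRk, hRsep, -, hRsm⟩ := S3030.result k C₀ G (c₀ ≫ i₀) hn₀'
  haveI := hRm; haveI := hRf; haveI := hRs; haveI := hRsep
  haveI : Smooth R.hom := hRsm inferInstance
  haveI : QuasiCompact R.hom := by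
    haveI : QuasiCompact (r.left ≫ R.hom) := by rw [Over.w r]; infer_instance
    exact ThickLib.quasiCompact_of_comp_surjective r.left R.hom
  -- properness
  haveI : IsSeparated (F.obj G).hom := GrpField.isSeparated_hom _
  haveI : QuasiCompact r'.left := by
    haveI : QuasiCompact (r'.left ≫ R'.hom) := by rw [Over.w]; infer_instance
    exact QuasiCompact.of_comp _ R'.hom
  obtain ⟨d, hd⟩ := AdjRep.exists_desc (c ≫ F.map i₀) r' hrk (F.map r) (by
    rw [← he, Category.assoc, Category.assoc, ← F.map_comp, ← F.map_comp, ← Category.assoc c₀, hRk.w,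
      show toUnit C₀ ≫ η[R] = (1 : C₀ ⟶ R) from Hom.one_def.symm, bcMap_one, MonObj.comp_one])
  haveI : Surjective (F.map r).left := ⟨fun y => by
    have := range_bcMap Ω r
    rw [Set.range_eq_univ.2 r.left.surjective, Set.preimage_univ] at this
    exact (Set.range_eq_univ.1 this) y⟩
  haveI : Surjective d.left := by
    haveI : Surjective (r'.left ≫ d.left) := by rw [← Over.comp_left, hd]; infer_instance
    exact Surjective.of_comp r'.left d.left
  haveI : UniversallyClosed (F.obj R).hom := by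
    haveI : UniversallyClosed (d.left ≫ (F.obj R).hom) := by rw [Over.w]; infer_instance
    exact UniversallyClosed.of_comp_surjective d.left (F.obj R).hom
  haveI : Surjective (specMap k Ω) :=
    ⟨fun _ => ⟨IsLocalRing.closedPoint Ω, Subsingleton.elim (α := PrimeSpectrum k) _ _⟩⟩
  haveI : UniversallyClosed R.hom := MorphismProperty.of_pullback_snd_of_descendsAlong (P := @UniversallyClosed)
    (Q := @Surjective ⊓ @Flat ⊓ @QuasiCompact) (g := specMap k Ω) ⟨⟨inferInstance, inferInstance⟩, inferInstance⟩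
    (inferInstanceAs (UniversallyClosed (F.obj R).hom))
  refine ⟨R, hR, r, hRm, { }, fun {T} x hx => ?_⟩
  let y := hRk.lift x (toUnit T) (by rw [hx, Hom.one_def])
  refine ⟨y ≫ c₀, by rw [Category.assoc]; exact hRk.lift_fst _ _ _, ?_⟩
  have hc₀α : c₀ ≫ α = 1 := by
    apply bcMap_injective Ω
    rw [bcMap_one, F.map_comp, he', Category.assoc]
    have h := hP (1 : C ⟶ F.obj G) (𝟙 C)
    have hlift : lift (1 : C ⟶ F.obj G) (𝟙 C ≫ c) ≫ y₀ = c := by
      rw [← cancel_mono (F.map i₀), Category.assoc, hy₀]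
      simp [MonObj.comp_mul, GrpObj.comp_inv]
    rw [← Category.assoc, hlift] at h
    rw [h, MonObj.comp_one]
  rw [Category.assoc, hc₀α, MonObj.comp_one]

end Groth.Agent.Chev
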