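import Groth.Agent.Chev.CentCover
import Groth.Agent.Chev.Normalise
import Groth.Agent.Chev.TorusTheory
import Groth.Agent.S3006
import Groth.Agent.S5249
import Groth.Agent.MTBridge.MonoTori

/-!
# The Weyl group of a maximal torus is finite
-/

set_option autoImplicit false
set_option backward.isDefEq.respectTransparency false

universe u

open CategoryTheory CategoryTheory.Limits MonoidalCategory CartesianMonoidalCategory MonObj GrpObj AlgebraicGeometry
open Groth.Agent.SubGen (rpt)

noncomputable section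

namespace Groth.Agent.Chev.Borel

open BorelFixed

variable {k : Type u} [Field k] [IsAlgClosed k]

/-- An open subgroup of a quasi-compact group of finite type has finitely many cosets of rational points. -/
theorem exists_finite_reps {N Z : Over (Spec (CommRingCat.of k))} [GrpObj N] [GrpObj Z] [LocallyOfFiniteType N.hom]
    [QuasiCompact N.hom] [LocallyOfFiniteType Z.hom] (f : Z ⟶ N) [IsMonHom f] [IsOpenImmersion f.left] :
    ∃ s : Finset (RP N), ∀ n : RP N, ∃ m ∈ s, ∃ z : RP Z, n = m * (z ≫ f) := by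
  classical
  haveI : CompactSpace N.left := QuasiCompact.compactSpace_of_compactSpace N.hom
  haveI : JacobsonSpace N.left := LocallyOfFiniteType.jacobsonSpace N.hom
  let U : RP N → Set N.left := fun n => (trl n⁻¹).left ⁻¹' Set.range f.left
  have hUo : ∀ n, IsOpen (U n) := fun n => f.left.isOpenEmbedding.isOpen_range.preimage (trl n⁻¹).left.continuous
  have hmem : ∀ n : RP N, rpt n ∈ U n := fun n => by
    refine ⟨rpt (1 : RP Z), ?_⟩
    have h1 : (1 : RP Z) ≫ f = 1 → f.left (rpt (1 : RP Z)) = (trl n⁻¹).left (rpt n) := fun h => by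
      rw [SubGen.map_rpt, SubGen.map_rpt, h, comp_trl, toUnit_unique (toUnit _) (𝟙 _), Category.id_comp,
        inv_mul_cancel]
    exact h1 (MonObj.one_comp f)
  have hcover : (⋃ n, U n) = Set.univ := by
    by_contra hne
    obtain ⟨y, hy, hyc⟩ := nonempty_inter_closedPoints (Z := (⋃ n, U n)ᶜ) (Set.nonempty_compl.2 hne)
      (isOpen_iUnion hUo).isClosed_compl.isLocallyClosed
    obtain ⟨q, hq⟩ := SubGen.exists_rpt hyc
    exact hy (Set.mem_iUnion.2 ⟨q, hq ▸ hmem q⟩)
  obtain ⟨s, hs⟩ := isCompact_univ.elim_finite_subcover U hUo hcover.ge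
  refine ⟨s, fun n => ?_⟩
  obtain ⟨m, hm, hn⟩ := Set.mem_iUnion₂.1 (hs (Set.mem_univ (rpt n)))
  refine ⟨m, hm, ?_⟩
  have h2 : rpt (n ≫ trl m⁻¹) ∈ Set.range f.left := hn
  obtain ⟨z, hz⟩ := exists_rp_of_mem_range f _ h2
  refine ⟨z, ?_⟩
  rw [hz, comp_trl, toUnit_unique (toUnit _) (𝟙 _), Category.id_comp, mul_inv_cancel_left]

/-- Conjugation by a rational point restricts to a closed subscheme if it does so on rational points. -/
theorem exists_conj_factor {G H : Over (Spec (CommRingCat.of k))} [GrpObj G] (i : H ⟶ G) [IsClosedImmersion i.left]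
    [IsReduced H.left] [LocallyOfFiniteType H.hom] (g : RP G)
    (h : ∀ p : RP H, ∃ p' : RP H, g * (p ≫ i) * g⁻¹ = p' ≫ i) : ∃ τ : H ⟶ H, τ ≫ i = AGF.conjBy g i := by
  refine exists_lift_rp _ i fun p => ?_
  obtain ⟨p', hp'⟩ := h p
  rw [comp_conjBy, toUnit_unique (toUnit _) (𝟙 _), Category.id_comp, hp']
  exact ⟨rpt p', SubGen.map_rpt i p'⟩

/-- A rational point normalizing a closed reduced subgroup on rational points lies in the normalizer. -/
theorem exists_normalizer_pt {G H N : Over (Spec (CommRingCat.of k))} [GrpObj G] [GrpObj H] [GrpObj N] (i : H ⟶ G)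
    [IsClosedImmersion i.left] [IsReduced H.left] [LocallyOfFiniteType H.hom] (n : N ⟶ G)
    (hn : Red.IsNormalizerOf i n) (g : RP G)
    (h : ∀ p : RP H, (∃ p' : RP H, g * (p ≫ i) * g⁻¹ = p' ≫ i) ∧ (∃ p' : RP H, g⁻¹ * (p ≫ i) * g = p' ≫ i)) :
    ∃ q : RP N, q ≫ n = g := by
  obtain ⟨τ, hτ⟩ := exists_conj_factor i g fun p => (h p).1
  obtain ⟨σ, hσ⟩ := exists_conj_factor i g⁻¹ fun p => by
    simpa only [_root_.inv_inv] using (h p).2
  refine (hn.2.2 _ g).2 fun X' x u => ?_
  have hx : x ≫ g = toUnit X' ≫ g := by rw [toUnit_unique x (toUnit X')]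
  refine ⟨⟨u ≫ τ, ?_⟩, ⟨u ≫ σ, ?_⟩⟩
  · rw [hx, Category.assoc, hτ, comp_conjBy]
  · rw [hx, Category.assoc, hσ, comp_conjBy, GrpObj.comp_inv, _root_.inv_inv]

/-- There are finitely many points of the normalizer of a torus up to points of its centralizer. -/
theorem exists_finite_weyl {G T : Over (Spec (CommRingCat.of k))} [GrpObj G] [GrpObj T] [IsAffine G.left]
    [Smooth G.hom] (iT : T ⟶ G) [IsMonHom iT] [Mono iT] (hT : Red.IsTorus T) :
    ∃ (C : Over (Spec (CommRingCat.of k))) (_ : GrpObj C) (c : C ⟶ G), Red.IsCentralizerOf iT c ∧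
      ∃ s : Finset (RP G), ∀ g : RP G,
        (∀ p : RP T, (∃ p' : RP T, g * (p ≫ iT) * g⁻¹ = p' ≫ iT) ∧
          (∃ p' : RP T, g⁻¹ * (p ≫ iT) * g = p' ≫ iT)) →
        ∃ m ∈ s, ∃ z : RP C, g = m * (z ≫ c) := by
  classical
  haveI := isAffine_of_isTorus hT
  haveI := locallyOfFiniteType_of_isTorus hT
  haveI := smooth_of_isTorus hT
  haveI : IsReduced T.left := SmoothRed.isReduced_of_smooth_scheme T.hom
  haveI : IsClosedImmersion iT.left := Groth.Agent.S5379.result k T G iT
  haveI : IsSeparated G.hom := inferInstance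
  obtain ⟨⟨C, hC, c, hc, hcc, hcs⟩, N, hN, n, hn, hnc, hns⟩ := Groth.Agent.S3006.result _ G T iT inferInstance hT
  haveI := hcc; haveI := hnc; haveI := hn.1
  haveI : IsAffineHom G.hom := inferInstance
  obtain ⟨f, hf, hfo, -⟩ := Groth.Agent.S5249.result T G C N (MTBridge.isMultTypeFT_of_isTorus T hT) inferInstance
    inferInstance iT c n hc hn
  haveI := hfo; haveI := hc.1; haveI := hn.2.1
  haveI : IsMonHom f := MTSplit.isMonHom_of_comp_mono f n c hf
  haveI : LocallyOfFiniteType N.hom := by rw [← Over.w n]; infer_instance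
  haveI : QuasiCompact N.hom := by rw [← Over.w n]; infer_instance
  obtain ⟨s, hs⟩ := exists_finite_reps f
  refine ⟨C, hC, c, hc, s.image (fun m => m ≫ n), fun g hg => ?_⟩
  obtain ⟨q, hq⟩ := exists_normalizer_pt iT n hn g hg
  obtain ⟨m, hm, z, hz⟩ := hs q
  refine ⟨m ≫ n, Finset.mem_image_of_mem _ hm, z, ?_⟩
  rw [← hq, hz, MonObj.mul_comp, Category.assoc, hf]

end Groth.Agent.Chev.Borel
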