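import Groth.Agent.Chev.CentNilp
import Groth.Agent.Chev.CentCover
import Groth.Agent.S3279
import Groth.Agent.GrpAct.OrbitDim
import Groth.Agent.GrpAct.Stabilizer
import Groth.Agent.MTBridge.MonoTori

/-!
# Centralizers of tori meet Borel subgroups in Borel subgroups
-/

set_option autoImplicit false
set_option backward.isDefEq.respectTransparency false

universe u

open CategoryTheory CategoryTheory.Limits MonoidalCategory CartesianMonoidalCategory MonObj GrpObj AlgebraicGeometry
open Groth.Agent.SubGen (rpt exists_rpt map_rpt rpt_injective rpt_mem_closedPoints)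

noncomputable section

namespace Groth.Agent.Chev.Borel

open BorelFixed

variable {k : Type u} [Field k] [IsAlgClosed k]

omit [IsAlgClosed k] in
/-- Closed subgroups of solvable groups are solvable. -/
theorem isSolvableGrp_of_mono {D B : Over (Spec (CommRingCat.of k))} [GrpObj D] [GrpObj B] (f : D ⟶ B) [IsMonHom f]
    [Mono f] (h : Red.IsSolvableGrp B) : Red.IsSolvableGrp D := by
  obtain ⟨n, hn⟩ := h
  refine ⟨n, fun X => ?_⟩
  let φ : (X ⟶ D) →* (X ⟶ B) := MonoidHom.mk' (fun u => u ≫ f) fun u v => MonObj.mul_comp u v f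
  have hφ : Function.Injective φ := fun u v e => (cancel_mono f).1 e
  refine (Subgroup.map_eq_bot_iff_of_injective _ hφ).1 (le_bot_iff.1 ?_)
  rw [← hn X]
  exact map_derivedSeries_le_derivedSeries φ n

variable {G : Over (Spec (CommRingCat.of k))} [GrpObj G] [IsAffine G.left] [Smooth G.hom] [ConnectedSpace G.left]
  {S B C : Over (Spec (CommRingCat.of k))} [GrpObj S] [GrpObj B] [GrpObj C]

/-- In the closure of `Z(S) · B` the rational points lie in `Z(S)(k) · B(k)`. -/
theorem mem_mul_of_mem_closure (iS : S ⟶ G) [IsMonHom iS] [Mono iS] (hS : Red.IsTorus S) (iB : B ⟶ G)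
    (hB : Red.IsBorelOver k iB) (t : S ⟶ B) (ht : t ≫ iB = iS) (c : C ⟶ G) (hc : Red.IsCentralizerOf iS c)
    (y : RP G) (hy : rpt y ∈ closure (Set.range (fun p : RP C × RP B => rpt ((p.1 ≫ c) * (p.2 ≫ iB))))) :
    ∃ (z : RP C) (b : RP B), y = (z ≫ c) * (b ≫ iB) := by
  obtain ⟨hBm, hBc, hBs, hBconn, hBsol, -⟩ := id hB
  haveI := hBm; haveI := hBc; haveI := hBs; haveI := hBconn; haveI := hc.1
  haveI : IsAffine B.left := isAffine_of_isAffineHom iB.left
  haveI := isSolvable_rp hBsol
  haveI : Mono iB := GrpField.SchImg.mono_of_isClosedImmersion iB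
  haveI := isAffine_of_isTorus hS
  haveI := smooth_of_isTorus hS
  haveI : IsReduced S.left := SmoothRed.isReduced_of_smooth_scheme S.hom
  haveI : IsMonHom t := MTSplit.isMonHom_of_comp_mono t iB iS ht
  haveI : Mono (t ≫ iB) := by rw [ht]; infer_instance
  haveI : Mono t := mono_of_mono t iB
  obtain ⟨T₁, hT₁, i₁, π₁, hi₁, hπ₁, hi₁c, hret, hT₁t, huniv, -⟩ := exists_section_torus B
  haveI := hi₁; haveI := hπ₁
  haveI := isAffine_of_isTorus hT₁t
  haveI := locallyOfFiniteType_of_isTorus hT₁t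
  haveI : IsSeparated T₁.hom := inferInstance
  -- conjugation of a point of the torus, as a function of the conjugating point
  have hkey : ∀ s : RP S, ∃ b : RP B, b ≫ iB = y⁻¹ * (s ≫ iS) * y ∧ b ≫ π₁ = (s ≫ t) ≫ π₁ := by
    intro s
    let κ : G ⟶ G := (𝟙 G)⁻¹ * (toUnit G ≫ s ≫ iS) * 𝟙 G
    have hκ : ∀ g : RP G, g ≫ κ = g⁻¹ * (s ≫ iS) * g := fun g => by
      simp only [κ, MonObj.comp_mul, GrpObj.comp_inv, rp_const, Category.comp_id]
    let K : Over (Spec (CommRingCat.of k)) := Over.mk (pullback.fst κ.left iB.left ≫ G.hom)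
    let kap : K ⟶ G := Over.homMk (pullback.fst κ.left iB.left)
    let q : K ⟶ B := Over.homMk (pullback.snd κ.left iB.left) (by
      show _ = pullback.fst κ.left iB.left ≫ G.hom
      rw [← Over.w iB, ← Category.assoc, ← pullback.condition, Category.assoc, Over.w κ])
    haveI : IsClosedImmersion kap.left := inferInstanceAs (IsClosedImmersion (pullback.fst κ.left iB.left))
    have hq : q ≫ iB = kap ≫ κ := Over.OverMorphism.ext pullback.condition.symm
    haveI : LocallyOfFiniteType K.hom := inferInstanceAs (LocallyOfFiniteType (pullback.fst κ.left iB.left ≫ G.hom))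
    let E := Limits.equalizer (q ≫ π₁) (toUnit K ≫ (s ≫ t) ≫ π₁)
    let ei : E ⟶ K := Limits.equalizer.ι _ _
    haveI : IsClosedImmersion ei.left := inferInstance
    haveI : IsClosedImmersion (ei ≫ kap).left := inferInstanceAs (IsClosedImmersion (ei.left ≫ kap.left))
    have hsub : Set.range (fun p : RP C × RP B => rpt ((p.1 ≫ c) * (p.2 ≫ iB))) ⊆ Set.range (ei ≫ kap).left := by
      rintro _ ⟨⟨z, b⟩, rfl⟩
      let g : RP G := (z ≫ c) * (b ≫ iB)
      have hgκ : g ≫ κ = (b⁻¹ * (s ≫ t) * b) ≫ iB := by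
        rw [hκ]
        simp only [g, MonObj.mul_comp, GrpObj.inv_comp, Category.assoc, ht, _root_.mul_inv_rev]
        have h := (hc.2.2 _ (z ≫ c)).1 ⟨z, rfl⟩ _ (𝟙 _) s
        rw [Category.id_comp] at h
        calc (b ≫ iB)⁻¹ * (z ≫ c)⁻¹ * (s ≫ iS) * ((z ≫ c) * (b ≫ iB))
            = (b ≫ iB)⁻¹ * ((z ≫ c)⁻¹ * ((s ≫ iS) * (z ≫ c))) * (b ≫ iB) := by simp only [_root_.mul_assoc]
          _ = _ := by rw [← h, inv_mul_cancel_left]
      have hl : g.left ≫ κ.left = (b⁻¹ * (s ≫ t) * b).left ≫ iB.left := congrArg CommaMorphism.left hgκ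
      let w : RP K := Over.homMk (pullback.lift g.left (b⁻¹ * (s ≫ t) * b).left hl)
        ((pullback.lift_fst_assoc _ _ _ _).trans (Over.w g))
      have hw1 : w ≫ kap = g := Over.OverMorphism.ext (pullback.lift_fst _ _ _)
      have hw2 : w ≫ q = b⁻¹ * (s ≫ t) * b := Over.OverMorphism.ext (pullback.lift_snd _ _ _)
      have hwe : w ≫ q ≫ π₁ = w ≫ toUnit K ≫ (s ≫ t) ≫ π₁ := by
        rw [← Category.assoc, hw2, rp_const, MonObj.mul_comp, MonObj.mul_comp, GrpObj.inv_comp,
          rp_torus_comm hT₁t _ ((s ≫ t) ≫ π₁), inv_mul_cancel_right]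
      refine ⟨rpt (Limits.equalizer.lift w hwe), ?_⟩
      rw [map_rpt, ← Category.assoc, Limits.equalizer.lift_ι, hw1]
    obtain ⟨w, hw⟩ := exists_rp_lift (ei ≫ kap) y
      (closure_minimal hsub (ei ≫ kap).left.isClosedEmbedding.isClosed_range hy)
    refine ⟨w ≫ ei ≫ q, ?_, ?_⟩
    · rw [Category.assoc, Category.assoc, hq, ← hκ, ← hw]
      simp only [Category.assoc]
    · rw [Category.assoc, Category.assoc, Limits.equalizer.condition, ← Category.assoc ei, ← Category.assoc,
        toUnit_unique (ei ≫ toUnit K) (toUnit E)]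
      exact (Category.assoc _ _ _).trans (rp_const w _)
  obtain ⟨j, hj⟩ := exists_lift_rp (AGF.conjBy y⁻¹ iS) iB fun s => by
    obtain ⟨b, hb, -⟩ := hkey s
    refine ⟨rpt b, ?_⟩
    rw [map_rpt, hb, comp_conjBy, toUnit_one, Category.id_comp, _root_.inv_inv]
  have hjπ : j ≫ π₁ = t ≫ π₁ := hom_ext_rp fun s => by
    obtain ⟨b, hb, hbπ⟩ := hkey s
    have : s ≫ j = b := (cancel_mono iB).1 (by
      rw [Category.assoc, hj, hb, comp_conjBy, toUnit_one, Category.id_comp, _root_.inv_inv])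
    rw [← Category.assoc, this, hbπ, Category.assoc]
  haveI := isMonHom_conjBy y⁻¹ iS
  haveI : IsMonHom j := MTSplit.isMonHom_of_comp_mono j iB (AGF.conjBy y⁻¹ iS) hj
  haveI := mono_conjBy y⁻¹ iS
  haveI : Mono (j ≫ iB) := by rw [hj]; infer_instance
  haveI : Mono j := mono_of_mono j iB
  obtain ⟨b₁, f₁, -, hf₁⟩ := huniv S j hS
  obtain ⟨b₀, f₀, -, hf₀⟩ := huniv S t hS
  have hf₁' : f₁ = j ≫ π₁ := by
    rw [← Category.comp_id f₁, ← hret, ← Category.assoc, hf₁, conjBy_comp, conjBy_torus hT₁t]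
  have hf₀' : f₀ = t ≫ π₁ := by
    rw [← Category.comp_id f₀, ← hret, ← Category.assoc, hf₀, conjBy_comp, conjBy_torus hT₁t]
  have e : AGF.conjBy b₁ j = AGF.conjBy b₀ t := by rw [← hf₁, ← hf₀, hf₁', hf₀', hjπ]
  have e' : AGF.conjBy ((b₀ ≫ iB)⁻¹ * (b₁ ≫ iB) * y⁻¹) iS = iS := by
    have h := congrArg (fun m => m ≫ iB) e
    simp only [conjBy_comp, hj, ht, conjBy_conjBy] at h
    rw [_root_.mul_assoc, ← conjBy_conjBy, h, conjBy_conjBy, inv_mul_cancel, conjBy_one]
  obtain ⟨z, hz⟩ := (hc.2.2 _ ((b₀ ≫ iB)⁻¹ * (b₁ ≫ iB) * y⁻¹)).2 fun X' x h => by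
    have h2 := congrArg (fun m => h ≫ m) e'
    simp only [comp_conjBy] at h2
    rw [toUnit_unique x (toUnit X')]
    exact mul_inv_eq_iff_eq_mul.1 h2
  refine ⟨z⁻¹, b₀⁻¹ * b₁, ?_⟩
  rw [GrpObj.inv_comp, hz, MonObj.mul_comp, GrpObj.inv_comp]
  simp only [_root_.mul_inv_rev, _root_.inv_inv, _root_.mul_assoc, mul_inv_cancel_left, inv_mul_cancel_left,
    inv_mul_cancel, _root_.mul_one]

/-- The centralizer of a torus in a Borel subgroup is a Borel subgroup of the centralizer. -/
theorem isBorelOver_centralizer {D : Over (Spec (CommRingCat.of k))} [GrpObj D] (iS : S ⟶ G) [IsMonHom iS] [Mono iS]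
    (hS : Red.IsTorus S) (iB : B ⟶ G) (hB : Red.IsBorelOver k iB) (t : S ⟶ B) (ht : t ≫ iB = iS) (c : C ⟶ G)
    (hc : Red.IsCentralizerOf iS c) (dC : D ⟶ C) [IsMonHom dC] (dB : D ⟶ B) (hD : IsPullback dC dB c iB) :
    Red.IsBorelOver k dC := by
  obtain ⟨hBm, hBc, hBs, hBconn, hBsol, -⟩ := id hB
  haveI := hBm; haveI := hBc; haveI := hBs; haveI := hBconn; haveI := hc.1; haveI := hc.2.1
  haveI : IsAffine B.left := isAffine_of_isAffineHom iB.left
  haveI : Mono iB := GrpField.SchImg.mono_of_isClosedImmersion iB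
  obtain ⟨hCs, hCa, hCcl, hCconn', -⟩ := centralizer_torus iS hS c hc
  haveI := hCs; haveI := hCa; haveI := hCcl
  haveI := hCconn' inferInstance
  haveI : IsMonHom t := MTSplit.isMonHom_of_comp_mono t iB iS ht
  haveI : Mono (t ≫ iB) := by rw [ht]; infer_instance
  haveI : Mono t := mono_of_mono t iB
  have hdB : dB ≫ iB = dC ≫ c := hD.w.symm
  haveI : IsMonHom dB := MTSplit.isMonHom_of_comp_mono dB iB (dC ≫ c) hdB
  haveI : Mono dB := ⟨fun {Z} p q h => hD.hom_ext
    ((cancel_mono c).1 (by rw [Category.assoc, Category.assoc, hD.w, ← Category.assoc, h, Category.assoc])) h⟩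
  have hDc : Red.IsCentralizerOf t dB := by
    refine ⟨inferInstance, inferInstance, fun X g => ?_⟩
    refine ⟨?_, fun h => ?_⟩
    · rintro ⟨z, rfl⟩ X' x h
      refine (cancel_mono iB).1 ?_
      have h1 := (hc.2.2 X ((z ≫ dC) ≫ c)).1 ⟨_, rfl⟩ X' x h
      simp only [MonObj.mul_comp, Category.assoc, ht, hdB]
      simpa only [Category.assoc] using h1
    · obtain ⟨z, hz⟩ := (hc.2.2 X (g ≫ iB)).2 fun X' x h' => by
        have h1 := congrArg (fun m => m ≫ iB) (h X' x h')
        simpa only [MonObj.mul_comp, Category.assoc, ht] using h1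
      exact ⟨hD.lift z g hz, hD.lift_snd z g hz⟩
  obtain ⟨hDs, hDa, hDcl, hDconn', -⟩ := centralizer_torus t hS dB hDc
  haveI := hDs; haveI := hDa; haveI := hDcl
  haveI := hDconn' inferInstance
  haveI : IsClosedImmersion (dC.left ≫ c.left) := by
    rw [← Over.comp_left, ← hdB]; exact inferInstanceAs (IsClosedImmersion (dB.left ≫ iB.left))
  haveI : IsClosedImmersion dC.left := IsClosedImmersion.of_comp dC.left c.left
  refine ⟨inferInstance, inferInstance, hDs, inferInstance, isSolvableGrp_of_mono dB hBsol,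
    fun B' _ i' _ f hi' hB's hB'c hB'sol hf => ?_⟩
  haveI := hi'; haveI := hB's; haveI := hB'c
  haveI : IsAffine B'.left := isAffine_of_isAffineHom i'.left
  haveI := isSolvable_rp hB'sol
  -- the orbit of the centralizer on the quotient
  obtain ⟨X, a, o, hXl, hXq, hXf, hXs, hXp⟩ := Groth.Agent.S3279.result k G B iB
  have hX : AGF.IsQuotient iB X a o := ⟨hXl, hXf, hXs, hXp⟩
  haveI := hXl; haveI := hXs; haveI := hXq
  haveI := isProper_quotient_borel iB hB a o hX
  haveI : JacobsonSpace X.left := LocallyOfFiniteType.jacobsonSpace X.hom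
  haveI : QuasiSeparatedSpace X.left := quasiSeparatedSpace_of_quasiSeparated X.hom
  let aC := resAction c a
  have horb : ∀ z : RP C, z ≫ aC.orbitMap o = (z ≫ c) ≫ a.orbitMap o := fun z => by
    rw [resAction_orbitMap, Category.assoc]
  have hclosed : IsClosed (GrpAct.orbit aC o) := by
    by_contra hncl
    obtain ⟨y₀, hy₀⟩ : (closure (GrpAct.orbit aC o) \ GrpAct.orbit aC o).Nonempty := by
      rw [Set.sdiff_nonempty]
      exact fun h => hncl (isClosed_of_closure_subset h)
    have hlc : IsLocallyClosed (closure (GrpAct.orbit aC o) \ GrpAct.orbit aC o) := by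
      obtain ⟨U, F, hU, hF, e⟩ := GrpAct.isLocallyClosed_orbit' aC o
      have : closure (GrpAct.orbit aC o) \ GrpAct.orbit aC o = closure (GrpAct.orbit aC o) ∩ Uᶜ := by
        ext y
        refine ⟨fun hy => ⟨hy.1, fun hyU => hy.2 (e ▸ ⟨hyU, ?_⟩)⟩,
          fun hy => ⟨hy.1, fun hyO => hy.2 ((e ▸ hyO : y ∈ U ∩ F).1)⟩⟩
        exact closure_minimal (e ▸ Set.inter_subset_right) hF hy.1
      rw [this]
      exact (isClosed_closure.inter hU.isClosed_compl).isLocallyClosed
    obtain ⟨x, hx, hxc⟩ := nonempty_inter_closedPoints ⟨y₀, hy₀⟩ hlc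
    obtain ⟨x, rfl⟩ := exists_rpt hxc
    obtain ⟨y, rfl⟩ := exists_rp_preimage (a.orbitMap o) x
    haveI : LocallyOfFiniteType ((a.orbitMap o).left ≫ X.hom) := by rw [Over.w]; infer_instance
    haveI : LocallyOfFiniteType (a.orbitMap o).left := locallyOfFiniteType_of_comp _ X.hom
    haveI : IsLocallyNoetherian X.left := LocallyOfFiniteType.isLocallyNoetherian X.hom
    haveI := hXf
    haveI : UniversallyOpen (a.orbitMap o).left := inferInstance
    let Y : Set G.left := (a.orbitMap o).left ⁻¹' GrpAct.orbit aC o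
    have hy : rpt y ∈ closure Y := by
      show rpt y ∈ closure ((a.orbitMap o).left ⁻¹' GrpAct.orbit aC o)
      rw [← (a.orbitMap o).left.isOpenMap.preimage_closure_eq_closure_preimage (a.orbitMap o).left.continuous]
      show (a.orbitMap o).left (rpt y) ∈ closure (GrpAct.orbit aC o)
      rw [map_rpt]
      exact hx.1
    -- the preimage of the orbit is covered by rational points of the product
    have hYsub : Y ⊆ closure (Set.range fun p : RP C × RP B => rpt ((p.1 ≫ c) * (p.2 ≫ iB))) := by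
      haveI : LocallyOfFiniteType (C ⊗ B).hom := by
        show LocallyOfFiniteType (pullback.fst C.hom B.hom ≫ C.hom)
        infer_instance
      haveI : JacobsonSpace (C ⊗ B).left := LocallyOfFiniteType.jacobsonSpace (C ⊗ B).hom
      let m : C ⊗ B ⟶ G := (fst C B ≫ c) * (snd C B ≫ iB)
      have hm : closedPoints (C ⊗ B).left ⊆
          m.left ⁻¹' closure (Set.range fun p : RP C × RP B => rpt ((p.1 ≫ c) * (p.2 ≫ iB))) := by
        intro v hv
        obtain ⟨v, rfl⟩ := exists_rpt hv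
        refine subset_closure ⟨(v ≫ fst C B, v ≫ snd C B), ?_⟩
        rw [map_rpt]
        simp only [m, MonObj.comp_mul, Category.assoc]
      rintro w hw
      obtain ⟨u, hu⟩ := hw
      let r := aC.orbitMap o
      let P : Over (Spec (CommRingCat.of k)) := Over.mk (pullback.fst (a.orbitMap o).left r.left ≫ G.hom)
      let p1 : P ⟶ G := Over.homMk (pullback.fst (a.orbitMap o).left r.left)
      let p2 : P ⟶ C := Over.homMk (pullback.snd (a.orbitMap o).left r.left) (by
        show _ = pullback.fst (a.orbitMap o).left r.left ≫ G.hom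
        rw [← Over.w r, ← Category.assoc, ← pullback.condition, Category.assoc, Over.w (a.orbitMap o)])
      have hp : p1 ≫ a.orbitMap o = p2 ≫ r := Over.OverMorphism.ext pullback.condition
      obtain ⟨v, hv1, hv2⟩ := hXp.exists_lift (p2 ≫ c) p1 (by
        rw [Category.assoc, ← resAction_orbitMap]
        exact hp.symm)
      let l : P ⟶ C ⊗ B := lift p2 (v ≫ snd G B)
      have hl : l ≫ m = p1 := by
        simp only [l, m, MonObj.comp_mul, lift_fst_assoc, lift_snd_assoc]
        rw [← hv1, ← hv2, Category.assoc]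
        rw [show ((G ◁ iB) ≫ μ[G] : G ⊗ B ⟶ G) = fst G B * (snd G B ≫ iB) by
          rw [Hom.mul_def]; congr 1, MonObj.comp_mul]
      obtain ⟨z, hz1, -⟩ := Scheme.Pullback.exists_preimage_pullback (f := (a.orbitMap o).left) (g := r.left) w u hu.symm
      rw [← hz1]
      show p1.left z ∈ _
      rw [← hl]
      exact closure_minimal hm (isClosed_closure.preimage m.left.continuous)
        (closure_closedPoints (X := (C ⊗ B).left) ▸ Set.mem_univ (l.left z))
    obtain ⟨z, b, rfl⟩ := mem_mul_of_mem_closure iS hS iB hB t ht c hc y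
      (closure_minimal hYsub isClosed_closure hy)
    refine hx.2 ⟨rpt z, ?_⟩
    rw [map_rpt]
    congr 1
    have hb : lift (b ≫ iB) o ≫ a.act = o := by
      have := (GrpAct.mem_iff iB a o hXp (b ≫ iB)).1 ⟨b, rfl⟩
      simpa [toUnit_one] using this
    rw [horb, rp_orbitMap, rp_orbitMap, GrpAct.mul_smul, hb]
  obtain ⟨O', jO, hjO, hred, hjr⟩ := GrpAct.exists_reduced_subscheme hclosed.isLocallyClosed
  haveI : IsClosedImmersion jO := IsClosedImmersion.of_isPreimmersion jO (hjr ▸ hclosed)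
  let O : Over (Spec (CommRingCat.of k)) := Over.mk (jO ≫ X.hom)
  let io : O ⟶ X := Over.homMk jO
  haveI : IsImmersion io.left := hjO
  haveI : IsReduced O.left := hred
  obtain ⟨bO, o', hact, ho, hbo⟩ := GrpAct.exists_action aC o io hjr
  haveI : IsProper O.hom := inferInstanceAs (IsProper (jO ≫ X.hom))
  haveI : Nonempty O.left := ⟨rpt o'⟩
  obtain ⟨w, hw⟩ := exists_fixed B' O (resAction i' bO)
  obtain ⟨g, hg⟩ : ∃ g : RP C, g ≫ aC.orbitMap o = w ≫ io :=
    exists_rp_of_mem_range (aC.orbitMap o) (w ≫ io) (by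
      show rpt (w ≫ io) ∈ GrpAct.orbit aC o
      rw [← hjr, ← map_rpt]
      exact ⟨_, rfl⟩)
  haveI : IsReduced B'.left := SmoothRed.isReduced_of_smooth_scheme B'.hom
  haveI := isMonHom_conjBy g⁻¹ i'
  obtain ⟨e, he⟩ := exists_lift_rp (AGF.conjBy g⁻¹ i') dC fun p => by
    have h1 : lift ((p ≫ i') ≫ c) (w ≫ io) ≫ a.act = w ≫ io := by
      have := congrArg (· ≫ io) (hw _ p)
      simp only [resAction_smul, rp_const, Category.assoc, hact, lift_whiskerLeft_assoc] at this
      simpa [toUnit_unique (toUnit (𝟙_ (Over (Spec (CommRingCat.of k))))) (𝟙 _), aC, resAction_smul] using this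
    rw [← hg, horb, rp_orbitMap, ← GrpAct.mul_smul] at h1
    obtain ⟨b, hb⟩ := (GrpAct.mem_iff iB a o hXp ((g ≫ c)⁻¹ * ((p ≫ i') ≫ c) * (g ≫ c))).2 (by
      rw [toUnit_one, Category.id_comp, _root_.mul_assoc, GrpAct.mul_smul, h1, ← GrpAct.mul_smul, inv_mul_cancel,
        GrpAct.one_smul'])
    have hcb : (p ≫ AGF.conjBy g⁻¹ i') ≫ c = b ≫ iB := by
      rw [hb, comp_conjBy, toUnit_one, Category.id_comp, MonObj.mul_comp, MonObj.mul_comp, GrpObj.inv_comp]
      simp only [GrpObj.inv_comp, _root_.inv_inv]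
    refine ⟨rpt (hD.lift (p ≫ AGF.conjBy g⁻¹ i') b hcb), ?_⟩
    rw [map_rpt, hD.lift_fst]
  haveI := isClosedImmersion_conjBy g⁻¹ i'
  haveI : IsClosedImmersion (e.left ≫ dC.left) := by rw [← Over.comp_left, he]; infer_instance
  haveI : IsClosedImmersion e.left := IsClosedImmersion.of_comp e.left dC.left
  haveI : IsMonHom (f ≫ i') := by rw [hf]; infer_instance
  exact isIso_of_le dC i' f hf (dim_le_of_closedImmersion e)

end Groth.Agent.Chev.Borel
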