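import Groth.Agent.Chev.BorelQuot
import Groth.Agent.Chev.Trans

/-!
# Borel subgroups over an algebraically closed field: existence, conjugacy, proper quotients
-/

set_option autoImplicit false
set_option backward.isDefEq.respectTransparency false

universe u

open CategoryTheory CategoryTheory.Limits MonoidalCategory CartesianMonoidalCategory MonObj GrpObj AlgebraicGeometry
open Groth.Agent.SubGen (rpt)

noncomputable section

namespace Groth.Agent.Chev.Borel

variable {k : Type u} [Field k] [IsAlgClosed k]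
variable (G : Over (Spec (CommRingCat.of k))) [GrpObj G] [IsAffine G.left] [Smooth G.hom] [ConnectedSpace G.left]

/-- There is a Borel subgroup with proper quotient. -/
theorem exists_borel_proper :
    ∃ (B : Over (Spec (CommRingCat.of k))) (_ : GrpObj B) (b : B ⟶ G), Red.IsBorelOver k b ∧
      ∃ (X : Over (Spec (CommRingCat.of k))) (a : AlgGrp.Action G X) (o : RP X),
        AGF.IsQuotient b X a o ∧ IsProper X.hom := by
  obtain ⟨d, hd⟩ := exists_natDim' G
  obtain ⟨B, hB, b, hbm, hbc, hbs, hbconn, hsol, X, a, o, hX, hp⟩ := exists_proper_aux d G hd.le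
  haveI := hbm; haveI := hbc; haveI := hbs; haveI := hbconn; haveI := hp
  exact ⟨B, hB, b, isBorelOver_of_proper b hsol a o hX, X, a, o, hX, hp⟩

variable {G}

/-- Borel subgroups are conjugate. -/
theorem borel_conj {B B' : Over (Spec (CommRingCat.of k))} [GrpObj B] [GrpObj B'] (iB : B ⟶ G) (iB' : B' ⟶ G)
    (hB : Red.IsBorelOver k iB) (hB' : Red.IsBorelOver k iB') :
    ∃ (g : RP G) (f : B ≅ B'), f.hom ≫ iB' = AGF.conjBy g iB := by
  obtain ⟨B₀, hB₀, b₀, hb₀, X, a, o, hX, hp⟩ := exists_borel_proper G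
  obtain ⟨hm, hc, hs, hconn, hsol, -⟩ := hb₀
  haveI := hm; haveI := hc; haveI := hs; haveI := hconn; haveI := hp
  obtain ⟨g, f, hf⟩ := conj_of_proper b₀ hsol a o hX iB hB
  obtain ⟨g', f', hf'⟩ := conj_of_proper b₀ hsol a o hX iB' hB'
  refine ⟨g' * g⁻¹, f.symm ≪≫ f', ?_⟩
  have e : iB = AGF.conjBy g (f.inv ≫ b₀) := by
    rw [← comp_conjBy', ← hf, f.inv_hom_id_assoc]
  rw [Iso.trans_hom, Iso.symm_hom, Category.assoc, hf', comp_conjBy']
  conv_rhs => rw [e, conjBy_conjBy, inv_mul_cancel_right]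

omit [IsAlgClosed k] [IsAffine G.left] [Smooth G.hom] [ConnectedSpace G.left] in
/-- The orbit map of a translate. -/
theorem orbitMap_translate {X : Over (Spec (CommRingCat.of k))} (a : AlgGrp.Action G X) (o : RP X) (h : RP G) :
    a.orbitMap (h ≫ a.orbitMap o) = tr h ≫ a.orbitMap o := by
  rw [GrpAct.comp_orbitMap a o (tr h), tr, GrpAct.mul_smul, ← GrpAct.comp_orbitMap a o (toUnit G ≫ h),
    Category.assoc]
  rfl

/-- Quotients by Borel subgroups are proper. -/
theorem isProper_quotient_borel {B X : Over (Spec (CommRingCat.of k))} [GrpObj B] (iB : B ⟶ G)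
    (hB : Red.IsBorelOver k iB) (a : AlgGrp.Action G X) (o : RP X) (hX : AGF.IsQuotient iB X a o) :
    IsProper X.hom := by
  obtain ⟨B₀, hB₀, b₀, hb₀, X₀, a₀, o₀, hX₀, hp⟩ := exists_borel_proper G
  obtain ⟨hm, hc, hs, hconn, hsol, -⟩ := hb₀
  haveI := hm; haveI := hc; haveI := hs; haveI := hconn; haveI := hp
  obtain ⟨g, f, hf⟩ := conj_of_proper b₀ hsol a₀ o₀ hX₀ iB hB
  haveI := hB.1
  haveI := hB.2.1
  haveI := hX.1; haveI := hX.2.1; haveI := hX.2.2.1
  haveI : IsSeparated X.hom := isSeparated_quot a o hX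
  haveI : IsAffine B₀.left := isAffine_of_isAffineHom b₀.left
  haveI : QuasiCompact B₀.hom := by rw [← Over.w b₀]; infer_instance
  haveI : CompactSpace X.left := ⟨by
    rw [← Set.range_eq_univ.2 (a.orbitMap o).left.surjective]
    exact isCompact_range (a.orbitMap o).left.continuous⟩
  haveI : QuasiCompact X.hom :=
    quasiCompact_iff_compactSpace X.hom |>.2 inferInstance
  obtain ⟨v, ⟨-, hv⟩, -⟩ := Groth.Agent.S8014.result k G B₀ b₀ X₀ a₀ o₀ hX₀ X a (g⁻¹ ≫ a.orbitMap o) (fun T t => by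
    have e := (GrpAct.mem_iff iB a o hX.2.2.2 (t ≫ AGF.conjBy g b₀)).1 ⟨t ≫ f.hom, by rw [Category.assoc, hf]⟩
    rw [comp_conjBy, GrpAct.mul_smul, GrpAct.mul_smul] at e
    have e' := congrArg (fun z => lift (toUnit T ≫ g)⁻¹ z ≫ a.act) e
    rw [← GrpAct.mul_smul, inv_mul_cancel, GrpAct.one_smul', ← GrpObj.comp_inv] at e'
    rw [show toUnit T ≫ g⁻¹ ≫ a.orbitMap o = lift (toUnit T ≫ g⁻¹) (toUnit T ≫ o) ≫ a.act by
      rw [← GrpAct.comp_orbitMap, Category.assoc]]
    exact e')
  rw [orbitMap_translate] at hv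
  haveI : IsIso (tr g⁻¹) := ⟨tr g, by rw [tr_tr, inv_mul_cancel, tr_one], by rw [tr_tr, mul_inv_cancel, tr_one]⟩
  haveI : IsIso (tr g⁻¹).left := inferInstanceAs (IsIso ((Over.forget _).map (tr g⁻¹)))
  haveI : Surjective ((a₀.orbitMap o₀).left ≫ v.left) := by rw [← Over.comp_left, hv, Over.comp_left]; infer_instance
  haveI : Surjective v.left := Surjective.of_comp (a₀.orbitMap o₀).left v.left
  haveI : UniversallyClosed (v.left ≫ X.hom) := by rw [Over.w]; infer_instance
  haveI : UniversallyClosed X.hom := UniversallyClosed.of_comp_surjective v.left X.hom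
  exact { }

end Groth.Agent.Chev.Borel
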