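import Groth.Agent.Chev.CentCover
import Groth.Agent.S8087
import Groth.Agent.S5247

/-!
# A connected group is covered by its Borel subgroups
-/

set_option autoImplicit false
set_option backward.isDefEq.respectTransparency false

universe u

open CategoryTheory CategoryTheory.Limits MonoidalCategory CartesianMonoidalCategory MonObj GrpObj AlgebraicGeometry
open Groth.Agent.SubGen (rpt exists_rpt map_rpt rpt_injective rpt_mem_closedPoints)

noncomputable section

namespace Groth.Agent.Chev.Borel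

variable {k : Type u} [Field k] [IsAlgClosed k]
variable {G : Over (Spec (CommRingCat.of k))} [GrpObj G] [IsAffine G.left] [Smooth G.hom] [ConnectedSpace G.left]

/-- Every rational point is conjugate into a Borel subgroup. -/
theorem exists_conj_mem_borel {B : Over (Spec (CommRingCat.of k))} [GrpObj B] (iB : B ⟶ G)
    (hB : Red.IsBorelOver k iB) (g : RP G) : ∃ (x : RP G) (b : RP B), x * (b ≫ iB) * x⁻¹ = g := by
  obtain ⟨B₀, hB₀g, b₀, hb₀, X, a, o, hX, hXp⟩ := exists_borel_proper G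
  haveI := hXp
  obtain ⟨hm₀, hc₀, hs₀, hconn₀, hsol₀, -⟩ := id hb₀
  haveI := hm₀; haveI := hc₀; haveI := hs₀; haveI := hconn₀
  haveI : IsAffine B₀.left := isAffine_of_isAffineHom b₀.left
  haveI := isSolvable_rp hsol₀
  -- a maximal torus in `B₀`
  obtain ⟨T₁, B₁, hT₁g, hB₁g, t₁, b₁, ht₁m, ht₁c, hb₁, hT₁, -⟩ := exists_maxTorus G
  obtain ⟨g₁, e₁, he₁⟩ := borel_conj b₁ b₀ hb₁ hb₀
  let iT : T₁ ⟶ G := AGF.conjBy g₁ (t₁ ≫ b₁)
  have hiT : AGF.IsMaxTorus iT := isMaxTorus_conjBy g₁ _ hT₁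
  have ht : (t₁ ≫ e₁.hom) ≫ b₀ = iT := by rw [Category.assoc, he₁, comp_conjBy']
  haveI := hiT.1
  obtain ⟨C, hCg, c, hC, -, -⟩ := Groth.Agent.S5247.result T₁ G
    (MTBridge.isMultTypeFT_of_isTorus T₁ hT₁.2.2.1) ‹Smooth G.hom› inferInstance iT
  obtain ⟨f, hf⟩ := centralizer_le_borel iT hiT c hC b₀ hb₀ (t₁ ≫ e₁.hom) ht
  obtain ⟨hCs, hCa, hCcl, hCconn, -⟩ := centralizer_maxTorus iT hiT c hC
  haveI := hCs; haveI := hCa
  haveI : LocallyOfFiniteType (G ⊗ C).hom := by
    show LocallyOfFiniteType (pullback.fst G.hom C.hom ≫ G.hom)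
    infer_instance
  haveI : LocallyOfFiniteType (G ⊗ B₀).hom := by
    show LocallyOfFiniteType (pullback.fst G.hom B₀.hom ≫ G.hom)
    infer_instance
  haveI : JacobsonSpace (G ⊗ C).left := LocallyOfFiniteType.jacobsonSpace (G ⊗ C).hom
  have hclosed : IsClosed (Set.range (conjMap b₀).left) :=
    Groth.Agent.S8087.result k G B₀ b₀ hc₀ X a o hX
  have hsub : Set.range (conjMap c).left ⊆ Set.range (conjMap b₀).left := by
    rintro _ ⟨x, rfl⟩
    have h : closedPoints (G ⊗ C).left ⊆ (conjMap c).left ⁻¹' Set.range (conjMap b₀).left := by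
      intro x hx
      obtain ⟨z, rfl⟩ := exists_rpt hx
      refine ⟨rpt (lift (z ≫ fst G C) ((z ≫ snd G C) ≫ f) : RP (G ⊗ B₀)), ?_⟩
      rw [map_rpt, map_rpt, rp_conjMap, rp_conjMap]
      simp only [lift_fst, lift_snd, Category.assoc, hf]
    exact closure_minimal h (hclosed.preimage (conjMap c).left.continuous)
      (closure_closedPoints (X := (G ⊗ C).left) ▸ Set.mem_univ x)
  have hall : Set.range (conjMap b₀).left = Set.univ :=
    Set.eq_univ_of_forall fun y => closure_minimal hsub hclosed (denseRange_conjMap iT hiT c hC y)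
  obtain ⟨z, hz⟩ := exists_rp_of_mem_range (conjMap b₀) g (hall ▸ Set.mem_univ _)
  rw [rp_conjMap] at hz
  obtain ⟨g₂, e₂, he₂⟩ := borel_conj iB b₀ hB hb₀
  refine ⟨(z ≫ fst G B₀) * g₂, (z ≫ snd G B₀) ≫ e₂.inv, ?_⟩
  have h1 : (z ≫ snd G B₀) ≫ b₀ = g₂ * (((z ≫ snd G B₀) ≫ e₂.inv) ≫ iB) * g₂⁻¹ := by
    have h := congrArg (fun m => ((z ≫ snd G B₀) ≫ e₂.inv) ≫ m) he₂
    rwa [Category.assoc (z ≫ snd G B₀), e₂.inv_hom_id_assoc, comp_conjBy, toUnit_one, Category.id_comp] at h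
  rw [← hz, h1]
  simp only [_root_.mul_inv_rev, _root_.mul_assoc]

end Groth.Agent.Chev.Borel
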