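import Groth.Agent.Chev.AntiAff
import Groth.Agent.Chev.TorusTheory
import Groth.Agent.Chev.BorelCent
import Groth.Agent.Chev.BorelCover
import Groth.Agent.S7996

/-!
# Reduction of connected algebraic groups to affine ones: `G = L · D`
-/

set_option autoImplicit false
set_option backward.isDefEq.respectTransparency false

universe u

open CategoryTheory CategoryTheory.Limits MonoidalCategory CartesianMonoidalCategory MonObj GrpObj AlgebraicGeometry
open Groth.Agent.SubGen (rpt exists_rpt map_rpt)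

noncomputable section

namespace Groth.Agent.Chev.Borel

open BorelFixed

variable {k : Type u} [Field k] [IsAlgClosed k]

/-- A product of connected groups is connected. -/
theorem connectedSpace_tensor' (H K : Over (Spec (CommRingCat.of k))) [GrpObj H] [GrpObj K] [ConnectedSpace H.left]
    [ConnectedSpace K.left] [LocallyOfFiniteType H.hom] : ConnectedSpace (H ⊗ K).left := by
  haveI : GeometricallyConnected H.hom :=
    Groth.Agent.Rigid.geometricallyConnected_of_section H.hom η[H].left (Over.w η[H])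
  let p := Limits.pullback.snd H.hom K.hom
  haveI : GeometricallyConnected p := inferInstanceAs (GeometricallyConnected (Limits.pullback.snd H.hom K.hom))
  haveI : UniversallyOpen p := inferInstanceAs (UniversallyOpen (Limits.pullback.snd H.hom K.hom))
  exact GeometricallyConnected.connectedSpace (f := p) p.isOpenMap

/-- The smooth image of a homomorphism into any algebraic group. -/
theorem exists_smooth_image' {H G : Over (Spec (CommRingCat.of k))} [GrpObj H] [GrpObj G] [Smooth H.hom]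
    [QuasiCompact H.hom] [LocallyOfFiniteType G.hom] [QuasiCompact G.hom] (f : H ⟶ G) [IsMonHom f] :
    ∃ (R : Over (Spec (CommRingCat.of k))) (_ : GrpObj R) (i : R ⟶ G) (p : H ⟶ R),
      IsMonHom i ∧ IsMonHom p ∧ IsClosedImmersion i.left ∧ Smooth R.hom ∧ QuasiCompact R.hom ∧ Surjective p.left ∧
        p ≫ i = f := by
  haveI : IsSeparated G.hom := GrpField.isSeparated_hom G
  haveI : QuasiCompact (f.left ≫ G.hom) := by rw [Over.w f]; infer_instance
  haveI : QuasiCompact f.left := QuasiCompact.of_comp f.left G.hom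
  obtain ⟨K, hK, i, g, hi, hg, hgi, hic, -, -, hgs⟩ := GrpField.SchImg.exists_image f
  haveI := hi; haveI := hg; haveI := hic; haveI := hgs
  haveI : LocallyOfFiniteType K.hom := by rw [← Over.w i]; infer_instance
  obtain ⟨R, hR, r, hr, hrc, hrs, hRs⟩ := exists_red_group K
  haveI := hr; haveI := hrc; haveI := hrs
  haveI : IsReduced H.left := SmoothRed.isReduced_of_smooth_scheme H.hom
  obtain ⟨p, hp⟩ := exists_lift_range g r (by rw [Set.range_eq_univ.2 r.left.surjective]; exact Set.subset_univ _)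
  haveI : Mono r := GrpField.SchImg.mono_of_isClosedImmersion r
  haveI : IsMonHom (p ≫ r) := by rw [hp]; infer_instance
  haveI : IsMonHom p := MTSplit.isMonHom_of_comp_mono p r g hp
  haveI : IsClosedImmersion (r ≫ i).left := inferInstanceAs (IsClosedImmersion (r.left ≫ i.left))
  haveI : QuasiCompact R.hom := by rw [← Over.w (r ≫ i)]; infer_instance
  refine ⟨R, hR, r ≫ i, p, inferInstance, inferInstance, inferInstance, hRs, inferInstance, ⟨fun x => ?_⟩,
    by rw [← Category.assoc, hp, hgi]⟩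
  obtain ⟨y, hy⟩ := g.left.surjective (r.left x)
  refine ⟨y, r.left.isClosedEmbedding.injective ?_⟩
  rw [← hy, ← hp]
  rfl

/-- A connected algebraic group is the product of an affine group containing all affine connected subgroups and a
connected central group killed by a homomorphism to an affine group. -/
structure AffReduction {G : Over (Spec (CommRingCat.of k))} [GrpObj G] {L D Q : Over (Spec (CommRingCat.of k))}
    [GrpObj L] [GrpObj D] [GrpObj Q] (l : L ⟶ G) (d : D ⟶ G) (q : G ⟶ Q) : Prop where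
  l_hom : IsMonHom l
  l_closed : IsClosedImmersion l.left
  l_affine : IsAffine L.left
  l_smooth : Smooth L.hom
  l_connected : ConnectedSpace L.left
  d_hom : IsMonHom d
  d_closed : IsClosedImmersion d.left
  d_smooth : Smooth D.hom
  d_qc : QuasiCompact D.hom
  d_connected : ConnectedSpace D.left
  central : ∀ (X : Over (Spec (CommRingCat.of k))) (z : X ⟶ D) (g : X ⟶ G), (z ≫ d) * g = g * (z ≫ d)
  q_hom : IsMonHom q
  q_affine : IsAffine Q.left
  q_smooth : Smooth Q.hom
  q_connected : ConnectedSpace Q.left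
  lq_surj : Surjective (l ≫ q).left
  dq : d ≫ q = 1
  ker : ∀ g : RP G, g ≫ q = 1 → ∃ z : RP D, z ≫ d = g
  q_flat : Flat q.left
  q_surj : Surjective q.left
  q_lfp : LocallyOfFinitePresentation q.left
  kernel : ∀ (X : Over (Spec (CommRingCat.of k))) (g : X ⟶ G), g ≫ q = 1 → ∃ z : X ⟶ D, z ≫ d = g
  decomp : ∀ g : RP G, ∃ (a : RP L) (z : RP D), (a ≫ l) * (z ≫ d) = g
  factor : ∀ (H : Over (Spec (CommRingCat.of k))) [GrpObj H] (h : H ⟶ G) [IsMonHom h] [Smooth H.hom] [IsAffine H.left]
    [ConnectedSpace H.left], ∃ f : H ⟶ L, f ≫ l = h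

/-- The reduction exists. -/
theorem exists_affReduction (G : Over (Spec (CommRingCat.of k))) [GrpObj G] [Smooth G.hom] [QuasiCompact G.hom]
    [ConnectedSpace G.left] :
    ∃ (L D Q : Over (Spec (CommRingCat.of k))) (_ : GrpObj L) (_ : GrpObj D) (_ : GrpObj Q) (l : L ⟶ G) (d : D ⟶ G)
      (q : G ⟶ Q), AffReduction l d q := by
  obtain ⟨L, hL, l, A, hA, qA, hlm, hlc, hla, hls, hlcon, -, hqm, hqs, -, hker, hAp, -, -⟩ := exists_structure G
  haveI := hlm; haveI := hlc; haveI := hla; haveI := hls; haveI := hlcon; haveI := hqm; haveI := hqs; haveI := hAp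
  obtain ⟨hQ, D, hD, d, hρm, hρf, hρs, hρl, hQl, hdm, hdc, hdk, hanti, hDl, hDq⟩ := exists_anti_kernel G
  letI := hQ
  haveI := hρm; haveI := hρf; haveI := hρs; haveI := hρl; haveI := hQl; haveI := hdm; haveI := hdc; haveI := hDl
  haveI := hDq
  let Q := AffHull.hull G
  let q : G ⟶ Q := AffHull.toHull G
  haveI : IsReduced G.left := SmoothRed.isReduced_of_smooth_scheme G.hom
  haveI : IsReduced Q.left := inferInstanceAs (IsReduced (Spec Γ(G.left, ⊤)))
  haveI : Smooth Q.hom := by
    letI : GrpObj (Over.mk Q.hom) := hQ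
    exact GrpBasic.smooth_of_grpObj_perfect Q.hom
  have hdq : d ≫ q = 1 := hdk.w.trans rfl
  have hmax : ∀ (M' : Over (Spec (CommRingCat.of k))) [GrpObj M'] [LocallyOfFiniteType M'.hom] [QuasiCompact M'.hom]
      (j' : M' ⟶ G) [IsMonHom j'] [IsClosedImmersion j'.left], IsAnti M' → ∃ g : M' ⟶ D, g ≫ d = j' :=
    fun M' _ _ _ j' _ _ h => ⟨hdk.lift j' (toUnit _) (by rw [eq_one_of_anti h (j' ≫ q)]; rfl), hdk.lift_fst _ _ _⟩
  haveI hmul : Surjective ((l ⊗ₘ d) ≫ μ[G]).left := surjective_mul_anti l qA hker d hmax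
  haveI := smooth_of_anti D hanti
  have hdecomp : ∀ g : RP G, ∃ (a : RP L) (z : RP D), (a ≫ l) * (z ≫ d) = g := fun g => by
    haveI : LocallyOfFiniteType (L ⊗ D).hom :=
      inferInstanceAs (LocallyOfFiniteType (pullback.fst L.hom D.hom ≫ L.hom))
    obtain ⟨w, hw⟩ := exists_rp_preimage ((l ⊗ₘ d) ≫ μ[G]) g
    exact ⟨w ≫ fst L D, w ≫ snd L D, by rw [← hw, comp_tensor_mul]⟩
  haveI hlq : Surjective (l ≫ q).left := by
    have e : ((l ⊗ₘ d) ≫ μ[G]) ≫ q = fst L D ≫ l ≫ q := by
      rw [← Category.id_comp ((l ⊗ₘ d) ≫ μ[G]), comp_tensor_mul, MonObj.mul_comp, Category.id_comp, Category.id_comp,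
        Category.assoc, Category.assoc, hdq, MonObj.comp_one, _root_.mul_one]
    haveI : Surjective q.left := hρs
    haveI : Surjective ((fst L D).left ≫ (l ≫ q).left) := by
      rw [← Over.comp_left, ← e, Over.comp_left]; infer_instance
    exact Surjective.of_comp (fst L D).left _
  refine ⟨L, D, Q, hL, hD, hQ, l, d, q, hlm, hlc, hla, hls, hlcon, hdm, hdc, inferInstance, hDq,
    (Groth.Agent.S3293.result k D hanti).1, fun X z g => ?_, hρm, inferInstanceAs (IsAffine (Spec _)), inferInstance,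
    (l ≫ q).left.surjective.connectedSpace (l ≫ q).left.continuous, hlq, hdq, fun g hg => ?_, hρf, hρs, hρl,
    fun X g hg => ⟨hdk.lift g (toUnit _) (by rw [hg]; rfl), hdk.lift_fst _ _ _⟩, hdecomp,
    fun H _ h _ _ _ _ => exists_factor_affPart hker h⟩
  · have h := Groth.Agent.S7996.result k D G hanti d X z X (𝟙 X) g
    rwa [Category.id_comp] at h
  · exact ⟨hdk.lift g (toUnit _) (by rw [hg]; rfl), hdk.lift_fst _ _ _⟩

section

variable {G L D Q : Over (Spec (CommRingCat.of k))} [GrpObj G] [GrpObj L] [GrpObj D] [GrpObj Q]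
  {l : L ⟶ G} {d : D ⟶ G} {q : G ⟶ Q}

/-- The product of a subgroup with the central part is a homomorphism. -/
theorem isMonHom_mul_central (R : AffReduction l d q) {B : Over (Spec (CommRingCat.of k))} [GrpObj B] (b : B ⟶ G)
    [IsMonHom b] : IsMonHom ((fst B D ≫ b) * (snd B D ≫ d)) := by
  haveI := R.d_hom
  exact WittGrp.isMonHom_of_comp_mul _
    (by rw [MonObj.comp_mul, ← Category.assoc, ← Category.assoc, MonObj.one_comp, MonObj.one_comp,
      MonObj.one_comp, MonObj.one_comp, _root_.mul_one])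
    fun T x y => by
      simp only [MonObj.comp_mul, ← Category.assoc, MonObj.mul_comp]
      rw [_root_.mul_assoc, ← _root_.mul_assoc ((y ≫ fst B D) ≫ b) ((x ≫ snd B D) ≫ d),
        ← R.central _ (x ≫ snd B D) ((y ≫ fst B D) ≫ b)]
      simp only [_root_.mul_assoc]

/-- The Borel subgroups of `L` give Borel subgroups of `G`. -/
theorem exists_borel_of_affReduction [Smooth G.hom] [QuasiCompact G.hom] (R : AffReduction l d q)
    {B : Over (Spec (CommRingCat.of k))} [GrpObj B] (iB : B ⟶ L) (hB : Red.IsBorelOver k iB) :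
    ∃ (P : Over (Spec (CommRingCat.of k))) (_ : GrpObj P) (iP : P ⟶ G), Red.IsBorelOver k iP ∧
      ∀ g : RP G, (∃ x : RP P, x ≫ iP = g) ↔ ∃ (a : RP B) (z : RP D), (a ≫ iB ≫ l) * (z ≫ d) = g := by
  haveI := R.l_hom; haveI := R.l_closed; haveI := R.l_affine; haveI := R.l_smooth; haveI := R.l_connected
  haveI := R.d_hom; haveI := R.d_smooth; haveI := R.d_qc; haveI := R.d_connected; haveI := R.q_hom
  haveI := R.q_affine; haveI := R.q_smooth; haveI := R.q_connected; haveI := R.lq_surj
  haveI := hB.1; haveI := hB.2.1; haveI := hB.2.2.1; haveI := hB.2.2.2.1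
  haveI : IsAffine B.left := isAffine_of_isAffineHom iB.left
  haveI := isSolvable_rp hB.2.2.2.2.1
  haveI := isMonHom_mul_central R (iB ≫ l)
  haveI : Smooth (B ⊗ D).hom := by
    show Smooth (pullback.fst B.hom D.hom ≫ B.hom)
    infer_instance
  haveI : QuasiCompact (B ⊗ D).hom := by
    show QuasiCompact (pullback.fst B.hom D.hom ≫ B.hom)
    infer_instance
  haveI := connectedSpace_tensor' B D
  obtain ⟨P, hP, iP, p, hiP, hp, hiPc, hPs, hPq, hps, hpe⟩ := exists_smooth_image' ((fst B D ≫ iB ≫ l) * (snd B D ≫ d))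
  haveI := hiP; haveI := hp; haveI := hiPc; haveI := hPs; haveI := hPq; haveI := hps
  haveI : ConnectedSpace P.left := p.left.surjective.connectedSpace p.left.continuous
  haveI : Mono iP := GrpField.SchImg.mono_of_isClosedImmersion iP
  have hmem : ∀ (a : RP B) (z : RP D), lift a z ≫ p ≫ iP = (a ≫ iB ≫ l) * (z ≫ d) := fun a z => by
    rw [hpe, MonObj.comp_mul, lift_fst_assoc, lift_snd_assoc]
  have hrp : ∀ g : RP G, (∃ x : RP P, x ≫ iP = g) ↔ ∃ (a : RP B) (z : RP D), (a ≫ iB ≫ l) * (z ≫ d) = g := by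
    refine fun g => ⟨?_, ?_⟩
    · rintro ⟨x, rfl⟩
      obtain ⟨w, rfl⟩ := exists_rp_preimage p x
      exact ⟨w ≫ fst B D, w ≫ snd B D, by rw [Category.assoc w p, hpe, MonObj.comp_mul, Category.assoc, Category.assoc]⟩
    · rintro ⟨a, z, rfl⟩
      exact ⟨lift a z ≫ p, by rw [Category.assoc, hmem]⟩
  -- solvability
  haveI : Group.IsSolvable (RP D) := Group.isSolvable_of_comm fun x y => by
    haveI := R.d_closed
    haveI : Mono d := GrpField.SchImg.mono_of_isClosedImmersion d
    rw [← cancel_mono d, MonObj.mul_comp, MonObj.mul_comp, R.central]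
  haveI : Group.IsSolvable (RP P) := Group.isSolvable_of_surjective
    (f := MonoidHom.mk' (fun w : RP B × RP D => lift w.1 w.2 ≫ p) fun v w => by
      apply (cancel_mono iP).1
      simp only [Prod.fst_mul, Prod.snd_mul, Category.assoc, MonObj.mul_comp, hmem, MonObj.mul_comp]
      rw [_root_.mul_assoc, ← _root_.mul_assoc ((w.1) ≫ iB ≫ l) (v.2 ≫ d), ← R.central _ v.2 (w.1 ≫ iB ≫ l)]
      simp only [_root_.mul_assoc])
    fun x => by
      obtain ⟨w, rfl⟩ := exists_rp_preimage p x
      refine ⟨(w ≫ fst B D, w ≫ snd B D), ?_⟩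
      show lift (w ≫ fst B D) (w ≫ snd B D) ≫ p = w ≫ p
      rw [← comp_lift, lift_fst_snd, Category.comp_id]
  refine ⟨P, hP, iP, ⟨inferInstance, inferInstance, inferInstance, inferInstance, isSolvableGrp_of_rp P,
    fun P' _ i' _ f hc' hs' hconn' hsol' hf => ?_⟩, hrp⟩
  haveI := hc'; haveI := hs'; haveI := hconn'
  haveI := isSolvable_rp hsol'
  haveI : QuasiCompact P'.hom := by rw [← Over.w i']; infer_instance
  -- images in the affine quotient
  obtain ⟨B₁, hB₁g, i₁, p₁, hi₁, hp₁, hi₁c, hB₁s, hp₁s, hp₁e⟩ := exists_smooth_image (iB ≫ l ≫ q)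
  haveI := hi₁; haveI := hi₁c; haveI := hB₁s; haveI := hp₁s
  have hB₁ : Red.IsBorelOver k i₁ := isBorelOver_image (l ≫ q) iB hB i₁ p₁ (by rw [hp₁e])
  obtain ⟨B₂, hB₂g, i₂, p₂, hi₂, hp₂, hi₂c, hB₂s, hp₂s, hp₂e⟩ := exists_smooth_image (i' ≫ q)
  haveI := hi₂; haveI := hp₂; haveI := hi₂c; haveI := hB₂s; haveI := hp₂s; haveI := hp₁
  haveI : ConnectedSpace B₂.left := p₂.left.surjective.connectedSpace p₂.left.continuous
  haveI : QuasiCompact B₂.hom := by rw [← Over.w i₂]; infer_instance
  haveI : Group.IsSolvable (RP B₂) := Group.isSolvable_of_surjective (f := rpHom p₂) fun x => exists_rp_preimage p₂ x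
  haveI : ConnectedSpace B₁.left := hB₁.2.2.2.1
  haveI : IsReduced B₁.left := SmoothRed.isReduced_of_smooth_scheme B₁.hom
  obtain ⟨f₁, hf₁⟩ := exists_lift_rp i₁ i₂ fun x => by
    obtain ⟨a, rfl⟩ := exists_rp_preimage p₁ x
    refine ⟨rpt (((lift a 1 ≫ p) ≫ f) ≫ p₂), ?_⟩
    rw [map_rpt]
    congr 1
    simp only [Category.assoc]
    rw [hp₂e, reassoc_of% hf, hp₁e, ← Category.assoc p, ← Category.assoc (lift a 1), hmem, MonObj.one_comp,
      _root_.mul_one]
    simp only [Category.assoc]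
  haveI : IsIso f₁ := hB₁.2.2.2.2.2 B₂ i₂ f₁ inferInstance inferInstance inferInstance (isSolvableGrp_of_rp B₂) hf₁
  haveI : Mono i' := GrpField.SchImg.mono_of_isClosedImmersion i'
  haveI : IsReduced P'.left := SmoothRed.isReduced_of_smooth_scheme P'.hom
  obtain ⟨gI, hgI⟩ := exists_lift_rp i' iP fun x => by
    obtain ⟨a, ha⟩ := exists_rp_preimage p₁ (x ≫ p₂ ≫ inv f₁)
    have e : (x ≫ i') ≫ q = (a ≫ iB ≫ l) ≫ q := by
      rw [Category.assoc, ← hp₂e, Category.assoc a, Category.assoc iB, ← hp₁e, ← Category.assoc a, ha, Category.assoc,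
        Category.assoc, ← hf₁, IsIso.inv_hom_id_assoc]
    obtain ⟨z, hz⟩ := R.ker ((a ≫ iB ≫ l)⁻¹ * (x ≫ i')) (by
      rw [MonObj.mul_comp, GrpObj.inv_comp, e, inv_mul_cancel])
    obtain ⟨y, hy⟩ := (hrp (x ≫ i')).2 ⟨a, z, by rw [hz, mul_inv_cancel_left]⟩
    exact ⟨rpt y, by rw [map_rpt, hy]⟩
  exact ⟨gI, (cancel_mono iP).1 (by rw [Category.assoc, hgI, hf, Category.id_comp]),
    (cancel_mono i').1 (by rw [Category.assoc, hf, hgI, Category.id_comp])⟩

end

end Groth.Agent.Chev.Borel
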