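import Groth.Agent.Chev.QuasiComplement
import Groth.Agent.AdjRep.KerAffine
import Groth.Agent.S3030
import Groth.Agent.S7996
import Groth.Agent.S7982
import Groth.Agent.GrpField.SchImgExists

/-!
# The structure theorem over an algebraically closed field
-/

set_option autoImplicit false
set_option backward.isDefEq.respectTransparency false

universe u

open CategoryTheory CategoryTheory.Limits MonoidalCategory CartesianMonoidalCategory MonObj GrpObj AlgebraicGeometry
open IsLocalRing (closedPoint)

noncomputable section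

namespace Groth.Agent.Chev

variable {k : Type u} [Field k] [IsAlgClosed k]

/-- A homomorphism from a connected affine group to a proper group is trivial. -/
theorem eq_one_of_affine_of_proper {H Q : Over (Spec (CommRingCat.of k))} [GrpObj H] [GrpObj Q] [Smooth H.hom]
    [IsAffine H.left] [ConnectedSpace H.left] [IsProper Q.hom] (f : H ⟶ Q) [IsMonHom f] : f = 1 := by
  haveI : IsAffineHom H.hom := isAffineHom_of_isAffine H.hom
  haveI : IsSeparated H.hom := GrpField.isSeparated_hom H
  haveI : QuasiCompact f.left := by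
    haveI : QuasiCompact (f.left ≫ Q.hom) := by rw [Over.w]; infer_instance
    exact QuasiCompact.of_comp _ Q.hom
  obtain ⟨C, hC, i, g, hi, hg, hgi, hic, hgd, hgq, hgs⟩ := GrpField.SchImg.exists_image f
  haveI := hi; haveI := hg; haveI := hic; haveI := hgq; haveI := hgs
  haveI : IsProper C.hom := by rw [← Over.w i]; infer_instance
  haveI : GeometricallyReduced H.hom := Rigid.geometricallyReduced_of_smooth _
  haveI : IsReduced H.left := isReduced_of_smooth H
  haveI : ConnectedSpace C.left := g.left.surjective.connectedSpace g.left.continuous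
  haveI : IsSchemeTheoreticallyDominant g.left := hgd
  haveI : GeometricallyReduced C.hom := GrpField.SchImg.geometricallyReduced_of_schDom g
  haveI : IsReduced C.left := GeometricallyReduced.geometrically_isReduced (f := C.hom) (K := k) (𝟙 _) (𝟙 _) C.hom
    (IsPullback.of_horiz_isIso ⟨by rw [Category.id_comp, Category.comp_id]⟩)
  haveI : Flat g.left := GrpField.flat_of_surjective_reduced g
  haveI : IsAffine C.left := (S7983.result k H C g).1 inferInstance
  haveI : IsAffineHom C.hom := isAffineHom_of_isAffine C.hom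
  haveI : IsFinite C.hom := IsFinite.iff_isProper_and_isAffineHom.2 ⟨inferInstance, inferInstance⟩
  haveI : JacobsonSpace C.left := LocallyOfFiniteType.jacobsonSpace C.hom
  haveI : Finite C.left := by
    refine Set.finite_univ_iff.1 ((C.hom.finite_preimage_singleton (IsLocalRing.closedPoint k)).subset fun x _ => ?_)
    exact Subsingleton.elim (α := PrimeSpectrum k) _ _
  haveI : Subsingleton C.left := PreconnectedSpace.trivial_of_discrete
  haveI : IsSeparated C.hom := inferInstance
  have : g = 1 := hom_ext_rat fun z => SubGen.rpt_injective (Subsingleton.elim _ _)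
  rw [← hgi, this, MonObj.one_comp]

/-- Quotient data of a normal subgroup. -/
theorem exists_quotient_group {G L : Over (Spec (CommRingCat.of k))} [GrpObj G] [GrpObj L] [Smooth G.hom]
    [QuasiCompact G.hom] [ConnectedSpace G.left] (l : L ⟶ G) [IsMonHom l] [IsClosedImmersion l.left]
    (hn : AlgGrp.IsNormalHom l) :
    ∃ (Q : Over (Spec (CommRingCat.of k))) (_ : GrpObj Q) (q : G ⟶ Q), IsMonHom q ∧ Flat q.left ∧ Surjective q.left ∧
      AlgGrp.IsKernel l q ∧ IsSeparated Q.hom ∧ Smooth Q.hom ∧ QuasiCompact Q.hom ∧ ConnectedSpace Q.left := by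
  haveI : Mono l := GrpField.SchImg.mono_of_isClosedImmersion l
  haveI : LocallyOfFiniteType L.hom := by rw [← Over.w l]; infer_instance
  obtain ⟨Q, hQ, q, hqm, hqf, hqs, -, hker, hsep, -, hsm⟩ := S3030.result k L G l hn
  haveI := hqm; haveI := hqf; haveI := hqs
  haveI : Smooth Q.hom := hsm inferInstance
  haveI : QuasiCompact Q.hom := by
    haveI : QuasiCompact (q.left ≫ Q.hom) := by rw [Over.w q]; infer_instance
    exact ThickLib.quasiCompact_of_comp_surjective q.left Q.hom
  exact ⟨Q, hQ, q, hqm, hqf, hqs, hker, hsep, inferInstance, inferInstance, (S7983.result k G Q q).2.2 inferInstance⟩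

set_option maxHeartbeats 1000000 in
/-- A non-proper connected group has a nontrivial connected normal affine subgroup. -/
theorem exists_normal_affine (G : Over (Spec (CommRingCat.of k))) [GrpObj G] [Smooth G.hom] [QuasiCompact G.hom]
    [ConnectedSpace G.left] (hG : ¬ IsProper G.hom) :
    ∃ (H : Over (Spec (CommRingCat.of k))) (_ : GrpObj H) (h : H ⟶ G), IsMonHom h ∧ IsClosedImmersion h.left ∧
      Smooth H.hom ∧ IsAffine H.left ∧ ConnectedSpace H.left ∧ AlgGrp.IsNormalHom h ∧ ¬ Subsingleton H.left := by
  obtain ⟨hQ, hqm, hqf, hqs, hql, hQl, hqi⟩ := S4107.hull_cover G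
  letI := hQ
  haveI := hqm; haveI := hqf; haveI := hqs; haveI := hql; haveI := hQl; haveI := hqi
  let q : G ⟶ AffHull.hull G := AffHull.toHull G
  haveI : IsSeparated G.hom := GrpField.isSeparated_hom G
  obtain ⟨D, hD, i, him, hic, -, hker⟩ := AdjRep.exists_kernel q
  haveI := him; haveI := hic
  haveI : LocallyOfFiniteType D.hom := by rw [← Over.w i]; infer_instance
  haveI : QuasiCompact D.hom := by rw [← Over.w i]; infer_instance
  have hO : Function.Bijective ((Scheme.ΓSpecIso (CommRingCat.of k)).inv ≫ D.hom.appTop).hom := by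
    haveI := S4107.isIso_appTop_kernel G i hker
    exact ConcreteCategory.bijective_of_isIso _
  haveI := (S11412.result k D hO).1
  haveI := (S3293.result k D hO).1
  have hcent : ∀ (T : Over (Spec (CommRingCat.of k))) (g : T ⟶ G) (d : T ⟶ D), g * (d ≫ i) = (d ≫ i) * g :=
    fun T g d => by
      have := S7996.result k D G hO i T d T (𝟙 T) g
      rw [Category.id_comp] at this
      exact this.symm
  by_cases hp : IsProper D.hom
  · haveI := hp
    obtain ⟨H, hH, h, hhm, hhc, hhs, hhcon, hhn, hsurj, hfin⟩ := exists_quasiComplement i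
    haveI := hhm; haveI := hhc; haveI := hhs; haveI := hsurj
    haveI : QuasiCompact H.hom := by rw [← Over.w h]; infer_instance
    refine ⟨H, hH, h, hhm, hhc, hhs, ?_, hhcon, hhn, fun hsub => hG ?_⟩
    · obtain ⟨n, u, hum, huc⟩ := exists_closedImmersion_GLSpec (AffHull.hull G)
      haveI := hum; haveI := huc
      haveI : Mono u := GrpField.SchImg.mono_of_isClosedImmersion u
      let N' : Over (Spec (CommRingCat.of k)) := Over.mk (pullback.snd i.left h.left ≫ H.hom)
      let n' : N' ⟶ H := Over.homMk (pullback.snd i.left h.left) rfl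
      haveI : IsClosedImmersion n'.left := inferInstanceAs (IsClosedImmersion (pullback.snd i.left h.left))
      haveI : Mono n' := GrpField.SchImg.mono_of_isClosedImmersion n'
      haveI : IsAffine N'.left := by
        haveI : IsFinite (pullback.fst i.left h.left ≫ D.hom) := hfin
        exact isAffine_of_isAffineHom (pullback.fst i.left h.left ≫ D.hom)
      refine AdjRep.isAffine_of_affine_kernel H n (h ≫ q ≫ u) N' n' fun T g => ⟨?_, fun hg => ?_⟩
      · rintro ⟨w, rfl⟩
        have hw : pullback.fst i.left h.left ≫ D.hom = pullback.snd i.left h.left ≫ H.hom := by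
          rw [← Over.w i, pullback.condition_assoc, Over.w h]
        let d : N' ⟶ D := Over.homMk (pullback.fst i.left h.left) hw
        have e : n' ≫ h = d ≫ i := Over.OverMorphism.ext pullback.condition.symm
        rw [Category.assoc, reassoc_of% e, ← Category.assoc i, hker.w, Category.assoc, IsMonHom.one_hom,
          comp_toUnit_assoc, ← Hom.one_def, MonObj.comp_one]
      · have hg' : (g ≫ h) ≫ q = toUnit T ≫ η[AffHull.hull G] := by
          rw [← cancel_mono u, Category.assoc _ (η[AffHull.hull G]), IsMonHom.one_hom, ← Hom.one_def]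
          simpa only [Category.assoc] using hg
        have e := congrArg (fun x => x.left) (hker.lift_fst (g ≫ h) (toUnit T) hg')
        refine ⟨Over.homMk (pullback.lift (hker.lift _ _ hg').left g.left e) ?_,
          Over.OverMorphism.ext (pullback.lift_snd _ _ _)⟩
        show pullback.lift _ _ e ≫ pullback.snd _ _ ≫ H.hom = T.hom
        rw [pullback.lift_snd_assoc, Over.w]
    · haveI : UniversallyClosed H.hom := by
        haveI : Surjective (η[H] : 𝟙_ _ ⟶ H).left :=
          ⟨fun y => ⟨(closedPoint k : (Spec (CommRingCat.of k)).carrier), hsub.elim _ _⟩⟩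
        haveI : UniversallyClosed ((η[H] : 𝟙_ _ ⟶ H).left ≫ H.hom) := by
          rw [Over.w]; exact inferInstanceAs (UniversallyClosed (𝟙 (Spec (CommRingCat.of k))))
        exact UniversallyClosed.of_comp_surjective (η[H] : 𝟙_ _ ⟶ H).left H.hom
      haveI : IsSeparated H.hom := GrpField.isSeparated_hom H
      haveI : IsProper H.hom := { }
      haveI : IsProper (D ⊗ H).hom :=
        inferInstanceAs (IsProper (Limits.pullback.fst D.hom H.hom ≫ D.hom))
      haveI : UniversallyClosed G.hom := by
        haveI : UniversallyClosed (((i ⊗ₘ h) ≫ μ[G]).left ≫ G.hom) := by rw [Over.w]; infer_instance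
        exact UniversallyClosed.of_comp_surjective ((i ⊗ₘ h) ≫ μ[G]).left G.hom
      exact { }
  · obtain ⟨H, hH, h, hhm, hhc, hhs, hha, hhcon, hhd⟩ := exists_affine_subgroup D hp
    haveI := hhm; haveI := hhc
    refine ⟨H, hH, h ≫ i, inferInstance, by rw [Over.comp_left]; infer_instance, hhs, hha, hhcon,
      fun T g x => ⟨x, ?_⟩, fun hsub => ?_⟩
    · have := hcent T g (x ≫ h)
      rw [Category.assoc] at this
      rw [this, _root_.mul_assoc, mul_inv_cancel, _root_.mul_one]
    · haveI : Subsingleton (TopologicalSpace.IrreducibleCloseds H.left) := ⟨fun a b => by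
        ext z
        constructor <;> intro _
        · obtain ⟨w, hw⟩ := b.2.nonempty; exact Subsingleton.elim w z ▸ hw
        · obtain ⟨w, hw⟩ := a.2.nonempty; exact Subsingleton.elim w z ▸ hw⟩
      exact hhd.not_ge Order.krullDim_nonpos_of_subsingleton

/-- The dimension of an algebraic group is finite. -/
theorem exists_natDim (G : Over (Spec (CommRingCat.of k))) [GrpObj G] [LocallyOfFiniteType G.hom] :
    ∃ d : ℕ, topologicalKrullDim G.left = d := by
  haveI : JacobsonSpace G.left := LocallyOfFiniteType.jacobsonSpace G.hom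
  haveI : IsLocallyNoetherian G.left := LocallyOfFiniteType.isLocallyNoetherian G.hom
  let w := SubGen.rpt (1 : RP G)
  have hw : IsClosed ({w} : Set G.left) := mem_closedPoints_iff.1 (SubGen.rpt_mem_closedPoints _)
  rw [← GrpField.coheight_eq_topologicalKrullDim G hw]
  obtain ⟨n, hn⟩ : ∃ n : ℕ, (n : ℕ∞) = Order.coheight w := ENat.ne_top_iff_exists.1 fun ht => by
    have h' := ringKrullDim_stalk_eq_coheight w
    rw [ht] at h'
    exact (ringKrullDim_lt_top (R := G.left.presheaf.stalk w)).ne h'
  exact ⟨n, by rw [← hn]; rfl⟩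

set_option maxHeartbeats 1000000 in
/-- Existence over an algebraically closed field. -/
theorem exists_structure (G : Over (Spec (CommRingCat.of k))) [GrpObj G] [Smooth G.hom] [QuasiCompact G.hom]
    [ConnectedSpace G.left] :
    ∃ (L : Over (Spec (CommRingCat.of k))) (_ : GrpObj L) (l : L ⟶ G) (Q : Over (Spec (CommRingCat.of k))) (_ : GrpObj Q)
      (q : G ⟶ Q), IsMonHom l ∧ IsClosedImmersion l.left ∧ IsAffine L.left ∧ Smooth L.hom ∧ ConnectedSpace L.left ∧
      AlgGrp.IsNormalHom l ∧ IsMonHom q ∧ Surjective q.left ∧ Flat q.left ∧ AlgGrp.IsKernel l q ∧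
      IsProper Q.hom ∧ Smooth Q.hom ∧ ConnectedSpace Q.left := by
  classical
  let Cand : ℕ → Prop := fun d => ∃ (L : Over (Spec (CommRingCat.of k))) (_ : GrpObj L) (l : L ⟶ G), IsMonHom l ∧
    IsClosedImmersion l.left ∧ IsAffine L.left ∧ Smooth L.hom ∧ ConnectedSpace L.left ∧ AlgGrp.IsNormalHom l ∧
    (d : WithBot ℕ∞) = topologicalKrullDim L.left
  obtain ⟨dG, hdG⟩ := exists_natDim G
  have hle : ∀ d, Cand d → d ≤ dG := by
    rintro d ⟨L, _, l, -, hc, -, -, -, -, hd⟩
    haveI := hc
    have := l.left.isClosedEmbedding.isInducing.topologicalKrullDim_le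
    rw [← hd, hdG] at this
    exact_mod_cast this
  have hne : ∃ d, Cand d := by
    haveI := GrpField.isClosedImmersion_eta G
    haveI : Smooth (𝟙_ (Over (Spec (CommRingCat.of k)))).hom := inferInstanceAs (Smooth (𝟙 (Spec (CommRingCat.of k))))
    haveI : ConnectedSpace (𝟙_ (Over (Spec (CommRingCat.of k)))).left := inferInstanceAs (ConnectedSpace (PrimeSpectrum k))
    obtain ⟨d, hd⟩ := exists_natDim (𝟙_ (Over (Spec (CommRingCat.of k))))
    refine ⟨d, 𝟙_ _, inferInstance, η[G], inferInstance, inferInstance,
      inferInstanceAs (IsAffine (Spec (CommRingCat.of k))), inferInstance, inferInstance, fun T g x => ⟨x, ?_⟩, hd.symm⟩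
    rw [toUnit_unique x (toUnit T), ← Hom.one_def, _root_.mul_one, mul_inv_cancel]
  obtain ⟨d, hd, hmax⟩ : ∃ d, Cand d ∧ ∀ d', Cand d' → d' ≤ d := by
    obtain ⟨d₀, hd₀⟩ := hne
    exact ⟨Nat.findGreatest Cand dG, Nat.findGreatest_spec (hle d₀ hd₀) hd₀,
      fun d' hd' => Nat.le_findGreatest (hle d' hd') hd'⟩
  obtain ⟨L, hL, l, hlm, hlc, hla, hls, hlcon, hln, hld⟩ := hd
  haveI := hlm; haveI := hlc; haveI := hla; haveI := hls; haveI := hlcon
  obtain ⟨Q, hQ, q, hqm, hqf, hqs, hker, hsep, hQs, hQq, hQc⟩ := exists_quotient_group l hln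
  haveI := hqm; haveI := hqf; haveI := hqs; haveI := hQs; haveI := hQq; haveI := hQc
  refine ⟨L, hL, l, Q, hQ, q, hlm, hlc, hla, hls, hlcon, hln, hqm, hqs, hqf, hker, ?_, hQs, hQc⟩
  by_contra hQp
  obtain ⟨H, hH, h, hhm, hhc, hhs, hha, hhcon, hhn, hns⟩ := exists_normal_affine Q hQp
  haveI := hhm; haveI := hhc; haveI := hhs; haveI := hha; haveI := hhcon
  obtain ⟨R, hR, r, hrm, -, -, hrk, -, hRs, hRq, -⟩ := exists_quotient_group h hhn
  haveI := hrm; haveI := hRs
  obtain ⟨P, hP, iP, hPm, hPc, hPn, hPk⟩ := AdjRep.exists_kernel (q ≫ r)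
  haveI := hPm; haveI := hPc
  haveI : IsSeparated G.hom := GrpField.isSeparated_hom G
  haveI : Mono h := GrpField.SchImg.mono_of_isClosedImmersion h
  haveI : Mono iP := GrpField.SchImg.mono_of_isClosedImmersion iP
  let p : P ⟶ H := hrk.lift (iP ≫ q) (toUnit P) (by rw [Category.assoc]; exact hPk.w)
  have hp : p ≫ h = iP ≫ q := hrk.lift_fst _ _ _
  have hsq : IsPullback iP p q h := by
    refine IsPullback.mk' hp.symm (fun T φ φ' e₁ _ => (cancel_mono iP).1 e₁) fun T a b e => ?_
    have h1 : a ≫ q ≫ r = toUnit T ≫ η[R] := by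
      rw [← Category.assoc, e, Category.assoc, hrk.w, comp_toUnit_assoc]
    refine ⟨hPk.lift a (toUnit T) h1, hPk.lift_fst _ _ _, ?_⟩
    rw [← cancel_mono h, Category.assoc, hp, ← Category.assoc, hPk.lift_fst, e]
  haveI : IsMonHom p := by
    refine ⟨?_, ?_⟩
    · rw [← cancel_mono h, Category.assoc, hp, IsMonHom.one_hom, IsMonHom.one_hom]
    · rw [← cancel_mono h, Category.assoc, Category.assoc, hp, IsMonHom.mul_hom h,
        MonoidalCategory.tensorHom_comp_tensorHom_assoc, hp, ← MonoidalCategory.tensorHom_comp_tensorHom_assoc,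
        ← IsMonHom.mul_hom q, IsMonHom.mul_hom_assoc iP]
  have hsq' : IsPullback iP.left p.left q.left h.left := hsq.map (Over.forget _)
  haveI : Flat p.left := MorphismProperty.of_isPullback hsq' hqf
  haveI hps : Surjective p.left := MorphismProperty.of_isPullback hsq' hqs
  have hlq : l ≫ q = 1 := by rw [hker.w, Hom.one_def]
  let l' : L ⟶ P := hsq.lift l 1 (by rw [hlq, MonObj.one_comp])
  have hl' : l' ≫ iP = l := hsq.lift_fst _ _ _
  haveI : IsMonHom l' := by
    refine ⟨?_, ?_⟩
    · rw [← cancel_mono iP, Category.assoc, hl', IsMonHom.one_hom, IsMonHom.one_hom]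
    · rw [← cancel_mono iP, Category.assoc, Category.assoc, hl', IsMonHom.mul_hom l, IsMonHom.mul_hom iP,
        MonoidalCategory.tensorHom_comp_tensorHom_assoc, hl']
  have hker' : AlgGrp.IsKernel l' p := by
    have hlp : l' ≫ p = toUnit L ≫ η[H] := by rw [hsq.lift_snd, Hom.one_def]
    refine IsPullback.mk' hlp (fun T φ φ' e₁ _ => hker.hom_ext (by rw [← hl', ← Category.assoc, e₁, Category.assoc])
      (toUnit_unique _ _)) fun T a b e => ?_
    have e' : (a ≫ iP) ≫ q = toUnit T ≫ η[Q] := by
      rw [Category.assoc, ← hp, ← Category.assoc, e, Category.assoc, IsMonHom.one_hom, toUnit_unique b (toUnit T)]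
    exact ⟨hker.lift _ _ e', by rw [← cancel_mono iP, Category.assoc, hl', hker.lift_fst], toUnit_unique _ _⟩
  haveI : LocallyOfFiniteType P.hom := by rw [← Over.w iP]; infer_instance
  haveI : QuasiCompact P.hom := by rw [← Over.w iP]; infer_instance
  haveI : QuasiCompact H.hom := by rw [← Over.w h]; infer_instance
  haveI : QuasiCompact L.hom := by rw [← Over.w l]; infer_instance
  obtain ⟨h1, h2, h3⟩ := S7982.result k L P H l' p hker'
  haveI := h1 hla hha
  haveI := h2 hls hhs
  haveI := h3 hlcon hhcon
  obtain ⟨dP, hdP⟩ := exists_natDim P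
  have hdle := hmax dP ⟨P, hP, iP, hPm, hPc, inferInstance, inferInstance, inferInstance, hPn, hdP.symm⟩
  haveI : IrreducibleSpace L.left := GrpField.irreducibleSpace_of_nhds fun y => GrpField.exists_irreducible_nhd L y
  haveI : IrreducibleSpace P.left := GrpField.irreducibleSpace_of_nhds fun y => GrpField.exists_irreducible_nhd P y
  haveI : IsClosedImmersion l'.left := by
    haveI : IsClosedImmersion (l'.left ≫ iP.left) := by rw [← Over.comp_left, hl']; exact hlc
    exact IsClosedImmersion.of_comp l'.left iP.left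
  haveI := surjective_of_dim_le l' (by rw [hdP, ← hld]; exact_mod_cast hdle)
  refine hns ⟨fun a b => ?_⟩
  have key : ∀ a : H.left, a = SubGen.rpt (1 : RP H) := fun a => by
    obtain ⟨x, rfl⟩ := hps.surj a
    obtain ⟨y, rfl⟩ := l'.left.surjective x
    rw [← Scheme.Hom.comp_apply, ← Over.comp_left, hker'.w, Over.comp_left, Scheme.Hom.comp_apply]
    exact (SubGen.apply_eq_rpt (η[H] : RP H) _).trans
      (by rw [Hom.one_def, toUnit_unit, Category.id_comp])
  rw [key a, key b]

end Groth.Agent.Chev
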