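import Groth.Agent.Chev.TorusExt
import Groth.Agent.Chev.BackIsogeny
import Groth.Agent.Chev.Structure
import Groth.Agent.S5255

/-!
# Extensions of semi-abelian varieties over an algebraically closed field
-/

set_option autoImplicit false
set_option linter.style.haveILetI false
set_option backward.isDefEq.respectTransparency false
set_option maxHeartbeats 1000000
set_option synthInstance.maxHeartbeats 400000
universe u

open CategoryTheory Limits MonoidalCategory CartesianMonoidalCategory MonObj GrpObj AlgebraicGeometry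
open AlgGrp
open scoped CategoryTheory.Obj

noncomputable section

namespace Groth.Agent.Chev

variable {k : Type u} [Field k]

/-- A connected smooth group with a finite kernel to a commutative group is commutative. -/
theorem isCommMonObj_of_finite_kernel {G H : Over (Spec (CommRingCat.of k))} [GrpObj G] [GrpObj H] [IsCommMonObj H]
    [Smooth G.hom] [ConnectedSpace G.left] (f : G ⟶ H) [IsMonHom f]
    (N : Over (Spec (CommRingCat.of k))) [GrpObj N] (n : N ⟶ G) [IsMonHom n] [IsClosedImmersion n.left] [IsFinite N.hom]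
    (hker : AlgGrp.IsKernel n f) : IsCommMonObj G := by
  haveI : IsSeparated G.hom := GrpField.isSeparated_hom G
  haveI : Mono n := GrpField.SchImg.mono_of_isClosedImmersion n
  haveI : GeometricallyConnected G.hom :=
    Groth.Agent.Rigid.geometricallyConnected_of_section G.hom η[G].left (Over.w η[G])
  haveI : ConnectedSpace (G ⊗ G).left := by
    let p := Limits.pullback.snd G.hom G.hom
    haveI : GeometricallyConnected p := inferInstanceAs (GeometricallyConnected (Limits.pullback.snd G.hom G.hom))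
    haveI : UniversallyOpen p := inferInstanceAs (UniversallyOpen (Limits.pullback.snd G.hom G.hom))
    exact GeometricallyConnected.connectedSpace (f := p) p.isOpenMap
  haveI : Smooth (G ⊗ G).hom := inferInstanceAs (Smooth (Limits.pullback.fst G.hom G.hom ≫ G.hom))
  haveI : IsReduced (G ⊗ G).left := isReduced_of_smooth' _
  let c : G ⊗ G ⟶ G := (fst G G * snd G G) * (snd G G * fst G G)⁻¹
  have hc : c ≫ f = toUnit _ ≫ η[H] := by
    simp only [c, MonObj.mul_comp, GrpObj.inv_comp]
    rw [_root_.mul_comm (snd G G ≫ f), mul_inv_cancel, Hom.one_def]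
  let w : G ⊗ G ⟶ N := hker.lift c _ hc
  have hw : w ≫ n = c := hker.lift_fst _ _ _
  have hw1 : lift (1 : 𝟙_ _ ⟶ G) 1 ≫ w = η[N] := by
    rw [← cancel_mono n, Category.assoc, hw, IsMonHom.one_hom]
    simp only [c, MonObj.comp_mul, GrpObj.comp_inv, lift_fst, lift_snd, _root_.mul_one, inv_one]
    rw [Hom.one_def, toUnit_unit, Category.id_comp]
  haveI : DiscreteTopology N.left := SpQS.discrete_of_isFinite N.hom
  have hw' : w = toUnit _ ≫ η[N] := by
    refine eq_toUnit_comp_of_point η[N] w (IsLocalRing.closedPoint k) fun t => ?_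
    rw [← hw1, Over.comp_left, Scheme.Hom.comp_apply]
    exact (isPreconnected_range w.left.continuous).subsingleton ⟨t, rfl⟩ ⟨_, rfl⟩
  have h1 : fst G G * snd G G = snd G G * fst G G := by
    rw [← mul_inv_eq_one]
    show c = 1
    rw [← hw, hw', Category.assoc, IsMonHom.one_hom, Hom.one_def]
  exact ⟨by
    rw [show μ[G] = fst G G * snd G G from Eq.symm (by rw [Hom.mul_def, lift_fst_snd, Category.id_comp]),
      MonObj.comp_mul, braiding_hom_fst, braiding_hom_snd, h1]⟩

theorem isCommMonObj_of_isTorus {T : Over (Spec (CommRingCat.of k))} [GrpObj T] (hT : Red.IsTorus T) :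
    IsCommMonObj T := ⟨by
  rw [show μ[T] = fst T T * snd T T from Eq.symm (by rw [Hom.mul_def, lift_fst_snd, Category.id_comp]),
    MonObj.comp_mul, braiding_hom_fst, braiding_hom_snd, RedR1.mul_comm_torus hT]⟩

variable [IsAlgClosed k]

/-- The image of a smooth connected group in a torus is a torus. -/
theorem exists_torus_image {L T : Over (Spec (CommRingCat.of k))} [GrpObj L] [GrpObj T] [Smooth L.hom]
    [QuasiCompact L.hom] [ConnectedSpace L.left] (hT : Red.IsTorus T) (f : L ⟶ T) [IsMonHom f] :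
    ∃ (S : Over (Spec (CommRingCat.of k))) (_ : GrpObj S) (g : L ⟶ S) (iS : S ⟶ T), Red.IsTorus S ∧ IsMonHom g ∧
      Surjective g.left ∧ IsMonHom iS ∧ IsClosedImmersion iS.left ∧ g ≫ iS = f := by
  haveI := locallyOfFiniteType_of_isTorus hT
  haveI : IsSeparated T.hom := GrpField.isSeparated_hom T
  haveI : QuasiCompact f.left := by
    haveI : QuasiCompact (f.left ≫ T.hom) := by rw [Over.w]; infer_instance
    exact QuasiCompact.of_comp _ T.hom
  obtain ⟨C, hC, iC, g, hiC, hg, hgi, hicl, hgd, hgq, hgs⟩ := GrpField.SchImg.exists_image f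
  haveI := hiC; haveI := hg; haveI := hicl; haveI := hgd; haveI := hgq; haveI := hgs
  haveI : LocallyOfFiniteType C.hom := by rw [← Over.w iC]; infer_instance
  haveI : IsReduced L.left := isReduced_of_smooth' L
  haveI : GeometricallyReduced L.hom := Rigid.geometricallyReduced_of_smooth _
  haveI : GeometricallyReduced C.hom := GrpField.SchImg.geometricallyReduced_of_schDom g
  haveI : IsReduced C.left := GeometricallyReduced.geometrically_isReduced (f := C.hom) (K := k) (𝟙 _) (𝟙 _) C.hom
    (IsPullback.of_horiz_isIso ⟨by rw [Category.id_comp, Category.comp_id]⟩)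
  letI : GrpObj (Over.mk C.hom) := hC
  haveI : Smooth C.hom := GrpBasic.smooth_of_grpObj_perfect C.hom
  haveI : ConnectedSpace C.left := g.left.surjective.connectedSpace g.left.continuous
  exact ⟨C, hC, g, iC, isTorus_of_subgroup hT iC, hg, hgs, hiC, hicl, hgi⟩

/-- A smooth connected closed subgroup of a semi-abelian variety is semi-abelian. -/
theorem isSA_of_subgroup {G' G : Over (Spec (CommRingCat.of k))} [GrpObj G'] [GrpObj G] [Smooth G'.hom]
    [QuasiCompact G'.hom] [ConnectedSpace G'.left] (hG : IsSA G) (j : G' ⟶ G) [IsMonHom j] [IsClosedImmersion j.left] :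
    IsSA G' := by
  obtain ⟨T, hT, i, A, hA, q, him, hic, htor, hqm, hqs, hqf, hker, hAp, hAs, hAc⟩ := hG
  haveI := him; haveI := hic; haveI := hqm; haveI := hAp
  obtain ⟨L, hL, l, B, hB, ρ, hlm, hlc, hla, hls, hlcon, hln, hρm, hρs, hρf, hρk, hBp, hBs, hBc⟩ := exists_structure G'
  haveI := hlm; haveI := hlc; haveI := hla; haveI := hls; haveI := hlcon
  have h1 : (l ≫ j) ≫ q = toUnit L ≫ η[A] := (eq_one_of_affine_of_proper _).trans Hom.one_def
  let u : L ⟶ T := hker.lift (l ≫ j) _ h1
  have hu : u ≫ i = l ≫ j := hker.lift_fst _ _ _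
  haveI : Mono i := GrpField.SchImg.mono_of_isClosedImmersion i
  haveI : IsMonHom (u ≫ i) := by rw [hu]; infer_instance
  haveI := isMonHom_of_comp u i
  haveI : IsSeparated T.hom := haveI := locallyOfFiniteType_of_isTorus htor; GrpField.isSeparated_hom T
  haveI : IsClosedImmersion u.left := by
    haveI : IsClosedImmersion (u.left ≫ i.left) := by
      rw [← Over.comp_left, hu, Over.comp_left]; infer_instance
    exact IsClosedImmersion.of_comp u.left i.left
  exact ⟨L, hL, l, B, hB, ρ, hlm, hlc, isTorus_of_subgroup htor u, hρm, hρs, hρf, hρk, hBp, hBs, hBc⟩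

/-- **An extension of semi-abelian varieties is semi-abelian.** -/
theorem isSA_of_extension {G' G G'' : Over (Spec (CommRingCat.of k))} [GrpObj G'] [GrpObj G] [GrpObj G'']
    [Smooth G'.hom] [QuasiCompact G'.hom] [ConnectedSpace G'.left]
    [Smooth G.hom] [QuasiCompact G.hom] [ConnectedSpace G.left]
    [Smooth G''.hom] [QuasiCompact G''.hom]
    (j : G' ⟶ G) [IsMonHom j] [IsClosedImmersion j.left]
    (p : G ⟶ G'') [IsMonHom p] [Surjective p.left] [Flat p.left] (hex : AlgGrp.IsKernel j p)
    (h' : IsSA G') (h'' : IsSA G'') : IsSA G := by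
  obtain ⟨T', hT', i', A', hA', q', hi'm, hi'c, htor', hq'm, hq's, hq'f, hk', hA'p, hA's, hA'c⟩ := h'
  obtain ⟨T'', hT'', i'', A'', hA'', q'', hi''m, hi''c, htor'', hq''m, hq''s, hq''f, hk'', hA''p, hA''s, hA''c⟩ := h''
  haveI := hi'm; haveI := hi'c; haveI := hq'm; haveI := hq's; haveI := hq'f; haveI := hA'p
  haveI := hi''m; haveI := hi''c; haveI := hq''m; haveI := hA''p
  haveI := smooth_of_isTorus htor'; haveI := connectedSpace_of_isTorus htor'
  haveI := isAffine_of_isTorus htor'
  haveI : IsSeparated G.hom := GrpField.isSeparated_hom G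
  haveI : IsSeparated G'.hom := GrpField.isSeparated_hom G'
  haveI : IsSeparated G''.hom := GrpField.isSeparated_hom G''
  haveI : QuasiCompact T'.hom := haveI := isAffineHom_of_isAffine T'.hom; inferInstance
  haveI : Mono j := GrpField.SchImg.mono_of_isClosedImmersion j
  haveI : Mono i' := GrpField.SchImg.mono_of_isClosedImmersion i'
  let t : T' ⟶ G := i' ≫ j
  haveI : IsMonHom t := inferInstanceAs (IsMonHom (i' ≫ j))
  haveI : IsClosedImmersion t.left := by show IsClosedImmersion (i' ≫ j).left; rw [Over.comp_left]; infer_instance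
  haveI : Mono t := GrpField.SchImg.mono_of_isClosedImmersion t
  -- the torus of the subgroup is normal, hence central
  have hn : AlgGrp.IsNormalHom t := by
    obtain ⟨w, hw⟩ := isNormalHom_of_kernel j p hex (G ⊗ T') (fst G T') (snd G T' ≫ i')
    haveI : Smooth (G ⊗ T').hom := inferInstanceAs (Smooth (pullback.fst G.hom T'.hom ≫ G.hom))
    haveI : IsReduced (G ⊗ T').left := isReduced_of_smooth' _
    haveI : IsSeparated A'.hom := inferInstance
    have h1 : w ≫ q' = 1 := hom_ext_rat fun z => by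
      let g := z ≫ fst G T'
      let φ : T' ⟶ G' := lift (toUnit T' ≫ g) (𝟙 T') ≫ w
      have hφ : φ ≫ j = (toUnit T' ≫ g) * t * (toUnit T' ≫ g)⁻¹ := by
        simp only [φ, t, Category.assoc, ← hw, MonObj.comp_mul, GrpObj.comp_inv, lift_fst, lift_snd_assoc,
          Category.id_comp]
      haveI : IsMonHom φ := by
        refine isMonHom_of_map_mul φ fun {X} f f' => ?_
        rw [← cancel_mono j, MonObj.mul_comp (f ≫ φ) (f' ≫ φ) j]
        simp only [Category.assoc, hφ, MonObj.comp_mul, GrpObj.comp_inv, comp_toUnit_assoc]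
        rw [MonObj.mul_comp]
        group
      have hz : z = (z ≫ snd G T') ≫ lift (toUnit T' ≫ g) (𝟙 T') := by
        rw [comp_lift, comp_toUnit_assoc, toUnit_unit, Category.id_comp, Category.comp_id,
          ← lift_comp_fst_snd z]
        simp [g]
      rw [MonObj.comp_one, hz, Category.assoc, ← Category.assoc _ w q',
        eq_one_of_isTorus_of_proper htor' (φ ≫ q'), MonObj.comp_one]
    intro X g n
    have h2 : (lift g n ≫ w) ≫ q' = toUnit X ≫ η[A'] := by
      rw [Category.assoc, h1, MonObj.comp_one, Hom.one_def]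
    refine ⟨hk'.lift _ _ h2, ?_⟩
    rw [show hk'.lift _ _ h2 ≫ t = (hk'.lift _ _ h2 ≫ i') ≫ j from (Category.assoc _ _ _).symm, hk'.lift_fst,
      Category.assoc, ← hw]
    simp only [t, MonObj.comp_mul, GrpObj.comp_inv, lift_fst, Category.assoc, lift_snd_assoc]
  have hcent : ∀ (X : Over (Spec (CommRingCat.of k))) (g : X ⟶ G) (x : X ⟶ T'), g * (x ≫ t) = (x ≫ t) * g := by
    haveI : GeometricallyConnected G.hom :=
      Groth.Agent.Rigid.geometricallyConnected_of_section G.hom η[G].left (Over.w η[G])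
    exact S5255.result G T' (fun s => GeometricallyConnected.geometrically_connectedSpace _ _ _
      (IsPullback.of_hasPullback G.hom _)) t (MTBridge.isMultTypeFT_of_isTorus T' htor') hn
  obtain ⟨G₁, hG₁, r, hrm, hrf, hrs, hrk, hrsep, hG₁s, hG₁q, hG₁c, hrp⟩ := exists_quotient_group' t hn
  haveI := hrm; haveI := hrf; haveI := hrs; haveI := hrsep; haveI := hG₁s; haveI := hG₁q; haveI := hG₁c
  haveI := hrp
  haveI : QuasiCompact r.left := by
    haveI : QuasiCompact (r.left ≫ G₁.hom) := by rw [Over.w]; infer_instance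
    exact QuasiCompact.of_comp _ G₁.hom
  obtain ⟨p₁, hp₁⟩ := AdjRep.exists_desc t r hrk p (by
    show (i' ≫ j) ≫ p = 1
    rw [Category.assoc, hex.w, comp_toUnit_assoc, Hom.one_def])
  haveI : IsMonHom (r ≫ p₁) := by rw [hp₁]; infer_instance
  haveI := isMonHom_desc r p₁
  -- the kernel of the induced map is proper
  obtain ⟨M₁, hM₁, m₁, hm₁m, hm₁c, -, hm₁k⟩ := AdjRep.exists_kernel p₁
  haveI := hm₁m; haveI := hm₁c
  haveI : Mono m₁ := GrpField.SchImg.mono_of_isClosedImmersion m₁
  let c : G' ⟶ M₁ := hm₁k.lift (j ≫ r) (toUnit G') (by rw [Category.assoc, hp₁, hex.w])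
  have hc : c ≫ m₁ = j ≫ r := hm₁k.lift_fst _ _ _
  have hsq : IsPullback j c r m₁ := by
    refine IsPullback.mk' hc.symm (fun X a b e₁ _ => (cancel_mono j).1 e₁) fun X x y e => ?_
    have h1 : x ≫ p = toUnit X ≫ η[G''] := by
      rw [← hp₁, ← Category.assoc, e, Category.assoc, hm₁k.w, comp_toUnit_assoc]
    refine ⟨hex.lift x _ h1, hex.lift_fst _ _ _, ?_⟩
    rw [← cancel_mono m₁, Category.assoc, hc, ← Category.assoc, hex.lift_fst, e]
  haveI : Surjective c.left := MorphismProperty.of_isPullback (hsq.map (Over.forget _)) hrs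
  haveI : IsMonHom (c ≫ m₁) := by rw [hc]; infer_instance
  haveI := isMonHom_of_comp c m₁
  haveI : QuasiCompact q'.left := by
    haveI : QuasiCompact (q'.left ≫ A'.hom) := by rw [Over.w]; infer_instance
    exact QuasiCompact.of_comp _ A'.hom
  obtain ⟨d, hd⟩ := AdjRep.exists_desc i' q' hk' c (by
    rw [← cancel_mono m₁, Category.assoc, hc, ← Category.assoc, MonObj.one_comp]
    exact hrk.w.trans Hom.one_def.symm)
  haveI : LocallyOfFiniteType M₁.hom := by rw [← Over.w m₁]; infer_instance
  haveI : IsSeparated M₁.hom := GrpField.isSeparated_hom M₁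
  haveI : IsProper M₁.hom := by
    haveI : Surjective d.left := by
      haveI : Surjective (q'.left ≫ d.left) := by rw [← Over.comp_left, hd]; infer_instance
      exact Surjective.of_comp q'.left d.left
    haveI : UniversallyClosed (d.left ≫ M₁.hom) := by rw [Over.w]; infer_instance
    haveI : UniversallyClosed M₁.hom := UniversallyClosed.of_comp_surjective d.left M₁.hom
    exact {}
  -- the linear part of the quotient is a torus
  obtain ⟨L₁, hL₁, l₁, B₁, hB₁, ρ₁, hl₁m, hl₁c, hl₁a, hl₁s, hl₁o, -, hρ₁m, -, -, hρ₁k, hB₁p, -, -⟩ :=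
    exists_structure G₁
  haveI := hl₁m; haveI := hl₁c; haveI := hl₁a; haveI := hl₁s; haveI := hl₁o; haveI := hρ₁m; haveI := hB₁p
  haveI : QuasiCompact L₁.hom := haveI := isAffineHom_of_isAffine L₁.hom; inferInstance
  haveI : Mono l₁ := GrpField.SchImg.mono_of_isClosedImmersion l₁
  haveI : Mono i'' := GrpField.SchImg.mono_of_isClosedImmersion i''
  let u₁ : L₁ ⟶ T'' := hk''.lift (l₁ ≫ p₁) (toUnit L₁) ((eq_one_of_affine_of_proper _).trans Hom.one_def)
  have hu₁ : u₁ ≫ i'' = l₁ ≫ p₁ := hk''.lift_fst _ _ _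
  haveI : IsMonHom (u₁ ≫ i'') := by rw [hu₁]; infer_instance
  haveI := isMonHom_of_comp u₁ i''
  obtain ⟨S₁, hS₁, g₁, iS₁, hS₁t, hg₁m, hg₁s, hiS₁m, hiS₁c, hg₁⟩ := exists_torus_image htor'' u₁
  haveI := hg₁m; haveI := hg₁s; haveI := hiS₁m; haveI := hiS₁c
  haveI := smooth_of_isTorus hS₁t; haveI := isAffine_of_isTorus hS₁t
  haveI : QuasiCompact S₁.hom := haveI := isAffineHom_of_isAffine S₁.hom; inferInstance
  obtain ⟨N₁, hN₁, n₁, hn₁m, hn₁c, -, hn₁k⟩ := AdjRep.exists_kernel g₁
  haveI := hn₁m; haveI := hn₁c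
  haveI : IsAffine N₁.left := isAffine_of_isAffineHom n₁.left
  haveI : IsFinite N₁.hom := by
    let v : N₁ ⟶ M₁ := hm₁k.lift (n₁ ≫ l₁) (toUnit N₁) (by
      rw [Category.assoc, ← hu₁, ← hg₁, Category.assoc g₁, ← Category.assoc, hn₁k.w, Category.assoc,
        IsMonHom.one_hom])
    have hv : v ≫ m₁ = n₁ ≫ l₁ := hm₁k.lift_fst _ _ _
    haveI : IsClosedImmersion v.left := by
      haveI : IsClosedImmersion (v.left ≫ m₁.left) := by
        rw [← Over.comp_left, hv, Over.comp_left]; infer_instance
      exact IsClosedImmersion.of_comp v.left m₁.left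
    haveI : IsProper N₁.hom := by rw [← Over.w v]; infer_instance
    haveI : IsAffineHom N₁.hom := isAffineHom_of_isAffine N₁.hom
    exact IsFinite.iff_isProper_and_isAffineHom.2 ⟨inferInstance, inferInstance⟩
  haveI := isCommMonObj_of_isTorus hS₁t
  haveI := isCommMonObj_of_finite_kernel g₁ N₁ n₁ hn₁k
  obtain ⟨ψ, hψm, hψs⟩ := exists_back L₁ S₁ g₁ N₁ n₁ hn₁k fun e he => surjective_pow_torus hS₁t he
  haveI := hψm; haveI := hψs
  have hT₁ : Red.IsTorus L₁ := isTorus_of_surjective hS₁t ψ
  -- the linear part of the group is a central extension of tori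
  obtain ⟨L, hL, l, B, hB, ρ, hlm, hlc, hla, hls, hlo, -, hρm, hρs, hρf, hρk, hBp, hBs, hBc⟩ := exists_structure G
  haveI := hlm; haveI := hlc; haveI := hla; haveI := hls; haveI := hlo; haveI := hρm; haveI := hBp
  haveI : QuasiCompact L.hom := haveI := isAffineHom_of_isAffine L.hom; inferInstance
  haveI : Mono l := GrpField.SchImg.mono_of_isClosedImmersion l
  let v : L ⟶ L₁ := hρ₁k.lift (l ≫ r) (toUnit L) ((eq_one_of_affine_of_proper _).trans Hom.one_def)
  have hv : v ≫ l₁ = l ≫ r := hρ₁k.lift_fst _ _ _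
  haveI : IsMonHom (v ≫ l₁) := by rw [hv]; infer_instance
  haveI := isMonHom_of_comp v l₁
  obtain ⟨S, hS, g, iS, hSt, hgm, hgs, hiSm, hiSc, hg⟩ := exists_torus_image hT₁ v
  haveI := hgm; haveI := hgs; haveI := hiSm; haveI := hiSc
  haveI : Mono iS := GrpField.SchImg.mono_of_isClosedImmersion iS
  let a : T' ⟶ L := hρk.lift t (toUnit T') ((eq_one_of_isTorus_of_proper htor' _).trans Hom.one_def)
  have ha : a ≫ l = t := hρk.lift_fst _ _ _
  haveI : IsMonHom (a ≫ l) := by rw [ha]; infer_instance
  haveI := isMonHom_of_comp a l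
  have hak : AlgGrp.IsKernel a g := by
    refine IsPullback.mk' ?_ (fun X x y e₁ _ => (cancel_mono t).1 (by rw [← ha, reassoc_of% e₁])) fun X x y e => ?_
    · rw [← cancel_mono iS, ← cancel_mono l₁]
      simp only [Category.assoc, IsMonHom.one_hom]
      rw [reassoc_of% hg, hv, reassoc_of% ha, hrk.w]
    · have h1 : (x ≫ l) ≫ r = toUnit X ≫ η[G₁] := by
        rw [Category.assoc, ← hv, ← hg, Category.assoc g, ← Category.assoc, e, toUnit_unique y (toUnit X),
          Category.assoc, IsMonHom.one_hom]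
      refine ⟨hrk.lift _ _ h1, ?_, toUnit_unique _ _⟩
      rw [← cancel_mono l, Category.assoc, ha, hrk.lift_fst]
  refine ⟨L, hL, l, B, hB, ρ, hlm, hlc, isTorus_of_central_extension htor' hSt a g hak fun X x y => ?_,
    hρm, hρs, hρf, hρk, hBp, hBs, hBc⟩
  rw [← cancel_mono l, MonObj.mul_comp, MonObj.mul_comp, Category.assoc, ha]
  exact (hcent X (y ≫ l) x).symm

end Groth.Agent.Chev
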