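import Groth.Agent.Chev.CentTorus
import Groth.Agent.S7985
import Groth.Prelude.Def_LieHopf
import Mathlib.Algebra.DualNumber

/-!
# The infinitesimal normalizer of a subgroup containing the centralizer of a torus
-/

set_option autoImplicit false
set_option backward.isDefEq.respectTransparency false

universe u

open TensorProduct WithConv
open Groth.Agent.Takeuchi (Pt push)

noncomputable section

namespace Groth.Agent.Chev.CentTorus

variable {k : Type u} [Field k] {A : Type u} [CommRing A] [HopfAlgebra k A] {M : Type u} [CommGroup M]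
  (t : A →ₐc[k] MonoidAlgebra k M)

/-- The first-order parts of points add under multiplication. -/
theorem snd_mul {L : Type u} [CommRing L] [Algebra k L] (g h : Pt k A (DualNumber L))
    (hg : ∀ a, TrivSqZeroExt.fst (g a) = algebraMap k L (Coalgebra.counit (R := k) a))
    (hh : ∀ a, TrivSqZeroExt.fst (h a) = algebraMap k L (Coalgebra.counit (R := k) a)) (a : A) :
    TrivSqZeroExt.snd ((g * h) a) = TrivSqZeroExt.snd (g a) + TrivSqZeroExt.snd (h a) := by
  let sg : A →ₗ[k] L := (TrivSqZeroExt.sndHom L L).restrictScalars k ∘ₗ g.ofConv.toLinearMap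
  let sh : A →ₗ[k] L := (TrivSqZeroExt.sndHom L L).restrictScalars k ∘ₗ h.ofConv.toLinearMap
  let ε : A →ₗ[k] k := Coalgebra.counit
  have key : ∀ z : A ⊗[k] A,
      TrivSqZeroExt.snd (Algebra.TensorProduct.lift g.ofConv h.ofConv (fun _ _ => Commute.all _ _) z) =
        sg (TensorProduct.rid k A (ε.lTensor A z)) + sh (TensorProduct.lid k A (ε.rTensor A z)) := by
    intro z
    induction z using TensorProduct.induction_on with
    | zero => simp
    | tmul p q =>
      rw [Algebra.TensorProduct.lift_tmul, TrivSqZeroExt.snd_mul, hg, hh]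
      simp [sg, sh, ε, Algebra.smul_def, TrivSqZeroExt.algebraMap_eq_inl', mul_comm, add_comm]
    | add x y hx hy => simp only [map_add, TrivSqZeroExt.snd_add, hx, hy]; abel
  rw [AlgHom.convMul_apply, key, Coalgebra.lTensor_counit_comul, Coalgebra.rTensor_counit_comul]
  simp [sg, sh]

/-- Tangent vectors normalising a subgroup containing the centralizer of a torus are tangent to it. -/
theorem dlin_eq_zero [Algebra.FiniteType k A] (I : Ideal A) [I.IsHopfIdeal k] (D : LieHopf.Lie k A)
    (htI : ∀ a ∈ I, t a = 0)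
    (hcent : ∀ (R : Type u) [CommRing R] [Algebra k R] (g : Pt k A R), Commutes t g → ∀ a ∈ I, g a = 0)
    (hnorm : ∀ (R : Type u) [CommRing R] [Algebra k R] (e : R) (he : e * e = 0) (b : Pt k A R), (∀ a ∈ I, b a = 0) →
      ∀ a ∈ I, (toConv (LieHopf.ptOfLie D R e he) * b * (toConv (LieHopf.ptOfLie D R e he))⁻¹) a = 0) :
    ∀ a ∈ I, LieHopf.dlin D a = 0 := by
  classical
  intro a ha
  let L := MonoidAlgebra k M
  let n : Pt k A (DualNumber L) := toConv (LieHopf.ptOfLie D (DualNumber L) DualNumber.eps DualNumber.eps_mul_eps)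
  let inl : L →ₐ[k] DualNumber L := TrivSqZeroExt.inlAlgHom k L L
  let τ : Pt k A (DualNumber L) := push inl (toConv (t : A →ₐ[k] L))
  have hτ : Takeuchi.InN I τ := fun x hx => by
    show inl (t x) = 0
    rw [htI x hx, map_zero]
  let h : Pt k A (DualNumber L) := τ * n * τ⁻¹ * n⁻¹
  have hh : Takeuchi.InN I h := by
    have h1 : Takeuchi.InN I (n * τ⁻¹ * n⁻¹) := hnorm _ _ DualNumber.eps_mul_eps _ (Takeuchi.InN.inv hτ)
    have e : h = τ * (n * τ⁻¹ * n⁻¹) := by
      show τ * n * τ⁻¹ * n⁻¹ = _
      rw [_root_.mul_assoc τ n τ⁻¹, _root_.mul_assoc τ (n * τ⁻¹) n⁻¹]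
    rw [e]
    exact hτ.mul h1
  -- first order
  have hn1 : ∀ x, TrivSqZeroExt.fst (n x) = algebraMap k L (Coalgebra.counit (R := k) x) := fun x => by
    show TrivSqZeroExt.fst (algebraMap k (DualNumber L) _ + algebraMap k (DualNumber L) _ * DualNumber.eps) = _
    simp [TrivSqZeroExt.algebraMap_eq_inl']
  have hn2 : ∀ x, TrivSqZeroExt.snd (n x) = algebraMap k L (LieHopf.dlin D x) := fun x => by
    show TrivSqZeroExt.snd (algebraMap k (DualNumber L) _ + algebraMap k (DualNumber L) _ * DualNumber.eps) = _
    simp [TrivSqZeroExt.algebraMap_eq_inl', TrivSqZeroExt.snd_mul]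
  let F : DualNumber L →ₐ[k] L := (TrivSqZeroExt.fstHom L L L).restrictScalars k
  have hFn : push F n = 1 := WithConv.ext (AlgHom.ext fun x => by
    rw [AlgHom.convOne_apply]
    exact hn1 x)
  have hFh : ∀ x, TrivSqZeroExt.fst (h x) = algebraMap k L (Coalgebra.counit (R := k) x) := fun x => by
    have e : push F h = 1 := by
      simp only [h, Takeuchi.push_mul, Takeuchi.push_inv, hFn, _root_.mul_one, inv_one, mul_inv_cancel]
    have e' := congrArg (fun z : Pt k A L => z.ofConv x) e
    rw [AlgHom.convOne_apply] at e'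
    exact e'
  have hconj : conj t (AlgHom.id k _) inl n = h * n := by
    rw [conj, show push (AlgHom.id k (DualNumber L)) n = n from WithConv.ext (AlgHom.id_comp _)]
    exact (inv_mul_cancel_right _ _).symm
  let c : Pt k A (DualNumber L) := conj t (AlgHom.id k _) inl n
  have hc1 : ∀ x, TrivSqZeroExt.fst (c x) = algebraMap k L (Coalgebra.counit (R := k) x) := fun x => by
    have e : push F c = 1 := by
      simp only [c, conj, Takeuchi.push_mul, Takeuchi.push_inv]
      rw [show push F (push (AlgHom.id k (DualNumber L)) n) = push F n from rfl, hFn, _root_.mul_one, mul_inv_cancel]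
    have e' := congrArg (fun z : Pt k A L => z.ofConv x) e
    rw [AlgHom.convOne_apply] at e'
    exact e'
  have hcI : TrivSqZeroExt.snd (c a) = algebraMap k L (LieHopf.dlin D a) := by
    have := snd_mul h n hFh hn1 a
    rw [← hconj, hn2, show TrivSqZeroExt.snd (h a) = 0 by rw [hh a ha]; exact TrivSqZeroExt.snd_zero, zero_add] at this
    exact this
  -- the weight-zero part
  let co : L →ₗ[k] k := Finsupp.lapply (1 : M) ∘ₗ (MonoidAlgebra.coeffLinearEquiv k).toLinearMap
  have hcoalg : ∀ (r : k), co (algebraMap k L r) = r := fun r => by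
    rw [Algebra.algebraMap_eq_smul_one, map_smul, smul_eq_mul, MonoidAlgebra.one_def]
    show r * (MonoidAlgebra.single (1 : M) (1 : k)).coeff 1 = r
    rw [MonoidAlgebra.coeff_single, Finsupp.single_eq_same, _root_.mul_one]
  have hcomul : ∀ (r : k) (x : L), co (algebraMap k L r * x) = r * co x := fun r x => by
    rw [← Algebra.smul_def, map_smul, smul_eq_mul]
  let δ : A → k := fun x => co (TrivSqZeroExt.snd (c x))
  have hδmul : ∀ x y, δ (x * y) = Coalgebra.counit (R := k) x * δ y + δ x * Coalgebra.counit (R := k) y := fun x y => by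
    show co (TrivSqZeroExt.snd (c.ofConv (x * y))) = _
    rw [map_mul, TrivSqZeroExt.snd_mul, hc1, hc1, smul_eq_mul, MulOpposite.smul_eq_mul_unop, MulOpposite.unop_op,
      map_add, mul_comm (TrivSqZeroExt.snd (c x)), hcomul, hcomul, mul_comm (δ x)]
  have hδalg : ∀ r : k, δ (algebraMap k A r) = 0 := fun r => by
    show co (TrivSqZeroExt.snd (c.ofConv (algebraMap k A r))) = 0
    rw [AlgHom.commutes]
    simp [TrivSqZeroExt.algebraMap_eq_inl']
  let n₀ : A →ₐ[k] DualNumber k :=
    { toFun := fun x => TrivSqZeroExt.inl (Coalgebra.counit (R := k) x) + TrivSqZeroExt.inr (δ x)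
      map_one' := by
        have h1 := hδalg 1
        rw [map_one] at h1
        rw [h1, Bialgebra.counit_one]
        simp
      map_mul' := fun x y => by
        refine TrivSqZeroExt.ext ?_ ?_
        · simp
        · simp [hδmul, mul_comm]
      map_zero' := by
        have h1 : δ 0 = 0 := by
          show co (TrivSqZeroExt.snd (c.ofConv 0)) = 0
          rw [map_zero, TrivSqZeroExt.snd_zero, map_zero]
        rw [h1, map_zero]
        simp
      map_add' := fun x y => by
        have h1 : δ (x + y) = δ x + δ y := by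
          show co (TrivSqZeroExt.snd (c.ofConv (x + y))) = _
          rw [map_add, TrivSqZeroExt.snd_add, map_add]
        rw [h1, map_add, TrivSqZeroExt.inl_add, TrivSqZeroExt.inr_add]
        abel
      commutes' := fun r => by
        rw [hδalg, Bialgebra.counit_algebraMap]
        simp [TrivSqZeroExt.algebraMap_eq_inl'] }
  obtain ⟨s, hs, htop⟩ := exists_generators t
  have hn₀ : Commutes t (toConv n₀) := by
    refine (commutes_iff t hs htop _).2 fun p hp hne => ?_
    have hval : c p.2 = n p.2 * inl (MonoidAlgebra.single p.1 1) := conj_apply t (hs p hp) _ _ n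
    have hε : Coalgebra.counit (R := k) p.2 = (0 : k) := by
      have h1 := hc1 p.2
      rw [hval, TrivSqZeroExt.fst_mul, hn1] at h1
      have h2 := congrArg co h1
      rw [hcomul, hcoalg] at h2
      have h3 : co (TrivSqZeroExt.fst (inl (MonoidAlgebra.single p.1 1))) = 0 := by
        show (MonoidAlgebra.single p.1 (1 : k)).coeff 1 = 0
        rw [MonoidAlgebra.coeff_single, Finsupp.single_eq_of_ne (Ne.symm hne)]
      rw [h3, mul_zero] at h2
      exact h2.symm
    have hδ : δ p.2 = 0 := by
      show co (TrivSqZeroExt.snd (c p.2)) = 0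
      rw [hval, TrivSqZeroExt.snd_mul, hn1, hn2]
      have h3 : co (MonoidAlgebra.single p.1 (1 : k)) = 0 := by
        show (MonoidAlgebra.single p.1 (1 : k)).coeff 1 = 0
        rw [MonoidAlgebra.coeff_single, Finsupp.single_eq_of_ne (Ne.symm hne)]
      simp [hε, inl, Algebra.algebraMap_eq_smul_one, h3]
    show TrivSqZeroExt.inl (Coalgebra.counit (R := k) p.2) + TrivSqZeroExt.inr (δ p.2) = 0
    rw [hε, hδ]
    simp
  have h0 := hcent _ (toConv n₀) hn₀ a ha
  have h1 : δ a = 0 := by
    have := congrArg TrivSqZeroExt.snd h0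
    simpa [n₀] using this
  rw [← hcoalg (LieHopf.dlin D a), ← hcI]
  exact h1

end Groth.Agent.Chev.CentTorus
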