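import Groth.Agent.Chev.BorelNorm
import Groth.Agent.Chev.BorelLie

/-!
# Borel subgroups are their own normalizers
-/

set_option autoImplicit false
set_option backward.isDefEq.respectTransparency false

universe u

open CategoryTheory CategoryTheory.Limits MonoidalCategory CartesianMonoidalCategory MonObj GrpObj AlgebraicGeometry
open TensorProduct WithConv
open Groth.Agent.GrassClosed (SpA over_hom_ext)
open Groth.Agent.Takeuchi (Pt push)
open Groth.Agent.SubGen (rpt exists_rpt map_rpt)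
open Groth.Agent.MTBridge (specGrp)
open Groth.Agent.Chev.PtsAction (sp)

noncomputable section

namespace Groth.Agent.Chev.Borel

variable {k : Type u} [Field k]

/-- A homomorphism between affine groups on affine points. -/
theorem ptsR_comp {H G : Over (Spec (CommRingCat.of k))} [GrpObj H] [GrpObj G] {A B : Type u} [CommRing A]
    [HopfAlgebra k A] [CommRing B] [HopfAlgebra k B] (e : (specGrp k A).X ≅ G) [IsMonHom e.hom]
    (e' : (specGrp k B).X ≅ H) [IsMonHom e'.hom] (f : H ⟶ G) (h : A →ₐ[k] B)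
    (hf : e'.hom.left ≫ f.left = Spec.map (CommRingCat.ofHom h.toRingHom) ≫ e.hom.left)
    (R : CommAlgCat.{u} k) (x : SpA R ⟶ H) :
    ptsR e R (x ≫ f) = toConv ((ptsR e' R x).ofConv.comp h) := by
  let φ := ptsR e' R x
  apply (ptsR e R).symm.injective
  rw [MulEquiv.symm_apply_apply]
  conv_lhs => rw [← (ptsR e' R).symm_apply_apply x]
  refine Over.OverMorphism.ext ?_
  show (Spec.map (CommRingCat.ofHom φ.ofConv.toRingHom) ≫ e'.hom.left) ≫ f.left =
    Spec.map (CommRingCat.ofHom (φ.ofConv.comp h).toRingHom) ≫ e.hom.left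
  rw [Category.assoc, hf, ← Spec.map_comp_assoc]
  rfl

/-- A closed subgroup of an affine group as a surjection of Hopf algebras. -/
theorem exists_surjective_bialgHom {H G : Over (Spec (CommRingCat.of k))} [GrpObj H] [GrpObj G] {A B : Type u}
    [CommRing A] [HopfAlgebra k A] [CommRing B] [HopfAlgebra k B] (e : (specGrp k A).X ≅ G) [IsMonHom e.hom]
    (e' : (specGrp k B).X ≅ H) [IsMonHom e'.hom] (f : H ⟶ G) [IsMonHom f] [IsClosedImmersion f.left] :
    ∃ jh : A →ₐc[k] B, Function.Surjective jh ∧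
      e'.hom.left ≫ f.left = Spec.map (CommRingCat.ofHom (jh : A →ₐ[k] B).toRingHom) ≫ e.hom.left := by
  haveI : IsIso e'.hom.left := inferInstanceAs (IsIso ((Over.forget _).map e'.hom))
  haveI : IsIso e.inv.left := inferInstanceAs (IsIso ((Over.forget _).map e.inv))
  haveI : IsMonHom e.inv := inferInstance
  let v₀ : (specGrp k B).X ⟶ (specGrp k A).X := e'.hom ≫ f ≫ e.inv
  haveI : IsMonHom v₀ := by dsimp [v₀]; infer_instance
  obtain ⟨jh, hjh⟩ := MTBridge.exists_bialgHom v₀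
  refine ⟨jh, ?_, by rw [← Over.comp_left, show e'.hom ≫ f = v₀ ≫ e.hom by simp [v₀], Over.comp_left, hjh]⟩
  haveI : IsClosedImmersion v₀.left := inferInstanceAs (IsClosedImmersion (e'.hom.left ≫ f.left ≫ e.inv.left))
  let φ : CommRingCat.of A ⟶ CommRingCat.of B := CommRingCat.ofHom (jh : A →ₐ[k] B).toRingHom
  haveI : IsClosedImmersion (Spec.map φ) := hjh ▸ ‹IsClosedImmersion v₀.left›
  have h := (IsClosedImmersion.isAffine_surjective_of_isAffine (Spec.map φ)).2
  intro c
  obtain ⟨a, ha⟩ := h ((Scheme.ΓSpecIso _).inv c)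
  refine ⟨(Scheme.ΓSpecIso (CommRingCat.of A)).hom a, ?_⟩
  show φ ((Scheme.ΓSpecIso _).hom a) = c
  rw [← CommRingCat.comp_apply, ← Scheme.ΓSpecIso_naturality, CommRingCat.comp_apply, ha, Iso.inv_hom_id_apply]

variable [IsAlgClosed k]

/-- Over an algebraically closed field the normalizer scheme of a Borel subgroup is the subgroup. -/
theorem isIso_to_normalizer {G B N : Over (Spec (CommRingCat.of k))} [GrpObj G] [GrpObj B] [GrpObj N] [IsAffine G.left]
    [Smooth G.hom] [ConnectedSpace G.left] (iB : B ⟶ G) (hB : Red.IsBorelOver k iB) (j : N ⟶ G)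
    (hN : Red.IsNormalizerOf iB j) [IsClosedImmersion j.left] (s : B ⟶ N) (hs : s ≫ j = iB) : IsIso s := by
  obtain ⟨hBm, hBc, hBs, hBconn, -, -⟩ := id hB
  haveI := hBm; haveI := hBc; haveI := hBs; haveI := hBconn; haveI := hN.1; haveI := hN.2.1
  haveI : IsAffine B.left := isAffine_of_isAffineHom iB.left
  haveI : IsAffine N.left := isAffine_of_isAffineHom j.left
  haveI : LocallyOfFiniteType N.hom := by rw [← Over.w j]; infer_instance
  haveI : IsMonHom s := MTSplit.isMonHom_of_comp_mono s j iB hs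
  haveI : IsClosedImmersion (s.left ≫ j.left) := by rw [← Over.comp_left, hs]; infer_instance
  haveI : IsClosedImmersion s.left := IsClosedImmersion.of_comp s.left j.left
  -- rational points
  have hpts : ∀ x : RP N, ∃ b : RP B, b ≫ s = x := fun x => by
    obtain ⟨b, hb⟩ := mem_borel_of_normalizes iB hB (x ≫ j) fun b => by
      obtain ⟨⟨b', hb'⟩, -⟩ := (hN.2.2 _ (x ≫ j)).1 ⟨x, rfl⟩ _ (𝟙 _) b
      exact ⟨b', by rw [← hb', Category.id_comp]⟩
    exact ⟨b, (cancel_mono j).1 (by rw [Category.assoc, hs, hb])⟩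
  -- coordinates
  obtain ⟨A, hA, e, he⟩ := FinHopf.exists_hopf (R := CommRingCat.of k) G
  haveI := he
  obtain ⟨A₁, hA₁, e₁, he₁⟩ := FinHopf.exists_hopf (R := CommRingCat.of k) B
  haveI := he₁
  obtain ⟨A₂, hA₂, e₂, he₂⟩ := FinHopf.exists_hopf (R := CommRingCat.of k) N
  haveI := he₂
  haveI : IsIso e.hom.left := inferInstanceAs (IsIso ((Over.forget _).map e.hom))
  haveI : IsIso e₁.hom.left := inferInstanceAs (IsIso ((Over.forget _).map e₁.hom))
  haveI : IsIso e₂.hom.left := inferInstanceAs (IsIso ((Over.forget _).map e₂.hom))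
  haveI : Algebra.FiniteType k A := by
    have h0 : LocallyOfFiniteType (e.hom.left ≫ G.hom) := inferInstance
    rw [Over.w e.hom] at h0
    exact RingHom.finiteType_algebraMap.1 ((HasRingHomProperty.Spec_iff (P := @LocallyOfFiniteType)).1 h0)
  haveI : Algebra.FiniteType k A₂ := by
    have h0 : LocallyOfFiniteType (e₂.hom.left ≫ N.hom) := inferInstance
    rw [Over.w e₂.hom] at h0
    exact RingHom.finiteType_algebraMap.1 ((HasRingHomProperty.Spec_iff (P := @LocallyOfFiniteType)).1 h0)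
  haveI : Algebra.FiniteType k A₁ := by
    have h0 : LocallyOfFiniteType (e₁.hom.left ≫ B.hom) := inferInstance
    rw [Over.w e₁.hom] at h0
    exact RingHom.finiteType_algebraMap.1 ((HasRingHomProperty.Spec_iff (P := @LocallyOfFiniteType)).1 h0)
  haveI : Algebra.Smooth k A₁ := by
    have h0 : Smooth (e₁.hom.left ≫ B.hom) := inferInstance
    rw [Over.w e₁.hom] at h0
    exact RingHom.smooth_algebraMap.1 ((HasRingHomProperty.Spec_iff (P := @Smooth)).1 h0)
  haveI : IsDomain A₁ := isDomain_of_smooth_connected e₁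
  obtain ⟨jn, hjn, hjnf⟩ := exists_surjective_bialgHom e e₂ j
  obtain ⟨jh, hjh, hjhf⟩ := exists_surjective_bialgHom e e₁ iB
  obtain ⟨jb, hjb, hjbf⟩ := exists_surjective_bialgHom e₂ e₁ s
  let K : Ideal A₂ := RingHom.ker jb
  haveI : K.IsHopfIdeal k := DiagUnip.isHopfIdeal_ker jb
  let I : Ideal A := RingHom.ker jh
  haveI : I.IsHopfIdeal k := DiagUnip.isHopfIdeal_ker jh
  have hcomp : ∀ a, jb (jn a) = jh a := by
    have hiB : iB.left = s.left ≫ j.left := by rw [← hs]; rfl
    have h2 : Spec.map (CommRingCat.ofHom (jh : A →ₐ[k] A₁).toRingHom) =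
        Spec.map (CommRingCat.ofHom (jb : A₂ →ₐ[k] A₁).toRingHom) ≫ Spec.map (CommRingCat.ofHom (jn : A →ₐ[k] A₂).toRingHom) := by
      rw [← cancel_mono e.hom.left, Category.assoc, ← hjhf, ← hjnf, ← Category.assoc, ← hjbf, Category.assoc,
        hiB]
    rw [← Spec.map_comp] at h2
    intro a
    exact congrArg (fun f => f a) (Spec.map_injective h2).symm
  -- no nilpotents needed on points
  have hker : ∀ ψ : A₂ →ₐ[k] k, ∀ x ∈ K, ψ x = 0 := by
    intro ψ x hx
    obtain ⟨b, hb⟩ := hpts ((ProjRep.ptsEquiv e₂).symm (toConv ψ))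
    have h1 := ptsEquiv_comp e₁ e₂ s _ hjbf b
    rw [hb, MulEquiv.apply_symm_apply] at h1
    have h2 := congrArg (fun z : Pt k A₂ k => z x) h1
    refine h2.trans ?_
    show (ProjRep.ptsEquiv e₁ b).ofConv (jb x) = 0
    rw [RingHom.mem_ker.1 hx, map_zero]
  have hnil : ∀ x ∈ K, IsNilpotent x := by
    intro x hx
    rw [← mem_nilradical, nilradical_eq_sInf, Ideal.mem_sInf]
    intro P (hP : P.IsPrime)
    haveI : P.IsPrime := hP
    by_contra hxP
    obtain ⟨ψ, hψ⟩ := UnitTensor.exists_point (k := k) (A := A₂ ⧸ P) (a := Ideal.Quotient.mk P x)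
      (fun h0 => hxP (Ideal.Quotient.eq_zero_iff_mem.1 h0))
    exact hψ (hker (ψ.comp (Ideal.Quotient.mkₐ k P)) x hx)
  have hidem : ∀ x : A₂, IsIdempotentElem x → x = 0 ∨ x = 1 := by
    intro x hx
    rcases IsIdempotentElem.iff_eq_zero_or_one.1 (hx.map jb) with h0 | h1
    · exact Or.inl (hx.eq_zero_of_isNilpotent (hnil x h0))
    · exact Or.inr (sub_eq_zero.1 ((hx.one_sub).eq_zero_of_isNilpotent (hnil (1 - x) (by
        rw [RingHom.mem_ker, map_sub, map_one, h1, sub_self]))) |>.symm)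
  haveI : Algebra.FormallySmooth k (A₂ ⧸ K) :=
    Algebra.FormallySmooth.of_equiv
      (Ideal.quotientKerAlgEquivOfSurjective (f := (jb : A₂ →ₐ[k] A₁)) hjb).symm
  -- a maximal torus and its centralizer
  obtain ⟨T₁, B₁, hT₁g, hB₁g, t₁, b₁, -, -, hb₁, hT₁, -⟩ := exists_maxTorus G
  obtain ⟨g₁, eB, heB⟩ := borel_conj b₁ iB hb₁ hB
  obtain ⟨iT, hiT, ht⟩ : ∃ iT : T₁ ⟶ G, AGF.IsMaxTorus iT ∧ (t₁ ≫ eB.hom) ≫ iB = iT :=
    ⟨_, isMaxTorus_conjBy g₁ _ hT₁, by rw [Category.assoc, heB, comp_conjBy']⟩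
  haveI := hiT.1; haveI := hiT.2.1
  haveI : Mono iB := GrpField.SchImg.mono_of_isClosedImmersion iB
  haveI : IsMonHom (t₁ ≫ eB.hom) := MTSplit.isMonHom_of_comp_mono _ iB iT ht
  obtain ⟨C, hCg, c, hC, -, -⟩ := Groth.Agent.S5247.result T₁ G
    (MTBridge.isMultTypeFT_of_isTorus T₁ hiT.2.2.1) ‹Smooth G.hom› inferInstance iT
  obtain ⟨f, hf⟩ := centralizer_le_borel iT hiT c hC iB hB _ ht
  obtain ⟨A₃, _, _, e₃, he₃, hft₃, hdom₃, ⟨M, _, ⟨E⟩⟩⟩ := exists_hopf_torus hiT.2.2.1
  haveI := he₃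
  haveI : IsIso e₃.hom.left := inferInstanceAs (IsIso ((Over.forget _).map e₃.hom))
  haveI : IsMonHom e₁.inv := inferInstance
  let v : (specGrp k A₃).X ⟶ (specGrp k A₁).X := e₃.hom ≫ (t₁ ≫ eB.hom) ≫ e₁.inv
  haveI : IsMonHom v := by dsimp [v]; infer_instance
  obtain ⟨tb, htb⟩ := MTBridge.exists_bialgHom v
  let th : A →ₐc[k] A₃ := tb.comp jh
  let t : A →ₐc[k] MonoidAlgebra k M := (E : A₃ →ₐc[k] MonoidAlgebra k M).comp th
  have hTf : e₃.hom.left ≫ iT.left = Spec.map (CommRingCat.ofHom (th : A →ₐ[k] A₃).toRingHom) ≫ e.hom.left := by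
    rw [← ht, Over.comp_left, ← Category.assoc, show e₃.hom.left ≫ (t₁ ≫ eB.hom).left = v.left ≫ e₁.hom.left by
      rw [← Over.comp_left, ← Over.comp_left]; simp [v], Category.assoc, hjhf, htb, ← Spec.map_comp_assoc]
    rfl
  refine (?_ : IsIso s)
  have hKbot : K = ⊥ := by
    refine Groth.Agent.S7985.result k A₂ hidem K fun D x hx => ?_
    obtain ⟨a, rfl⟩ := hjn x
    have haI : a ∈ I := by
      rw [RingHom.mem_ker, ← hcomp]
      exact hx
    -- the derivation on the ambient group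
    let D' : LieHopf.Lie k A :=
      Derivation.mk' ((LieHopf.dlin D).comp (jn : A →ₐ[k] A₂).toLinearMap) fun p q => by
        show LieHopf.dlin D (jn (p * q)) = _
        rw [map_mul, LieHopf.dlin_mul, LieHopf.smul_def, LieHopf.smul_def]
        simp only [Bialgebra.counitAlgHom_apply, CoalgHomClass.counit_comp_apply]
        rfl
    have := CentTorus.dlin_eq_zero t I D' (fun b hb => by
      show E (tb (jh b)) = 0
      rw [RingHom.mem_ker.1 hb, map_zero, map_zero]) (fun R _ _ g hg b hb => ?_) (fun R _ _ ε hε b hb => ?_) a haI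
    · exact this
    · -- points commuting with the torus lie in the subgroup
      let R₀ : CommAlgCat.{u} k := CommAlgCat.of k R
      obtain ⟨z, hz⟩ := (hC.2.2 _ ((ptsR e R₀).symm g)).2 fun X' x h => by
        refine over_hom_ext _ _ fun R' p => ?_
        rw [MonObj.comp_mul, MonObj.comp_mul, ← Category.assoc p x, ← Category.assoc p h]
        apply (ptsR e R').injective
        rw [map_mul, map_mul, ptsR_comp e e₃ iT _ hTf]
        let eta : MonoidAlgebra k M →ₐ[k] R' :=
          (ptsR e₃ R' (p ≫ h)).ofConv.comp ((E.symm : MonoidAlgebra k M →ₐc[k] A₃) : MonoidAlgebra k M →ₐ[k] A₃)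
        obtain ⟨φ, hφ⟩ : ∃ φ : R →ₐ[k] R', ptsR e R' ((p ≫ x) ≫ (ptsR e R₀).symm g) = push φ g := by
          obtain ⟨φ, hφ⟩ : ∃ φ : R →ₐ[k] R', sp (A := R₀) φ = p ≫ x := by
            obtain ⟨φ, hφ⟩ := GrassClosed.exists_algHom (A := R₀) (𝟙 _) (p ≫ x) (p ≫ x).left (Category.comp_id _)
            exact ⟨φ.hom, Over.OverMorphism.ext hφ⟩
          exact ⟨φ, by rw [← hφ, ptsR_sp, MulEquiv.apply_symm_apply]⟩
        rw [hφ, show (toConv ((ptsR e₃ R' (p ≫ h)).ofConv.comp (th : A →ₐ[k] A₃)) : Pt k A R') =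
          push eta (toConv (t : A →ₐ[k] MonoidAlgebra k M)) from WithConv.ext (AlgHom.ext fun b => by simp [push, eta, t])]
        have h1 := CentTorus.commutes_conj t hg φ eta
        rw [CentTorus.conj, mul_inv_eq_iff_eq_mul] at h1
        exact h1.symm
      have hw := ptsR_comp e e₁ iB _ hjhf R₀ (z ≫ f)
      rw [Category.assoc, hf, hz, MulEquiv.apply_symm_apply] at hw
      rw [hw]
      show (ptsR e₁ R₀ (z ≫ f)).ofConv (jh b) = 0
      rw [RingHom.mem_ker.1 hb, map_zero]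
    · -- the tangent point normalises
      let R₀ : CommAlgCat.{u} k := CommAlgCat.of k R
      let q : SpA R₀ ⟶ N := (ptsR e₂ R₀).symm (toConv (LieHopf.ptOfLie D R ε hε))
      have hq : ptsR e R₀ (q ≫ j) = toConv (LieHopf.ptOfLie D' R ε hε) := by
        rw [ptsR_comp e e₂ j _ hjnf, MulEquiv.apply_symm_apply]
        refine WithConv.ext (AlgHom.ext fun p => ?_)
        show algebraMap k R (Bialgebra.counitAlgHom k A₂ (jn p)) + algebraMap k R (LieHopf.dlin D (jn p)) * ε = _
        rw [Bialgebra.counitAlgHom_apply, CoalgHomClass.counit_comp_apply]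
        rfl
      let bb : SpA R₀ ⟶ B := (ptsR e₁ R₀).symm (toConv (AlgHom.liftOfSurjective (jh : A →ₐ[k] A₁) hjh b.ofConv hb))
      have hbb : ptsR e R₀ (bb ≫ iB) = b := by
        rw [ptsR_comp e e₁ iB _ hjhf, MulEquiv.apply_symm_apply]
        exact WithConv.ext (AlgHom.liftOfSurjective_comp _ _ _ _)
      obtain ⟨⟨h', hh'⟩, -⟩ := (hN.2.2 _ (q ≫ j)).1 ⟨q, rfl⟩ _ (𝟙 _) bb
      rw [Category.id_comp] at hh'
      intro p hp
      rw [← hq, ← hbb, ← map_inv, ← map_mul, ← map_mul, hh', ptsR_comp e e₁ iB _ hjhf]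
      show (ptsR e₁ R₀ h').ofConv (jh p) = 0
      rw [RingHom.mem_ker.1 hp, map_zero]
  have hbij : Function.Bijective jb := ⟨(RingHom.injective_iff_ker_eq_bot _).2 hKbot, hjb⟩
  haveI : IsIso (CommRingCat.ofHom (jb : A₂ →ₐ[k] A₁).toRingHom) :=
    (ConcreteCategory.isIso_iff_bijective _).2 hbij
  haveI : IsIso (e₁.hom.left ≫ s.left) := by rw [hjbf]; infer_instance
  haveI : IsIso s.left := IsIso.of_isIso_comp_left e₁.hom.left s.left
  haveI : IsIso ((Over.forget _).map s) := ‹IsIso s.left›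
  exact isIso_of_reflects_iso s (Over.forget _)

end Groth.Agent.Chev.Borel
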