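import Groth.Agent.Chev.CartanPre
import Groth.Agent.Chev.BorelNormScheme

/-!
# Borel subgroups of connected algebraic groups are their own normalizers
-/

set_option autoImplicit false
set_option backward.isDefEq.respectTransparency false

universe u

open CategoryTheory CategoryTheory.Limits MonoidalCategory CartesianMonoidalCategory MonObj GrpObj AlgebraicGeometry
open Groth.Agent.SubGen (rpt exists_rpt map_rpt)

noncomputable section

namespace Groth.Agent.Chev.Borel

open BorelFixed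

variable {k : Type u} [Field k] [IsAlgClosed k]

/-- A point carrying a subgroup into itself has image carrying the image into itself. -/
theorem map_normalizes {G Q H R' : Over (Spec (CommRingCat.of k))} [GrpObj G] [GrpObj Q] (q : G ⟶ Q) [IsMonHom q]
    (i : H ⟶ G) (iR : R' ⟶ Q) [Mono iR] (p : H ⟶ R') [Flat p.left] [Surjective p.left]
    [LocallyOfFinitePresentation p.left] (hp : p ≫ iR = i ≫ q) {X : Over (Spec (CommRingCat.of k))} (u : X ⟶ G)
    (hu : ∀ (X' : Over (Spec (CommRingCat.of k))) (x : X' ⟶ X) (h : X' ⟶ H),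
      ∃ h' : X' ⟶ H, (x ≫ u) * (h ≫ i) * (x ≫ u)⁻¹ = h' ≫ i)
    (X' : Over (Spec (CommRingCat.of k))) (x : X' ⟶ X) (h : X' ⟶ R') :
    ∃ h' : X' ⟶ R', (x ≫ u ≫ q) * (h ≫ iR) * (x ≫ u ≫ q)⁻¹ = h' ≫ iR := by
  let P : Over (Spec (CommRingCat.of k)) := Over.mk (pullback.fst h.left p.left ≫ X'.hom)
  let a : P ⟶ X' := Over.homMk (pullback.fst h.left p.left)
  let b : P ⟶ H := Over.homMk (pullback.snd h.left p.left) (by
    show _ = pullback.fst h.left p.left ≫ X'.hom
    rw [← Over.w h, pullback.condition_assoc, Over.w p])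
  have hab : b ≫ p = a ≫ h := Over.OverMorphism.ext pullback.condition.symm
  haveI : Flat a.left := MorphismProperty.pullback_fst _ _ ‹Flat p.left›
  haveI : Surjective a.left := MorphismProperty.pullback_fst _ _ ‹Surjective p.left›
  haveI : LocallyOfFinitePresentation a.left := MorphismProperty.pullback_fst _ _ ‹LocallyOfFinitePresentation p.left›
  obtain ⟨h'', hh''⟩ := hu P (a ≫ x) b
  let m : X' ⟶ Q := (x ≫ u ≫ q) * (h ≫ iR) * (x ≫ u ≫ q)⁻¹
  have hm : (h'' ≫ p) ≫ iR = a ≫ m := by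
    have e := congrArg (fun z => z ≫ q) hh''
    simp only [MonObj.mul_comp, GrpObj.inv_comp, Category.assoc] at e
    rw [Category.assoc, hp, ← e, MonObj.comp_mul, MonObj.comp_mul, GrpObj.comp_inv, ← reassoc_of% hab, hp]
  obtain ⟨h', hh'⟩ := AVQuot.exists_desc a (h'' ≫ p) fun {V} v w hvw => (cancel_mono iR).1 (by
    rw [Category.assoc v (h'' ≫ p) iR, Category.assoc w (h'' ≫ p) iR, hm, ← Category.assoc, hvw, Category.assoc])
  haveI := AVQuot.epi_of_covering a
  exact ⟨h', ((cancel_epi a).1 (by rw [← Category.assoc, hh', hm])).symm⟩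

/-- Points normalizing a Borel subgroup lie in it. -/
theorem exists_factor_of_normalizes_borel {G B : Over (Spec (CommRingCat.of k))} [GrpObj G] [GrpObj B] [Smooth G.hom]
    [QuasiCompact G.hom] [ConnectedSpace G.left] (b : B ⟶ G) (hB : Red.IsBorelOver k b)
    {X : Over (Spec (CommRingCat.of k))} (y : X ⟶ G)
    (hy : ∀ (X' : Over (Spec (CommRingCat.of k))) (x : X' ⟶ X) (h : X' ⟶ B),
      (∃ h' : X' ⟶ B, (x ≫ y) * (h ≫ b) * (x ≫ y)⁻¹ = h' ≫ b) ∧
      (∃ h' : X' ⟶ B, (x ≫ y)⁻¹ * (h ≫ b) * (x ≫ y) = h' ≫ b)) :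
    ∃ z : X ⟶ B, z ≫ b = y := by
  obtain ⟨L, D, Q, hL, hD, hQ, l, d, q, R⟩ := exists_affReduction G
  haveI := R.l_hom; haveI := R.l_closed; haveI := R.l_affine; haveI := R.l_smooth; haveI := R.l_connected
  haveI := R.q_hom; haveI := R.q_affine; haveI := R.q_smooth; haveI := R.q_connected; haveI := R.lq_surj
  haveI := R.d_hom; haveI := R.d_smooth
  obtain ⟨hbm, hbc, hbs, hbconn, hbsol, -⟩ := id hB
  haveI := hbm; haveI := hbc; haveI := hbs; haveI := hbconn
  haveI : Mono b := GrpField.SchImg.mono_of_isClosedImmersion b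
  haveI : QuasiCompact B.hom := by rw [← Over.w b]; infer_instance
  obtain ⟨B₀, _, i₀, hB₀, hrp⟩ := exists_borel_form R b hB
  haveI := hB₀.1; haveI := hB₀.2.1; haveI := hB₀.2.2.1
  haveI : IsAffine B₀.left := isAffine_of_isAffineHom i₀.left
  haveI : QuasiCompact B₀.hom := inferInstance
  obtain ⟨R', hR'g, iR, p₀, hiR, hp₀, hiRc, hR's, hp₀s, hp₀e⟩ := exists_smooth_image (i₀ ≫ l ≫ q)
  haveI := hiR; haveI := hp₀; haveI := hiRc; haveI := hR's; haveI := hp₀s
  have hR' : Red.IsBorelOver k iR := isBorelOver_image (l ≫ q) i₀ hB₀ iR p₀ (by rw [hp₀e])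
  haveI : Mono iR := GrpField.SchImg.mono_of_isClosedImmersion iR
  haveI : IsReduced B.left := SmoothRed.isReduced_of_smooth_scheme B.hom
  obtain ⟨p, hp⟩ := exists_lift_rp (b ≫ q) iR fun x => by
    obtain ⟨a, z, haz⟩ := (hrp (x ≫ b)).1 ⟨x, rfl⟩
    refine ⟨rpt (a ≫ p₀), ?_⟩
    rw [map_rpt, ← Category.assoc x b q, ← haz, MonObj.mul_comp, Category.assoc z, R.dq, MonObj.comp_one, _root_.mul_one]
    simp only [Category.assoc, hp₀e]
  haveI : IsMonHom p := MTSplit.isMonHom_of_comp_mono p iR (b ≫ q) hp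
  haveI : IsReduced B₀.left := SmoothRed.isReduced_of_smooth_scheme B₀.hom
  obtain ⟨j₀, hj₀⟩ := exists_lift_rp (i₀ ≫ l) b fun a => by
    obtain ⟨x, hx⟩ := (hrp (a ≫ i₀ ≫ l)).2 ⟨a, 1, by rw [MonObj.one_comp, _root_.mul_one]⟩
    exact ⟨rpt x, by rw [map_rpt, hx]⟩
  haveI : Surjective p.left := by
    have e : j₀ ≫ p = p₀ := (cancel_mono iR).1 (by rw [Category.assoc, hp, reassoc_of% hj₀, hp₀e])
    haveI : Surjective (j₀.left ≫ p.left) := by rw [← Over.comp_left, e]; infer_instance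
    exact Surjective.of_comp j₀.left p.left
  obtain ⟨hpf, hpl⟩ := covering_of_surjective p
  haveI := hpf; haveI := hpl
  haveI : IsReduced D.left := SmoothRed.isReduced_of_smooth_scheme D.hom
  obtain ⟨dH, hdH⟩ := exists_lift_rp d b fun z => by
    obtain ⟨x, hx⟩ := (hrp (z ≫ d)).2 ⟨1, z, by rw [MonObj.one_comp, _root_.one_mul]⟩
    exact ⟨rpt x, by rw [map_rpt, hx]⟩
  -- the normalizer in the affine quotient
  haveI : IsAffine R'.left := isAffine_of_isAffineHom iR.left
  haveI : ConnectedSpace R'.left := hR'.2.2.2.1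
  haveI : GeometricallyConnected R'.hom :=
    Groth.Agent.Rigid.geometricallyConnected_of_section R'.hom (η[R'] : 𝟙_ _ ⟶ R').left (Over.w (η[R'] : 𝟙_ _ ⟶ R'))
  haveI : Subsingleton (Spec (CommRingCat.of k)) := inferInstanceAs (Subsingleton (PrimeSpectrum k))
  have hfib : ∀ s : Spec (CommRingCat.of k),
      ConnectedSpace ↥(pullback R'.hom ((Spec (CommRingCat.of k)).fromSpecResidueField s)) := fun s => by
    haveI : Subsingleton (Spec ((Spec (CommRingCat.of k)).residueField s)) :=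
      inferInstanceAs (Subsingleton (PrimeSpectrum _))
    exact GeometricallyConnected.connectedSpace_of_subsingleton
      (pullback.snd R'.hom ((Spec (CommRingCat.of k)).fromSpecResidueField s))
  obtain ⟨N, hNg, j, hN, hjc, -⟩ := Groth.Agent.S5260.result Q R' hfib iR
  haveI := hN.1; haveI := hN.2.1; haveI := hjc
  obtain ⟨s, hs⟩ := (hN.2.2 R' iR).2 fun X' x h =>
    ⟨⟨x * h * x⁻¹, by rw [MonObj.mul_comp, MonObj.mul_comp, GrpObj.inv_comp]⟩,
      ⟨x⁻¹ * h * x, by rw [MonObj.mul_comp, MonObj.mul_comp, GrpObj.inv_comp]⟩⟩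
  haveI : IsIso s := isIso_to_normalizer iR hR' j hN s hs
  obtain ⟨n, hn⟩ := (hN.2.2 X (y ≫ q)).2 fun X' x h => by
    refine ⟨map_normalizes q b iR p hp y (fun X' x h => (hy X' x h).1) X' x h, ?_⟩
    obtain ⟨h', hh'⟩ := map_normalizes q b iR p hp y⁻¹ (fun X' x h => by
      obtain ⟨h', hh'⟩ := (hy X' x h).2
      exact ⟨h', by rw [GrpObj.comp_inv, _root_.inv_inv, hh']⟩) X' x h
    refine ⟨h', ?_⟩
    rw [← hh', GrpObj.inv_comp, GrpObj.comp_inv, _root_.inv_inv]
  exact mem_of_map_mem R b dH hdH iR p hp y (n ≫ inv s)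
    (by rw [← hn, Category.assoc, ← hs, IsIso.inv_hom_id_assoc])

end Groth.Agent.Chev.Borel
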