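import Groth.Agent.Chev.CentBC

/-!
# Normalizers commute with base change
-/

set_option autoImplicit false
set_option backward.isDefEq.respectTransparency false

universe u

open CategoryTheory CategoryTheory.Limits MonoidalCategory CartesianMonoidalCategory MonObj GrpObj AlgebraicGeometry
open Groth.Agent.MTBridge (toBC toBC_mul toBC_comp toBC_precomp toBC_inv)

noncomputable section

namespace Groth.Agent.Chev.CentBC

variable {S T : Scheme.{u}} (j : T ⟶ S) {G H Z : Over S} [GrpObj G] [GrpObj H] [GrpObj Z]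

/-- Normalizers commute with base change. -/
theorem isNormalizerOf_bc (i : H ⟶ G) (c : Z ⟶ G) (hc : Red.IsNormalizerOf i c) :
    Red.IsNormalizerOf ((Over.pullback j).map i) ((Over.pullback j).map c) := by
  obtain ⟨hcm, hcmono, hcu⟩ := hc
  haveI := hcm; haveI := hcmono
  refine ⟨inferInstance, inferInstance, fun X g => ?_⟩
  obtain ⟨g₀, rfl⟩ := ((Over.mapPullbackAdj j).homEquiv X G).surjective g
  constructor
  · rintro ⟨z, hz⟩ X' x h
    obtain ⟨z₀, rfl⟩ := ((Over.mapPullbackAdj j).homEquiv X Z).surjective z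
    obtain ⟨h₀, rfl⟩ := ((Over.mapPullbackAdj j).homEquiv X' H).surjective h
    have e : z₀ ≫ c = g₀ := ((Over.mapPullbackAdj j).homEquiv X G).injective ((toBC_comp j c z₀).trans hz)
    obtain ⟨⟨a, ha⟩, ⟨b, hb⟩⟩ := (hcu _ g₀).1 ⟨z₀, e⟩ _ ((Over.map j).map x) h₀
    refine ⟨⟨toBC j a, ?_⟩, ⟨toBC j b, ?_⟩⟩
    · have := congrArg (toBC j) ha
      rw [toBC_mul, toBC_mul, toBC_inv, toBC_precomp, toBC_comp, toBC_comp] at this
      exact this
    · have := congrArg (toBC j) hb
      rw [toBC_mul, toBC_mul, toBC_inv, toBC_precomp, toBC_comp, toBC_comp] at this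
      exact this
  · intro hg
    obtain ⟨z₀, hz₀⟩ := (hcu _ g₀).2 fun X'' x h => by
      let X₀ : Over T := Over.mk (x.left ≫ X.hom)
      let e : (Over.map j).obj X₀ ≅ X'' := Over.isoMk (Iso.refl _) (by
        show 𝟙 _ ≫ X''.hom = (x.left ≫ X.hom) ≫ j
        rw [Category.id_comp, Category.assoc]
        exact (Over.w x).symm)
      let x₀ : X₀ ⟶ X := Over.homMk x.left rfl
      have hx : e.hom ≫ x = (Over.map j).map x₀ := Over.OverMorphism.ext (Category.id_comp _)
      obtain ⟨⟨a, ha⟩, ⟨b, hb⟩⟩ := hg X₀ x₀ (toBC j (e.hom ≫ h))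
      obtain ⟨a₀, rfl⟩ := ((Over.mapPullbackAdj j).homEquiv X₀ H).surjective a
      obtain ⟨b₀, rfl⟩ := ((Over.mapPullbackAdj j).homEquiv X₀ H).surjective b
      refine ⟨⟨e.inv ≫ a₀, ?_⟩, ⟨e.inv ≫ b₀, ?_⟩⟩
      · rw [← cancel_epi e.hom, Category.assoc e.inv, e.hom_inv_id_assoc, MonObj.comp_mul, MonObj.comp_mul,
          GrpObj.comp_inv, ← Category.assoc, hx, ← Category.assoc e.hom h]
        apply ((Over.mapPullbackAdj j).homEquiv X₀ G).injective
        show toBC j _ = toBC j _
        rw [toBC_mul, toBC_mul, toBC_inv, toBC_precomp, toBC_comp j i (e.hom ≫ h), toBC_comp j i a₀]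
        exact ha
      · rw [← cancel_epi e.hom, Category.assoc e.inv, e.hom_inv_id_assoc, MonObj.comp_mul, MonObj.comp_mul,
          GrpObj.comp_inv, ← Category.assoc, hx, ← Category.assoc e.hom h]
        apply ((Over.mapPullbackAdj j).homEquiv X₀ G).injective
        show toBC j _ = toBC j _
        rw [toBC_mul, toBC_mul, toBC_inv, toBC_precomp, toBC_comp j i (e.hom ≫ h), toBC_comp j i b₀]
        exact hb
    exact ⟨toBC j z₀, by rw [← toBC_comp, hz₀]; rfl⟩

end Groth.Agent.Chev.CentBC
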