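import Groth.Agent.MTTorus.CommFactor
import Groth.Agent.Chev.NonAffine
import Groth.Agent.Chev.NonAffTori
import Groth.Agent.Chev.LargestSA
import Groth.Agent.Chev.SAExt
import Groth.Agent.Chev.CentralMT
import Groth.Agent.Chev.TorusExt
import Groth.Agent.S8398

/-!
# Subtori commuting with a maximal torus are contained in it
-/

set_option autoImplicit false
set_option linter.style.haveILetI false
set_option backward.isDefEq.respectTransparency false

universe u

noncomputable section

open CategoryTheory Limits MonoidalCategory CartesianMonoidalCategory MonObj GrpObj AlgebraicGeometry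
open scoped CategoryTheory.Obj

namespace Groth.Agent.Chev.Borel

variable {k : Type u} [Field k] [IsAlgClosed k]

/-- The product of two tori is a torus. -/
theorem isTorus_tensor {T R : Over (Spec (CommRingCat.of k))} [GrpObj T] [GrpObj R] (hT : Red.IsTorus T)
    (hR : Red.IsTorus R) : Red.IsTorus (T ⊗ R) := by
  haveI := smooth_of_isTorus hT; haveI := smooth_of_isTorus hR
  haveI := connectedSpace_of_isTorus hT; haveI := connectedSpace_of_isTorus hR
  haveI := isAffine_of_isTorus hT; haveI := isAffine_of_isTorus hR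
  haveI := isCommMonObj_of_isTorus hT; haveI := isCommMonObj_of_isTorus hR
  haveI : ConnectedSpace (T ⊗ R).left := connectedSpace_prod T R
  haveI : Smooth (T ⊗ R).hom := inferInstanceAs (Smooth (Limits.pullback.fst T.hom R.hom ≫ T.hom))
  haveI : IsAffine (T ⊗ R).left := inferInstanceAs (IsAffine (Limits.pullback T.hom R.hom))
  haveI : Surjective (snd T R).left := by
    haveI : Surjective T.hom := ⟨fun x => ⟨η[T].left x, by
      rw [← Scheme.Hom.comp_apply, Over.w η[T]]; rfl⟩⟩
    exact inferInstanceAs (Surjective (Limits.pullback.snd T.hom R.hom))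
  haveI : IsMonHom (snd T R) := MTTorus.isMonHom_of_mul _ fun u v => by simp [MonObj.mul_comp]
  haveI : IsMonHom (lift (𝟙 T) (1 : T ⟶ R)) := MTTorus.isMonHom_of_mul _ fun u v => by
    apply CartesianMonoidalCategory.hom_ext <;> simp [MonObj.mul_comp]
  have hker : AlgGrp.IsKernel (lift (𝟙 T) (1 : T ⟶ R)) (snd T R) := by
    have w : lift (𝟙 T) (1 : T ⟶ R) ≫ snd T R = toUnit T ≫ η[R] := by rw [lift_snd, Hom.one_def]
    refine IsPullback.of_isLimit (c := PullbackCone.mk _ _ w)
      (PullbackCone.IsLimit.mk w (fun s => s.fst ≫ fst T R) (fun s => ?_)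
        (fun s => toUnit_unique _ _) (fun s m hm _ => by rw [← hm]; simp))
    apply CartesianMonoidalCategory.hom_ext
    · simp
    · simp only [Category.assoc, lift_snd, MonObj.comp_one, s.condition]
      rw [Hom.one_def]
      congr 1
      exact toUnit_unique _ _
  exact isTorus_of_comm_extension hT hR (lift (𝟙 T) (1 : T ⟶ R)) (snd T R) hker

/-- Over an algebraically closed field, a torus mapping into the centralizer of a maximal torus maps into the torus. -/
theorem exists_factor_maxTorus_of_commute {G T R : Over (Spec (CommRingCat.of k))} [GrpObj G] [GrpObj T] [GrpObj R]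
    [LocallyOfFiniteType G.hom] [QuasiCompact G.hom] (i : T ⟶ G) (hT : AGF.IsMaxTorus i) (hR : Red.IsTorus R)
    (j : R ⟶ G) [IsMonHom j]
    (hcomm : ∀ (X : Over (Spec (CommRingCat.of k))) (t : X ⟶ T) (x : X ⟶ R),
      (t ≫ i) * (x ≫ j) = (x ≫ j) * (t ≫ i)) :
    ∃ y : R ⟶ T, y ≫ i = j := by
  obtain ⟨him, himono, hTt, hmax⟩ := hT
  haveI := him; haveI := himono
  have hP := isTorus_tensor hTt hR
  haveI := smooth_of_isTorus hP
  haveI := isAffine_of_isTorus hP
  haveI : QuasiCompact (T ⊗ R).hom := inferInstance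
  let m : T ⊗ R ⟶ G := (fst T R ≫ i) * (snd T R ≫ j)
  haveI : IsMonHom m := MTTorus.isMonHom_of_mul _ fun {X} u v => by
    simp only [m, MonObj.comp_mul, ← Category.assoc, MonObj.mul_comp]
    have h := hcomm X (v ≫ fst T R) (u ≫ snd T R)
    simp only [Category.assoc] at h ⊢
    simp only [_root_.mul_assoc]
    rw [← _root_.mul_assoc (v ≫ fst T R ≫ i), h]
    simp only [_root_.mul_assoc]
  obtain ⟨P, hPg, iP, p, hiP, hp, hiPc, hPs, hPq, hps, hpm⟩ := exists_smooth_image' m
  haveI := hiP; haveI := hp; haveI := hiPc; haveI := hPs; haveI := hPq; haveI := hps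
  haveI : Mono iP := GrpField.SchImg.mono_of_isClosedImmersion iP
  have hPt : Red.IsTorus P := isTorus_of_surjective hP p
  let f : T ⟶ P := lift (𝟙 T) (1 : T ⟶ R) ≫ p
  have hf : f ≫ iP = i := by
    simp [f, hpm, m, MonObj.comp_mul]
  haveI := hmax P iP f hPt hf
  refine ⟨lift (1 : R ⟶ T) (𝟙 R) ≫ p ≫ CategoryTheory.inv f, ?_⟩
  rw [Category.assoc, Category.assoc, show CategoryTheory.inv f ≫ i = iP by rw [IsIso.inv_comp_eq, hf], hpm]
  simp [m, MonObj.comp_mul]

end Groth.Agent.Chev.Borel

namespace Groth.Agent.MTTorus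

/-- A maximal torus contains every subtorus commuting with it. -/
theorem exists_factor_maximalTorus {S : Scheme.{u}} {G T R : Over S} [GrpObj G] [GrpObj T] [GrpObj R]
    [LocallyOfFiniteType G.hom] [QuasiCompact G.hom] (i : T ⟶ G) (hT : Red.IsMaximalTorus i) (hR : Red.IsTorus R)
    (j : R ⟶ G) [IsMonHom j]
    (hcomm : ∀ (X : Over S) (t : X ⟶ T) (x : X ⟶ R), (t ≫ i) * (x ≫ j) = (x ≫ j) * (t ≫ i)) :
    ∃ y : R ⟶ T, y ≫ i = j := by
  obtain ⟨him, himono, hTt, hmax⟩ := hT
  haveI := him; haveI := himono
  refine exists_factor_of_commute_fibres hTt hR i j hcomm fun s => ?_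
  let φ := Red.geomPt s
  haveI : PreservesLimitsOfShape WalkingCospan (Over.pullback φ) :=
    (Adjunction.rightAdjoint_preservesLimits (Over.mapPullbackAdj φ)).preservesLimitsOfShape
  haveI : LocallyOfFiniteType (Red.bc φ G).hom := by
    show LocallyOfFiniteType (pullback.snd G.hom φ)
    infer_instance
  haveI : QuasiCompact (Red.bc φ G).hom := by
    show QuasiCompact (pullback.snd G.hom φ)
    infer_instance
  obtain ⟨w, hw⟩ := Chev.Borel.exists_factor_maxTorus_of_commute ((Over.pullback φ).map i)
    (show AGF.IsMaxTorus ((Over.pullback φ).map i) from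
      ⟨inferInstance, inferInstance, Chev.Borel.isTorus_bc_scheme T φ hTt, hmax s⟩)
    (Chev.Borel.isTorus_bc_scheme R φ hR) ((Over.pullback φ).map j) fun X a b => by
      obtain ⟨a', rfl⟩ := MTBridge.exists_toBC' φ a
      obtain ⟨b', rfl⟩ := MTBridge.exists_toBC' φ b
      rw [← MTBridge.toBC_comp, ← MTBridge.toBC_comp, ← MTBridge.toBC_mul, ← MTBridge.toBC_mul, hcomm]
  let τ := Spec.map (CommRingCat.ofHom (algebraMap (S.residueField s) (AlgebraicClosure (S.residueField s))))
  haveI : Subsingleton (Spec (S.residueField s)) := inferInstanceAs (Subsingleton (PrimeSpectrum _))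
  haveI : Surjective τ := ⟨fun x => ⟨IsLocalRing.closedPoint _, Subsingleton.elim _ _⟩⟩
  exact Groth.Agent.S8398.exists_factor_of_bc (S.fromSpecResidueField s) τ j i w hw

end Groth.Agent.MTTorus
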