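import Groth.Agent.Chev.CentNilp
import Groth.Agent.Chev.CentBC
import Groth.Agent.Chev.SADesc
import Groth.Agent.Rigid.FibreTranslate

/-!
# Maximal tori over a geometric point
-/

set_option autoImplicit false
set_option backward.isDefEq.respectTransparency false

universe u

open CategoryTheory CategoryTheory.Limits MonoidalCategory CartesianMonoidalCategory MonObj GrpObj AlgebraicGeometry

noncomputable section

namespace Groth.Agent.Chev.Borel

variable {k : Type u} [Field k]

/-- The hypotheses on a group and a maximal torus pass to the geometric point. -/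
theorem geom_setting {G T : Over (Spec (CommRingCat.of k))} [GrpObj G] [GrpObj T] [IsAffine G.left] [Smooth G.hom]
    [ConnectedSpace G.left] (iT : T ⟶ G) (hT : Red.IsMaximalTorus iT) (s : Spec (CommRingCat.of k)) :
    Smooth ((Over.pullback (Red.geomPt s)).obj G).hom ∧ IsAffine ((Over.pullback (Red.geomPt s)).obj G).left ∧
      ConnectedSpace ((Over.pullback (Red.geomPt s)).obj G).left ∧ Surjective (Red.geomPt s) ∧
      AGF.IsMaxTorus ((Over.pullback (Red.geomPt s)).map iT) := by
  obtain ⟨him, himono, hTt, hmax⟩ := hT
  haveI := him; haveI := himono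
  haveI : Subsingleton (Spec (CommRingCat.of k)) := inferInstanceAs (Subsingleton (PrimeSpectrum k))
  haveI : Subsingleton (Spec (CommRingCat.of (AlgebraicClosure ((Spec (CommRingCat.of k)).residueField s)))) :=
    inferInstanceAs (Subsingleton (PrimeSpectrum _))
  haveI : GeometricallyConnected G.hom :=
    Groth.Agent.Rigid.geometricallyConnected_of_section G.hom (η[G] : 𝟙_ _ ⟶ G).left (Over.w (η[G] : 𝟙_ _ ⟶ G))
  haveI : PreservesLimitsOfShape WalkingCospan (Over.pullback (Red.geomPt s)) :=
    (Adjunction.rightAdjoint_preservesLimits (Over.mapPullbackAdj (Red.geomPt s))).preservesLimitsOfShape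
  refine ⟨MorphismProperty.pullback_snd _ _ ‹Smooth G.hom›, inferInstanceAs (IsAffine (pullback G.hom (Red.geomPt s))),
    GeometricallyConnected.connectedSpace_of_subsingleton (pullback.snd G.hom (Red.geomPt s)),
    ⟨fun x => ⟨IsLocalRing.closedPoint _, Subsingleton.elim _ _⟩⟩, inferInstance, inferInstance,
    Groth.Agent.Chev.isTorus_bc hTt (Red.geomPt s), fun T' _ j _ _ f hT' hf => hmax s T' j f hT' hf⟩

end Groth.Agent.Chev.Borel
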