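import Groth.Agent.Chev.BorelImage
import Groth.Agent.Chev.MaxTori
import Groth.Agent.S15604
import Groth.Agent.GrpField.SchImgExists

/-!
# Parabolic subgroups, images, conjugates of Borel subgroups
-/

set_option autoImplicit false
set_option backward.isDefEq.respectTransparency false

universe u

open CategoryTheory CategoryTheory.Limits MonoidalCategory CartesianMonoidalCategory MonObj GrpObj AlgebraicGeometry
open Groth.Agent.SubGen (rpt)

noncomputable section

namespace Groth.Agent.Chev.Borel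

open BorelFixed

variable {k : Type u} [Field k] [IsAlgClosed k]
variable {G : Over (Spec (CommRingCat.of k))} [GrpObj G] [IsAffine G.left] [Smooth G.hom] [ConnectedSpace G.left]

/-- Quotients by subgroups containing a Borel subgroup are proper. -/
theorem isProper_quotient_parabolic {B X : Over (Spec (CommRingCat.of k))} [GrpObj B] (iB : B ⟶ G)
    [IsMonHom iB] [IsClosedImmersion iB.left] (hB : Red.IsParabolicOver k iB) (a : AlgGrp.Action G X) (o : RP X) (hX : AGF.IsQuotient iB X a o) :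
    IsProper X.hom := by
  obtain ⟨B₀, hB₀, b₀, hb₀, X₀, a₀, o₀, hX₀, hp⟩ := exists_borel_proper G
  obtain ⟨hm, hc, hs, hconn, hsol, -⟩ := hb₀
  haveI := hm; haveI := hc; haveI := hs; haveI := hconn; haveI := hp
  obtain ⟨-, -, -, B₁, _, j, hj⟩ := hB
  haveI := hj.1
  obtain ⟨g, f₁, hf₁⟩ := conj_of_proper b₀ hsol a₀ o₀ hX₀ (j ≫ iB) hj
  have hf : (f₁.hom ≫ j) ≫ iB = AGF.conjBy g b₀ := by rw [Category.assoc, hf₁]
  haveI := hX.1; haveI := hX.2.1; haveI := hX.2.2.1
  haveI : IsSeparated X.hom := isSeparated_quot a o hX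
  haveI : IsAffine B₀.left := isAffine_of_isAffineHom b₀.left
  haveI : QuasiCompact B₀.hom := by rw [← Over.w b₀]; infer_instance
  haveI : CompactSpace X.left := ⟨by
    rw [← Set.range_eq_univ.2 (a.orbitMap o).left.surjective]
    exact isCompact_range (a.orbitMap o).left.continuous⟩
  haveI : QuasiCompact X.hom :=
    quasiCompact_iff_compactSpace X.hom |>.2 inferInstance
  obtain ⟨v, ⟨-, hv⟩, -⟩ := Groth.Agent.S8014.result k G B₀ b₀ X₀ a₀ o₀ hX₀ X a (g⁻¹ ≫ a.orbitMap o) (fun T t => by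
    have e := (GrpAct.mem_iff iB a o hX.2.2.2 (t ≫ AGF.conjBy g b₀)).1 ⟨t ≫ f₁.hom ≫ j, by rw [Category.assoc, hf]⟩
    rw [comp_conjBy, GrpAct.mul_smul, GrpAct.mul_smul] at e
    have e' := congrArg (fun z => lift (toUnit T ≫ g)⁻¹ z ≫ a.act) e
    rw [← GrpAct.mul_smul, inv_mul_cancel, GrpAct.one_smul', ← GrpObj.comp_inv] at e'
    rw [show toUnit T ≫ g⁻¹ ≫ a.orbitMap o = lift (toUnit T ≫ g⁻¹) (toUnit T ≫ o) ≫ a.act by
      rw [← GrpAct.comp_orbitMap, Category.assoc]]
    exact e')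
  rw [orbitMap_translate] at hv
  haveI : IsIso (tr g⁻¹) := ⟨tr g, by rw [tr_tr, inv_mul_cancel, tr_one], by rw [tr_tr, mul_inv_cancel, tr_one]⟩
  haveI : IsIso (tr g⁻¹).left := inferInstanceAs (IsIso ((Over.forget _).map (tr g⁻¹)))
  haveI : Surjective ((a₀.orbitMap o₀).left ≫ v.left) := by rw [← Over.comp_left, hv, Over.comp_left]; infer_instance
  haveI : Surjective v.left := Surjective.of_comp (a₀.orbitMap o₀).left v.left
  haveI : UniversallyClosed (v.left ≫ X.hom) := by rw [Over.w]; infer_instance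
  haveI : UniversallyClosed X.hom := UniversallyClosed.of_comp_surjective v.left X.hom
  exact { }

omit [IsAlgClosed k] [IsAffine G.left] [Smooth G.hom] [ConnectedSpace G.left] in
/-- Conjugates of Borel subgroups are Borel subgroups. -/
theorem isBorelOver_conjBy {B : Over (Spec (CommRingCat.of k))} [GrpObj B] (g : RP G) (iB : B ⟶ G)
    (h : Red.IsBorelOver k iB) : Red.IsBorelOver k (AGF.conjBy g iB) := by
  obtain ⟨hm, hc, hs, hconn, hsol, hmax⟩ := h
  haveI := hm; haveI := hc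
  refine ⟨isMonHom_conjBy g iB, isClosedImmersion_conjBy g iB, hs, hconn, hsol,
    fun B' _ i' _ f hi' hs' hc' hsol' hf => ?_⟩
  haveI := hi'
  haveI := isMonHom_conjBy g⁻¹ i'
  haveI := isClosedImmersion_conjBy g⁻¹ i'
  exact hmax B' (AGF.conjBy g⁻¹ i') f inferInstance hs' hc' hsol' (by
    rw [comp_conjBy', hf, conjBy_conjBy, inv_mul_cancel, conjBy_one])

/-- Proper quotients are quotients by parabolic subgroups. -/
theorem isParabolicOver_of_proper {P X : Over (Spec (CommRingCat.of k))} [GrpObj P] (iP : P ⟶ G) [IsMonHom iP]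
    [IsClosedImmersion iP.left] [Smooth P.hom] (a : AlgGrp.Action G X) (o : RP X) (hX : AGF.IsQuotient iP X a o)
    [IsProper X.hom] : Red.IsParabolicOver k iP := by
  obtain ⟨B₀, hB₀, b₀, hb₀, -⟩ := exists_borel_proper G
  obtain ⟨hm, hc, hs, hconn, hsol, -⟩ := id hb₀
  haveI := hm; haveI := hc; haveI := hs; haveI := hconn
  haveI : IsAffine B₀.left := isAffine_of_isAffineHom b₀.left
  haveI := isSolvable_rp hsol
  obtain ⟨g, f, hf⟩ := exists_conj_le iP a o hX b₀
  exact ⟨inferInstance, inferInstance, inferInstance, B₀, hB₀, f, by rw [hf]; exact isBorelOver_conjBy g b₀ hb₀⟩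

omit [ConnectedSpace G.left] in
/-- The reduced image of a smooth group. -/
theorem exists_smooth_image {H : Over (Spec (CommRingCat.of k))} [GrpObj H] [Smooth H.hom] [QuasiCompact H.hom]
    (f : H ⟶ G) [IsMonHom f] :
    ∃ (R : Over (Spec (CommRingCat.of k))) (_ : GrpObj R) (i : R ⟶ G) (p : H ⟶ R),
      IsMonHom i ∧ IsMonHom p ∧ IsClosedImmersion i.left ∧ Smooth R.hom ∧ Surjective p.left ∧ p ≫ i = f := by
  haveI : IsAffineHom G.hom := inferInstance
  haveI : QuasiCompact (f.left ≫ G.hom) := by rw [Over.w f]; infer_instance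
  haveI : QuasiCompact f.left := QuasiCompact.of_comp f.left G.hom
  obtain ⟨K, hK, i, g, hi, hg, hgi, hic, -, -, hgs⟩ := GrpField.SchImg.exists_image f
  haveI := hi; haveI := hg; haveI := hic; haveI := hgs
  haveI : LocallyOfFiniteType K.hom := by rw [← Over.w i]; infer_instance
  obtain ⟨R, hR, r, hr, hrc, hrs, hRs⟩ := exists_red_group K
  haveI := hr; haveI := hrc; haveI := hrs
  haveI : IsReduced H.left := SmoothRed.isReduced_of_smooth_scheme H.hom
  obtain ⟨p, hp⟩ := exists_lift_range g r (by rw [Set.range_eq_univ.2 r.left.surjective]; exact Set.subset_univ _)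
  haveI : Mono r := GrpField.SchImg.mono_of_isClosedImmersion r
  haveI : IsMonHom (p ≫ r) := by rw [hp]; infer_instance
  haveI : IsMonHom p := MTSplit.isMonHom_of_comp_mono p r g hp
  haveI : IsClosedImmersion (r ≫ i).left := inferInstanceAs (IsClosedImmersion (r.left ≫ i.left))
  refine ⟨R, hR, r ≫ i, p, inferInstance, inferInstance, inferInstance, hRs, ⟨fun x => ?_⟩,
    by rw [← Category.assoc, hp, hgi]⟩
  obtain ⟨y, hy⟩ := g.left.surjective (r.left x)
  refine ⟨y, r.left.isClosedEmbedding.injective ?_⟩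
  rw [← hy, ← hp]
  rfl

/-- Borel subgroups of an image are images of Borel subgroups. -/
theorem exists_borel_over {Q B' : Over (Spec (CommRingCat.of k))} [GrpObj Q] [GrpObj B'] [IsAffine Q.left]
    [Smooth Q.hom] [ConnectedSpace Q.left] (q : G ⟶ Q) [IsMonHom q] [Surjective q.left] (iB' : B' ⟶ Q)
    (hB' : Red.IsBorelOver k iB') :
    ∃ (B : Over (Spec (CommRingCat.of k))) (_ : GrpObj B) (iB : B ⟶ G) (p : B ⟶ B'),
      Red.IsBorelOver k iB ∧ Surjective p.left ∧ p ≫ iB' = iB ≫ q := by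
  obtain ⟨B₀, hB₀, b₀, hb₀, -⟩ := exists_borel_proper G
  obtain ⟨hm, hc, hs, hconn, hsol, -⟩ := id hb₀
  haveI := hm; haveI := hc; haveI := hs; haveI := hconn
  haveI : IsAffine B₀.left := isAffine_of_isAffineHom b₀.left
  obtain ⟨R, hR, iR, p, hi, hpm, hic, hRs, hps, hp⟩ := exists_smooth_image (b₀ ≫ q)
  haveI := hi; haveI := hic; haveI := hRs; haveI := hps
  obtain ⟨g, f, hf⟩ := borel_conj iR iB' (isBorelOver_image q b₀ hb₀ iR p hp) hB'
  obtain ⟨g', hg'⟩ := exists_rp_preimage q g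
  haveI : Surjective f.hom.left := ⟨fun x => ⟨f.inv.left x, by
    rw [← Scheme.Hom.comp_apply, ← Over.comp_left, f.inv_hom_id]; rfl⟩⟩
  refine ⟨B₀, hB₀, AGF.conjBy g' b₀, p ≫ f.hom, isBorelOver_conjBy g' b₀ hb₀,
    inferInstanceAs (Surjective (p.left ≫ f.hom.left)), ?_⟩
  rw [Category.assoc, hf, comp_conjBy', hp]
  simp only [AGF.conjBy, MonObj.mul_comp, GrpObj.inv_comp, Category.assoc, hg']

omit [IsAlgClosed k] [IsAffine G.left] [Smooth G.hom] [ConnectedSpace G.left] in
/-- Inner automorphisms. -/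
def innerIso (b : RP G) : G ≅ G where
  hom := AGF.conjBy b (𝟙 G)
  inv := AGF.conjBy b⁻¹ (𝟙 G)
  hom_inv_id := by rw [comp_conjBy', Category.comp_id, conjBy_conjBy, inv_mul_cancel, conjBy_one]
  inv_hom_id := by rw [comp_conjBy', Category.comp_id, conjBy_conjBy, mul_inv_cancel, conjBy_one]

/-- Borel pairs are conjugate. -/
theorem borelPair_conj {B B' T T' : Over (Spec (CommRingCat.of k))} [GrpObj B] [GrpObj B'] [GrpObj T] [GrpObj T']
    (iB : B ⟶ G) (iB' : B' ⟶ G) (hB : Red.IsBorelOver k iB) (hB' : Red.IsBorelOver k iB')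
    (iT : T ⟶ G) (iT' : T' ⟶ G) (hT : AGF.IsMaxTorus iT) (hT' : AGF.IsMaxTorus iT')
    (t : T ⟶ B) (ht : t ≫ iB = iT) (t' : T' ⟶ B') (ht' : t' ≫ iB' = iT') :
    ∃ (g : RP G) (f : B ≅ B') (f' : T ≅ T'),
      f.hom ≫ iB' = AGF.conjBy g iB ∧ f'.hom ≫ iT' = AGF.conjBy g iT := by
  obtain ⟨g, f, hf⟩ := borel_conj iB iB' hB hB'
  haveI := hB'.1; haveI := hB'.2.1; haveI := hB'.2.2.1; haveI := hB'.2.2.2.1
  haveI : IsAffine B'.left := isAffine_of_isAffineHom iB'.left
  haveI : Mono iB' := GrpField.SchImg.mono_of_isClosedImmersion iB'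
  haveI := hT.1; haveI := hT.2.1; haveI := hT'.1; haveI := hT'.2.1
  have hmax : ∀ (T₁ : Over (Spec (CommRingCat.of k))) [GrpObj T₁] (i : T₁ ⟶ G) (s : T₁ ⟶ B'),
      s ≫ iB' = i → AGF.IsMaxTorus i → AGF.IsMaxTorus s := fun T₁ _ i s hs ⟨him, himono, hiT, himax⟩ => by
    haveI := him; haveI := himono
    haveI : IsMonHom s := MTSplit.isMonHom_of_comp_mono s iB' i hs
    haveI : Mono (s ≫ iB') := by rw [hs]; infer_instance
    exact ⟨inferInstance, mono_of_mono s iB', hiT, fun T₂ _ j _ _ w hT₂ hw =>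
      himax T₂ (j ≫ iB') w hT₂ (by rw [← Category.assoc, hw, hs])⟩
  have hs : (t ≫ f.hom) ≫ iB' = AGF.conjBy g iT := by rw [Category.assoc, hf, comp_conjBy', ht]
  have hgT : AGF.IsMaxTorus (AGF.conjBy g iT) := by
    obtain ⟨him, himono, hiT, himax⟩ := hT
    refine ⟨isMonHom_conjBy g iT, mono_conjBy g iT, hiT, fun T₂ _ j hj hjm w hT₂ hw => ?_⟩
    haveI := isMonHom_conjBy g⁻¹ j
    haveI := mono_conjBy g⁻¹ j
    exact himax T₂ (AGF.conjBy g⁻¹ j) w hT₂ (by
      rw [comp_conjBy', hw, conjBy_conjBy, inv_mul_cancel, conjBy_one])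
  obtain ⟨b, f', -, hf'⟩ := maxTorus_conj (t ≫ f.hom) t' (hmax T _ _ hs hgT) (hmax T' _ _ ht' hT')
  refine ⟨(b ≫ iB') * g, f ≪≫ innerIso b, f', ?_, ?_⟩
  · rw [Iso.trans_hom, Category.assoc, ← conjBy_conjBy, ← hf]
    simp only [innerIso, AGF.conjBy, MonObj.mul_comp, MonObj.comp_mul, GrpObj.inv_comp, GrpObj.comp_inv,
      Category.assoc, Category.id_comp]
    simp only [← Category.assoc f.hom (toUnit B'), toUnit_unique (f.hom ≫ toUnit B') (toUnit B)]
  · rw [← ht', ← Category.assoc, hf', ← conjBy_conjBy, ← hs]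
    simp only [AGF.conjBy, MonObj.mul_comp, GrpObj.inv_comp, Category.assoc]

end Groth.Agent.Chev.Borel
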