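import Groth.Agent.Chev.Curve
import Groth.Agent.SubGen.AlgClosed
import Groth.Agent.Rigid.Smooth

/-!
# The group generated by a rational curve
-/

set_option autoImplicit false
set_option backward.isDefEq.respectTransparency false

universe u

open CategoryTheory CategoryTheory.Limits MonoidalCategory CartesianMonoidalCategory MonObj GrpObj AlgebraicGeometry
open Polynomial

noncomputable section

namespace Groth.Agent.Chev

variable {k : Type u} [Field k] {H : Over (Spec (CommRingCat.of k))}

/-- The source of a curve. -/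
abbrev Dom (g : k[X]) : Over (Spec (CommRingCat.of k)) := VecGrp.pt k (Localization.Away g)

theorem smooth_dom (g : k[X]) : Smooth (Dom g).hom := by
  show Smooth (Spec.map (CommRingCat.ofHom (algebraMap k (Localization.Away g))))
  haveI : Algebra.Smooth k (MvPolynomial PUnit.{1} k) := { }
  haveI : Algebra.Smooth k k[X] := Algebra.Smooth.of_equiv (MvPolynomial.pUnitAlgEquiv.{u, 0} k)
  haveI : Algebra.Smooth k[X] (Localization.Away g) := Algebra.Smooth.of_isLocalization_Away g
  haveI : Algebra.Smooth k (Localization.Away g) := Algebra.Smooth.comp k k[X] _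
  rw [HasRingHomProperty.Spec_iff (P := @Smooth)]
  exact RingHom.smooth_algebraMap.2 inferInstance

theorem irreducibleSpace_dom (g : k[X]) (hg : g ≠ 0) : IrreducibleSpace (Dom g).left := by
  haveI : IsDomain (Localization.Away g) :=
    IsLocalization.isDomain_localization (powers_le_nonZeroDivisors_of_noZeroDivisors hg)
  exact inferInstanceAs (IrreducibleSpace (PrimeSpectrum (Localization.Away g)))

namespace RatCurve

variable [GrpObj H] (c : RatCurve H)

theorem exists_param_alg (a : RP (Dom c.g)) : ∃ (s : k) (ψ : Localization.Away c.g →ₐ[k] k),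
    c.g.eval s ≠ 0 ∧ a ≫ c.map = c.uv s ∧ a.left = Spec.map (CommRingCat.ofHom ψ.toRingHom) ∧
      ψ.comp (IsScalarTower.toAlgHom k k[X] (Localization.Away c.g)) = aeval s := by
  let x : VecGrp.pt k k ⟶ Dom c.g := ptK.inv ≫ a
  let φ := Spec.preimage (R := CommRingCat.of (Localization.Away c.g)) (S := CommRingCat.of k) x.left
  have hφ : ∀ t : k, φ (algebraMap k (Localization.Away c.g) t) = t := fun t => by
    have e : CommRingCat.ofHom (algebraMap k (Localization.Away c.g)) ≫ φ = CommRingCat.ofHom (algebraMap k k) := by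
      apply Spec.map_injective
      rw [Spec.map_comp, Spec.map_preimage]
      exact Over.w x
    have h := congr($(e) t)
    simpa using h
  let ψ : Localization.Away c.g →ₐ[k] k := { toRingHom := φ.hom, commutes' := hφ }
  have hx : x = VecGrp.ptMap ψ := Over.OverMorphism.ext (Spec.map_preimage x.left).symm
  let s := ψ (algebraMap k[X] _ X)
  have hu : IsUnit (aeval (algebraMap k k s) c.g) := by
    have h := (IsLocalization.map_units (M := Submonoid.powers c.g) (Localization.Away c.g)
      ⟨c.g, Submonoid.mem_powers c.g⟩).map ψ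
    rwa [show algebraMap k k s = ψ (algebraMap k[X] _ X) from rfl, aeval_algHom_apply, aeval_algebraMap_apply,
      aeval_X_left_apply]
  have hs : c.g.eval s ≠ 0 := by simpa using hu.ne_zero
  refine ⟨s, ψ, hs, ?_, ?_, Polynomial.algHom_ext (aeval_X (R := k) s).symm⟩
  rotate_left
  · rw [← show x.left = a.left from Category.id_comp a.left, hx]; rfl
  have hψ : ψ = c.evalAlg (algebraMap k k s) (c.isUnit_const hs) := by
    refine IsLocalization.algHom_ext (Submonoid.powers c.g) (Polynomial.algHom_ext ?_)
    show ψ (algebraMap _ _ X) = c.evalAlg _ (c.isUnit_const hs) (algebraMap _ _ X)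
    rw [evalAlg_algebraMap, aeval_X]
    rfl
  rw [uv, dif_pos hs, pu, ← hψ, ← hx]
  simp only [x, Iso.hom_inv_id_assoc, Category.assoc]

theorem exists_param (a : RP (Dom c.g)) : ∃ s : k, c.g.eval s ≠ 0 ∧ a ≫ c.map = c.uv s :=
  let ⟨s, _, h1, h2, _⟩ := c.exists_param_alg a
  ⟨s, h1, h2⟩

theorem exists_point {s : k} (hs : c.g.eval s ≠ 0) : ∃ a : RP (Dom c.g), a ≫ c.map = c.uv s :=
  ⟨ptK.hom ≫ VecGrp.ptMap (c.evalAlg (algebraMap k k s) (c.isUnit_const hs)), by
    rw [uv, dif_pos hs, pu, Category.assoc]⟩

theorem uv_eq_comp {G : Over (Spec (CommRingCat.of k))} [GrpObj G] (f : H ⟶ G) {s : k} (hs : c.g.eval s ≠ 0) :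
    (⟨c.g, c.g_ne_zero, c.map ≫ f⟩ : RatCurve G).uv s = c.uv s ≫ f := by
  simp only [uv, dif_pos hs, pu, Category.assoc]
  rfl

end RatCurve

variable [IsAlgClosed k] {Y : Over (Spec (CommRingCat.of k))} [GrpObj Y] [LocallyOfFiniteType Y.hom]

/-- The closed subgroup generated by a curve through the identity, with bounded generation. -/
theorem exists_gen (g : k[X]) (hg : g ≠ 0) (f : Dom g ⟶ Y) {a₀ : RP (Dom g)} (ha₀ : a₀ ≫ f = 1) :
    ∃ (P : Over (Spec (CommRingCat.of k))) (_ : GrpObj P) (i : P ⟶ Y) (f' : Dom g ⟶ P) (m : List Bool),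
      IsMonHom i ∧ IsClosedImmersion i.left ∧ f' ≫ i = f ∧ IsReduced P.left ∧ ConnectedSpace P.left ∧
      ∀ z : RP P, ∃ c : RP (SubGen.src (Dom g) m), c ≫ SubGen.word f' m = z := by
  haveI := smooth_dom g
  haveI : LocallyOfFiniteType (Dom g).hom := inferInstance
  haveI : QuasiCompact (Dom g).hom := inferInstanceAs (QuasiCompact (Spec.map _))
  haveI : GeometricallyReduced (Dom g).hom := Rigid.geometricallyReduced_of_smooth _
  haveI := irreducibleSpace_dom g hg
  obtain ⟨K, hK, i, w, him, hci, hw, hd, ⟨f', hf'⟩, hmin⟩ := SubGen.exists_generated f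
  haveI := hci
  haveI := him
  have hd' : SubGen.JointlyDense (SubGen.word f') := SubGen.jointlyDense_of_min f i f' hf' hmin
  haveI : Mono i := GrpField.SchImg.mono_of_isClosedImmersion i
  haveI : LocallyOfFiniteType K.hom := by rw [← Over.w i]; infer_instance
  haveI := fun l => SubGen.geometricallyReduced_src (k := k) (Dom g) l
  haveI : GeometricallyReduced K.hom := SubGen.geometricallyReduced_of_dense hd'
  have hred : IsReduced K.left := GeometricallyReduced.geometrically_isReduced (f := K.hom) (K := k) (𝟙 _) (𝟙 _) K.hom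
    (IsPullback.of_horiz_isIso ⟨by rw [Category.id_comp, Category.comp_id]⟩)
  have hcomp : ∀ V : Set (Dom g).left, IsClopen V → V.Nonempty →
      ∃ q : RP (Dom g), SubGen.rpt q ∈ V ∧ q ≫ f' = 1 := fun V hV hne => by
    refine ⟨a₀, ?_, by rw [← cancel_mono i, Category.assoc, hf', ha₀, MonObj.one_comp]⟩
    rw [IsClopen.eq_univ hV hne]; trivial
  obtain ⟨m, hm⟩ := SubGen.exists_word_eq_rat f' hd' hcomp
  haveI : JacobsonSpace K.left := LocallyOfFiniteType.jacobsonSpace K.hom
  -- connected as the image of an irreducible space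
  have hconn : ConnectedSpace K.left := by
    haveI : Nonempty K.left := ⟨SubGen.rpt (1 : RP K)⟩
    refine connectedSpace_iff_clopen.2 ⟨inferInstance, fun C hC => ?_⟩
    by_cases h1 : SubGen.rpt (1 : RP K) ∈ C
    · right
      refine SubGen.eq_univ_of_dense f' hd' hC.1 fun l => ?_
      induction l with
      | nil => intro c; rw [SubGen.comp_word_nil]; exact h1
      | cons b l ih =>
        intro c
        rw [SubGen.comp_word_cons]
        let a := c ≫ fst (Dom g) (SubGen.src (Dom g) l)
        let d := (c ≫ snd (Dom g) (SubGen.src (Dom g) l)) ≫ SubGen.word f' l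
        have hd1 : SubGen.rpt d ∈ C := ih _
        show SubGen.rpt ((a ≫ SubGen.letter f' b) * d) ∈ C
        let h : Dom g ⟶ K := SubGen.letter f' b * (toUnit _ ≫ d)
        have hh : ∀ q : RP (Dom g), q ≫ h = (q ≫ SubGen.letter f' b) * d := fun q => by
          rw [MonObj.comp_mul, ← Category.assoc, toUnit_unique (q ≫ toUnit _) (𝟙 _), Category.id_comp]
        have hpre : h.left ⁻¹' C = Set.univ := IsClopen.eq_univ (hC.preimage h.left.continuous) ⟨SubGen.rpt a₀, by
          show SubGen.rpt (a₀ ≫ h) ∈ C
          rw [hh]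
          have : a₀ ≫ SubGen.letter f' b = 1 := by
            have h0 : a₀ ≫ f' = 1 := by rw [← cancel_mono i, Category.assoc, hf', ha₀, MonObj.one_comp]
            cases b
            · show a₀ ≫ f'⁻¹ = 1
              rw [GrpObj.comp_inv, h0, inv_one]
            · exact h0
          rwa [this, _root_.one_mul]⟩
        rw [← hh a]
        show SubGen.rpt a ∈ h.left ⁻¹' C
        rw [hpre]; trivial
    · left
      have hu : Cᶜ = Set.univ := by
        refine SubGen.eq_univ_of_dense f' hd' hC.compl.1 fun l => ?_
        induction l with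
        | nil => intro c; rw [SubGen.comp_word_nil]; exact h1
        | cons b l ih =>
          intro c
          rw [SubGen.comp_word_cons]
          let a := c ≫ fst (Dom g) (SubGen.src (Dom g) l)
          let d := (c ≫ snd (Dom g) (SubGen.src (Dom g) l)) ≫ SubGen.word f' l
          show SubGen.rpt ((a ≫ SubGen.letter f' b) * d) ∈ Cᶜ
          let h : Dom g ⟶ K := SubGen.letter f' b * (toUnit _ ≫ d)
          have hh : ∀ q : RP (Dom g), q ≫ h = (q ≫ SubGen.letter f' b) * d := fun q => by
            rw [MonObj.comp_mul, ← Category.assoc, toUnit_unique (q ≫ toUnit _) (𝟙 _), Category.id_comp]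
          have hpre : h.left ⁻¹' Cᶜ = Set.univ := IsClopen.eq_univ (hC.compl.preimage h.left.continuous) ⟨SubGen.rpt a₀, by
            show SubGen.rpt (a₀ ≫ h) ∈ Cᶜ
            rw [hh]
            have : a₀ ≫ SubGen.letter f' b = 1 := by
              have h0 : a₀ ≫ f' = 1 := by rw [← cancel_mono i, Category.assoc, hf', ha₀, MonObj.one_comp]
              cases b
              · show a₀ ≫ f'⁻¹ = 1
                rw [GrpObj.comp_inv, h0, inv_one]
              · exact h0
            rw [this, _root_.one_mul]
            exact ih _⟩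
          rw [← hh a]
          show SubGen.rpt a ∈ h.left ⁻¹' Cᶜ
          rw [hpre]; trivial
      exact Set.compl_univ_iff.1 hu
  exact ⟨K, hK, i, f', m, him, hci, hf', hred, hconn, hm⟩

/-- A subgroup of points containing the values of a curve contains the values of its words. -/
theorem word_mem {g : k[X]} {K : Over (Spec (CommRingCat.of k))} [GrpObj K] (f : Dom g ⟶ K) (S : Subgroup (RP K))
    (h : ∀ a : RP (Dom g), a ≫ f ∈ S) :
    ∀ (l : List Bool) (c : RP (SubGen.src (Dom g) l)), c ≫ SubGen.word f l ∈ S
  | [], c => by rw [SubGen.comp_word_nil]; exact S.one_mem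
  | b :: l, c => by
    rw [SubGen.comp_word_cons]
    refine S.mul_mem ?_ (word_mem f S h l _)
    cases b
    · show _ ≫ f⁻¹ ∈ S
      rw [GrpObj.comp_inv]
      exact S.inv_mem (h _)
    · exact h _

end Groth.Agent.Chev
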