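import Groth.Agent.AVDeg.HomBC
import Groth.Agent.GeomConn.Normal
import Groth.Agent.Chev.Complement
import Groth.Agent.ClosedRep.GeomIntegral

/-!
# Conjugates of subgroups of a base changed group
-/

set_option autoImplicit false
set_option backward.isDefEq.respectTransparency false

universe u

open CategoryTheory CategoryTheory.Limits MonoidalCategory CartesianMonoidalCategory MonObj GrpObj AlgebraicGeometry
open scoped CategoryTheory.Obj

noncomputable section

namespace Groth.Agent.Chev

open AVDeg (bcK specMap)

variable {k : Type u} [Field k] (K : Type u) [Field K] [Algebra k K]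

/-- The action on the spectrum. -/
abbrev specAut (σ : K ≃ₐ[k] K) : Spec (CommRingCat.of K) ⟶ Spec (CommRingCat.of K) :=
  Spec.map (CommRingCat.ofHom σ.toAlgHom.toRingHom)

instance isIso_specAut (σ : K ≃ₐ[k] K) : IsIso (specAut K σ) :=
  inferInstanceAs (IsIso (Spec.map (σ.toRingEquiv.toCommRingCatIso.hom)))

theorem specAut_specMap (σ : K ≃ₐ[k] K) : specAut K σ ≫ specMap k K = specMap k K := by
  rw [← Spec.map_comp]
  congr 1
  exact CommRingCat.hom_ext (RingHom.ext fun c => σ.commutes c)

/-- The base change pulled back by an automorphism, on schemes. -/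
def rawTwist {X : Scheme.{u}} (f : X ⟶ Spec (CommRingCat.of k)) (σ : K ≃ₐ[k] K) :
    pullback (pullback.snd f (specMap k K)) (specAut K σ) ≅ pullback f (specMap k K) where
  hom := pullback.lift (pullback.fst _ _ ≫ pullback.fst f (specMap k K)) (pullback.snd _ _) (by
    rw [Category.assoc, pullback.condition, pullback.condition_assoc, specAut_specMap])
  inv := pullback.lift (GeomConn.autMap f σ) (pullback.snd _ _) (GeomConn.autMap_snd f σ)
  hom_inv_id := by
    apply pullback.hom_ext
    · rw [Category.assoc, pullback.lift_fst, Category.id_comp]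
      apply pullback.hom_ext
      · rw [Category.assoc, GeomConn.autMap_fst, pullback.lift_fst]
      · rw [Category.assoc, GeomConn.autMap_snd, pullback.lift_snd_assoc]
        exact pullback.condition.symm
    · rw [Category.assoc, pullback.lift_snd, pullback.lift_snd, Category.id_comp]
  inv_hom_id := by
    apply pullback.hom_ext
    · rw [Category.assoc, pullback.lift_fst, pullback.lift_fst_assoc, GeomConn.autMap_fst, Category.id_comp]
    · rw [Category.assoc, pullback.lift_snd, pullback.lift_snd, Category.id_comp]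

theorem rawTwist_hom_snd {X : Scheme.{u}} (f : X ⟶ Spec (CommRingCat.of k)) (σ : K ≃ₐ[k] K) :
    (rawTwist K f σ).hom ≫ pullback.snd f (specMap k K) = pullback.snd _ _ := pullback.lift_snd _ _ _

theorem rawTwist_inv_fst {X : Scheme.{u}} (f : X ⟶ Spec (CommRingCat.of k)) (σ : K ≃ₐ[k] K) :
    (rawTwist K f σ).inv ≫ pullback.fst _ _ = GeomConn.autMap f σ := pullback.lift_fst _ _ _

/-- The base change pulled back by an automorphism is the base change. -/
def twistIso (σ : K ≃ₐ[k] K) :
    Over.pullback (specMap k K) ⋙ Over.pullback (specAut K σ) ≅ Over.pullback (specMap k K) :=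
  NatIso.ofComponents (fun X => Over.isoMk (rawTwist K X.hom σ) (rawTwist_hom_snd K X.hom σ))
    (fun f => by
      apply Over.OverMorphism.ext
      apply pullback.hom_ext
      · simp [rawTwist, Over.pullback]
      · simp [rawTwist, Over.pullback])

theorem twistIso_inv_fst (σ : K ≃ₐ[k] K) (X : Over (Spec (CommRingCat.of k))) :
    ((twistIso K σ).inv.app X).left ≫ pullback.fst _ _ = GeomConn.autMap X.hom σ := rawTwist_inv_fst K X.hom σ

/-- The comparison is a homomorphism. -/
theorem isMonHom_twistIso (σ : K ≃ₐ[k] K) (G : Over (Spec (CommRingCat.of k))) [GrpObj G] :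
    @IsMonHom _ _ _ ((Over.pullback (specAut K σ)).obj (bcK k K G)) (bcK k K G)
      (Functor.monObjObj (F := Over.pullback (specAut K σ)) (bcK k K G)) inferInstance ((twistIso K σ).hom.app G) := by
  let F := Over.pullback (specMap k K)
  let F' := Over.pullback (specAut K σ)
  let ν := (twistIso K σ).hom
  have hm : ∀ {T : Over (Spec (CommRingCat.of k))} (f g : T ⟶ G),
      F'.map (F.map (f * g)) ≫ ν.app G = (F'.map (F.map f) ≫ ν.app G) * (F'.map (F.map g) ≫ ν.app G) := by
    intro T f g
    have e : ∀ u : T ⟶ G, F'.map (F.map u) ≫ ν.app G = ν.app T ≫ F.map u := fun u => ν.naturality u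
    rw [e, e, e, Functor.map_mul, MonObj.comp_mul]
  refine ⟨?_, ?_⟩
  · have h := hm (1 : 𝟙_ _ ⟶ G) 1
    rw [_root_.mul_one, left_eq_mul] at h
    show (Functor.LaxMonoidal.ε F' ≫ F'.map (Functor.LaxMonoidal.ε F ≫ F.map η[G])) ≫ ν.app G = _
    rw [show η[G] = (1 : 𝟙_ _ ⟶ G) by rw [Hom.one_def, toUnit_unit, Category.id_comp], F'.map_comp, Category.assoc,
      Category.assoc, h, MonObj.comp_one, MonObj.comp_one, Hom.one_def, toUnit_unit, Category.id_comp]
  · have h := hm (fst G G) (snd G G)
    show (Functor.LaxMonoidal.μ F' (F.obj G) (F.obj G) ≫ F'.map (Functor.LaxMonoidal.μ F G G ≫ F.map μ[G])) ≫ ν.app G = _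
    rw [show μ[G] = fst G G * snd G G from Eq.symm (by rw [Hom.mul_def, lift_fst_snd, Category.id_comp]), F'.map_comp,
      Category.assoc, Category.assoc, h, MonObj.comp_mul, MonObj.comp_mul]
    simp only [← Category.assoc, ← F'.map_comp, Functor.Monoidal.μ_fst, Functor.Monoidal.μ_snd]
    rw [Hom.mul_def]
    congr 1

end Groth.Agent.Chev
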