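import Groth.Agent.Chev.Structure
import Groth.Agent.Chev.Twist
import Groth.Agent.FpqcDescent.Affine

/-!
# The structure theorem over a perfect field
-/

set_option autoImplicit false
set_option backward.isDefEq.respectTransparency false

universe u

open CategoryTheory CategoryTheory.Limits MonoidalCategory CartesianMonoidalCategory MonObj GrpObj AlgebraicGeometry
open scoped CategoryTheory.Obj

noncomputable section

namespace Groth.Agent.Chev

open AVDeg (bcK specMap)

variable {k : Type u} [Field k] (K : Type u) [Field K] [Algebra k K]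

instance smooth_bcK {X : Over (Spec (CommRingCat.of k))} [Smooth X.hom] : Smooth (bcK k K X).hom :=
  inferInstanceAs (Smooth (pullback.snd X.hom (specMap k K)))

instance quasiCompact_bcK {X : Over (Spec (CommRingCat.of k))} [QuasiCompact X.hom] : QuasiCompact (bcK k K X).hom :=
  inferInstanceAs (QuasiCompact (pullback.snd X.hom (specMap k K)))

theorem isAffine_bcK {X : Over (Spec (CommRingCat.of k))} [IsAffine X.left] : IsAffine (bcK k K X).left :=
  haveI : IsAffineHom X.hom := isAffineHom_of_isAffine X.hom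
  haveI : IsAffineHom (pullback.snd X.hom (specMap k K)) := MorphismProperty.pullback_snd _ _ ‹_›
  isAffine_of_isAffineHom (pullback.snd X.hom (specMap k K))

theorem connectedSpace_bcK {X : Over (Spec (CommRingCat.of k))} [GrpObj X] [Smooth X.hom] [ConnectedSpace X.left] :
    ConnectedSpace (bcK k K X).left := by
  haveI := geometricallyIntegral_of_group (A := X)
  haveI : IsIntegral (bcK k K X).left := GeometricallyIntegral.isIntegral_of_subsingleton (bcK k K X).hom
  infer_instance

instance surjective_fst_bcK (X : Over (Spec (CommRingCat.of k))) :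
    Surjective (pullback.fst X.hom (specMap k K)) := by
  haveI : Surjective (specMap k K) :=
    ⟨fun _ => ⟨IsLocalRing.closedPoint K, Subsingleton.elim (α := PrimeSpectrum k) _ _⟩⟩
  exact MorphismProperty.pullback_fst _ _ ‹_›

/-- Base change does not identify morphisms. -/
theorem bcMap_injective {A B : Over (Spec (CommRingCat.of k))} {f g : A ⟶ B}
    (h : (Over.pullback (specMap k K)).map f = (Over.pullback (specMap k K)).map g) : f = g := by
  refine Over.OverMorphism.ext ?_
  haveI : Flat (specMap k K) :=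
    (HasRingHomProperty.Spec_iff (P := @Flat)).2 (RingHom.flat_algebraMap_iff.2 inferInstance)
  haveI : Flat (pullback.fst A.hom (specMap k K)) := MorphismProperty.pullback_fst _ _ ‹_›
  haveI := Flat.epi_of_flat_of_surjective (pullback.fst A.hom (specMap k K))
  have hfst : ∀ f : A ⟶ B, ((Over.pullback (specMap k K)).map f).left ≫ pullback.fst B.hom (specMap k K) =
      pullback.fst A.hom (specMap k K) ≫ f.left := fun f => pullback.lift_fst _ _ _
  rw [← cancel_epi (pullback.fst A.hom (specMap k K)), ← hfst, ← hfst, h]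

theorem bcMap_one {A B : Over (Spec (CommRingCat.of k))} [GrpObj B] :
    (Over.pullback (specMap k K)).map (1 : A ⟶ B) = 1 := by
  have h := Functor.map_mul (Over.pullback (specMap k K)) (1 : A ⟶ B) 1
  rw [_root_.mul_one, left_eq_mul] at h
  exact h

/-- A homomorphism from a connected affine group to a proper group is trivial, over any field. -/
theorem eq_one_of_affine_of_proper' {H Q : Over (Spec (CommRingCat.of k))} [GrpObj H] [GrpObj Q] [Smooth H.hom]
    [IsAffine H.left] [ConnectedSpace H.left] [IsProper Q.hom] (f : H ⟶ Q) [IsMonHom f] : f = 1 := by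
  apply bcMap_injective (AlgebraicClosure k)
  rw [bcMap_one]
  haveI := isAffine_bcK (AlgebraicClosure k) (X := H)
  haveI := connectedSpace_bcK (AlgebraicClosure k) (X := H)
  exact eq_one_of_affine_of_proper _

/-- The points of a base change over one point of the image of a subgroup with proper quotient are in it. -/
theorem preimage_image_subset [IsAlgClosed K] [Normal k K] {G : Over (Spec (CommRingCat.of k))} [GrpObj G]
    {L Q : Over (Spec (CommRingCat.of K))} [GrpObj L] [GrpObj Q] (l : L ⟶ bcK k K G) [IsMonHom l]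
    (q : bcK k K G ⟶ Q) [IsMonHom q] [Smooth L.hom] [IsAffine L.left] [ConnectedSpace L.left] [IsProper Q.hom]
    (hker : AlgGrp.IsKernel l q) :
    pullback.fst G.hom (specMap k K) ⁻¹' (pullback.fst G.hom (specMap k K) '' Set.range l.left) ⊆
      Set.range l.left := by
  have hinv : ∀ σ : K ≃ₐ[k] K, GeomConn.autMap G.hom σ '' Set.range l.left ⊆ Set.range l.left := by
    intro σ
    let F' := Over.pullback (specAut K σ.symm)
    haveI := isMonHom_twistIso K σ.symm G
    let h : F'.obj L ⟶ bcK k K G := F'.map l ≫ (twistIso K σ.symm).hom.app G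
    haveI : IsMonHom h :=
      inferInstanceAs (IsMonHom (F'.map l ≫ (twistIso K σ.symm).hom.app G : F'.obj L ⟶ bcK k K G))
    haveI : IsIso (pullback.fst L.hom (specAut K σ.symm)) := inferInstance
    haveI : Smooth (F'.obj L).hom := inferInstanceAs (Smooth (pullback.snd L.hom (specAut K σ.symm)))
    haveI : IsAffine (F'.obj L).left := IsAffine.of_isIso (pullback.fst L.hom (specAut K σ.symm))
    haveI : ConnectedSpace (F'.obj L).left :=
      (inv (pullback.fst L.hom (specAut K σ.symm))).surjective.connectedSpace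
        (inv (pullback.fst L.hom (specAut K σ.symm))).continuous
    have h1 : h ≫ q = toUnit _ ≫ η[Q] := by rw [eq_one_of_affine_of_proper (h ≫ q), Hom.one_def]
    have hsub : Set.range h.left ⊆ Set.range l.left := by
      rw [← hker.lift_fst h (toUnit _) h1]
      rintro _ ⟨x, rfl⟩
      exact ⟨_, rfl⟩
    have hcomp : h.left ≫ GeomConn.autMap G.hom σ.symm = pullback.fst L.hom (specAut K σ.symm) ≫ l.left := by
      rw [← twistIso_inv_fst K σ.symm G, ← Category.assoc]
      show ((h : F'.obj L ⟶ _).left ≫ ((twistIso K σ.symm).inv.app G).left) ≫ _ = _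
      rw [← Over.comp_left]
      show (((F'.map l ≫ (twistIso K σ.symm).hom.app G) ≫ (twistIso K σ.symm).inv.app G)).left ≫ _ = _
      rw [Category.assoc, Iso.hom_inv_id_app]
      erw [Category.comp_id]
      exact pullback.lift_fst _ _ _
    rintro _ ⟨z, ⟨x, rfl⟩, rfl⟩
    obtain ⟨x', rfl⟩ := (pullback.fst L.hom (specAut K σ.symm)).surjective x
    have e := congrArg (fun φ => GeomConn.autMap G.hom σ (φ x')) hcomp
    simp only [Scheme.Hom.comp_apply] at e
    have e2 : GeomConn.autMap G.hom σ (GeomConn.autMap G.hom σ.symm (h.left x')) = h.left x' := by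
      rw [← Scheme.Hom.comp_apply]
      have := GeomConn.autMap_comp G.hom σ.symm
      rw [AlgEquiv.symm_symm] at this
      rw [this]; rfl
    exact Eq.mpr (congrArg (· ∈ Set.range l.left) (e.symm.trans e2)) (hsub ⟨x', rfl⟩)
  rintro z ⟨y, hy, hyz⟩
  obtain ⟨σ, rfl⟩ := GeomConn.exists_autMap_eq G.hom y z hyz
  exact hinv σ ⟨y, hy, rfl⟩

/-- The range of a base changed morphism. -/
theorem range_bcMap {A B : Over (Spec (CommRingCat.of k))} (f : A ⟶ B) :
    Set.range ((Over.pullback (specMap k K)).map f).left =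
      pullback.fst B.hom (specMap k K) ⁻¹' Set.range f.left := by
  have h : IsPullback ((Over.pullback (specMap k K)).map f).left (pullback.fst A.hom (specMap k K))
      (pullback.fst B.hom (specMap k K)) f.left := by
    refine IsPullback.of_right ?_ (pullback.lift_fst _ _ _) (IsPullback.of_hasPullback B.hom (specMap k K)).flip
    rw [show ((Over.pullback (specMap k K)).map f).left ≫ pullback.snd B.hom (specMap k K) =
      pullback.snd A.hom (specMap k K) from pullback.lift_snd _ _ _, Over.w f]
    exact (IsPullback.of_hasPullback A.hom (specMap k K)).flip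
  rw [← h.isoPullback_hom_fst, Scheme.Hom.comp_base, TopCat.coe_comp, Set.range_comp,
    Set.range_eq_univ.2 h.isoPullback.hom.surjective, Set.image_univ, Scheme.Pullback.range_fst]
  rfl

set_option maxHeartbeats 1000000 in
/-- Existence over a perfect field. -/
theorem exists_structure_perfect [PerfectField k] [IsAlgClosed K] [Algebra.IsAlgebraic k K]
    (G : Over (Spec (CommRingCat.of k))) [GrpObj G] [Smooth G.hom] [QuasiCompact G.hom] [ConnectedSpace G.left] :
    ∃ (L : Over (Spec (CommRingCat.of k))) (_ : GrpObj L) (l : L ⟶ G) (Q : Over (Spec (CommRingCat.of k))) (_ : GrpObj Q)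
      (q : G ⟶ Q), IsMonHom l ∧ IsClosedImmersion l.left ∧ IsAffine L.left ∧ Smooth L.hom ∧ ConnectedSpace L.left ∧
      AlgGrp.IsNormalHom l ∧ IsMonHom q ∧ Surjective q.left ∧ Flat q.left ∧ AlgGrp.IsKernel l q ∧
      IsProper Q.hom ∧ Smooth Q.hom ∧ ConnectedSpace Q.left := by
  haveI : IsAlgClosure k K := ⟨inferInstance, inferInstance⟩
  haveI : Normal k K := IsAlgClosure.normal k K
  haveI := connectedSpace_bcK K (X := G)
  obtain ⟨L, hL, l, QK, hQK, qK, hlm, hlc, hla, hls, hlcon, hln, hqm, hqs, hqf, hker, hQp, -, -⟩ :=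
    exists_structure (bcK k K G)
  haveI := hlm; haveI := hlc; haveI := hla; haveI := hls; haveI := hlcon
  haveI := hqm; haveI := hqs; haveI := hqf; haveI := hQp
  let π := pullback.fst G.hom (specMap k K)
  haveI : IsIntegralHom (specMap k K) :=
    IsIntegralHom.SpecMap_iff.mpr (algebraMap_isIntegral_iff.mpr Algebra.IsAlgebraic.isIntegral)
  haveI : IsIntegralHom π := MorphismProperty.pullback_fst _ _ ‹_›
  have hcl : IsClosed (π '' Set.range l.left) := π.isClosedMap _ l.left.isClosedEmbedding.isClosed_range
  let I := Scheme.IdealSheafData.vanishingIdeal (⟨_, hcl⟩ : TopologicalSpace.Closeds G.left)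
  let R : Over (Spec (CommRingCat.of k)) := Over.mk (I.subschemeι ≫ G.hom)
  let r : R ⟶ G := Over.homMk I.subschemeι rfl
  haveI : IsClosedImmersion r.left := inferInstanceAs (IsClosedImmersion I.subschemeι)
  haveI : IsReduced R.left := inferInstanceAs (IsReduced I.subscheme)
  have hr : Set.range r.left = π '' Set.range l.left := by
    show Set.range I.subschemeι = _
    rw [Scheme.IdealSheafData.range_subschemeι, Scheme.IdealSheafData.coe_support_vanishingIdeal]
    rfl
  haveI : LocallyOfFiniteType R.hom := by rw [← Over.w r]; infer_instance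
  haveI : QuasiCompact R.hom := by rw [← Over.w r]; infer_instance
  let F := Over.pullback (specMap k K)
  have hrK : Set.range (F.map r).left = Set.range l.left := by
    rw [range_bcMap, hr]
    exact Set.Subset.antisymm (preimage_image_subset K l qK hker) (Set.subset_preimage_image _ _)
  haveI : IsClosedImmersion (F.map r).left := by
    have h : IsPullback (F.map r).left (pullback.fst R.hom (specMap k K)) π r.left := by
      refine IsPullback.of_right ?_ (pullback.lift_fst _ _ _) (IsPullback.of_hasPullback G.hom (specMap k K)).flip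
      rw [show (F.map r).left ≫ pullback.snd G.hom (specMap k K) = pullback.snd R.hom (specMap k K) from
        pullback.lift_snd _ _ _, Over.w r]
      exact (IsPullback.of_hasPullback R.hom (specMap k K)).flip
    exact MorphismProperty.of_isPullback (P := @IsClosedImmersion) h.flip ‹IsClosedImmersion r.left›
  haveI : IsReduced (Spec (CommRingCat.of K)) := inferInstance
  haveI : IsReduced (F.obj R).left := Assoc.isReduced_pullback k R.hom (specMap k K)
  haveI : IsReduced L.left := isReduced_of_smooth L
  obtain ⟨e, he⟩ := exists_lift_range (F.map r) l hrK.le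
  obtain ⟨e', he'⟩ := exists_lift_range l (F.map r) hrK.ge
  haveI : Mono l := GrpField.SchImg.mono_of_isClosedImmersion l
  haveI : Mono (F.map r) := GrpField.SchImg.mono_of_isClosedImmersion (F.map r)
  haveI hei : IsIso e := ⟨e', by rw [← cancel_mono (F.map r), Category.assoc, he', he, Category.id_comp],
    by rw [← cancel_mono l, Category.assoc, he, he', Category.id_comp]⟩
  haveI : IsIso e.left := inferInstanceAs (IsIso ((Over.forget _).map e))
  haveI : IsAffine (F.obj R).left := IsAffine.of_isIso e.left
  have hcrit : ∀ {T : Over (Spec (CommRingCat.of k))} [IsReduced T.left] (d : T ⟶ G),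
      (∃ w : F.obj T ⟶ L, w ≫ l = F.map d) → ∃ d' : T ⟶ R, d' ≫ r = d := by
    rintro T _ d ⟨w, hw⟩
    refine exists_lift_range d r ?_
    rintro _ ⟨t, rfl⟩
    obtain ⟨t', rfl⟩ := (pullback.fst T.hom (specMap k K)).surjective t
    rw [hr]
    refine ⟨(F.map d).left t', ⟨w.left t', ?_⟩, ?_⟩
    · rw [← hw]; rfl
    · exact congrArg (fun φ => φ t') (pullback.lift_fst _ _ _ :
        (F.map d).left ≫ π = pullback.fst T.hom (specMap k K) ≫ d.left)
  haveI : IsReduced (R ⊗ R).left := Assoc.isReduced_pullback k R.hom R.hom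
  haveI : GeometricallyReduced G.hom := Rigid.geometricallyReduced_of_smooth _
  haveI : IsReduced G.left := GeometricallyReduced.geometrically_isReduced (f := G.hom) (K := k) (𝟙 _) (𝟙 _) G.hom
    (IsPullback.of_horiz_isIso ⟨by rw [Category.id_comp, Category.comp_id]⟩)
  haveI : IsReduced (G ⊗ R).left := Assoc.isReduced_pullback k G.hom R.hom
  haveI : IsReduced (𝟙_ (Over (Spec (CommRingCat.of k)))).left := inferInstanceAs (IsReduced (Spec (CommRingCat.of k)))
  have hinvmap : ∀ {T : Over (Spec (CommRingCat.of k))} (u : T ⟶ G), F.map u⁻¹ = (F.map u)⁻¹ := fun u =>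
    eq_inv_of_mul_eq_one_left (by rw [← Functor.map_mul, inv_mul_cancel, bcMap_one])
  obtain ⟨u, hu⟩ := hcrit (1 : 𝟙_ _ ⟶ G) ⟨1, by rw [MonObj.one_comp, bcMap_one]⟩
  obtain ⟨d, hd⟩ := hcrit ((fst R R ≫ r)⁻¹ * (snd R R ≫ r))
    ⟨(F.map (fst R R) ≫ e)⁻¹ * (F.map (snd R R) ≫ e), by
      rw [MonObj.mul_comp, GrpObj.inv_comp, Category.assoc, Category.assoc, he, Functor.map_mul, hinvmap,
        F.map_comp, F.map_comp]⟩
  obtain ⟨hRgrp, hrm⟩ := GrpField.SchImg.exists_grpObj_of_div r
    ⟨u, by rw [hu, Hom.one_def, toUnit_unit, Category.id_comp]⟩ fun T k₁ k₂ => ⟨lift k₁ k₂ ≫ d, by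
      rw [Category.assoc, hd, MonObj.comp_mul, GrpObj.comp_inv, lift_fst_assoc, lift_snd_assoc]⟩
  haveI := hrm
  haveI hRs : Smooth R.hom := by
    letI : GrpObj (Over.mk R.hom) := hRgrp
    exact GrpBasic.smooth_of_grpObj_perfect R.hom
  have hnorm : AlgGrp.IsNormalHom r := by
    obtain ⟨w, hw⟩ := hln (F.obj (G ⊗ R)) (F.map (fst G R)) (F.map (snd G R) ≫ e)
    obtain ⟨c, hc⟩ := hcrit (fst G R * (snd G R ≫ r) * (fst G R)⁻¹) ⟨w, by
      rw [← hw, Category.assoc, he, Functor.map_mul, Functor.map_mul, hinvmap, F.map_comp]⟩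
    intro T g x
    refine ⟨lift g x ≫ c, ?_⟩
    rw [Category.assoc, hc, MonObj.comp_mul, MonObj.comp_mul, GrpObj.comp_inv, lift_fst, lift_snd_assoc]
  haveI : Flat (specMap k K) :=
    (HasRingHomProperty.Spec_iff (P := @Flat)).2 (RingHom.flat_algebraMap_iff.2 inferInstance)
  haveI : Surjective (specMap k K) :=
    ⟨fun _ => ⟨IsLocalRing.closedPoint K, Subsingleton.elim (α := PrimeSpectrum k) _ _⟩⟩
  have hff : (@Surjective ⊓ @Flat ⊓ @QuasiCompact : MorphismProperty Scheme.{u}) (specMap k K) :=
    ⟨⟨inferInstance, inferInstance⟩, inferInstance⟩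
  haveI hRa : IsAffine R.left := by
    haveI : IsAffineHom R.hom := MorphismProperty.of_pullback_snd_of_descendsAlong (P := @IsAffineHom)
      (Q := @Surjective ⊓ @Flat ⊓ @QuasiCompact) (g := specMap k K) hff
      (isAffineHom_of_isAffine (F.obj R).hom)
    exact isAffine_of_isAffineHom R.hom
  haveI hRc : ConnectedSpace R.left := by
    haveI : ConnectedSpace (F.obj R).left :=
      (inv e.left).surjective.connectedSpace (inv e.left).continuous
    haveI : ConnectedSpace ↥(pullback R.hom (specMap k K)) := ‹ConnectedSpace (F.obj R).left›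
    exact (pullback.fst R.hom (specMap k K)).surjective.connectedSpace (pullback.fst R.hom (specMap k K)).continuous
  haveI : Mono r := GrpField.SchImg.mono_of_isClosedImmersion r
  obtain ⟨Q, hQ, q, hqm', hqf', hqs', -, hk', hsep, -, hsm⟩ := S3030.result k R G r hnorm
  haveI := hqm'; haveI := hqf'; haveI := hqs'; haveI := hsep
  haveI : Smooth Q.hom := hsm inferInstance
  haveI : QuasiCompact Q.hom := by
    haveI : QuasiCompact (q.left ≫ Q.hom) := by rw [Over.w q]; infer_instance
    exact ThickLib.quasiCompact_of_comp_surjective q.left Q.hom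
  haveI : IsSeparated G.hom := GrpField.isSeparated_hom G
  -- the base change of the quotient
  have hsqF : IsPullback (F.map q).left (pullback.fst G.hom (specMap k K)) (pullback.fst Q.hom (specMap k K)) q.left := by
    refine IsPullback.of_right ?_ (pullback.lift_fst _ _ _) (IsPullback.of_hasPullback Q.hom (specMap k K)).flip
    rw [show (F.map q).left ≫ pullback.snd Q.hom (specMap k K) = pullback.snd G.hom (specMap k K) from
      pullback.lift_snd _ _ _, Over.w q]
    exact (IsPullback.of_hasPullback G.hom (specMap k K)).flip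
  haveI : QuasiCompact q.left := by
    haveI : QuasiCompact (q.left ≫ Q.hom) := by rw [Over.w q]; infer_instance
    exact QuasiCompact.of_comp q.left Q.hom
  haveI : Flat (F.map q).left := MorphismProperty.of_isPullback hsqF.flip hqf'
  haveI : Surjective (F.map q).left := MorphismProperty.of_isPullback hsqF.flip hqs'
  haveI : QuasiCompact (F.map q).left := MorphismProperty.of_isPullback hsqF.flip ‹QuasiCompact q.left›
  haveI : QuasiCompact qK.left := by
    haveI : QuasiCompact (qK.left ≫ QK.hom) := by rw [Over.w qK]; infer_instance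
    exact QuasiCompact.of_comp qK.left QK.hom
  have hkerF : AlgGrp.IsKernel l (F.map q) := by
    have h1 : e' ≫ F.map r ≫ F.map q = 1 := by
      rw [← F.map_comp, hk'.w, show toUnit R ≫ η[Q] = (1 : R ⟶ Q) from Hom.one_def.symm, bcMap_one, MonObj.comp_one]
    have h := hk'.map F
    refine IsPullback.mk' ?_ (fun T φ φ' e₁ _ => (cancel_mono l).1 e₁) fun T a b hab => ?_
    · rw [← he', Category.assoc, h1, Hom.one_def]
    · have e₁ : toUnit T ≫ η[F.obj Q] = (1 : T ⟶ F.obj Q) := Hom.one_def.symm
      have e₂ : ∀ z : T ⟶ F.obj (𝟙_ _), z ≫ F.map η[Q] = 1 := fun z => by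
        rw [show η[Q] = (1 : 𝟙_ _ ⟶ Q) by rw [Hom.one_def, toUnit_unit, Category.id_comp], bcMap_one, MonObj.comp_one]
      have hu' : a ≫ F.map q = (toUnit T ≫ Functor.LaxMonoidal.ε F) ≫ F.map η[Q] := by
        rw [e₂, hab, toUnit_unique b (toUnit T), e₁]
      exact ⟨h.lift a _ hu' ≫ e, by rw [Category.assoc, he, h.lift_fst], toUnit_unique _ _⟩
  obtain ⟨iso⟩ := AdjRep.exists_iso_of_same_kernel l (F.map q) qK hkerF hker
  haveI : IsIso iso.hom.left := inferInstanceAs (IsIso ((Over.forget _).map iso.hom))
  haveI hQKp : IsProper (F.obj Q).hom := by rw [← Over.w iso.hom]; infer_instance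
  haveI : UniversallyClosed Q.hom := MorphismProperty.of_pullback_snd_of_descendsAlong (P := @UniversallyClosed)
      (Q := @Surjective ⊓ @Flat ⊓ @QuasiCompact) (g := specMap k K) hff
      (inferInstanceAs (UniversallyClosed (F.obj Q).hom))
  exact ⟨R, hRgrp, r, Q, hQ, q, hrm, inferInstance, hRa, hRs, hRc, hnorm, hqm', hqs', hqf', hk', { }, inferInstance,
    q.left.surjective.connectedSpace q.left.continuous⟩

/-- Uniqueness. -/
theorem structure_unique {G : Over (Spec (CommRingCat.of k))} [GrpObj G]
    {L L' Q Q' : Over (Spec (CommRingCat.of k))} [GrpObj L] [GrpObj L'] [GrpObj Q] [GrpObj Q']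
    (l : L ⟶ G) [IsMonHom l] (l' : L' ⟶ G) [IsMonHom l'] [IsClosedImmersion l.left] [IsClosedImmersion l'.left]
    (q : G ⟶ Q) [IsMonHom q] (q' : G ⟶ Q') [IsMonHom q'] [Smooth L.hom] [IsAffine L.left] [ConnectedSpace L.left]
    [Smooth L'.hom] [IsAffine L'.left] [ConnectedSpace L'.left] [IsProper Q.hom] [IsProper Q'.hom]
    (hk : AlgGrp.IsKernel l q) (hk' : AlgGrp.IsKernel l' q') : ∃ φ : L' ≅ L, φ.hom ≫ l = l' := by
  haveI : Mono l := GrpField.SchImg.mono_of_isClosedImmersion l
  haveI : Mono l' := GrpField.SchImg.mono_of_isClosedImmersion l'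
  have h₁ : l' ≫ q = toUnit L' ≫ η[Q] := by rw [eq_one_of_affine_of_proper' (l' ≫ q), Hom.one_def]
  have h₂ : l ≫ q' = toUnit L ≫ η[Q'] := by rw [eq_one_of_affine_of_proper' (l ≫ q'), Hom.one_def]
  refine ⟨{ hom := hk.lift l' _ h₁, inv := hk'.lift l _ h₂, hom_inv_id := ?_, inv_hom_id := ?_ }, hk.lift_fst _ _ _⟩
  · rw [← cancel_mono l', Category.assoc, hk'.lift_fst, hk.lift_fst, Category.id_comp]
  · rw [← cancel_mono l, Category.assoc, hk.lift_fst, hk'.lift_fst, Category.id_comp]

end Groth.Agent.Chev
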