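import Groth.Agent.Chev.AntiAff
import Groth.Agent.GrpField.SchDomFlat
import Groth.Agent.GrpField.Dimension
import Groth.Agent.GrpField.Kernel
import Groth.Agent.GrpComp.Identity
import Groth.Agent.LocNoethTop.Basic
import Groth.Agent.InfLift.SchemeSmallExt
import Groth.Agent.S12442
import Groth.Agent.S5938
import Groth.Agent.AlgSpLib.FibreNoeth

/-!
# The smallest normal subgroup with proper quotient
-/

set_option autoImplicit false
set_option backward.isDefEq.respectTransparency false

universe u

open CategoryTheory CategoryTheory.Limits MonoidalCategory CartesianMonoidalCategory MonObj GrpObj AlgebraicGeometry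

noncomputable section

namespace Groth.Agent.Chev

variable {k : Type u} [Field k]

/-- Ideal sheaves on a Noetherian scheme satisfy the ascending chain condition. -/
theorem wellFoundedGT_idealSheafData (X : Scheme.{u}) [IsLocallyNoetherian X] [CompactSpace X] :
    WellFoundedGT X.IdealSheafData := by
  classical
  obtain ⟨s, hs⟩ := CompactSpace.elim_nhds_subcover (fun x : X => ((exists_isAffineOpen_mem_and_subset
    (x := x) (U := ⊤) trivial).choose : Set X))
    (fun x => (exists_isAffineOpen_mem_and_subset (x := x) (U := ⊤) trivial).choose.2.mem_nhds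
      (exists_isAffineOpen_mem_and_subset (x := x) (U := ⊤) trivial).choose_spec.2.1)
  let U : (↥s) → X.affineOpens := fun x => ⟨_, (exists_isAffineOpen_mem_and_subset
    (x := (x : X)) (U := ⊤) trivial).choose_spec.1⟩
  have hU : ⨆ x, (U x : X.Opens) = ⊤ := by
    ext z
    simp only [TopologicalSpace.Opens.coe_iSup, Set.mem_iUnion, TopologicalSpace.Opens.coe_top, Set.mem_univ,
      iff_true]
    have hz : z ∈ (⊤ : Set X) := trivial
    rw [← hs] at hz
    obtain ⟨x, hx, hzx⟩ := Set.mem_iUnion₂.1 hz
    exact ⟨⟨x, hx⟩, hzx⟩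
  haveI : ∀ x, WellFoundedGT (Ideal Γ(X, U x)) := fun x => by
    haveI : IsNoetherianRing Γ(X, U x) := IsLocallyNoetherian.component_noetherian (U x)
    infer_instance
  let Φ : X.IdealSheafData → (∀ x, Ideal Γ(X, U x)) := fun I x => I.ideal (U x)
  have hinj : Function.Injective Φ := fun I J h =>
    Scheme.IdealSheafData.ext_of_iSup_eq_top U hU fun x => congrFun h x
  have hmono : StrictMono Φ :=
    Monotone.strictMono_of_injective (fun I J h x => h (U x)) hinj
  haveI : WellFoundedGT (∀ x, Ideal Γ(X, U x)) := inferInstanceAs (WellFoundedLT (∀ x, (Ideal Γ(X, U x))ᵒᵈ))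
  exact StrictMono.wellFoundedGT hmono

/-- Being the kernel of a flat surjective homomorphism onto a proper group. -/
def IsPK {N G : Over (Spec (CommRingCat.of k))} [GrpObj G] (i : N ⟶ G) : Prop :=
  ∃ (Q : Over (Spec (CommRingCat.of k))) (_ : GrpObj Q) (q : G ⟶ Q),
    IsMonHom q ∧ Surjective q.left ∧ Flat q.left ∧ AlgGrp.IsKernel i q ∧ IsProper Q.hom

/-- The kernel of a homomorphism to a proper group is a kernel of the required shape. -/
theorem exists_isPK {G P : Over (Spec (CommRingCat.of k))} [GrpObj G] [GrpObj P] [LocallyOfFiniteType G.hom]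
    [QuasiCompact G.hom] [IsProper P.hom] (f : G ⟶ P) [IsMonHom f] :
    ∃ (N : Over (Spec (CommRingCat.of k))) (_ : GrpObj N) (i : N ⟶ G), IsMonHom i ∧ IsClosedImmersion i.left ∧
      AlgGrp.IsNormalHom i ∧ IsPK i ∧ i ≫ f = 1 := by
  haveI : QuasiCompact f.left := by
    haveI : QuasiCompact (f.left ≫ P.hom) := by rw [Over.w]; infer_instance
    exact QuasiCompact.of_comp _ P.hom
  obtain ⟨C, hC, c, g, hcm, hgm, hgc, hcc, hgd, hgq, hgs⟩ := GrpField.SchImg.exists_image f
  haveI := hcm; haveI := hgm; haveI := hcc; haveI := hgq; haveI := hgs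
  haveI : IsProper C.hom := by rw [← Over.w c]; infer_instance
  haveI : IsSchemeTheoreticallyDominant g.left := hgd
  haveI : Flat g.left := GrpField.flat_of_schDom g (g.left.ker_eq_bot)
  obtain ⟨N, hN, i, him, hic, hin, hik⟩ := AdjRep.exists_kernel g
  refine ⟨N, hN, i, him, hic, hin, ⟨C, hC, g, hgm, hgs, inferInstance, hik, inferInstance⟩, ?_⟩
  rw [← hgc, ← Category.assoc, hik.w, Category.assoc, IsMonHom.one_hom, ← Hom.one_def]

/-- The smallest normal subgroup with proper quotient, without connectedness. -/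
theorem exists_smallest_kernel (G : Over (Spec (CommRingCat.of k))) [GrpObj G] [LocallyOfFiniteType G.hom]
    [QuasiCompact G.hom] :
    ∃ (N : Over (Spec (CommRingCat.of k))) (_ : GrpObj N) (i : N ⟶ G), IsMonHom i ∧ IsClosedImmersion i.left ∧
      AlgGrp.IsNormalHom i ∧ IsPK i ∧
      ∀ (P : Over (Spec (CommRingCat.of k))) [GrpObj P] [IsProper P.hom] (f : G ⟶ P) [IsMonHom f], i ≫ f = 1 := by
  haveI : IsLocallyNoetherian G.left := LocallyOfFiniteType.isLocallyNoetherian G.hom
  haveI : CompactSpace G.left := QuasiCompact.compactSpace_of_compactSpace G.hom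
  haveI := wellFoundedGT_idealSheafData G.left
  haveI : IsProper (𝟙_ (Over (Spec (CommRingCat.of k)))).hom :=
    inferInstanceAs (IsProper (𝟙 (Spec (CommRingCat.of k))))
  let S : Set G.left.IdealSheafData := {I | ∃ (N : Over (Spec (CommRingCat.of k))) (_ : GrpObj N) (i : N ⟶ G),
    IsMonHom i ∧ IsClosedImmersion i.left ∧ AlgGrp.IsNormalHom i ∧ IsPK i ∧ i.left.ker = I}
  have hne : S.Nonempty := by
    obtain ⟨N, hN, i, him, hic, hin, hpk, -⟩ := exists_isPK (toUnit G)
    exact ⟨_, N, hN, i, him, hic, hin, hpk, rfl⟩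
  obtain ⟨I, ⟨N, hN, i, him, hic, hin, ⟨Q, hQ, q, hqm, hqs, hqf, hik, hQp⟩, rfl⟩, hmax⟩ :=
    (wellFounded_gt (α := G.left.IdealSheafData)).has_min S hne
  haveI := him; haveI := hic; haveI := hqm; haveI := hQp
  refine ⟨N, hN, i, him, hic, hin, ⟨Q, hQ, q, hqm, hqs, hqf, hik, hQp⟩, fun P _ _ f _ => ?_⟩
  haveI : IsProper (Q ⊗ P).hom := inferInstanceAs (IsProper (Limits.pullback.fst Q.hom P.hom ≫ Q.hom))
  haveI : IsMonHom (lift q f) := by
    refine ⟨?_, ?_⟩
    · apply CartesianMonoidalCategory.hom_ext <;> simp [IsMonHom.one_hom]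
    · apply CartesianMonoidalCategory.hom_ext <;> simp [IsMonHom.mul_hom]
  obtain ⟨N', hN', i', him', hic', hin', hpk', hkill⟩ := exists_isPK (lift q f)
  haveI := him'; haveI := hic'
  have hkq : i' ≫ q = 1 := by
    rw [← lift_fst q f, ← Category.assoc, hkill, MonObj.one_comp]
  have hkf : i' ≫ f = 1 := by
    rw [← lift_snd q f, ← Category.assoc, hkill, MonObj.one_comp]
  let v : N' ⟶ N := hik.lift i' (toUnit N') (by rw [hkq, Hom.one_def])
  have hv : v ≫ i = i' := hik.lift_fst _ _ _
  have hle : i.left.ker ≤ i'.left.ker := by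
    rw [← hv, Over.comp_left]; exact v.left.le_ker_comp i.left
  have heq : i.left.ker = i'.left.ker :=
    hle.eq_of_not_lt (hmax _ ⟨N', hN', i', him', hic', hin', hpk', rfl⟩)
  let w : N ⟶ N' := Over.homMk (IsClosedImmersion.lift i'.left i.left heq.ge) (by
    rw [← Over.w i', ← Category.assoc, IsClosedImmersion.lift_fac, Over.w])
  have hw : w ≫ i' = i := Over.OverMorphism.ext (IsClosedImmersion.lift_fac _ _ _)
  rw [← hw, Category.assoc, hkf, MonObj.comp_one]

set_option maxHeartbeats 1000000 in
/-- The smallest normal subgroup with proper quotient is connected. -/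
theorem exists_smallest_kernel_connected (G : Over (Spec (CommRingCat.of k))) [GrpObj G]
    [LocallyOfFiniteType G.hom] [QuasiCompact G.hom] :
    ∃ (N : Over (Spec (CommRingCat.of k))) (_ : GrpObj N) (i : N ⟶ G), IsMonHom i ∧ IsClosedImmersion i.left ∧
      AlgGrp.IsNormalHom i ∧ ConnectedSpace N.left ∧ IsPK i ∧
      ∀ (P : Over (Spec (CommRingCat.of k))) [GrpObj P] [IsProper P.hom] (f : G ⟶ P) [IsMonHom f], i ≫ f = 1 := by
  obtain ⟨N, hN, i, him, hic, hin, ⟨Q, hQ, q, hqm, hqs, hqf, hik, hQp⟩, hsm⟩ := exists_smallest_kernel G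
  haveI := him; haveI := hic; haveI := hqm; haveI := hqs; haveI := hqf; haveI := hQp
  haveI : LocallyOfFiniteType N.hom := by rw [← Over.w i]; infer_instance
  haveI : QuasiCompact N.hom := by rw [← Over.w i]; infer_instance
  haveI : IsLocallyNoetherian N.left := LocallyOfFiniteType.isLocallyNoetherian N.hom
  haveI : CompactSpace N.left := QuasiCompact.compactSpace_of_compactSpace N.hom
  haveI : IsNoetherian N.left := {}
  obtain ⟨N₀, hN₀, c, hcm, hcc, hcf, hcr, hgi, -, -⟩ := GrpComp.exists_identity_subgroup N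
  haveI := hcm; haveI := hcc; haveI := hcf; haveI := hgi
  haveI hN₀l : LocallyOfFiniteType N₀.hom := by rw [← Over.w c]; infer_instance
  haveI hN₀q : QuasiCompact N₀.hom := by rw [← Over.w c]; infer_instance
  haveI : ConnectedSpace N₀.left := by
    refine connectedSpace_iff_connectedComponent.2 ⟨η[N₀].left (IsLocalRing.closedPoint k), ?_⟩
    refine Set.eq_univ_of_univ_subset (_root_.IsPreconnected.subset_connectedComponent ?_ trivial)
    refine c.left.isClosedEmbedding.isInducing.isPreconnected_image.1 ?_
    rw [Set.image_univ, hcr]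
    exact isPreconnected_connectedComponent
  haveI : GeometricallyConnected N₀.hom :=
    Groth.Agent.Rigid.geometricallyConnected_of_section N₀.hom η[N₀].left (Over.w η[N₀])
  have hopen : IsOpen (Set.range c.left) := by
    rw [hcr]; exact Groth.Agent.LocNoethTop.isOpen_connectedComponent_of_noetherian _
  have hclosed : IsClosed (Set.range c.left) := c.left.isClosedEmbedding.isClosed_range
  haveI : IsClosedImmersion (c ≫ i).left := by rw [Over.comp_left]; infer_instance
  -- the identity component is normal in `G`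
  have hnorm : AlgGrp.IsNormalHom (c ≫ i) := by
    obtain ⟨y, hy⟩ := hin (G ⊗ N₀) (fst G N₀) (snd G N₀ ≫ c)
    let s : G ⟶ G ⊗ N₀ := lift (𝟙 G) 1
    have hs : s ≫ y = (1 : G ⟶ N₀) ≫ c := by
      haveI : Mono i := GrpField.SchImg.mono_of_isClosedImmersion i
      rw [← cancel_mono i, Category.assoc, ← hy]
      simp [s, MonObj.comp_mul, GrpObj.comp_inv]
    have hrange : Set.range y.left ⊆ Set.range c.left := by
      rintro _ ⟨x, rfl⟩
      let p : (G ⊗ N₀).left ⟶ G.left := pullback.fst G.hom N₀.hom
      haveI : GeometricallyConnected p := inferInstanceAs (GeometricallyConnected (pullback.fst G.hom N₀.hom))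
      have hfib : _root_.IsPreconnected (p ⁻¹' {p x}) := by
        rw [← p.range_fiberι]
        exact isPreconnected_range (p.fiberι (p x)).continuous
      have hsec : s.left (p x) ∈ p ⁻¹' {p x} := by
        show p (s.left (p x)) = p x
        rw [← Scheme.Hom.comp_apply]
        exact congrArg (fun φ => φ (p x)) (congrArg (fun φ => φ.left) (lift_fst (𝟙 G) (1 : G ⟶ N₀)))
      have hmem : s.left (p x) ∈ y.left ⁻¹' Set.range c.left :=
        ⟨(1 : G ⟶ N₀).left (p x), (congrArg (fun φ => φ.left (p x)) hs).symm⟩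
      exact hfib.subset_isClopen ⟨hclosed.preimage y.left.continuous, hopen.preimage y.left.continuous⟩
        ⟨_, hsec, hmem⟩ (Set.mem_singleton _ : x ∈ p ⁻¹' {p x})
    obtain ⟨w, hw⟩ := GrpComp.exists_factor_flat c.left y.left hrange
    have hw' : (Over.homMk w (by rw [← Over.w c, reassoc_of% hw, Over.w]) : G ⊗ N₀ ⟶ N₀) ≫ c = y :=
      Over.OverMorphism.ext hw
    intro T g x
    refine ⟨lift g x ≫ Over.homMk w (by rw [← Over.w c, reassoc_of% hw, Over.w]), ?_⟩
    have := congrArg (fun φ => lift g x ≫ φ) hy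
    simp only [MonObj.comp_mul, GrpObj.comp_inv, lift_fst, lift_snd_assoc, Category.assoc] at this
    rw [Category.assoc, reassoc_of% hw']
    exact this
  -- the quotient by the identity component is proper
  haveI : Mono (c ≫ i) := GrpField.SchImg.mono_of_isClosedImmersion (c ≫ i)
  haveI : Flat G.hom := AlgSpLib.flat_of_field G.hom
  haveI : Flat N₀.hom := AlgSpLib.flat_of_field N₀.hom
  obtain ⟨R, hR, r, hrm, hrf, hrs, hrp, hrk, hRsep, -, -⟩ := S3030.result k N₀ G (c ≫ i) hnorm
  haveI := hrm; haveI := hrf; haveI := hrs; haveI := hrp; haveI := hRsep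
  haveI : QuasiCompact R.hom := by
    haveI : QuasiCompact (r.left ≫ R.hom) := by rw [Over.w r]; infer_instance
    exact ThickLib.quasiCompact_of_comp_surjective r.left R.hom
  haveI : LocallyOfFiniteType R.hom := by
    haveI : LocallyOfFiniteType (r.left ≫ R.hom) := by rw [Over.w r]; infer_instance
    exact S5938.result r.left R.hom
  haveI : QuasiCompact r.left := by
    haveI : QuasiCompact (r.left ≫ R.hom) := by rw [Over.w]; infer_instance
    exact QuasiCompact.of_comp _ R.hom
  obtain ⟨d, hd⟩ := AdjRep.exists_desc (c ≫ i) r hrk q (by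
    rw [Category.assoc, hik.w, comp_toUnit_assoc, ← Hom.one_def])
  haveI : IsMonHom (r ≫ d) := by rw [hd]; infer_instance
  haveI := isMonHom_desc r d
  haveI : QuasiCompact d.left := by
    haveI : QuasiCompact (d.left ≫ Q.hom) := by rw [Over.w]; infer_instance
    exact QuasiCompact.of_comp _ Q.hom
  obtain ⟨K, hK, κ, hκm, hκc, -, hκk⟩ := AdjRep.exists_kernel d
  haveI := hκm; haveI := hκc
  haveI : Mono κ := GrpField.SchImg.mono_of_isClosedImmersion κ
  haveI : Mono i := GrpField.SchImg.mono_of_isClosedImmersion i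
  haveI : LocallyOfFiniteType K.hom := by rw [← Over.w κ]; infer_instance
  haveI : QuasiCompact K.hom := by rw [← Over.w κ]; infer_instance
  let k₀ : N ⟶ K := hκk.lift (i ≫ r) (toUnit N) (by rw [Category.assoc, hd]; exact hik.w)
  have hk₀ : k₀ ≫ κ = i ≫ r := hκk.lift_fst _ _ _
  haveI : IsMonHom (k₀ ≫ κ) := by rw [hk₀]; infer_instance
  haveI := isMonHom_of_comp k₀ κ
  have hsq : IsPullback i k₀ r κ := by
    refine IsPullback.mk' hk₀.symm (fun T φ φ' e₁ _ => (cancel_mono i).1 e₁) fun T a b e => ?_
    have h1 : a ≫ q = toUnit T ≫ η[Q] := by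
      rw [← hd, ← Category.assoc, e, Category.assoc, hκk.w, comp_toUnit_assoc]
    refine ⟨hik.lift a (toUnit T) h1, hik.lift_fst _ _ _, ?_⟩
    rw [← cancel_mono κ, Category.assoc, hk₀, ← Category.assoc, hik.lift_fst, e]
  have hsq' : IsPullback i.left k₀.left r.left κ.left := hsq.map (Over.forget _)
  haveI : Flat k₀.left := MorphismProperty.of_isPullback hsq' hrf
  haveI : Surjective k₀.left := MorphismProperty.of_isPullback hsq' hrs
  haveI : LocallyOfFinitePresentation k₀.left := MorphismProperty.of_isPullback hsq' hrp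
  have hker₀ : AlgGrp.IsKernel c k₀ := by
    haveI : Mono c := GrpField.SchImg.mono_of_isClosedImmersion c
    refine IsPullback.mk' ?_ (fun T φ φ' e₁ _ => (cancel_mono c).1 e₁) fun T a b e => ?_
    · rw [← cancel_mono κ, Category.assoc, hk₀, ← Category.assoc, hrk.w, Category.assoc (toUnit N₀) η[K] κ,
        IsMonHom.one_hom]
    · have h1 : (a ≫ i) ≫ r = toUnit T ≫ η[R] := by
        rw [Category.assoc, ← hk₀, ← Category.assoc, e, Category.assoc, IsMonHom.one_hom,
          toUnit_unique b (toUnit T)]
      exact ⟨hrk.lift (a ≫ i) (toUnit T) h1, by rw [← cancel_mono i, Category.assoc, hrk.lift_fst],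
        toUnit_unique _ _⟩
  have hrange : Set.range c.left = k₀.left ⁻¹' Set.range η[K].left := by
    have h : IsPullback c.left (toUnit N₀).left k₀.left η[K].left := hker₀.map (Over.forget _)
    rw [← h.isoPullback_hom_fst, Scheme.Hom.comp_base, TopCat.coe_comp, Set.range_comp,
      Set.range_eq_univ.2 h.isoPullback.hom.surjective, Set.image_univ, Scheme.Pullback.range_fst]
  let e : K.left := η[K].left (IsLocalRing.closedPoint k)
  have he : Set.range η[K].left = {e} :=
    Set.Subset.antisymm (by rintro _ ⟨z, rfl⟩; exact congrArg η[K].left (Subsingleton.elim (α := PrimeSpectrum k) _ _))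
      (by rintro _ rfl; exact ⟨_, rfl⟩)
  have he_open : IsOpen ({e} : Set K.left) := by
    rw [← he, ← Set.image_preimage_eq (Set.range η[K].left) k₀.left.surjective, ← hrange]
    exact k₀.left.isOpenMap _ hopen
  haveI : IsLocallyNoetherian K.left := LocallyOfFiniteType.isLocallyNoetherian K.hom
  haveI : CompactSpace K.left := QuasiCompact.compactSpace_of_compactSpace K.hom
  haveI : IsNoetherian K.left := {}
  haveI : Finite K.left := by
    have hdim : topologicalKrullDim K.left = 0 := by
      rw [← (GrpField.equidimensional K).2 e {e} he_open rfl]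
      haveI : Subsingleton (TopologicalSpace.IrreducibleCloseds ({e} : Set K.left)) := ⟨fun a b => by
        ext z
        constructor <;> intro _
        · obtain ⟨w, hw⟩ := b.2.nonempty; exact Subsingleton.elim w z ▸ hw
        · obtain ⟨w, hw⟩ := a.2.nonempty; exact Subsingleton.elim w z ▸ hw⟩
      haveI : Nonempty (TopologicalSpace.IrreducibleCloseds ({e} : Set K.left)) :=
        ⟨⟨Set.univ, ⟨⟨⟨e, rfl⟩, trivial⟩, Set.subsingleton_univ.isPreirreducible⟩, isClosed_univ⟩⟩
      exact Order.krullDim_eq_zero
    have hsub : ∀ Z ∈ irreducibleComponents K.left, Z.Subsingleton := fun Z hZ => by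
      intro a ha b hb
      have hgen : ∀ x ∈ Z, closure ({x} : Set K.left) = Z := fun x hx => by
        by_contra hne
        have hlt : (⟨closure {x}, isIrreducible_singleton.closure, isClosed_closure⟩ :
            TopologicalSpace.IrreducibleCloseds K.left) < ⟨Z, hZ.1, isClosed_of_mem_irreducibleComponents Z hZ⟩ :=
          lt_of_le_of_ne (closure_minimal (Set.singleton_subset_iff.2 hx) (isClosed_of_mem_irreducibleComponents Z hZ))
            fun h => hne (congrArg (fun S : TopologicalSpace.IrreducibleCloseds K.left => (S : Set K.left)) h)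
        exact hlt.not_ge (Order.krullDim_nonpos_iff_forall_isMax.1 hdim.le _ hlt.le)
      exact (Inseparable.eq (inseparable_iff_closure_eq.2 ((hgen a ha).trans (hgen b hb).symm)))
    refine Set.finite_univ_iff.1 ?_
    rw [← sUnion_irreducibleComponents (X := K.left)]
    exact Set.Finite.sUnion TopologicalSpace.NoetherianSpace.finite_irreducibleComponents
      fun Z hZ => (hsub Z hZ).finite
  haveI : LocallyQuasiFinite K.hom := .of_finite_preimage_singleton _ fun _ => Set.toFinite _
  haveI : IsFinite K.hom := IsFinite.of_locallyQuasiFinite K.hom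
  haveI : IsProper (pullback.snd d.left η[Q].left) := by
    have h : IsPullback κ.left (toUnit K).left d.left η[Q].left := hκk.map (Over.forget _)
    rw [← h.isoPullback_inv_snd]
    haveI : IsProper (toUnit K).left := by
      have : (toUnit K).left = K.hom := (Category.comp_id _).symm.trans (Over.w (toUnit K))
      rw [this]; infer_instance
    infer_instance
  haveI : IsProper d.left := GrpField.isProper_of_kernel d
  haveI : IsProper R.hom := by rw [← Over.w d]; infer_instance
  exact ⟨N₀, hN₀, c ≫ i, inferInstance, inferInstance, hnorm, inferInstance,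
    ⟨R, hR, r, hrm, hrs, hrf, hrk, inferInstance⟩,
    fun P _ _ f _ => by rw [Category.assoc, hsm P f, MonObj.comp_one]⟩

end Groth.Agent.Chev
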