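import Groth.Agent.Chev.PrimaryDesc
import Groth.Agent.Chev.FrobTwist
import Groth.Agent.Chev.SmallestKer
import Groth.Agent.Chev.Descent
import Groth.Agent.AVEuler.Smooth
import Groth.Agent.W7Cube.Cube

/-!
# Homomorphisms of abelian varieties along primary extensions; Chow's image

Homomorphisms between base changes of abelian varieties are defined over the base for primary extensions, and an
abelian variety has a largest quotient defined over the base.
-/

set_option autoImplicit false

universe u

open CategoryTheory Limits MonoidalCategory CartesianMonoidalCategory MonObj GrpObj AlgebraicGeometry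
open AlgGrp
open scoped CategoryTheory.Obj

noncomputable section

namespace Groth.Agent.Chev.Chow

open AVDeg (bcK specMap)
open Groth.Agent.Chev

variable {k : Type u} [Field k]

/-- A surjective homomorphism from an abelian variety to a group is flat and an epimorphism. -/
theorem av_hom_props {A C : Over (Spec (CommRingCat.of k))} [GrpObj A] [IsProper A.hom] [GeometricallyIntegral A.hom]
    [GrpObj C] [IsProper C.hom] [GeometricallyIntegral C.hom] (g : A ⟶ C) [IsMonHom g] [Surjective g.left] :
    Flat g.left ∧ QuasiCompact g.left ∧ LocallyOfFinitePresentation g.left ∧ Epi g := by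
  haveI := AVEuler.smooth_av C
  haveI : IsReduced C.left := isReduced_of_smooth' C
  haveI : QuasiCompact g.left := by
    haveI : QuasiCompact (g.left ≫ C.hom) := by rw [Over.w]; infer_instance
    exact QuasiCompact.of_comp _ C.hom
  haveI : Flat g.left := GrpField.flat_of_surjective_reduced g
  haveI : IsLocallyNoetherian C.left := LocallyOfFiniteType.isLocallyNoetherian C.hom
  haveI : LocallyOfFinitePresentation g.left := by
    haveI : LocallyOfFiniteType (g.left ≫ C.hom) := by rw [Over.w]; infer_instance
    haveI : LocallyOfFiniteType g.left := locallyOfFiniteType_of_comp g.left C.hom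
    infer_instance
  exact ⟨inferInstance, inferInstance, inferInstance, AVQuot.epi_of_covering g⟩

theorem isProper_prod (A B : Over (Spec (CommRingCat.of k))) [IsProper A.hom] [IsProper B.hom] :
    IsProper (A ⊗ B).hom := by
  haveI : IsProper (pullback.fst A.hom B.hom) := MorphismProperty.pullback_fst A.hom B.hom ‹_›
  exact inferInstanceAs (IsProper (pullback.fst A.hom B.hom ≫ A.hom))

theorem geometricallyIntegral_prod (A B : Over (Spec (CommRingCat.of k))) [IsProper A.hom] [IsProper B.hom]
    [GeometricallyIntegral A.hom] [GeometricallyIntegral B.hom] : GeometricallyIntegral (A ⊗ B).hom := by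
  haveI : LocallyOfFinitePresentation A.hom := by
    rw [LocallyOfFinitePresentation.iff_locallyOfFiniteType]; infer_instance
  haveI : Flat A.hom := inferInstance
  exact W7Cube.geometricallyIntegral_prod (IsPullback.of_hasPullback A.hom B.hom) (A ⊗ B).hom rfl

/-- The image of an abelian variety in a proper group is an abelian variety. -/
theorem exists_image_av {A G : Over (Spec (CommRingCat.of k))} [GrpObj A] [IsProper A.hom]
    [GeometricallyIntegral A.hom] [GrpObj G] [IsProper G.hom] (f : A ⟶ G) [IsMonHom f] :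
    ∃ (C : Over (Spec (CommRingCat.of k))) (_ : GrpObj C) (g : A ⟶ C) (i : C ⟶ G), IsProper C.hom ∧
      GeometricallyIntegral C.hom ∧ IsMonHom g ∧ Surjective g.left ∧ IsMonHom i ∧ IsClosedImmersion i.left ∧
      g ≫ i = f := by
  haveI : QuasiCompact f.left := by
    haveI : QuasiCompact (f.left ≫ G.hom) := by rw [Over.w]; infer_instance
    exact QuasiCompact.of_comp _ G.hom
  obtain ⟨C, hC, i, g, hi, hg, hgi, hic, hgd, hgq, hgs⟩ := GrpField.SchImg.exists_image f
  haveI := hi; haveI := hg; haveI := hic; haveI := hgd; haveI := hgq; haveI := hgs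
  haveI : IsProper (i.left ≫ G.hom) := inferInstance
  haveI : IsProper C.hom := by rw [← Over.w i]; infer_instance
  haveI := AVEuler.smooth_av A
  haveI : GeometricallyReduced A.hom := inferInstance
  haveI : GeometricallyReduced C.hom := GrpField.SchImg.geometricallyReduced_of_schDom g
  haveI : GeometricallyIrreducible C.hom := by
    refine ⟨geometrically_iff_of_isClosedUnderIsomorphisms.2 fun K _ y => ?_⟩
    haveI : IrreducibleSpace ↥(pullback A.hom y) :=
      GeometricallyIrreducible.geometrically_irreducibleSpace (f := A.hom) y _ _ (IsPullback.of_hasPullback A.hom y)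
    let m : pullback A.hom y ⟶ pullback C.hom y := pullback.map A.hom y C.hom y g.left (𝟙 _) (𝟙 _)
      (by rw [Category.comp_id, Over.w g]) (by simp)
    haveI : Surjective m := by
      have hsq : IsPullback m (pullback.fst A.hom y) (pullback.fst C.hom y) g.left := by
        refine IsPullback.of_right ?_ (pullback.lift_fst _ _ _) (IsPullback.of_hasPullback C.hom y).flip
        rw [pullback.lift_snd, Category.comp_id, Over.w g]
        exact (IsPullback.of_hasPullback A.hom y).flip
      exact MorphismProperty.of_isPullback hsq.flip hgs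
    exact GeomConn.irreducibleSpace_of_surjective _ _ m inferInstance
  haveI : GeometricallyIntegral C.hom :=
    GeometricallyIntegral.of_geometricallyReduced_of_geometricallyIrreducible C.hom
  exact ⟨C, hC, g, i, inferInstance, inferInstance, hg, hgs, hi, hic, hgi⟩

variable {K : Type u} [Field K] [Algebra k K]

/-- An isomorphism after extending the field is an isomorphism. -/
theorem isIso_of_bc {X Y : Over (Spec (CommRingCat.of k))} (f : X ⟶ Y)
    [IsIso ((Over.pullback (specMap k K)).map f)] : IsIso f := by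
  let w := specMap k K
  haveI : Flat w := (PrimaryDesc.flat_surj_specMap K).1
  haveI : Surjective w := (PrimaryDesc.flat_surj_specMap K).2
  have hsq : IsPullback ((Over.pullback w).map f).left (pullback.fst X.hom w) (pullback.fst Y.hom w) f.left := by
    refine IsPullback.of_right ?_ (bcMap_fst K f) (IsPullback.of_hasPullback Y.hom w).flip
    rw [show ((Over.pullback w).map f).left ≫ pullback.snd Y.hom w = pullback.snd X.hom w from pullback.lift_snd _ _ _,
      Over.w f]
    exact (IsPullback.of_hasPullback X.hom w).flip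
  haveI : IsIso f.left := by
    refine MorphismProperty.of_pullback_snd_of_descendsAlong (P := MorphismProperty.isomorphisms Scheme)
      (Q := @Surjective ⊓ @Flat ⊓ @QuasiCompact) (f := f.left) (g := pullback.fst Y.hom w)
      ⟨⟨MorphismProperty.pullback_fst _ _ ‹_›, MorphismProperty.pullback_fst _ _ ‹_›⟩,
        MorphismProperty.pullback_fst _ _ inferInstance⟩ ?_
    show IsIso (pullback.snd f.left (pullback.fst Y.hom w))
    haveI : IsIso ((Over.pullback w).map f).left :=
      inferInstanceAs (IsIso ((Over.forget _).map ((Over.pullback w).map f)))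
    rw [← hsq.flip.isoPullback_inv_snd]
    infer_instance
  haveI : IsIso ((Over.forget _).map f) := inferInstanceAs (IsIso f.left)
  exact isIso_of_reflects_iso f (Over.forget _)

/-- Being a homomorphism can be tested after extending the field. -/
theorem isMonHom_of_bc' {X Y : Over (Spec (CommRingCat.of k))} [GrpObj X] [GrpObj Y] (f : X ⟶ Y)
    [IsMonHom ((Over.pullback (specMap k K)).map f)] : IsMonHom f :=
  isMonHom_of_map_mul f fun {_} a b => by
    apply bcMap_injective K
    rw [Functor.map_comp, Functor.map_mul, MonObj.mul_comp, Functor.map_mul, Functor.map_comp, Functor.map_comp]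

set_option backward.isDefEq.respectTransparency false in
/-- **Chow**: homomorphisms descend along primary extensions. -/
theorem exists_hom_desc (hK : separableClosure k K = ⊥)
    {B C : Over (Spec (CommRingCat.of k))} [GrpObj B] [IsProper B.hom] [GeometricallyIntegral B.hom]
    [GrpObj C] [IsProper C.hom] [GeometricallyIntegral C.hom]
    (α : bcK k K B ⟶ bcK k K C) [IsMonHom α] :
    ∃ α₀ : B ⟶ C, IsMonHom α₀ ∧ (Over.pullback (specMap k K)).map α₀ = α := by
  let F := Over.pullback (specMap k K)
  haveI := isProper_prod B C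
  haveI := geometricallyIntegral_prod B C
  haveI : IsProper (bcK k K B).hom := inferInstanceAs (IsProper (pullback.snd B.hom (specMap k K)))
  haveI : GeometricallyIntegral (bcK k K B).hom :=
    inferInstanceAs (GeometricallyIntegral (pullback.snd B.hom (specMap k K)))
  haveI : IsProper (bcK k K (B ⊗ C)).hom := inferInstanceAs (IsProper (pullback.snd (B ⊗ C).hom (specMap k K)))
  let m := Functor.Monoidal.μIso F B C
  have hm₁ : m.hom ≫ F.map (fst B C) = fst _ _ := by simp [m, Functor.Monoidal.μIso]
  have hm₂ : m.hom ≫ F.map (snd B C) = snd _ _ := by simp [m, Functor.Monoidal.μIso]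
  let gr : bcK k K B ⟶ bcK k K (B ⊗ C) := lift (𝟙 _) α ≫ m.hom
  have hgr₁ : gr ≫ F.map (fst B C) = 𝟙 _ := by simp only [gr, Category.assoc, hm₁]; exact lift_fst _ _
  have hgr₂ : gr ≫ F.map (snd B C) = α := by simp only [gr, Category.assoc, hm₂]; exact lift_snd _ _
  have hext : ∀ {T : Over (Spec (CommRingCat.of K))} (x y : T ⟶ bcK k K (B ⊗ C)),
      x ≫ F.map (fst B C) = y ≫ F.map (fst B C) → x ≫ F.map (snd B C) = y ≫ F.map (snd B C) → x = y := by
    intro T x y h1 h2
    rw [← cancel_mono m.inv]
    apply CartesianMonoidalCategory.hom_ext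
    · simpa [← hm₁] using h1
    · simpa [← hm₂] using h2
  haveI : IsMonHom gr := isMonHom_of_map_mul gr fun {_} a b => by
    refine hext _ _ ?_ ?_
    · rw [Category.assoc, hgr₁, Category.comp_id, MonObj.mul_comp, Category.assoc a gr, Category.assoc b gr, hgr₁,
        Category.comp_id, Category.comp_id]
    · rw [Category.assoc, hgr₂, MonObj.mul_comp, MonObj.mul_comp, Category.assoc a gr, Category.assoc b gr, hgr₂]
  haveI : IsClosedImmersion gr.left := by
    haveI : IsSeparated (bcK k K B).hom := inferInstance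
    haveI : IsSeparated (F.map (fst B C)).left := by
      haveI : IsSeparated ((F.map (fst B C)).left ≫ (bcK k K B).hom) := by rw [Over.w]; infer_instance
      exact IsSeparated.of_comp _ (bcK k K B).hom
    haveI : IsClosedImmersion (gr.left ≫ (F.map (fst B C)).left) := by
      rw [← Over.comp_left, hgr₁, Over.id_left]; infer_instance
    exact IsClosedImmersion.of_comp gr.left (F.map (fst B C)).left
  obtain ⟨Γ, hΓ, i, e, hΓp, hΓi, him, hic, he⟩ := PrimaryDesc.exists_desc_primary hK (B ⊗ C) (bcK k K B) gr
  haveI := him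
  let p : Γ ⟶ B := i ≫ fst B C
  have hp : e.hom ≫ F.map p = 𝟙 _ := by rw [Functor.map_comp, ← Category.assoc, he, hgr₁]
  haveI : IsIso (F.map p) := by
    rw [show F.map p = e.inv from by rw [← cancel_epi e.hom, hp, Iso.hom_inv_id]]
    infer_instance
  haveI := isIso_of_bc (K := K) p
  refine ⟨inv p ≫ i ≫ snd B C, ?_, ?_⟩
  · haveI : IsMonHom (F.map (inv p ≫ i ≫ snd B C)) := by
      rw [show F.map (inv p ≫ i ≫ snd B C) = α from ?_]
      · infer_instance
      · rw [Functor.map_comp, Functor.map_inv, IsIso.inv_comp_eq, ← cancel_epi e.hom, reassoc_of% hp,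
          Functor.map_comp, ← Category.assoc, he, hgr₂]
    exact isMonHom_of_bc' (K := K) _
  · rw [Functor.map_comp, Functor.map_inv, IsIso.inv_comp_eq, ← cancel_epi e.hom, reassoc_of% hp,
      Functor.map_comp, ← Category.assoc, he, hgr₂]

/-- A homomorphism killing the kernel of a surjective homomorphism of abelian varieties factors through it. -/
theorem exists_factor_av {A C D N : Over (Spec (CommRingCat.of k))} [GrpObj A] [IsProper A.hom]
    [GeometricallyIntegral A.hom] [GrpObj C] [IsProper C.hom] [GeometricallyIntegral C.hom] [GrpObj D]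
    (g : A ⟶ C) [IsMonHom g] [Surjective g.left] (n : N ⟶ A) (hk : AlgGrp.IsKernel n g)
    (β : A ⟶ D) [IsMonHom β] (hβ : n ≫ β = 1) : ∃ d : C ⟶ D, IsMonHom d ∧ g ≫ d = β := by
  obtain ⟨hf, hq, hl, he⟩ := av_hom_props g
  haveI := hf; haveI := hq; haveI := hl; haveI := he
  obtain ⟨d, hd⟩ := AdjRep.exists_desc n g hk β hβ
  haveI : IsMonHom (g ≫ d) := by rw [hd]; infer_instance
  exact ⟨d, isMonHom_desc g d, hd⟩

set_option maxHeartbeats 1000000 in
/-- **Chow's image**: the largest quotient of an abelian variety defined over the base. -/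
theorem exists_chowImage (hK : separableClosure k K = ⊥)
    (A : Over (Spec (CommRingCat.of K))) [GrpObj A] [IsProper A.hom] [GeometricallyIntegral A.hom] :
    ∃ (A₀ : Over (Spec (CommRingCat.of k))) (_ : GrpObj A₀) (lam : A ⟶ bcK k K A₀),
      IsProper A₀.hom ∧ GeometricallyIntegral A₀.hom ∧ IsMonHom lam ∧ Surjective lam.left ∧
      ∀ (B : Over (Spec (CommRingCat.of k))) [GrpObj B] [IsProper B.hom] [GeometricallyIntegral B.hom]
        (α : A ⟶ bcK k K B) [IsMonHom α],
        ∃ α₀ : A₀ ⟶ B, IsMonHom α₀ ∧ lam ≫ (Over.pullback (specMap k K)).map α₀ = α := by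
  let F := Over.pullback (specMap k K)
  haveI : IsLocallyNoetherian A.left := LocallyOfFiniteType.isLocallyNoetherian A.hom
  haveI : CompactSpace A.left := QuasiCompact.compactSpace_of_compactSpace A.hom
  haveI := wellFoundedGT_idealSheafData A.left
  let 𝒮 : Set A.left.IdealSheafData := {I | ∃ (B : Over (Spec (CommRingCat.of k))) (_ : GrpObj B) (_ : IsProper B.hom)
    (_ : GeometricallyIntegral B.hom) (α : A ⟶ bcK k K B) (_ : IsMonHom α) (N : Over (Spec (CommRingCat.of K)))
    (n : N ⟶ A), IsClosedImmersion n.left ∧ AlgGrp.IsKernel n α ∧ n.left.ker = I}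
  have hne : 𝒮.Nonempty := by
    let O := 𝟙_ (Over (Spec (CommRingCat.of k)))
    haveI : IsProper O.hom := inferInstanceAs (IsProper (𝟙 (Spec (CommRingCat.of k))))
    haveI : GeometricallyIntegral O.hom := by
      show GeometricallyIntegral (𝟙 (Spec (CommRingCat.of k)))
      refine ⟨fun L _ y Z fst snd h => ?_⟩
      haveI : IsIntegral (Spec (CommRingCat.of L)) := inferInstance
      haveI := h.isIso_snd_of_isIso
      exact IsIntegral.of_isIso (inv snd)
    haveI : IsProper (bcK k K O).hom := inferInstanceAs (IsProper (pullback.snd O.hom (specMap k K)))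
    obtain ⟨N, hN, n, -, hnc, -, hnk⟩ := AdjRep.exists_kernel (1 : A ⟶ bcK k K O)
    exact ⟨_, O, inferInstance, inferInstance, inferInstance, 1, inferInstance, N, n, hnc, hnk, rfl⟩
  obtain ⟨I, ⟨B₁, hB₁, hB₁p, hB₁i, α₁, hα₁, N₁, n₁, hn₁c, hn₁k, rfl⟩, hmax⟩ :=
    (wellFounded_gt (α := A.left.IdealSheafData)).has_min 𝒮 hne
  haveI := hα₁; haveI := hn₁c
  haveI : IsProper (bcK k K B₁).hom := inferInstanceAs (IsProper (pullback.snd B₁.hom (specMap k K)))
  obtain ⟨C, hC, g, j, hCp, hCi, hgm, hgs, hjm, hjc, hgj⟩ := exists_image_av α₁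
  haveI := hgm; haveI := hgs; haveI := hjm; haveI := hjc
  haveI : Mono j := GrpField.SchImg.mono_of_isClosedImmersion j
  obtain ⟨A₀, hA₀, i₀, e, hA₀p, hA₀i, him, hic, he⟩ := PrimaryDesc.exists_desc_primary hK B₁ C j
  haveI := him; haveI := hic
  haveI : IsClosedImmersion (F.map i₀).left := MorphismProperty.baseChange_map (P := @IsClosedImmersion) _ i₀ hic
  haveI : Mono (F.map i₀) := GrpField.SchImg.mono_of_isClosedImmersion (F.map i₀)
  let lam : A ⟶ bcK k K A₀ := g ≫ e.hom
  have hlam : lam ≫ F.map i₀ = α₁ := by show (g ≫ e.hom) ≫ F.map i₀ = _; rw [Category.assoc, he, hgj]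
  haveI : IsMonHom (lam ≫ F.map i₀) := by rw [hlam]; infer_instance
  haveI hlm : IsMonHom lam := isMonHom_of_comp lam (F.map i₀)
  haveI : IsIso e.hom.left := inferInstanceAs (IsIso ((Over.forget _).map e.hom))
  haveI hls : Surjective lam.left := by
    show Surjective (g ≫ e.hom).left
    rw [Over.comp_left]; infer_instance
  haveI : IsProper (bcK k K A₀).hom := inferInstanceAs (IsProper (pullback.snd A₀.hom (specMap k K)))
  haveI : GeometricallyIntegral (bcK k K A₀).hom :=
    inferInstanceAs (GeometricallyIntegral (pullback.snd A₀.hom (specMap k K)))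
  have hkl : AlgGrp.IsKernel n₁ lam := by
    haveI : Mono n₁ := GrpField.SchImg.mono_of_isClosedImmersion n₁
    refine IsPullback.mk' (by rw [← cancel_mono (F.map i₀), Category.assoc n₁ lam, hlam, hn₁k.w, Category.assoc,
      IsMonHom.one_hom]) (fun T a b e₁ _ => (cancel_mono n₁).1 e₁) fun T a b h => ?_
    have h1 : a ≫ α₁ = toUnit T ≫ η := by
      rw [← hlam, reassoc_of% h, IsMonHom.one_hom, toUnit_unique b (toUnit T)]
    exact ⟨hn₁k.lift a _ h1, hn₁k.lift_fst _ _ _, toUnit_unique _ _⟩
  refine ⟨A₀, hA₀, lam, hA₀p, hA₀i, hlm, hls, fun B _ _ _ β _ => ?_⟩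
  haveI := isProper_prod A₀ B
  haveI := geometricallyIntegral_prod A₀ B
  let m := Functor.Monoidal.μIso F A₀ B
  have hm₁ : m.hom ≫ F.map (fst A₀ B) = fst _ _ := by simp [m, Functor.Monoidal.μIso]
  have hm₂ : m.hom ≫ F.map (snd A₀ B) = snd _ _ := by simp [m, Functor.Monoidal.μIso]
  let gr : A ⟶ bcK k K (A₀ ⊗ B) := lift lam β ≫ m.hom
  have hgr₁ : gr ≫ F.map (fst A₀ B) = lam := by simp only [gr, Category.assoc, hm₁]; exact lift_fst _ _
  have hgr₂ : gr ≫ F.map (snd A₀ B) = β := by simp only [gr, Category.assoc, hm₂]; exact lift_snd _ _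
  have hext : ∀ {T : Over (Spec (CommRingCat.of K))} (x y : T ⟶ bcK k K (A₀ ⊗ B)),
      x ≫ F.map (fst A₀ B) = y ≫ F.map (fst A₀ B) → x ≫ F.map (snd A₀ B) = y ≫ F.map (snd A₀ B) → x = y := by
    intro T x y h1 h2
    rw [← cancel_mono m.inv]
    apply CartesianMonoidalCategory.hom_ext
    · simpa [← hm₁] using h1
    · simpa [← hm₂] using h2
  haveI : IsMonHom gr := isMonHom_of_map_mul gr fun {_} a b => by
    refine hext _ _ ?_ ?_
    · rw [Category.assoc, hgr₁, MonObj.mul_comp, MonObj.mul_comp, Category.assoc a gr, Category.assoc b gr, hgr₁]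
    · rw [Category.assoc, hgr₂, MonObj.mul_comp, MonObj.mul_comp, Category.assoc a gr, Category.assoc b gr, hgr₂]
  haveI : IsProper (bcK k K (A₀ ⊗ B)).hom := inferInstanceAs (IsProper (pullback.snd (A₀ ⊗ B).hom (specMap k K)))
  obtain ⟨N, hN, n, -, hnc, -, hnk⟩ := AdjRep.exists_kernel gr
  haveI := hnc
  have h1 : n ≫ lam = toUnit N ≫ η := by rw [← hgr₁, reassoc_of% hnk.w, IsMonHom.one_hom]
  let v : N ⟶ N₁ := hkl.lift n _ h1
  have hv : v ≫ n₁ = n := hkl.lift_fst _ _ _
  have hle : n₁.left.ker ≤ n.left.ker := by rw [← hv, Over.comp_left]; exact v.left.le_ker_comp n₁.left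
  have heq : n₁.left.ker = n.left.ker :=
    hle.eq_of_not_lt (hmax _ ⟨A₀ ⊗ B, inferInstance, inferInstance, inferInstance, gr, inferInstance, N, n, hnc, hnk, rfl⟩)
  let w : N₁ ⟶ N := Over.homMk (IsClosedImmersion.lift n.left n₁.left heq.ge) (by
    rw [← Over.w n, ← Category.assoc, IsClosedImmersion.lift_fac, Over.w])
  have hw : w ≫ n = n₁ := Over.OverMorphism.ext (IsClosedImmersion.lift_fac _ _ _)
  have hkill : n₁ ≫ β = 1 := by
    rw [← hw, ← hgr₂, Category.assoc, reassoc_of% hnk.w, IsMonHom.one_hom, ← Category.assoc,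
      toUnit_unique (w ≫ toUnit N) (toUnit N₁), ← Hom.one_def]
  obtain ⟨d, hdm, hd⟩ := exists_factor_av lam n₁ hkl β hkill
  haveI := hdm
  obtain ⟨α₀, hα₀, hα₀'⟩ := exists_hom_desc hK d
  exact ⟨α₀, hα₀, by rw [hα₀', hd]⟩

/-- The hypothesis of a primary extension, as a statement on the separable closure. -/
theorem separableClosure_eq_bot (h : ∀ x : K, IsSeparable k x → x ∈ (algebraMap k K).range) :
    separableClosure k K = ⊥ := eq_bot_iff.2 fun x hx => by
  obtain ⟨y, rfl⟩ := h x (mem_separableClosure_iff.1 hx)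
  exact IntermediateField.mem_bot.2 ⟨y, rfl⟩

end Groth.Agent.Chev.Chow
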