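import Groth.Agent.Chev.SADesc
import Groth.Agent.WittUnip.Affine

/-!
# Anti-affine groups in positive characteristic are semi-abelian
-/

set_option autoImplicit false
set_option linter.style.haveILetI false
set_option backward.isDefEq.respectTransparency false
set_option maxHeartbeats 1000000
set_option synthInstance.maxHeartbeats 400000
universe u

open CategoryTheory Limits MonoidalCategory CartesianMonoidalCategory MonObj GrpObj AlgebraicGeometry
open AlgGrp TensorProduct
open scoped CategoryTheory.Obj

noncomputable section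

namespace Groth.Agent.Chev

open AVDeg (bcK specMap)

variable {k : Type u} [Field k]

/-- A group on which multiplication by the characteristic is surjective is a torus. -/
theorem isTorus_of_surjective_pow_char [IsAlgClosed k] (p : ℕ) [CharP k p]
    (L : Over (Spec (CommRingCat.of k))) [GrpObj L] [IsCommMonObj L] [Smooth L.hom] [ConnectedSpace L.left]
    [IsAffine L.left] [Surjective (𝟙 L ^ p).left] : Red.IsTorus L := by
  obtain ⟨A, _, _, e, he, hdom, hft, -, hcc⟩ := WittUnip.exists_coordHopf L
  haveI := he; haveI := hdom; haveI := hft; haveI := hcc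
  haveI : IsIso e.hom.left := inferInstanceAs (IsIso ((Over.forget _).map e.hom))
  let P := SGA3b.powConv k A p
  have hsurj : Surjective (Spec.map (CommRingCat.ofHom P.toRingHom)) := by
    let E := Spec.mapMulEquiv (R := k) (S := A) (T := A)
    have hid : E (WithConv.toConv (AlgHom.id k A)) = 𝟙 _ := by
      ext1
      exact Spec.map_id (CommRingCat.of A)
    have h1 : (E (WithConv.toConv (AlgHom.id k A) ^ p)) ≫ e.hom = e.hom ≫ (𝟙 L ^ p) := by
      rw [map_pow, hid, MonObj.pow_comp, Category.id_comp, MonObj.comp_pow, Category.comp_id]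
    have h2 : (E (WithConv.toConv (AlgHom.id k A) ^ p)).left = Spec.map (CommRingCat.ofHom P.toRingHom) := rfl
    rw [← h2]
    have h3 : (E (WithConv.toConv (AlgHom.id k A) ^ p)).left = e.hom.left ≫ (𝟙 L ^ p).left ≫ inv e.hom.left := by
      have h4 := congrArg (fun φ => φ.left) h1
      simp only [Over.comp_left] at h4
      rw [← reassoc_of% h4, IsIso.hom_inv_id, Category.comp_id]
    rw [h3]
    infer_instance
  have hinj : Function.Injective P := by
    have h := (PrimeSpectrum.denseRange_comap_iff_ker_le_nilRadical _).1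
      (hsurj.surj.denseRange (f := (Spec.map (CommRingCat.ofHom P.toRingHom))))
    rw [nilradical_eq_zero] at h
    exact (RingHom.injective_iff_ker_eq_bot _).2 (le_bot_iff.1 h)
  obtain ⟨r, hr⟩ := exists_split_of_noPrimitive L (Grp.mkIso' e) fun f hf => by
    have hcu : Coalgebra.counit (R := k) f = 0 := by
      have h := congrArg (fun t => TensorProduct.lid k A ((Coalgebra.counit (R := k) (A := A)).rTensor A t)) hf
      simp only [Coalgebra.rTensor_counit_comul, map_add, LinearMap.rTensor_tmul, TensorProduct.lid_tmul,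
        one_smul, Bialgebra.counit_one] at h
      replace h : Coalgebra.counit (R := k) f • (1 : A) = 0 := by linear_combination -h
      rw [← Algebra.algebraMap_eq_smul_one] at h
      exact (algebraMap k A).injective (h.trans (map_zero _).symm)
    have key : ∀ n : ℕ, SGA3b.powConv k A n f = n • f := by
      intro n
      induction n with
      | zero => simp [SGA3b.powConv, AlgHom.convOne_apply, hcu]
      | succ n ih =>
        show ((WithConv.toConv (AlgHom.id k A)) ^ (n + 1)).ofConv f = _
        rw [pow_succ, AlgHom.convMul_apply, hf]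
        simp only [map_add, Algebra.TensorProduct.map_tmul, Algebra.TensorProduct.lift_tmul, Algebra.TensorProduct.lmul'_apply_tmul, map_one,
          AlgHom.id_apply, _root_.mul_one, _root_.one_mul, succ_nsmul]
        exact congrArg (· + f) ih
    refine hinj ?_
    rw [map_zero, key, ← Nat.cast_smul_eq_nsmul k, CharP.cast_eq_zero, zero_smul]
  exact isTorus_of_isSplit (𝟙 _) (r := r) <| by
    obtain ⟨x⟩ := hr
    exact ⟨bcIdIso L ≪≫ x⟩

/-- An anti-affine group in positive characteristic is semi-abelian over an algebraically closed field. -/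
theorem isSA_of_anti_algClosed [IsAlgClosed k] (p : ℕ) [hp : Fact p.Prime] [CharP k p]
    (G : Over (Spec (CommRingCat.of k))) [GrpObj G] [LocallyOfFiniteType G.hom] [QuasiCompact G.hom]
    (hG : IsAnti G) : IsSA G := by
  haveI := smooth_of_anti G hG
  obtain ⟨hGc, hGcomm⟩ := S3293.result k G hG
  haveI := hGc; haveI := hGcomm
  obtain ⟨L, hL, l, A, hA, ρ, hlm, hlc, hla, hls, hlo, -, hρm, hρs, hρf, hρk, hAp, hAs, hAc⟩ := exists_structure G
  haveI := hlm; haveI := hlc; haveI := hla; haveI := hls; haveI := hlo
  haveI := hρm; haveI := hρs; haveI := hρf; haveI := hAp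
  haveI : Mono l := GrpField.SchImg.mono_of_isClosedImmersion l
  haveI : IsSeparated G.hom := GrpField.isSeparated_hom G
  haveI : QuasiCompact L.hom := haveI := isAffineHom_of_isAffine L.hom; inferInstance
  haveI : IsCommMonObj L := ⟨by
    rw [← cancel_mono l, Category.assoc, IsMonHom.mul_hom (f := l), ← Category.assoc,
      ← BraidedCategory.braiding_naturality, Category.assoc, IsCommMonObj.mul_comm]⟩
  haveI := isMonHom_pow L p
  haveI := isMonHom_pow G p
  haveI := surjective_pow_of_anti G hG hp.out.pos
  haveI : QuasiCompact ρ.left := by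
    haveI : QuasiCompact (ρ.left ≫ A.hom) := by rw [Over.w]; infer_instance
    exact QuasiCompact.of_comp _ A.hom
  haveI : QuasiCompact ((𝟙 L ^ p) ≫ l).left := by
    haveI : QuasiCompact (((𝟙 L ^ p) ≫ l).left ≫ G.hom) := by rw [Over.w]; infer_instance
    exact QuasiCompact.of_comp _ G.hom
  obtain ⟨L', hL', iC, g, hiC, hg, hgi, hicl, -, -, hgs⟩ := GrpField.SchImg.exists_image ((𝟙 L ^ p) ≫ l)
  haveI := hiC; haveI := hicl; haveI := hgs
  obtain ⟨Q, hQ, r, hrm, hrf, hrs, hrk, hrsep, hQsm, hQq, hQc, -⟩ := exists_quotient_group' iC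
    (fun X a x => ⟨x, by rw [_root_.mul_comm a, _root_.mul_assoc, mul_inv_cancel, _root_.mul_one]⟩)
  haveI := hrm; haveI := hrs; haveI := hrsep; haveI := hQsm; haveI := hQq
  have hlp : l ≫ (𝟙 G ^ p) = (𝟙 L ^ p) ≫ l := by
    rw [MonObj.comp_pow, Category.comp_id, MonObj.pow_comp, Category.id_comp]
  obtain ⟨d, hd⟩ := AdjRep.exists_desc l ρ hρk ((𝟙 G ^ p) ≫ r) (by
    rw [← Category.assoc, hlp, ← hgi, Category.assoc, hrk.w, comp_toUnit_assoc, Hom.one_def])
  haveI : IsProper Q.hom := by
    haveI : Surjective d.left := by
      haveI : Surjective (ρ.left ≫ d.left) := by rw [← Over.comp_left, hd, Over.comp_left]; infer_instance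
      exact Surjective.of_comp ρ.left d.left
    haveI : UniversallyClosed (d.left ≫ Q.hom) := by rw [Over.w]; infer_instance
    haveI : UniversallyClosed Q.hom := UniversallyClosed.of_comp_surjective d.left Q.hom
    exact {}
  let s : L ⟶ L' := hrk.lift l (toUnit L) ((eq_one_of_affine_of_proper _).trans Hom.one_def)
  have hs : s ≫ iC = l := hrk.lift_fst _ _ _
  haveI : Surjective (𝟙 L ^ p).left := ⟨fun y => by
    obtain ⟨x, hx⟩ := g.left.surjective (s.left y)
    refine ⟨x, l.left.isClosedEmbedding.injective ?_⟩
    have e1 := congrArg (fun φ => φ.left x) hgi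
    have e2 := congrArg (fun φ => φ.left y) hs
    simp only [Over.comp_left, Scheme.Hom.comp_apply] at e1 e2
    rw [← e1, hx, e2]⟩
  exact ⟨L, hL, l, A, hA, ρ, hlm, hlc, isTorus_of_surjective_pow_char p L, hρm, hρs, hρf, hρk, hAp, hAs, hAc⟩

/-- **An anti-affine group in positive characteristic is semi-abelian.** -/
theorem isSA_of_anti (p : ℕ) [Fact p.Prime] [CharP k p]
    (G : Over (Spec (CommRingCat.of k))) [GrpObj G] [LocallyOfFiniteType G.hom] [QuasiCompact G.hom]
    (hG : IsAnti G) : IsSA G := by
  let K := AlgebraicClosure k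
  haveI : CharP K p := charP_of_injective_algebraMap (algebraMap k K).injective p
  haveI : LocallyOfFiniteType (bcK k K G).hom := inferInstanceAs (LocallyOfFiniteType (pullback.snd G.hom _))
  haveI : QuasiCompact (bcK k K G).hom := quasiCompact_bcK K
  exact isSA_of_algClosure K G (isSA_of_anti_algClosed p (bcK k K G) ((S19702.result k K G).1 hG))

end Groth.Agent.Chev
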