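import Groth.Agent.Chev.FrobTwist
import Groth.Agent.Chev.LevelDesc
import Groth.Agent.AdjRep.KerObj
import Groth.Agent.GrpField.SchImgExists
import Groth.Agent.GrpField.SurjSmooth
import Groth.Agent.GrpBasic.Perfect
import Groth.Agent.GrpBasic.Cartier
import Groth.Agent.DvrDom.ClosedProper
import Groth.Prelude.Def_NonAbH2

/-!
# The image of a high Frobenius of a group is smooth
-/

set_option autoImplicit false
set_option backward.isDefEq.respectTransparency false

universe u

open CategoryTheory CategoryTheory.Limits MonoidalCategory CartesianMonoidalCategory MonObj GrpObj AlgebraicGeometry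
open scoped CategoryTheory.Obj
open FrobSch

noncomputable section

namespace Groth.Agent.Chev

open AVDeg (bcK specMap)
open WeilLib (frobPow frobPow_comp frobPow_preimage frobPow_Spec frobPow_app frobPow_apply)

theorem germ_pow_eq_zero_of_isIso {X : Scheme.{u}} (φ : X ⟶ X) [IsIso φ] (e : X) (N : ℕ)
    (he : ∀ a : X.presheaf.stalk e, IsNilpotent a → a ^ N = 0) :
    ∀ a : X.presheaf.stalk (φ e), IsNilpotent a → a ^ N = 0 := by
  intro a ha
  have hinj : Function.Injective (φ.stalkMap e).hom :=
    (ConcreteCategory.bijective_of_isIso (φ.stalkMap e)).1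
  apply hinj
  rw [map_pow, map_zero]
  exact he _ (ha.map _)

/-- A uniform bound for nilpotents on a group over an algebraically closed field. -/
theorem exists_nilpotent_bound {K : Type u} [Field K] [IsAlgClosed K] (G : Over (Spec (CommRingCat.of K)))
    [GrpObj G] [LocallyOfFiniteType G.hom] :
    ∃ N : ℕ, ∀ (U : G.left.Opens), IsAffineOpen U → ∀ a : Γ(G.left, U), IsNilpotent a → a ^ N = 0 := by
  haveI : IsLocallyNoetherian G.left := LocallyOfFiniteType.isLocallyNoetherian G.hom
  haveI : JacobsonSpace G.left := LocallyOfFiniteType.jacobsonSpace G.hom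
  let t₀ : (𝟙_ (Over (Spec (CommRingCat.of K)))).left := IsLocalRing.closedPoint K
  let e := η[G].left t₀
  obtain ⟨N, hN⟩ := IsNoetherianRing.isNilpotent_nilradical (G.left.presheaf.stalk e)
  have he : ∀ a : G.left.presheaf.stalk e, IsNilpotent a → a ^ N = 0 := fun a ha => by
    have := Ideal.pow_mem_pow (mem_nilradical.2 ha) N
    rwa [hN, Submodule.zero_eq_bot, Ideal.mem_bot] at this
  have hcl : ∀ x : G.left, IsClosed ({x} : Set G.left) → ∀ a : G.left.presheaf.stalk x, IsNilpotent a → a ^ N = 0 := by
    intro x hx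
    let z : 𝟙_ (Over (Spec (CommRingCat.of K))) ⟶ G :=
      Over.homMk (pointOfClosedPoint G.hom x hx) (pointOfClosedPoint_comp _ _ _)
    let φ : G ≅ G :=
      { hom := (toUnit G ≫ z) * 𝟙 G
        inv := (toUnit G ≫ z)⁻¹ * 𝟙 G
        hom_inv_id := by
          rw [MonObj.comp_mul, GrpObj.comp_inv, Category.comp_id, comp_toUnit_assoc, inv_mul_cancel_left]
        inv_hom_id := by
          rw [MonObj.comp_mul, Category.comp_id, comp_toUnit_assoc, mul_inv_cancel_left] }
    haveI : IsIso φ.hom := ⟨φ.inv, φ.hom_inv_id, φ.inv_hom_id⟩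
    haveI : IsIso φ.hom.left := (Over.forget (Spec (CommRingCat.of K))).map_isIso φ.hom
    have hφ : η[G] ≫ φ.hom = z := by
      show η[G] ≫ ((toUnit G ≫ z) * 𝟙 G) = z
      rw [MonObj.comp_mul, Category.comp_id, show η[G] = (1 : 𝟙_ _ ⟶ G) by rw [Hom.one_def, toUnit_unit, Category.id_comp],
        _root_.mul_one, comp_toUnit_assoc, toUnit_unit, Category.id_comp]
    have hx' : φ.hom.left e = x := by
      show (η[G] ≫ φ.hom).left t₀ = x
      rw [hφ]
      exact pointOfClosedPoint_apply _ _ hx _
    exact hx' ▸ germ_pow_eq_zero_of_isIso φ.hom.left e N he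
  refine ⟨N, fun U hU a ha => ?_⟩
  refine G.left.IsSheaf.section_ext fun y hy => ?_
  obtain ⟨x, hx, hxc⟩ := nonempty_inter_closedPoints (Z := closure ({y} : Set G.left) ∩ (U : Set G.left))
    ⟨y, subset_closure rfl, hy⟩ (isClosed_closure.isLocallyClosed.inter U.2.isLocallyClosed)
  have hgerm : G.left.presheaf.germ U x hx.2 (a ^ N) = 0 := by
    rw [map_pow]; exact hcl x hxc _ (ha.map _)
  obtain ⟨W, hxW, i₁, i₂, hW⟩ := G.left.presheaf.germ_eq x hx.2 hx.2 (a ^ N) 0 (hgerm.trans (map_zero _).symm)
  refine ⟨W, i₁.le, (specializes_iff_mem_closure.2 hx.1).mem_open W.2 hxW, ?_⟩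
  exact hW

/-- A uniform power of Frobenius factors through the reduced structure. -/
theorem exists_frobPow_factor_group {K : Type u} [Field K] [IsAlgClosed K] (G : Over (Spec (CommRingCat.of K)))
    [GrpObj G] [LocallyOfFiniteType G.hom] (p : ℕ) [Fact p.Prime] [IsCharP G.left p] :
    ∃ n₀ : ℕ, ∀ n, n₀ ≤ n → ∃ (Z : Scheme.{u}) (i : Z ⟶ G.left) (w : G.left ⟶ Z),
      IsClosedImmersion i ∧ Surjective i ∧ AlgebraicGeometry.IsReduced Z ∧ w ≫ i = frobPow p G.left n := by
  obtain ⟨N, hN⟩ := exists_nilpotent_bound G
  refine ⟨N, fun n hn => ?_⟩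
  let I := Scheme.IdealSheafData.vanishingIdeal (⊤ : TopologicalSpace.Closeds G.left)
  haveI : AlgebraicGeometry.IsReduced I.subscheme := DvrDom.isReduced_vanishingIdeal_subscheme _
  haveI : Surjective I.subschemeι := ⟨fun y => by
    have : y ∈ Set.range I.subschemeι := by
      rw [Scheme.IdealSheafData.range_subschemeι, Scheme.IdealSheafData.coe_support_vanishingIdeal]; trivial
    exact this⟩
  have hker : I.subschemeι.ker ≤ (frobPow p G.left n).ker := by
    refine Scheme.IdealSheafData.le_of_iSup_eq_top (fun U : G.left.affineOpens => U)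
      (iSup_affineOpens_eq_top G.left) fun U a ha => ?_
    rw [Scheme.Hom.ker_apply, RingHom.mem_ker]
    have hnil : IsNilpotent a := by
      rw [Scheme.isNilpotent_iff_basicOpen_eq_bot_of_isCompact U.2.isCompact]
      refine eq_bot_iff.2 fun y hy => ?_
      have hsupp : y ∈ (I.subschemeι.ker.support : Set G.left) :=
        I.subschemeι.range_subset_ker_support (I.subschemeι.surjective y)
      have hyU : y ∈ U.1 := G.left.basicOpen_le a hy
      rw [SetLike.mem_coe, Scheme.IdealSheafData.mem_support_iff_of_mem hyU, Scheme.mem_zeroLocus_iff] at hsupp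
      exact absurd hy (hsupp a ha)
    have h0 : a ^ p ^ n = 0 := pow_eq_zero_of_le
      (hn.trans (Nat.lt_pow_self (Fact.out : p.Prime).one_lt).le) (hN U U.2 a hnil)
    rw [← Scheme.Hom.appLE_eq_app]
    refine (frobPow_app p n _ _ le_rfl (frobPow_preimage p n _).le a).trans ?_
    rw [← map_pow, h0, map_zero]
  exact ⟨_, I.subschemeι, IsClosedImmersion.lift I.subschemeι (frobPow p G.left n) hker, inferInstance,
    inferInstance, inferInstance, IsClosedImmersion.lift_fac _ _ _⟩

variable {k : Type u} [Field k]

theorem smooth_of_bc_reduced (Ω : Type u) [Field Ω] [Algebra k Ω] [PerfectField Ω]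
    (Q : Over (Spec (CommRingCat.of k))) [GrpObj Q] [LocallyOfFiniteType Q.hom]
    [AlgebraicGeometry.IsReduced (bcK k Ω Q).left] : Smooth Q.hom := by
  haveI : Flat (specMap k Ω) := AlgSpLib.flat_of_field _
  haveI : Surjective (specMap k Ω) :=
    ⟨fun _ => ⟨IsLocalRing.closedPoint Ω, Subsingleton.elim (α := PrimeSpectrum k) _ _⟩⟩
  letI : GrpObj (Over.mk (bcK k Ω Q).hom) := (inferInstance : GrpObj (bcK k Ω Q))
  haveI : LocallyOfFiniteType (bcK k Ω Q).hom := inferInstanceAs (LocallyOfFiniteType (pullback.snd Q.hom _))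
  exact MorphismProperty.of_pullback_snd_of_descendsAlong (P := @Smooth)
    (Q := @Surjective ⊓ @Flat ⊓ @QuasiCompact) (g := specMap k Ω) ⟨⟨inferInstance, inferInstance⟩, inferInstance⟩
    (GrpBasic.smooth_of_grpObj_perfect (bcK k Ω Q).hom)

set_option maxHeartbeats 1000000 in
/-- A quotient of a group by a finite connected subgroup is smooth, in positive characteristic. -/
theorem exists_smooth_frob_quotient (p : ℕ) [Fact p.Prime] [CharP k p]
    (G : Over (Spec (CommRingCat.of k))) [GrpObj G] [LocallyOfFiniteType G.hom] :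
    ∃ (H Q : Over (Spec (CommRingCat.of k))) (_ : GrpObj H) (_ : GrpObj Q) (i : H ⟶ G) (v : G ⟶ Q),
      IsMonHom i ∧ IsMonHom v ∧ IsClosedImmersion i.left ∧ AlgGrp.IsKernel i v ∧ IsFinite H.hom ∧
      ConnectedSpace H.left ∧ Smooth Q.hom ∧ Flat v.left ∧ Surjective v.left := by
  let Ω := AlgebraicClosure k
  let F := Over.pullback (specMap k Ω)
  haveI : CharP Ω p := charP_of_injective_algebraMap (algebraMap k Ω).injective p
  haveI : IsCharP (bcK k Ω G).left p := IsCharP.of_hom ((bcK k Ω G).hom ≫ specMap k Ω) p
  haveI : LocallyOfFiniteType (bcK k Ω G).hom := inferInstanceAs (LocallyOfFiniteType (pullback.snd G.hom _))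
  obtain ⟨n, hn⟩ := exists_frobPow_factor_group (bcK k Ω G) p
  obtain ⟨Z, i, w, hic, his, hZr, hw⟩ := hn n le_rfl
  haveI := hic; haveI := his; haveI := hZr
  haveI : ExpChar k p := ExpChar.prime Fact.out
  haveI : ExpChar Ω p := ExpChar.prime Fact.out
  let ψ : k →+* k := iterateFrobenius k p n
  have hψ : IsFrobRetract (k := k) (K := k) p n ψ := fun a => by
    show iterateFrobenius k p n (algebraMap k k a) = _
    rw [iterateFrobenius_def]; rfl
  let T := (twistFun ψ).obj (bcK k k G)
  let f : G ⟶ T := frobToApp hψ G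
  haveI : IsMonHom f := isMonHom_frobToApp hψ G
  haveI : IsCharP G.left p := IsCharP.of_hom G.hom p
  haveI : IsAffineHom f.left := isAffineHom_frobTo hψ G
  haveI : LocallyOfFiniteType T.hom :=
    inferInstanceAs (LocallyOfFiniteType (pullback.snd (pullback.snd G.hom (specMap k k)) _))
  haveI : IsSeparated T.hom := GrpField.isSeparated_hom T
  obtain ⟨Q, hQ, j, g, hjm, hgm, hgj, hjc, hgd, hgq, hgs⟩ := GrpField.SchImg.exists_image f
  haveI := hjm; haveI := hgm; haveI := hjc; haveI := hgd; haveI := hgq; haveI := hgs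
  haveI : LocallyOfFiniteType Q.hom := by rw [← Over.w j]; infer_instance
  -- smoothness
  haveI : AlgebraicGeometry.IsReduced (bcK k Ω Q).left := by
    haveI : Flat (pullback.fst Q.hom (specMap k Ω)) :=
      MorphismProperty.pullback_fst (P := @Flat) _ _ (AlgSpLib.flat_of_field _)
    have hsq : IsPullback (pullback.fst G.hom (specMap k Ω)) (F.map g).left g.left
        (pullback.fst Q.hom (specMap k Ω)) := by
      refine (IsPullback.of_right ?_ (pullback.lift_fst _ _ _) (IsPullback.of_hasPullback Q.hom (specMap k Ω)).flip).flip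
      rw [pullback.lift_snd, Over.w g]
      exact (IsPullback.of_hasPullback G.hom (specMap k Ω)).flip
    haveI : IsSchemeTheoreticallyDominant (F.map g).left := IsSchemeTheoreticallyDominant.of_isPullback hsq
    haveI : QuasiCompact (F.map g).left := MorphismProperty.of_isPullback (P := @QuasiCompact) hsq ‹_›
    haveI : Surjective (F.map g).left := MorphismProperty.of_isPullback (P := @Surjective) hsq ‹_›
    let β : Ω ≃+* Ω := RingEquiv.ofBijective (iterateFrobenius Ω p n) (bijective_iterateFrobenius Ω p n)
    let sb := Spec.map (CommRingCat.ofHom β.symm.toRingHom)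
    have hsb : Spec.map (CommRingCat.ofHom (iterateFrobenius Ω p n)) ≫ sb = 𝟙 _ := by
      rw [← Spec.map_comp, ← CommRingCat.ofHom_comp, ← Spec.map_id]
      congr 2
      exact RingHom.ext fun x => β.apply_symm_apply x
    have hsb' : sb ≫ Spec.map (CommRingCat.ofHom (iterateFrobenius Ω p n)) = 𝟙 _ := by
      rw [← Spec.map_comp, ← CommRingCat.ofHom_comp, ← Spec.map_id]
      congr 2
      exact RingHom.ext fun x => β.symm_apply_apply x
    haveI : IsCharP (pullback G.hom (specMap k Ω)) p := ‹IsCharP (bcK k Ω G).left p›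
    haveI : IsCharP (Spec (CommRingCat.of Ω)) p := IsCharP.of_hom (specMap k Ω) p
    let X := bcK k Ω G
    have c1 : (sb ≫ specMap k Ω) ≫ Spec.map (CommRingCat.ofHom ψ) = specMap k Ω := by
      have h1 : specMap k Ω ≫ Spec.map (CommRingCat.ofHom ψ) =
          Spec.map (CommRingCat.ofHom (iterateFrobenius Ω p n)) ≫ specMap k Ω := by
        rw [← Spec.map_comp, ← Spec.map_comp, ← CommRingCat.ofHom_comp, ← CommRingCat.ofHom_comp]
        congr 2
        exact RingHom.ext fun x => by simp [ψ, iterateFrobenius_def]
      rw [Category.assoc, h1, ← Category.assoc, hsb', Category.id_comp]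
    have c2 : pullback.fst G.hom (specMap k Ω) ≫ G.hom = (pullback.snd G.hom (specMap k Ω) ≫ specMap k Ω) ≫ specMap k k := by
      rw [show specMap k k = 𝟙 _ from by simp [AVDeg.specMap], Category.comp_id, pullback.condition]
    let a1 : X.left ⟶ (bcK k k G).left :=
      pullback.lift (pullback.fst G.hom (specMap k Ω)) (pullback.snd G.hom (specMap k Ω) ≫ specMap k Ω) c2
    let a2 : X.left ⟶ T.left := pullback.lift a1 (pullback.snd G.hom (specMap k Ω) ≫ sb ≫ specMap k Ω) (by
      rw [show a1 ≫ (bcK k k G).hom = pullback.snd G.hom (specMap k Ω) ≫ specMap k Ω from pullback.lift_snd _ _ _,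
        Category.assoc (pullback.snd G.hom (specMap k Ω)), c1])
    let e : X.left ⟶ (F.obj T).left := pullback.lift a2 (pullback.snd G.hom (specMap k Ω) ≫ sb) (by
      rw [show a2 ≫ T.hom = pullback.snd G.hom (specMap k Ω) ≫ sb ≫ specMap k Ω from pullback.lift_snd _ _ _,
        Category.assoc])
    have key : (F.map f).left = frobPow p X.left n ≫ e := by
      have hsnd : frobPow p X.left n ≫ pullback.snd G.hom (specMap k Ω) ≫ sb = pullback.snd G.hom (specMap k Ω) := by
        rw [← Category.assoc, frobPow_comp, Category.assoc, frobPow_Spec p Ω n, hsb, Category.comp_id]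
      apply pullback.hom_ext
      · rw [bcMap_fst Ω f, Category.assoc, pullback.lift_fst]
        refine pullback.hom_ext ?_ ?_
        · simp only [Category.assoc]
          erw [frobTo_app_fst hψ G, pullback.lift_fst]
          refine pullback.hom_ext ?_ ?_
          · simp only [Category.assoc]
            erw [toBase_fst hψ G, pullback.lift_fst]
            exact (frobPow_comp p (pullback.fst G.hom (specMap k Ω)) n).symm
          · simp only [Category.assoc]
            erw [toBase_snd hψ G, pullback.lift_snd, pullback.condition_assoc]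
            have hfs : frobPow p X.left n ≫ pullback.snd G.hom (specMap k Ω) =
                pullback.snd G.hom (specMap k Ω) ≫ Spec.map (CommRingCat.ofHom (iterateFrobenius Ω p n)) :=
              (frobPow_comp p (pullback.snd G.hom (specMap k Ω)) n).trans (by rw [frobPow_Spec p Ω n])
            erw [reassoc_of% hfs]
            congr 1
            rw [← Spec.map_comp, ← Spec.map_comp, ← CommRingCat.ofHom_comp, ← CommRingCat.ofHom_comp]
            congr 2
            exact RingHom.ext fun x => by simp [ψ, iterateFrobenius_def]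
        · simp only [Category.assoc]
          erw [pullback.lift_snd, pullback.lift_snd, reassoc_of% hsnd]
          exact pullback.condition
      · simp only [Category.assoc, e, pullback.lift_snd]
        rw [hsnd]
        exact pullback.lift_snd _ _ _
    have hcomp : (F.map g).left ≫ (F.map j).left = w ≫ i ≫ e := by
      rw [← Over.comp_left, ← F.map_comp, hgj, key, ← hw, Category.assoc]
    haveI : Surjective w := ⟨fun z => ⟨i z, i.isClosedEmbedding.injective (by
      rw [← Scheme.Hom.comp_apply, hw, frobPow_apply])⟩⟩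
    haveI : IsClosedImmersion (F.map j).left := by
      have hsqj : IsPullback (F.map j).left (pullback.fst Q.hom (specMap k Ω))
          (pullback.fst T.hom (specMap k Ω)) j.left := by
        refine IsPullback.of_right ?_ (pullback.lift_fst _ _ _) (IsPullback.of_hasPullback T.hom _).flip
        rw [show (F.map j).left ≫ pullback.snd T.hom _ = pullback.snd Q.hom _ from pullback.lift_snd _ _ _, Over.w j]
        exact (IsPullback.of_hasPullback Q.hom _).flip
      exact MorphismProperty.of_isPullback (P := @IsClosedImmersion) hsqj.flip inferInstance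
    haveI : Surjective (pullback.fst (i ≫ e) (F.map j).left) := ⟨fun z => by
      have hz : z ∈ Set.range (pullback.fst (i ≫ e) (F.map j).left) := by
        rw [Scheme.Pullback.range_fst]
        obtain ⟨x, rfl⟩ := w.surjective z
        exact ⟨(F.map g).left x, by rw [← Scheme.Hom.comp_apply, hcomp]; rfl⟩
      exact hz⟩
    haveI := isIso_of_isClosedImmersion_of_surjective (pullback.fst (i ≫ e) (F.map j).left)
    let b := inv (pullback.fst (i ≫ e) (F.map j).left) ≫ pullback.snd (i ≫ e) (F.map j).left
    have hb : b ≫ (F.map j).left = i ≫ e := by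
      rw [Category.assoc, ← pullback.condition, IsIso.inv_hom_id_assoc]
    have hwb : w ≫ b = (F.map g).left := by rw [← cancel_mono (F.map j).left, Category.assoc, hb, hcomp]
    haveI : QuasiCompact b := by
      haveI : QuasiCompact (b ≫ (F.map j).left) := by
        rw [hb]
        haveI : IsAffineHom (F.map f).left := MorphismProperty.of_isPullback (P := @IsAffineHom)
          (IsPullback.of_right (by
            rw [pullback.lift_snd, Over.w f]
            exact (IsPullback.of_hasPullback G.hom (specMap k Ω)).flip) (pullback.lift_fst _ _ _)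
            (IsPullback.of_hasPullback T.hom (specMap k Ω)).flip).flip inferInstance
        haveI : QuasiCompact (w ≫ i ≫ e) := by rw [← Category.assoc, hw, ← key]; infer_instance
        exact ThickLib.quasiCompact_of_comp_surjective w (i ≫ e)
      exact QuasiCompact.of_comp b (F.map j).left
    haveI : IsSchemeTheoreticallyDominant (w ≫ b) := by rw [hwb]; infer_instance
    haveI : IsSchemeTheoreticallyDominant b := (isSchemeTheoreticallyDominant_iff b).2 (le_bot_iff.1
      ((Scheme.Hom.le_ker_comp w b).trans (w ≫ b).ker_eq_bot.le))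
    exact IsSchemeTheoreticallyDominant.isReduced b
  haveI : Smooth Q.hom := smooth_of_bc_reduced Ω Q
  haveI : AlgebraicGeometry.IsReduced Q.left := SmoothRed.isReduced_of_smooth_scheme Q.hom
  haveI : Flat g.left := GrpField.flat_of_surjective_reduced g
  haveI : IsSeparated Q.hom := GrpField.isSeparated_hom Q
  obtain ⟨H, hH, l, hlm, hlc, -, hlk⟩ := AdjRep.exists_kernel g
  haveI := hlm; haveI := hlc
  haveI : LocallyOfFiniteType H.hom := by rw [← Over.w l]; infer_instance
  let t₀ : (𝟙_ (Over (Spec (CommRingCat.of k)))).left := IsLocalRing.closedPoint k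
  haveI : Nonempty H.left := ⟨η[H].left t₀⟩
  haveI : Subsingleton H.left := by
    refine ⟨fun a b => l.left.isClosedEmbedding.injective ?_⟩
    have hf : ∀ x, f.left (l.left x) = η[T].left t₀ := by
      intro x
      rw [← Scheme.Hom.comp_apply, ← Over.comp_left, ← hgj, reassoc_of% hlk.w, IsMonHom.one_hom, Over.comp_left,
        Scheme.Hom.comp_apply]
      exact congrArg η[T].left (Subsingleton.elim (α := PrimeSpectrum k) _ t₀)
    have h1 := congrArg (fun y => pullback.fst G.hom (specMap k k)
      (pullback.fst (bcK k k G).hom (Spec.map (CommRingCat.ofHom ψ)) y)) ((hf a).trans (hf b).symm)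
    have hfp : f.left ≫ pullback.fst (bcK k k G).hom (Spec.map (CommRingCat.ofHom ψ)) ≫ pullback.fst G.hom (specMap k k) =
        frobPow p G.left n := by
      rw [← Category.assoc]
      erw [frobTo_app_fst hψ G, toBase_fst hψ G]
    have h2 : ∀ x, pullback.fst G.hom (specMap k k) (pullback.fst (bcK k k G).hom (Spec.map (CommRingCat.ofHom ψ))
        (f.left x)) = x := fun x =>
      (congrArg (fun φ : G.left ⟶ G.left => φ x) hfp).trans (frobPow_apply p n x)
    exact (h2 _).symm.trans (h1.trans (h2 _))
  haveI : ConnectedSpace H.left := { toNonempty := inferInstance }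
  haveI : Finite H.left := inferInstance
  haveI : CompactSpace H.left := inferInstance
  haveI : QuasiCompact H.hom := inferInstance
  haveI : LocallyQuasiFinite H.hom := LocallyQuasiFinite.of_finite_preimage_singleton H.hom fun y => Set.toFinite _
  exact ⟨H, Q, hH, hQ, l, g, hlm, hgm, hlc, hlk, IsFinite.of_locallyQuasiFinite H.hom, inferInstance,
    inferInstance, inferInstance, hgs⟩

/-- A flat surjective homomorphism with its kernel is an exact sequence. -/
theorem isExactSeq_of_isKernel {G H Q : Over (Spec (CommRingCat.of k))} [GrpObj G] [GrpObj H] [GrpObj Q]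
    [LocallyOfFiniteType G.hom] [LocallyOfFiniteType Q.hom] (i : H ⟶ G) (v : G ⟶ Q) [IsMonHom i] [IsMonHom v]
    [Flat v.left] [Surjective v.left] [Mono i] (hk : AlgGrp.IsKernel i v) :
    NonAbH1.IsExactSeq Scheme.fppfPrecoverage i v := by
  have hiv : i ≫ v = 1 := by rw [hk.w, Hom.one_def]
  refine ⟨inferInstance, inferInstance, hiv, ?_, ?_⟩
  · have hgi : ∀ {T : Over (Spec (CommRingCat.of k))} (g : T ⟶ G) (h : T ⟶ H),
        lift g h ≫ (G ◁ i) ≫ μ[G] = g * (h ≫ i) := fun g h => by
      rw [← Category.assoc, lift_whiskerLeft, Hom.mul_def]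
    have hw : (G ◁ i) ≫ μ[G] = fst G H * (snd G H ≫ i) := by
      rw [← hgi, lift_fst_snd, Category.id_comp]
    refine IsPullback.mk' ?_ (fun T φ φ' e₁ e₂ => ?_) fun T a b e => ?_
    · rw [hw, MonObj.mul_comp, Category.assoc, hiv, MonObj.comp_one, _root_.mul_one]
    · have h2 : φ ≫ snd G H = φ' ≫ snd G H := by
        rw [← cancel_mono i]
        rw [hw, MonObj.comp_mul, MonObj.comp_mul, e₁] at e₂
        simpa using e₂
      exact CartesianMonoidalCategory.hom_ext _ _ e₁ h2
    · have h1 : (a⁻¹ * b) ≫ v = toUnit T ≫ η[Q] := by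
        rw [MonObj.mul_comp, GrpObj.inv_comp, e, inv_mul_cancel, Hom.one_def]
      refine ⟨lift a (hk.lift _ _ h1), lift_fst _ _, ?_⟩
      rw [hgi, hk.lift_fst, mul_inv_cancel_left]
  · haveI : IsLocallyNoetherian Q.left := LocallyOfFiniteType.isLocallyNoetherian Q.hom
    haveI : LocallyOfFiniteType (v.left ≫ Q.hom) := by rw [Over.w]; infer_instance
    haveI : LocallyOfFiniteType v.left := locallyOfFiniteType_of_comp _ Q.hom
    haveI : LocallyOfFinitePresentation v.left := inferInstance
    refine ⟨Presieve.singleton v.left, v.left.singleton_mem_fppfPrecoverage, fun S' f hf => ?_⟩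
    obtain ⟨⟩ := hf
    exact ⟨𝟙 _, Category.id_comp _⟩

end Groth.Agent.Chev
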