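import Groth.Agent.Chev.LargestSA
import Groth.Agent.Chev.AntiCharP
import Groth.Agent.Chev.FrobImage
import Groth.Agent.GrpComp.Identity
import Groth.Agent.GrpField.AffImage
import Groth.Agent.S7782
import Mathlib.AlgebraicGeometry.AlgClosed.Basic

/-!
# Commutative groups without semi-abelian subgroups have finite exponent (characteristic `p`)
-/

set_option autoImplicit false
set_option linter.style.haveILetI false
set_option backward.isDefEq.respectTransparency false
set_option maxHeartbeats 1000000
set_option synthInstance.maxHeartbeats 400000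
universe u

open CategoryTheory Limits MonoidalCategory CartesianMonoidalCategory MonObj GrpObj AlgebraicGeometry
open AlgGrp
open scoped CategoryTheory.Obj

noncomputable section

namespace Groth.Agent.Chev

open AVDeg (bcK specMap)

variable {k : Type u} [Field k]

/-- The group has no non-trivial semi-abelian subgroup. -/
def NoSA (G : Over (Spec (CommRingCat.of k))) [GrpObj G] : Prop :=
  ∀ (S : Over (Spec (CommRingCat.of k))) [GrpObj S] (s : S ⟶ G) [IsMonHom s] [IsClosedImmersion s.left],
    IsSA S → IsIso η[S]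

/-- Morphisms into the trivial group are trivial. -/
theorem eq_one_of_isIso_eta {X I : Over (Spec (CommRingCat.of k))} [GrpObj I] (h : IsIso η[I]) (f : X ⟶ I) :
    f = 1 := by
  haveI := h
  rw [Hom.one_def, ← cancel_mono (inv η[I])]
  exact toUnit_unique _ _

/-- A group which is a single reduced point is trivial. -/
theorem isIso_eta_of_one {L : Over (Spec (CommRingCat.of k))} [GrpObj L] [IsReduced L.left] [LocallyOfFiniteType L.hom]
    (f : L ⟶ L) [Surjective f.left] (hf : f = 1) : IsIso η[L] := by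
  haveI : IsSeparated L.hom := GrpField.isSeparated_hom L
  haveI := GrpField.isClosedImmersion_eta L
  haveI : Surjective η[L].left := ⟨fun y => by
    obtain ⟨x, rfl⟩ := f.left.surjective y
    rw [hf, Hom.one_def, Over.comp_left, Scheme.Hom.comp_apply]
    exact ⟨_, rfl⟩⟩
  haveI : IsIso η[L].left := isIso_of_isClosedImmersion_of_surjective η[L].left
  haveI : IsIso ((Over.forget _).map η[L]) := ‹IsIso η[L].left›
  exact isIso_of_reflects_iso _ (Over.forget _)

/-- A commutative finite group is killed by a positive integer. -/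
theorem exists_pow_eq_one_of_finite (H : Over (Spec (CommRingCat.of k))) [GrpObj H] [IsCommMonObj H] [IsFinite H.hom] :
    ∃ n : ℕ, 0 < n ∧ 𝟙 H ^ n = 1 := by
  haveI : Flat H.hom := AlgSpLib.flat_of_field _
  haveI : IsLocallyNoetherian (Spec (CommRingCat.of k)) := inferInstance
  haveI : LocallyOfFinitePresentation H.hom := inferInstance
  let t : (Spec (CommRingCat.of k)).carrier := IsLocalRing.closedPoint k
  refine ⟨Scheme.Hom.finrank H.hom t, ?_, S7782.result H _ (fun s => by
    rw [Subsingleton.elim (α := PrimeSpectrum k) s t]) H (𝟙 H)⟩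
  have h := H.hom.one_le_finrank_map (η[H].left t)
  rwa [Subsingleton.elim (α := PrimeSpectrum k) (H.hom (η[H].left t)) t] at h

/-- Base change of powers. -/
theorem bc_map_pow {S S' : Scheme.{u}} (w : S' ⟶ S) {A B : Over S} [GrpObj B] (f : A ⟶ B) (n : ℕ) :
    (Over.pullback w).map (f ^ n) = (Over.pullback w).map f ^ n := by
  induction n with
  | zero => rw [pow_zero, pow_zero, bc_map_one]
  | succ n ih => rw [pow_succ, pow_succ, Functor.map_mul, ih]

/-- The image of a smooth connected group. -/
theorem exists_image_smooth {X Y : Over (Spec (CommRingCat.of k))} [GrpObj X] [GrpObj Y] [Smooth X.hom]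
    [QuasiCompact X.hom] [ConnectedSpace X.left] [LocallyOfFiniteType Y.hom] [QuasiCompact Y.hom]
    (f : X ⟶ Y) [IsMonHom f] :
    ∃ (I : Over (Spec (CommRingCat.of k))) (_ : GrpObj I) (ii : I ⟶ Y) (g : X ⟶ I), IsMonHom ii ∧ IsMonHom g ∧
      IsClosedImmersion ii.left ∧ Surjective g.left ∧ Smooth I.hom ∧ QuasiCompact I.hom ∧ ConnectedSpace I.left ∧
      g ≫ ii = f := by
  haveI : IsSeparated Y.hom := GrpField.isSeparated_hom Y
  haveI : QuasiCompact f.left := by
    haveI : QuasiCompact (f.left ≫ Y.hom) := by rw [Over.w]; infer_instance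
    exact QuasiCompact.of_comp _ Y.hom
  obtain ⟨I, hI, ii, g, hiim, hgm, hgi, hiic, hgd, -, hgs⟩ := GrpField.SchImg.exists_image f
  haveI := hiim; haveI := hgm; haveI := hiic; haveI := hgd; haveI := hgs
  haveI : LocallyOfFiniteType I.hom := by rw [← Over.w ii]; infer_instance
  haveI : QuasiCompact I.hom := by rw [← Over.w ii]; infer_instance
  haveI : IsSeparated I.hom := by rw [← Over.w ii]; infer_instance
  haveI : QuasiCompact g.left := by
    haveI : QuasiCompact (g.left ≫ I.hom) := by rw [Over.w]; infer_instance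
    exact QuasiCompact.of_comp _ I.hom
  haveI := GrpField.SchImg.geometricallyReduced_of_smooth X.hom
  haveI := GrpField.SchImg.geometricallyReduced_of_schDom g
  letI : GrpObj (Over.mk I.hom) := hI
  haveI : Smooth I.hom := smooth_of_grpObj I.hom
  haveI : ConnectedSpace I.left := g.left.surjective.connectedSpace g.left.continuous
  exact ⟨I, hI, ii, g, hiim, hgm, hiic, hgs, inferInstance, inferInstance, inferInstance, hgi⟩

/-- Tori are semi-abelian. -/
theorem isSA_of_isTorus {L : Over (Spec (CommRingCat.of k))} [GrpObj L] (hL : Red.IsTorus L) : IsSA L := by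
  haveI hs : Smooth (𝟙_ (Over (Spec (CommRingCat.of k)))).hom := inferInstanceAs (Smooth (𝟙 _))
  haveI : IsProper (𝟙_ (Over (Spec (CommRingCat.of k)))).hom := inferInstanceAs (IsProper (𝟙 _))
  haveI hc : ConnectedSpace (𝟙_ (Over (Spec (CommRingCat.of k)))).left :=
    inferInstanceAs (ConnectedSpace (PrimeSpectrum k))
  haveI : IsClosedImmersion (𝟙 L : L ⟶ L).left := inferInstanceAs (IsClosedImmersion (𝟙 L.left))
  haveI : Surjective (toUnit L).left :=
    ⟨fun x => ⟨η[L].left x, Subsingleton.elim (α := PrimeSpectrum k) _ _⟩⟩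
  haveI : Flat (toUnit L).left := AlgSpLib.flat_of_field (K := k) (toUnit L).left
  exact ⟨L, inferInstance, 𝟙 L, 𝟙_ _, inferInstance, toUnit L, inferInstance, inferInstance, hL, inferInstance,
    inferInstance, inferInstance, IsPullback.mk' (toUnit_unique _ _) (fun T a b e₁ _ => by simpa using e₁)
      (fun T a b _ => ⟨a, Category.comp_id _, toUnit_unique _ _⟩), inferInstance, hs, hc⟩

/-- Powers of a point land in a subgroup containing the identity component, over an algebraically closed field. -/
theorem exists_pow_mem_component {K : Type u} [Field K] [IsAlgClosed K] (X : Over (Spec (CommRingCat.of K))) [GrpObj X]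
    [IsCommMonObj X] [LocallyOfFiniteType X.hom] [QuasiCompact X.hom]
    {X₀ : Over (Spec (CommRingCat.of K))} [GrpObj X₀] (incl : X₀ ⟶ X) [IsMonHom incl] [IsClosedImmersion incl.left]
    (hc : connectedComponent (η[X].left (IsLocalRing.closedPoint K)) ⊆ Set.range incl.left) :
    ∃ e : ℕ, 0 < e ∧ Set.range (𝟙 X ^ e).left ⊆ Set.range incl.left := by
  let pt : (Spec (CommRingCat.of K)).carrier := IsLocalRing.closedPoint K
  haveI : IsLocallyNoetherian X.left := LocallyOfFiniteType.isLocallyNoetherian X.hom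
  haveI : CompactSpace X.left := QuasiCompact.compactSpace_of_compactSpace X.hom
  haveI : IsNoetherian X.left := {}
  let U := 𝟙_ (Over (Spec (CommRingCat.of K)))
  let P₀ : Subgroup (U ⟶ X) :=
    (MonoidHom.mk' (fun x : U ⟶ X₀ => x ≫ incl) fun a b => MonObj.mul_comp a b incl).range
  haveI : IsReduced U.left := inferInstanceAs (IsReduced (Spec (CommRingCat.of K)))
  have hmem : ∀ x : U ⟶ X, x.left pt ∈ Set.range incl.left → x ∈ P₀ := by
    intro x hx
    obtain ⟨y, hy⟩ := exists_lift_range x incl (by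
      rintro _ ⟨s, rfl⟩
      rw [show s = pt from Subsingleton.elim (α := PrimeSpectrum K) _ _]
      exact hx)
    exact ⟨y, hy⟩
  haveI : Finite (irreducibleComponents X.left) :=
    TopologicalSpace.NoetherianSpace.finite_irreducibleComponents.to_subtype
  haveI : Finite (_root_.ConnectedComponents X.left) := Finite.of_surjective
    (fun Z : irreducibleComponents X.left => _root_.ConnectedComponents.mk Z.2.1.nonempty.choose) fun q => by
    obtain ⟨x, rfl⟩ := _root_.ConnectedComponents.surjective_coe q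
    refine ⟨⟨_, irreducibleComponent_mem_irreducibleComponents x⟩, _root_.ConnectedComponents.coe_eq_coe'.2 ?_⟩
    exact (isIrreducible_irreducibleComponent).2.isPreconnected.subset_connectedComponent mem_irreducibleComponent
      (irreducibleComponent_mem_irreducibleComponents x).1.nonempty.choose_spec
  let c : (U ⟶ X) ⧸ P₀ → _root_.ConnectedComponents X.left := fun q => _root_.ConnectedComponents.mk ((Quotient.out q).left pt)
  have hc' : Function.Injective c := by
    intro a b hab
    rw [← Quotient.out_eq a, ← Quotient.out_eq b]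
    refine QuotientGroup.eq.2 (hmem _ (hc ?_))
    set x : U ⟶ X := Quotient.out a
    set y : U ⟶ X := Quotient.out b
    have hy : y.left pt ∈ connectedComponent (x.left pt) := by
      exact _root_.ConnectedComponents.coe_eq_coe'.1 hab.symm
    let tr : X ⟶ X := (toUnit X ≫ x⁻¹) * 𝟙 X
    have htr : ∀ z : U ⟶ X, z ≫ tr = x⁻¹ * z := fun z => by
      rw [MonObj.comp_mul, Category.comp_id, ← Category.assoc, toUnit_unique (z ≫ toUnit X) (𝟙 U), Category.id_comp]
    have h1 : tr.left (x.left pt) = η[X].left pt := by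
      rw [← Scheme.Hom.comp_apply, ← Over.comp_left, htr, inv_mul_cancel, Hom.one_def, toUnit_unit, Category.id_comp]
    have h2 : (x⁻¹ * y).left pt = tr.left (y.left pt) := by
      rw [← htr, Over.comp_left, Scheme.Hom.comp_apply]
    rw [h2]
    exact (isPreconnected_connectedComponent.image _ tr.left.continuous.continuousOn).subset_connectedComponent
      ⟨x.left pt, mem_connectedComponent, h1⟩ ⟨y.left pt, hy, rfl⟩
  haveI : Finite ((U ⟶ X) ⧸ P₀) := Finite.of_injective c hc'
  refine ⟨Nat.card ((U ⟶ X) ⧸ P₀), Nat.card_pos, ?_⟩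
  set e := Nat.card ((U ⟶ X) ⧸ P₀) with he
  haveI : JacobsonSpace X.left := LocallyOfFiniteType.jacobsonSpace X.hom
  have hcl : IsClosed ((𝟙 X ^ e).left ⁻¹' Set.range incl.left) :=
    incl.left.isClosedEmbedding.isClosed_range.preimage (𝟙 X ^ e).left.continuous
  rintro _ ⟨z, rfl⟩
  have hsub : closedPoints X.left ⊆ (𝟙 X ^ e).left ⁻¹' Set.range incl.left := by
    intro w hw
    let x : U ⟶ X := Over.homMk _ ((pointEquivClosedPoint X.hom).symm ⟨w, hw⟩).2
    have hxw : x.left pt = w := congrArg Subtype.val ((pointEquivClosedPoint X.hom).apply_symm_apply ⟨w, hw⟩)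
    obtain ⟨y, hy⟩ : x ^ e ∈ P₀ := by
      rw [← QuotientGroup.eq_one_iff, QuotientGroup.mk_pow, he, pow_card_eq_one']
    refine ⟨y.left pt, ?_⟩
    rw [← hxw, ← Scheme.Hom.comp_apply, ← Scheme.Hom.comp_apply, ← Over.comp_left, ← Over.comp_left,
      MonObj.comp_pow, Category.comp_id]
    exact congrArg (fun φ => φ.left pt) hy
  have hall : (𝟙 X ^ e).left ⁻¹' Set.range incl.left = Set.univ := by
    refine Set.univ_subset_iff.1 ?_
    rw [← closure_closedPoints (X := X.left)]
    exact hcl.closure_subset_iff.2 hsub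
  exact hall.ge (Set.mem_univ z)

/-- A power map of a smooth group factors through a subgroup containing the identity component. -/
theorem exists_pow_factor_component (Q : Over (Spec (CommRingCat.of k))) [GrpObj Q] [IsCommMonObj Q] [Smooth Q.hom]
    [QuasiCompact Q.hom] {Q₀ : Over (Spec (CommRingCat.of k))} [GrpObj Q₀] (incl : Q₀ ⟶ Q) [IsMonHom incl]
    [IsClosedImmersion incl.left]
    (hc : connectedComponent (η[Q].left (IsLocalRing.closedPoint k)) ⊆ Set.range incl.left) :
    ∃ e : ℕ, 0 < e ∧ ∃ gam : Q ⟶ Q₀, gam ≫ incl = 𝟙 Q ^ e := by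
  let K := AlgebraicClosure k
  let w := specMap k K
  let F := Over.pullback w
  haveI : IsClosedImmersion (F.map incl).left :=
    MorphismProperty.baseChange_map (P := @IsClosedImmersion) w incl ‹_›
  haveI : LocallyOfFiniteType (F.obj Q).hom := inferInstanceAs (LocallyOfFiniteType (pullback.snd Q.hom w))
  haveI : QuasiCompact (F.obj Q).hom := inferInstanceAs (QuasiCompact (pullback.snd Q.hom w))
  haveI : IsCommMonObj (F.obj Q) := inferInstanceAs (IsCommMonObj ((Over.pullback w).obj Q))
  let f := pullback.fst Q.hom w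
  have hsq : IsPullback (pullback.fst Q₀.hom w) (F.map incl).left incl.left f := by
    refine IsPullback.of_bot ?_ (pullback.lift_fst _ _ _).symm (IsPullback.of_hasPullback Q.hom w)
    rw [show (F.map incl).left ≫ pullback.snd Q.hom w = pullback.snd Q₀.hom w from pullback.lift_snd _ _ _,
      Over.w incl]
    exact IsPullback.of_hasPullback Q₀.hom w
  have hrange : ∀ y, f y ∈ Set.range incl.left → y ∈ Set.range (F.map incl).left := by
    rintro y ⟨a, ha⟩
    obtain ⟨z, -, hz⟩ := Scheme.Pullback.exists_preimage_pullback (f := incl.left) (g := f) a y ha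
    refine ⟨hsq.isoPullback.inv z, ?_⟩
    exact (congrArg (fun φ : pullback incl.left f ⟶ pullback Q.hom w => φ z) hsq.isoPullback_inv_snd).trans hz
  have hone : f (η[F.obj Q].left (IsLocalRing.closedPoint K)) = η[Q].left (IsLocalRing.closedPoint k) := by
    have e1 : η[F.obj Q].left ≫ f = ((Functor.LaxMonoidal.ε F).left ≫ pullback.fst _ w) ≫ η[Q].left := by
      rw [show η[F.obj Q] = Functor.LaxMonoidal.ε F ≫ F.map η[Q] from rfl, Over.comp_left, Category.assoc,
        Category.assoc]
      exact congrArg ((Functor.LaxMonoidal.ε F).left ≫ ·) (pullback.lift_fst _ _ _)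
    exact (congrArg (fun φ : _ ⟶ Q.left => φ (IsLocalRing.closedPoint K)) e1).trans
      (congrArg η[Q].left (Subsingleton.elim (α := PrimeSpectrum k) _ _))
  obtain ⟨e, he, hsub⟩ := exists_pow_mem_component (F.obj Q) (F.map incl) (fun y hy => hrange y (hc (by
    rw [← hone]
    exact f.continuous.image_connectedComponent_subset _ ⟨y, hy, rfl⟩)))
  haveI : IsReduced Q.left := isReduced_of_smooth' Q
  haveI : Surjective w := ⟨fun _ => ⟨IsLocalRing.closedPoint _, Subsingleton.elim (α := PrimeSpectrum k) _ _⟩⟩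
  haveI : Surjective f := MorphismProperty.pullback_fst _ _ ‹_›
  refine ⟨e, he, exists_lift_range (𝟙 Q ^ e) incl ?_⟩
  rintro _ ⟨x, rfl⟩
  obtain ⟨y, rfl⟩ := f.surjective x
  have h3 : (F.map (𝟙 Q ^ e)).left ≫ f = f ≫ (𝟙 Q ^ e).left := pullback.lift_fst _ _ _
  rw [← Scheme.Hom.comp_apply, ← h3, Scheme.Hom.comp_apply]
  obtain ⟨z, hz⟩ := hsub ⟨y, rfl⟩
  rw [← F.map_id Q, ← bc_map_pow] at hz
  refine ⟨pullback.fst Q₀.hom w z, ?_⟩
  rw [← Scheme.Hom.comp_apply, ← show (F.map incl).left ≫ f = pullback.fst Q₀.hom w ≫ incl.left from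
    pullback.lift_fst _ _ _, Scheme.Hom.comp_apply]
  exact congrArg _ hz

/-- A smooth connected group without semi-abelian subgroups has exponent a power of `p`. -/
theorem exists_pow_eq_one_connected (p : ℕ) [hp : Fact p.Prime] [CharP k p] (Q : Over (Spec (CommRingCat.of k)))
    [GrpObj Q] [IsCommMonObj Q] [Smooth Q.hom] [QuasiCompact Q.hom] [ConnectedSpace Q.left] (hQ : NoSA Q) :
    ∃ n : ℕ, 0 < n ∧ 𝟙 Q ^ n = 1 := by
  haveI : IsSeparated Q.hom := GrpField.isSeparated_hom Q
  haveI : IsReduced Q.left := isReduced_of_smooth' Q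
  obtain ⟨hH, D, hD, i, hqm, hqf, hqs, hql, hHl, him, hic, hker, hanti, hDl, hDq⟩ := exists_anti_kernel Q
  letI := hH
  haveI := hqm; haveI := hqf; haveI := hqs; haveI := hHl; haveI := him; haveI := hic; haveI := hDl; haveI := hDq
  haveI : IsAffine Q.left := by
    have hD1 : IsIso η[D] := hQ D i (isSA_of_anti p D hanti)
    haveI : IsSeparated (AffHull.hull Q).hom := GrpField.isSeparated_hom _
    haveI : QuasiCompact (AffHull.toHull Q).left := by
      haveI : QuasiCompact ((AffHull.toHull Q).left ≫ (AffHull.hull Q).hom) := by rw [Over.w]; infer_instance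
      exact QuasiCompact.of_comp _ (AffHull.hull Q).hom
    haveI : Flat (𝟙 Q ≫ AffHull.toHull Q).left := by rw [Category.id_comp]; infer_instance
    haveI : Surjective (𝟙 Q ≫ AffHull.toHull Q).left := by rw [Category.id_comp]; infer_instance
    haveI : QuasiCompact (𝟙 Q ≫ AffHull.toHull Q).left := by rw [Category.id_comp]; infer_instance
    haveI : IsIso (AffHull.toHull Q).left :=
      GrpField.AffImage.isIso_of_kernel (𝟙 Q) (AffHull.toHull Q) (Scheme.Hom.ker_eq_bot_of_isIso _) fun T z hz => by
        rw [Category.id_comp] at hz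
        rw [Category.comp_id]
        have e := hker.lift_fst z (toUnit T) (hz.trans Hom.one_def)
        exact e.symm.trans ((congrArg (· ≫ i) (eq_one_of_isIso_eta hD1 _)).trans (MonObj.one_comp _))
    exact .of_isIso (AffHull.toHull Q).left
  haveI : CompactSpace Q.left := inferInstance
  haveI : IsLocallyNoetherian Q.left := LocallyOfFiniteType.isLocallyNoetherian Q.hom
  haveI : IsNoetherian Q.left := {}
  have himg : ∀ j : ℕ, ∃ (I : Over (Spec (CommRingCat.of k))) (_ : GrpObj I) (ii : I ⟶ Q) (g : Q ⟶ I),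
      IsMonHom ii ∧ IsMonHom g ∧ IsClosedImmersion ii.left ∧ Surjective g.left ∧ Smooth I.hom ∧ QuasiCompact I.hom ∧
      ConnectedSpace I.left ∧ g ≫ ii = 𝟙 Q ^ (p ^ j) := fun j => by
    haveI := isMonHom_pow Q (p ^ j)
    exact exists_image_smooth (𝟙 Q ^ (p ^ j))
  have hclosed : ∀ j : ℕ, IsClosed (Set.range (𝟙 Q ^ (p ^ j)).left) := fun j => by
    obtain ⟨I, _, ii, g, -, -, hiic, hgs, -, -, -, hgi⟩ := himg j
    haveI := hiic; haveI := hgs
    rw [← hgi, Over.comp_left, Scheme.Hom.comp_base, TopCat.coe_comp, Set.range_comp, g.left.surjective.range_eq,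
      Set.image_univ]
    exact ii.left.isClosedEmbedding.isClosed_range
  obtain ⟨-, ⟨j₀, rfl⟩, hmin⟩ := wellFounded_lt.has_min
    (Set.range fun j : ℕ => (⟨_, hclosed j⟩ : TopologicalSpace.Closeds Q.left)) (Set.range_nonempty _)
  obtain ⟨L, hL, ii, g, hiim, hgm, hiic, hgs, hLs, hLq, hLc, hgi⟩ := himg j₀
  haveI := hiim; haveI := hgm; haveI := hiic; haveI := hgs; haveI := hLs; haveI := hLq; haveI := hLc
  haveI : IsAffine L.left := isAffine_of_isAffineHom ii.left
  haveI : Mono ii := GrpField.SchImg.mono_of_isClosedImmersion ii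
  haveI : IsCommMonObj L := ⟨by
    rw [← cancel_mono ii, Category.assoc, IsMonHom.mul_hom (f := ii), ← Category.assoc,
      ← BraidedCategory.braiding_naturality, Category.assoc, IsCommMonObj.mul_comm]⟩
  have hsucc : 𝟙 Q ^ (p ^ (j₀ + 1)) = (𝟙 Q ^ p) ≫ (𝟙 Q ^ (p ^ j₀)) := by
    rw [MonObj.comp_pow, Category.comp_id, ← pow_mul, pow_succ']
  have hsucc' : 𝟙 Q ^ (p ^ (j₀ + 1)) = (𝟙 Q ^ (p ^ j₀)) ≫ (𝟙 Q ^ p) := by
    rw [MonObj.comp_pow, Category.comp_id, ← pow_mul, pow_succ]
  have hstable : Set.range (𝟙 Q ^ (p ^ j₀)).left ⊆ Set.range (𝟙 Q ^ (p ^ (j₀ + 1))).left := by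
    have hle : (⟨_, hclosed (j₀ + 1)⟩ : TopologicalSpace.Closeds Q.left) ≤ ⟨_, hclosed j₀⟩ := by
      intro y hy
      obtain ⟨x, rfl⟩ := hy
      rw [hsucc, Over.comp_left, Scheme.Hom.comp_apply]
      exact ⟨_, rfl⟩
    have h := (hle.lt_or_eq).resolve_left (hmin _ ⟨j₀ + 1, rfl⟩)
    exact (congrArg (fun C : TopologicalSpace.Closeds Q.left => (C : Set Q.left)) h).ge
  haveI : Surjective (𝟙 L ^ p).left := ⟨fun y => by
    obtain ⟨x₀, hx₀⟩ := g.left.surjective y
    obtain ⟨x, hx⟩ := hstable ⟨x₀, rfl⟩
    refine ⟨g.left x, ii.left.isClosedEmbedding.injective ?_⟩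
    have h1 : g ≫ (𝟙 L ^ p) ≫ ii = 𝟙 Q ^ (p ^ (j₀ + 1)) := by
      rw [hsucc', ← hgi]
      simp only [MonObj.comp_pow, MonObj.pow_comp, Category.comp_id, Category.id_comp, Category.assoc]
    rw [← Scheme.Hom.comp_apply, ← Scheme.Hom.comp_apply, ← Over.comp_left, ← Over.comp_left, h1, hx, ← hgi,
      Over.comp_left, Scheme.Hom.comp_apply, hx₀]⟩
  let K := AlgebraicClosure k
  let w := specMap k K
  let F := Over.pullback w
  haveI : CharP K p := charP_of_injective_algebraMap (algebraMap k K).injective p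
  haveI : Smooth (F.obj L).hom := inferInstanceAs (Smooth (pullback.snd L.hom w))
  haveI : ConnectedSpace (F.obj L).left := connectedSpace_bcK K (X := L)
  haveI : IsAffine (F.obj L).left := isAffine_bcK K (X := L)
  haveI : IsCommMonObj (F.obj L) := inferInstanceAs (IsCommMonObj ((Over.pullback w).obj L))
  haveI : Surjective (𝟙 (F.obj L) ^ p).left := by
    rw [← F.map_id L, ← bc_map_pow]
    exact MorphismProperty.baseChange_map (P := @Surjective) w _ ‹_›
  obtain ⟨r, ⟨x⟩⟩ := exists_split_algClosed (isTorus_of_surjective_pow_char p (F.obj L))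
  have htor : Red.IsTorus L := isTorus_of_isSplit w (r := r) ⟨x⟩
  refine ⟨p ^ j₀, pow_pos hp.out.pos _, ?_⟩
  rw [← hgi, eq_one_of_isIso_eta (hQ L ii (isSA_of_isTorus htor)) g, MonObj.one_comp]

/-- **A commutative group without semi-abelian subgroups has finite exponent.** -/
theorem exists_pow_eq_one_of_noSA (p : ℕ) [hp : Fact p.Prime] [CharP k p] (G : Over (Spec (CommRingCat.of k)))
    [GrpObj G] [IsCommMonObj G] [LocallyOfFiniteType G.hom] [QuasiCompact G.hom] (hG : NoSA G) :
    ∃ n : ℕ, 0 < n ∧ 𝟙 G ^ n = 1 := by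
  haveI : IsSeparated G.hom := GrpField.isSeparated_hom G
  obtain ⟨H, Q, hH, hQ, i, v, him, hvm, hic, hker, hHf, -, hQs, hvf, hvs⟩ := exists_smooth_frob_quotient p G
  haveI := him; haveI := hvm; haveI := hic; haveI := hHf; haveI := hQs; haveI := hvf; haveI := hvs
  haveI : Mono i := GrpField.SchImg.mono_of_isClosedImmersion i
  haveI : IsCommMonObj H := ⟨by
    rw [← cancel_mono i, Category.assoc, IsMonHom.mul_hom (f := i), ← Category.assoc,
      ← BraidedCategory.braiding_naturality, Category.assoc, IsCommMonObj.mul_comm]⟩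
  haveI : IsSeparated Q.hom := GrpField.isSeparated_hom Q
  haveI : QuasiCompact v.left := by
    haveI : QuasiCompact (v.left ≫ Q.hom) := by rw [Over.w]; infer_instance
    exact QuasiCompact.of_comp _ Q.hom
  haveI : QuasiCompact Q.hom := by
    haveI : QuasiCompact (v.left ≫ Q.hom) := by rw [Over.w]; infer_instance
    exact ThickLib.quasiCompact_of_comp_surjective v.left Q.hom
  haveI : LocallyOfFinitePresentation v.left := by
    haveI : IsLocallyNoetherian Q.left := LocallyOfFiniteType.isLocallyNoetherian Q.hom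
    haveI : LocallyOfFiniteType (v.left ≫ Q.hom) := by rw [Over.w]; infer_instance
    haveI : LocallyOfFiniteType v.left := locallyOfFiniteType_of_comp v.left Q.hom
    infer_instance
  haveI : IsCommMonObj Q := isCommMonObj_of_surjective v
  obtain ⟨a, ha, haH⟩ := exists_pow_eq_one_of_finite H
  haveI := isMonHom_pow G a
  obtain ⟨ψ, hψ⟩ := AdjRep.exists_desc i v hker (𝟙 G ^ a) (by
    rw [MonObj.comp_pow, Category.comp_id]
    have h := congrArg (· ≫ i) haH
    simp only [MonObj.pow_comp, Category.id_comp, MonObj.one_comp] at h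
    exact h)
  haveI : IsMonHom (v ≫ ψ) := by rw [hψ]; infer_instance
  haveI : IsMonHom ψ := isMonHom_desc v ψ
  have hψv : ψ ≫ v = 𝟙 Q ^ a := by
    haveI := AVQuot.epi_of_covering v
    rw [← cancel_epi v, reassoc_of% hψ, MonObj.pow_comp, Category.id_comp, MonObj.comp_pow, Category.comp_id]
  obtain ⟨Q₀, hQ₀, incl, hinm, hinc, hinf, hrange, hgi, hQ₀c, -⟩ := GrpComp.exists_identity_subgroup Q
  haveI := hinm; haveI := hinc; haveI := hinf
  haveI : Mono incl := GrpField.SchImg.mono_of_isClosedImmersion incl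
  haveI : LocallyOfFiniteType Q₀.hom := by rw [← Over.w incl]; infer_instance
  haveI : QuasiCompact Q₀.hom := by rw [← Over.w incl]; infer_instance
  haveI : IsCommMonObj Q₀ := ⟨by
    rw [← cancel_mono incl, Category.assoc, IsMonHom.mul_hom (f := incl), ← Category.assoc,
      ← BraidedCategory.braiding_naturality, Category.assoc, IsCommMonObj.mul_comm]⟩
  haveI : IsLocallyNoetherian Q.left := LocallyOfFiniteType.isLocallyNoetherian Q.hom
  haveI : IsOpenImmersion incl.left := IsOpenImmersion.of_flat_of_mono incl.left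
  haveI : Smooth Q₀.hom := by rw [← Over.w incl]; infer_instance
  haveI : ConnectedSpace Q₀.left := by
    haveI := hgi
    haveI : IrreducibleSpace Q₀.left :=
      GeometricallyIrreducible.irreducibleSpace_of_subsingleton Q₀.hom
    infer_instance
  have hQ₀G : NoSA Q₀ := by
    intro L _ l _ _ hLsa
    haveI : LocallyOfFiniteType L.hom := by rw [← Over.w l]; infer_instance
    haveI : QuasiCompact L.hom := by rw [← Over.w l]; infer_instance
    obtain ⟨hLs, hLc⟩ := hLsa.smooth_connected
    haveI := hLs; haveI := hLc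
    obtain ⟨I, hI, ii, g, hiim, hgm, hiic, hgs, hIs, hIq, hIc, hgi'⟩ := exists_image_smooth (l ≫ incl ≫ ψ)
    haveI := hiim; haveI := hgm; haveI := hiic; haveI := hgs; haveI := hIs; haveI := hIq; haveI := hIc
    have h1 : l ≫ incl ≫ ψ = 1 := by
      rw [← hgi', eq_one_of_isIso_eta (hG I ii (isSA_of_surjective hLsa g)) g, MonObj.one_comp]
    haveI : Mono l := GrpField.SchImg.mono_of_isClosedImmersion l
    haveI : IsCommMonObj L := ⟨by
      rw [← cancel_mono l, Category.assoc, IsMonHom.mul_hom (f := l), ← Category.assoc,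
        ← BraidedCategory.braiding_naturality, Category.assoc, IsCommMonObj.mul_comm]⟩
    haveI : IsReduced L.left := isReduced_of_smooth' L
    haveI := hLsa.surjective_pow ha
    refine isIso_eta_of_one (𝟙 L ^ a) ?_
    have h2 := congrArg (· ≫ v) h1
    simp only [Category.assoc, hψv, MonObj.one_comp] at h2
    apply (cancel_mono (l ≫ incl)).1
    rw [MonObj.one_comp, MonObj.pow_comp, Category.id_comp]
    simpa [MonObj.comp_pow] using h2
  obtain ⟨m, hm, hmQ⟩ := exists_pow_eq_one_connected p Q₀ hQ₀G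
  obtain ⟨e, he, gam, hgam⟩ := exists_pow_factor_component Q incl (by rw [hrange]; exact subset_rfl)
  refine ⟨a * (e * m), Nat.mul_pos ha (Nat.mul_pos he hm), ?_⟩
  have h3 : (gam ≫ incl) ^ m = 1 := by
    have h4 := congrArg (fun φ => gam ≫ φ ≫ incl) hmQ
    simp only [MonObj.pow_comp, Category.id_comp, MonObj.comp_pow, MonObj.one_comp, MonObj.comp_one] at h4
    exact h4
  rw [hgam, ← pow_mul] at h3
  haveI := isMonHom_pow Q (e * m)
  calc 𝟙 G ^ (a * (e * m)) = (v ≫ ψ) ^ (e * m) := by rw [hψ, pow_mul]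
    _ = v ≫ (𝟙 Q ^ (e * m)) ≫ ψ := by rw [MonObj.pow_comp (𝟙 Q), Category.id_comp, MonObj.comp_pow]
    _ = 1 := by rw [h3, MonObj.one_comp, MonObj.comp_one]

end Groth.Agent.Chev
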