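import Groth.Agent.Chev.TorusCommMax
import Groth.Agent.AVUniv.Stage
import Groth.Agent.MTBridge.FlatMT
import Groth.Agent.Chev.GeomPtIso
import Mathlib.AlgebraicGeometry.Morphisms.SchemeTheoreticallyDominant
import Mathlib.AlgebraicGeometry.AlgClosed.Basic

/-!
# Maximal tori are insensitive to extensions of algebraically closed fields

A subtorus of `G_K` commuting with `T_K` spreads out over a finitely generated subalgebra of `K`; at closed points
it is contained in `T`, hence everywhere.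
-/

set_option autoImplicit false
set_option linter.style.haveILetI false
set_option backward.isDefEq.respectTransparency false
set_option maxHeartbeats 1000000
set_option synthInstance.maxHeartbeats 400000

universe u

noncomputable section

open CategoryTheory Limits MonoidalCategory CartesianMonoidalCategory MonObj GrpObj AlgebraicGeometry Opposite
open scoped CategoryTheory.Obj
open Groth.Agent.MTBridge Groth.Agent.HomDiag Groth.Agent.MTQuot Groth.Agent.MTTorus

namespace Groth.Agent.Chev.MaxTorusExt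

variable {S U V : Scheme.{u}} {M : Type} [AddCommGroup M]

/-- A point of a diagonalisable group seen over a base below. -/
def push (s : V ⟶ U) {X : Over V} (a : X ⟶ Red.DS V M) : (Over.map s).obj X ⟶ Red.DS U M :=
  Over.homMk (pullback.lift (a.left ≫ pullback.fst _ _) (X.hom ≫ s)
    ((specULiftZIsTerminal.{u}).hom_ext _ _)) (pullback.lift_snd _ _ _)

theorem push_left_fst (s : V ⟶ U) {X : Over V} (a : X ⟶ Red.DS V M) :
    (push s a).left ≫ pullback.fst _ _ = a.left ≫ pullback.fst _ _ :=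
  pullback.lift_fst _ _ _

theorem ch_push (s : V ⟶ U) {X : Over V} (a : X ⟶ Red.DS V M) (m : Multiplicative M) :
    ch (push s a) m = ch a m := by
  rw [ch_apply, ch_apply, push_left_fst]
  rfl

theorem push_mul (s : V ⟶ U) {X : Over V} (a b : X ⟶ Red.DS V M) : push s (a * b) = push s a * push s b :=
  ch_ext fun m => by rw [ch_mul, ch_push, ch_push, ch_push, ch_mul]

theorem push_comp (s : V ⟶ U) {X Y : Over V} (c : Y ⟶ X) (a : X ⟶ Red.DS V M) :
    push s (c ≫ a) = (Over.map s).map c ≫ push s a :=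
  ch_ext fun m => by rw [ch_push, ch_comp, ch_comp, ch_push]; rfl

/-- The inverse of `bcDS` in terms of points. -/
theorem toBC_push (s : V ⟶ U) {X : Over V} (a : X ⟶ Red.DS V M) :
    toBC s (push s a) ≫ (bcDS s M).hom.hom.hom = a :=
  ch_ext fun m => by rw [ch_toBC_bcDS, ch_push]

/-- Points of an iterated base change. -/
def reIso {g : V ⟶ U} {f : U ⟶ S} {ψ : V ⟶ S} (h : g ≫ f = ψ) (X : Over V) :
    (Over.map f).obj ((Over.map g).obj X) ≅ (Over.map ψ).obj X :=
  Over.isoMk (Iso.refl _) (by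
    show 𝟙 _ ≫ X.hom ≫ ψ = (X.hom ≫ g) ≫ f
    rw [Category.id_comp, Category.assoc, h])

theorem reIso_naturality {g : V ⟶ U} {f : U ⟶ S} {ψ : V ⟶ S} (h : g ≫ f = ψ) {X Y : Over V} (c : Y ⟶ X) :
    (reIso h Y).hom ≫ (Over.map ψ).map c = (Over.map f).map ((Over.map g).map c) ≫ (reIso h X).hom := by
  apply Over.OverMorphism.ext
  show 𝟙 _ ≫ c.left = c.left ≫ 𝟙 _
  simp

/-- Transport of a point to an iterated base change. -/
def tr {g : V ⟶ U} {f : U ⟶ S} {ψ : V ⟶ S} (h : g ≫ f = ψ) {G : Over S} {X : Over V} (x : X ⟶ Red.bc ψ G) :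
    X ⟶ Red.bc g (Red.bc f G) :=
  toBC g (toBC f ((reIso h X).hom ≫ ((Over.mapPullbackAdj ψ).homEquiv X G).symm x))

theorem tr_toBC {g : V ⟶ U} {f : U ⟶ S} {ψ : V ⟶ S} (h : g ≫ f = ψ) {G : Over S} {X : Over V}
    (a : (Over.map ψ).obj X ⟶ G) : tr h (toBC ψ a) = toBC g (toBC f ((reIso h X).hom ≫ a)) := by
  unfold tr
  congr 3
  exact ((Over.mapPullbackAdj ψ).homEquiv X G).symm_apply_apply a

section

variable {g : V ⟶ U} {f : U ⟶ S} {ψ : V ⟶ S} (h : g ≫ f = ψ) {G H : Over S} {X Y : Over V}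

theorem tr_mul [GrpObj G] (a b : X ⟶ Red.bc ψ G) : tr h (a * b) = tr h a * tr h b := by
  obtain ⟨a, rfl⟩ := exists_toBC' ψ a
  obtain ⟨b, rfl⟩ := exists_toBC' ψ b
  rw [← toBC_mul, tr_toBC, tr_toBC, tr_toBC, MonObj.comp_mul, toBC_mul, toBC_mul]

theorem tr_naturality (c : Y ⟶ X) (x : X ⟶ Red.bc ψ G) : tr h (c ≫ x) = c ≫ tr h x := by
  obtain ⟨a, rfl⟩ := exists_toBC' ψ x
  rw [← toBC_naturality, tr_toBC, tr_toBC, ← Category.assoc (reIso h Y).hom, reIso_naturality,
    Category.assoc, toBC_naturality, toBC_naturality]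

theorem tr_comp (i : H ⟶ G) (x : X ⟶ Red.bc ψ H) :
    tr h (x ≫ (Over.pullback ψ).map i) = tr h x ≫ (Over.pullback g).map ((Over.pullback f).map i) := by
  obtain ⟨a, rfl⟩ := exists_toBC' ψ x
  rw [← toBC_comp, tr_toBC, tr_toBC, ← Category.assoc, toBC_comp, toBC_comp]

theorem tr_injective {x y : X ⟶ Red.bc ψ G} (e : tr h x = tr h y) : x = y := by
  obtain ⟨a, rfl⟩ := exists_toBC' ψ x
  obtain ⟨b, rfl⟩ := exists_toBC' ψ y
  rw [tr_toBC, tr_toBC] at e
  rw [(cancel_epi _).1 (MTBridge.toBC_inj f (MTBridge.toBC_inj g e))]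

theorem exists_tr (x : X ⟶ Red.bc g (Red.bc f G)) : ∃ y : X ⟶ Red.bc ψ G, tr h y = x := by
  obtain ⟨a, rfl⟩ := exists_toBC' g x
  obtain ⟨b, rfl⟩ := exists_toBC' f a
  exact ⟨toBC ψ ((reIso h X).inv ≫ b), by rw [tr_toBC, Iso.hom_inv_id_assoc]⟩

end

/-- Two maps out of an affine flat scheme into a separated one agree if they agree after a dominant base change. -/
theorem eq_of_bc_eq {U V : Scheme.{u}} [IsReduced U] (g : V ⟶ U) [IsDominant g] [QuasiCompact g] {X G : Over U}
    [Flat X.hom] [IsSeparated G.hom] (a b : X ⟶ G) (h : (Over.pullback g).map a = (Over.pullback g).map b) :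
    a = b := by
  haveI : IsSchemeTheoreticallyDominant g := .of_isDominant g
  let p := pullback.fst X.hom g
  haveI : IsSchemeTheoreticallyDominant p := inferInstance
  have hp : p ≫ a.left = p ≫ b.left := by
    have h1 := congrArg (fun φ => φ.left ≫ pullback.fst G.hom g) h
    simp only [Over.pullback_map_left, pullback.lift_fst] at h1
    exact h1
  let X' : Over U := Over.mk (p ≫ X.hom)
  let q : X' ⟶ X := Over.homMk p rfl
  let l : X' ⟶ equalizer a b := equalizer.lift q (Over.OverMorphism.ext hp)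
  have hl : l.left ≫ (equalizer.ι a b).left = p := by rw [← Over.comp_left, equalizer.lift_ι]; rfl
  haveI : IsIso (equalizer.ι a b).left := by
    rw [IsClosedImmersion.isIso_iff_ker_eq_bot, ← le_bot_iff]
    refine (Scheme.Hom.le_ker_comp l.left (equalizer.ι a b).left).trans ?_
    rw [hl, Scheme.Hom.ker_eq_bot p]
  apply Over.OverMorphism.ext
  rw [← cancel_epi (equalizer.ι a b).left, ← Over.comp_left, ← Over.comp_left, equalizer.condition]

section Stage

variable (k K : Type u) [Field k] [Field K] [Algebra k K] (M : Type) [AddCommGroup M]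

open Groth.Agent.AVUniv

/-- the diagonalisable groups over the stages -/
def dsDiagram : (KSub k K)ᵒᵖ ⥤ Scheme.{u} where
  obj B := (Red.DS ((kDiagram k K).obj B) M).left
  map {B C} c := pullback.lift (pullback.fst _ _) (pullback.snd _ _ ≫ (kDiagram k K).map c)
    ((specULiftZIsTerminal.{u}).hom_ext _ _)
  map_id B := by
    apply pullback.hom_ext
    · simp
    · simp
  map_comp a b := by
    apply pullback.hom_ext
    · simp
    · simp

/-- the projection to the spectra -/
def dsToAlg : dsDiagram k K M ⟶ kDiagram k K where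
  app B := pullback.snd _ _
  naturality B C a := pullback.lift_snd _ _ _

/-- the projection from the limit -/
def dsProj (B : (KSub k K)ᵒᵖ) :
    (Red.DS (Spec (CommRingCat.of K)) M).left ⟶ (Red.DS ((kDiagram k K).obj B) M).left :=
  pullback.lift (pullback.fst _ _) (pullback.snd _ _ ≫ (kCone k K).π.app B)
    ((specULiftZIsTerminal.{u}).hom_ext _ _)

/-- the cone -/
def dsCone : Cone (dsDiagram k K M) where
  pt := (Red.DS (Spec (CommRingCat.of K)) M).left
  π :=
    { app := dsProj k K M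
      naturality := fun B C a => by
        apply pullback.hom_ext
        · simp [dsDiagram, dsProj]
        · simp only [dsDiagram, dsProj, Category.assoc, pullback.lift_snd, pullback.lift_snd_assoc,
            Functor.const_obj_map, Category.id_comp]
          exact congrArg (_ ≫ ·) ((kCone k K).w a).symm }

theorem isPullback_dsProj (B : (KSub k K)ᵒᵖ) :
    IsPullback (dsProj k K M B) (pullback.snd _ _) (pullback.snd _ _) ((kCone k K).π.app B) := by
  refine IsPullback.of_right ?_ (pullback.lift_snd _ _ _) (IsPullback.of_hasPullback _ _)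
  rw [dsProj, pullback.lift_fst,
    show (kCone k K).π.app B ≫ Limits.IsTerminal.from specULiftZIsTerminal ((kDiagram k K).obj B) =
      Limits.IsTerminal.from specULiftZIsTerminal (Spec (CommRingCat.of K)) from (specULiftZIsTerminal.{u}).hom_ext _ _]
  exact IsPullback.of_hasPullback _ _

/-- the cone is a limit -/
def dsIsLimit : IsLimit (dsCone k K M) :=
  haveI : IsCofiltered (KSub k K)ᵒᵖ := isCofiltered_op_of_isFiltered _
  haveI : IsConnected (KSub k K)ᵒᵖ := IsCofiltered.isConnected _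
  isLimitOfIsPullbackOfIsConnected (dsToAlg k K M) (dsCone k K M) (kCone k K)
    { hom := pullback.snd _ _
      w := fun B => (pullback.lift_snd _ _ _).symm }
    (isPullback_dsProj k K M) (kIsLimit k K)

instance {B C : (KSub k K)ᵒᵖ} (a : B ⟶ C) : IsAffineHom ((dsDiagram k K M).map a) := by
  haveI := isAffineHom_DS ((kDiagram k K).obj C) M
  haveI : IsAffine ((dsDiagram k K M).obj B) := by
    haveI := isAffineHom_DS ((kDiagram k K).obj B) M
    haveI : IsAffine ((kDiagram k K).obj B) := inferInstanceAs (IsAffine (Spec _))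
    exact isAffine_of_isAffineHom (Red.DS ((kDiagram k K).obj B) M).hom
  haveI : IsAffine ((dsDiagram k K M).obj C) := by
    haveI : IsAffine ((kDiagram k K).obj C) := inferInstanceAs (IsAffine (Spec _))
    exact isAffine_of_isAffineHom (Red.DS ((kDiagram k K).obj C) M).hom
  exact isAffineHom_of_isAffine _

/-- **A map out of a diagonalisable group over an extension spreads to a finitely generated subalgebra.** -/
theorem exists_stage {G : Over (Spec (CommRingCat.of k))} [LocallyOfFinitePresentation G.hom]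
    (j : Red.DS (Spec (CommRingCat.of K)) M ⟶ Red.bc (Spec.map (CommRingCat.ofHom (algebraMap k K))) G) :
    ∃ (B : Subalgebra k K) (_ : B.FG) (h : Spec.map (CommRingCat.ofHom (algebraMap B K)) ≫
        Spec.map (CommRingCat.ofHom (algebraMap k B)) = Spec.map (CommRingCat.ofHom (algebraMap k K)))
      (jB : Red.DS (Spec (CommRingCat.of B)) M ⟶ Red.bc (Spec.map (CommRingCat.ofHom (algebraMap k B))) G),
      toBC _ (push (Spec.map (CommRingCat.ofHom (algebraMap B K))) (𝟙 (Red.DS (Spec (CommRingCat.of K)) M))) ≫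
        (Over.pullback _).map jB = tr h j := by
  haveI : IsCofiltered (KSub k K)ᵒᵖ := isCofiltered_op_of_isFiltered _
  let ψ := Spec.map (CommRingCat.ofHom (algebraMap k K))
  have hobj : ∀ i, IsAffine ((dsDiagram k K M).obj i) := fun i => by
    haveI := isAffineHom_DS ((kDiagram k K).obj i) M
    haveI : IsAffine ((kDiagram k K).obj i) := inferInstanceAs (IsAffine (Spec _))
    exact isAffine_of_isAffineHom (Red.DS ((kDiagram k K).obj i) M).hom
  obtain ⟨j₀, rfl⟩ := exists_toBC' ψ j
  let t : dsDiagram k K M ⟶ (Functor.const _).obj (Spec (CommRingCat.of k)) :=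
    { app := fun B => pullback.snd _ _ ≫ Spec.map (CommRingCat.ofHom (algebraMap k B.unop.1))
      naturality := fun B C a => by
        show pullback.lift _ _ _ ≫ _ = _
        rw [pullback.lift_snd_assoc, Category.assoc]
        refine Eq.trans ?_ (Category.comp_id _).symm
        congr 1
        exact (Spec.map_comp _ _).symm }
  obtain ⟨i, g', h₁, h₂⟩ := Scheme.exists_π_app_comp_eq_of_locallyOfFinitePresentation (dsDiagram k K M) t G.hom
    (dsCone k K M) (dsIsLimit k K M) j₀.left (by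
      ext B
      show dsProj k K M B ≫ pullback.snd _ _ ≫ _ = j₀.left ≫ G.hom
      rw [Over.w j₀, dsProj, pullback.lift_snd_assoc, Category.assoc]
      congr 1
      exact (Spec.map_comp _ _).symm)
  let B := i.unop.1
  let g := Spec.map (CommRingCat.ofHom (algebraMap B K))
  let fB := Spec.map (CommRingCat.ofHom (algebraMap k B))
  have h : g ≫ fB = ψ := (Spec.map_comp _ _).symm
  let jB₀ : (Over.map fB).obj (Red.DS (Spec (CommRingCat.of B)) M) ⟶ G := Over.homMk g' h₂
  refine ⟨B, i.unop.2, h, toBC fB jB₀, ?_⟩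
  show toBC g _ ≫ _ = tr h (toBC ψ j₀)
  rw [← toBC_comp, tr_toBC, ← toBC_naturality fB]
  congr 2
  apply Over.OverMorphism.ext
  show (push g (𝟙 (Red.DS (Spec (CommRingCat.of K)) M))).left ≫ g' = 𝟙 _ ≫ j₀.left
  rw [Category.id_comp]
  exact h₁

end Stage

section Parts

variable {g : V ⟶ U} {f : U ⟶ S} {ψ : V ⟶ S} (h : g ≫ f = ψ) {G : Over S} [GrpObj G] [AddGroup.FG M]

/-- The points of the base change of a stage map. -/
theorem comp_map_stage (jB : Red.DS U M ⟶ Red.bc f G) (j : Red.DS V M ⟶ Red.bc ψ G)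
    (hj : toBC g (push g (𝟙 (Red.DS V M))) ≫ (Over.pullback g).map jB = tr h j)
    {X : Over V} (v : X ⟶ Red.bc g (Red.DS U M)) :
    v ≫ (Over.pullback g).map jB = tr h ((v ≫ (bcDS g M).hom.hom.hom) ≫ j) := by
  haveI : IsIso (bcDS g M).hom.hom.hom := ((Grp.forget _).mapIso (bcDS g M)).isIso_hom
  have e1 : v = (v ≫ (bcDS g M).hom.hom.hom) ≫ toBC g (push g (𝟙 (Red.DS V M))) := by
    rw [← cancel_mono (bcDS g M).hom.hom.hom, Category.assoc, toBC_push, Category.comp_id]
  conv_lhs => rw [e1, Category.assoc, hj, ← tr_naturality]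

theorem flat_DS_hom (U : Scheme.{u}) (M : Type) [AddCommGroup M] [AddGroup.FG M] : Flat (Red.DS U M).hom :=
  flat_of_isMultTypeFT (Red.DS U M) (isMultTypeFT_DS U M)

theorem flat_tensor_hom {X Y : Over U} [Flat X.hom] [Flat Y.hom] : Flat (X ⊗ Y).hom :=
  inferInstanceAs (Flat (pullback.fst X.hom Y.hom ≫ X.hom))

/-- A stage map is a homomorphism when its base change is. -/
theorem isMonHom_stage [IsReduced U] [IsDominant g] [QuasiCompact g] [IsSeparated (Red.bc f G).hom]
    (jB : Red.DS U M ⟶ Red.bc f G) (j : Red.DS V M ⟶ Red.bc ψ G) [IsMonHom j]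
    (hj : toBC g (push g (𝟙 (Red.DS V M))) ≫ (Over.pullback g).map jB = tr h j) : IsMonHom jB :=
  MTTorus.isMonHom_of_mul (A := Red.DS U M) jB fun {X} u v => by
    haveI := flat_DS_hom U M
    haveI : Flat (Red.DS U M ⊗ Red.DS U M).hom := flat_tensor_hom
    have e : (fst (Red.DS U M) (Red.DS U M) * snd _ _) ≫ jB = (fst _ _ ≫ jB) * (snd _ _ ≫ jB) := by
      refine eq_of_bc_eq g _ _ ?_
      rw [Functor.map_comp, Functor.map_mul, Functor.map_mul, Functor.map_comp, Functor.map_comp,
        comp_map_stage h jB j hj, comp_map_stage h jB j hj, comp_map_stage h jB j hj, ← tr_mul, ← MonObj.mul_comp]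
      haveI : IsMonHom (bcDS g M).hom.hom.hom := (bcDS g M).hom.hom.isMonHom_hom
      refine congrArg (fun w => tr h (w ≫ j)) ?_
      exact MonObj.mul_comp _ _ (bcDS g M).hom.hom.hom
    have h3 := congrArg (lift u v ≫ ·) e
    simp only [← Category.assoc, MonObj.comp_mul, lift_fst, lift_snd] at h3
    exact h3

/-- A stage map commutes when its base change does. -/
theorem comm_stage [IsReduced U] [IsDominant g] [QuasiCompact g] [IsSeparated (Red.bc f G).hom]
    {T : Over S} (i : T ⟶ G) [Flat (Red.bc f T).hom] (jB : Red.DS U M ⟶ Red.bc f G) (j : Red.DS V M ⟶ Red.bc ψ G)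
    (hj : toBC g (push g (𝟙 (Red.DS V M))) ≫ (Over.pullback g).map jB = tr h j)
    (hcomm : ∀ (X : Over V) (t : X ⟶ Red.bc ψ T) (x : X ⟶ Red.DS V M),
      (t ≫ (Over.pullback ψ).map i) * (x ≫ j) = (x ≫ j) * (t ≫ (Over.pullback ψ).map i))
    (X : Over U) (t : X ⟶ Red.bc f T) (x : X ⟶ Red.DS U M) :
    (t ≫ (Over.pullback f).map i) * (x ≫ jB) = (x ≫ jB) * (t ≫ (Over.pullback f).map i) := by
  haveI := flat_DS_hom U M
  haveI : Flat (Red.bc f T ⊗ Red.DS U M).hom := flat_tensor_hom
  have e : (fst _ _ ≫ (Over.pullback f).map i) * (snd (Red.bc f T) (Red.DS U M) ≫ jB) =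
      (snd _ _ ≫ jB) * (fst _ _ ≫ (Over.pullback f).map i) := by
    refine eq_of_bc_eq g _ _ ?_
    rw [Functor.map_mul, Functor.map_mul, Functor.map_comp, Functor.map_comp, comp_map_stage h jB j hj]
    obtain ⟨a, ha⟩ := exists_tr h ((Over.pullback g).map (fst (Red.bc f T) (Red.DS U M)))
    rw [← ha, ← tr_comp, ← tr_mul, ← tr_mul, hcomm]
  have h3 := congrArg (lift t x ≫ ·) e
  simp only [← Category.assoc, MonObj.comp_mul, lift_fst, lift_snd] at h3
  exact h3

end Parts

/-- Near a closed point of a scheme of finite type over an algebraically closed field a torus commuting with the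
maximal torus is contained in it. -/
theorem exists_nhd_closed {k : Type u} [Field k] [IsAlgClosed k] {U : Scheme.{u}} (fB : U ⟶ Spec (CommRingCat.of k))
    [LocallyOfFiniteType fB] {G T : Over (Spec (CommRingCat.of k))} [GrpObj G] [GrpObj T]
    [LocallyOfFiniteType G.hom] [QuasiCompact G.hom] (i : T ⟶ G) (hT : AGF.IsMaxTorus i) {r q : ℕ}
    (eT : Grp.mk (Red.bc fB T) ≅ Grp.mk (Red.DS U (Fin q → ℤ)))
    (jB : Red.DS U (Fin r → ℤ) ⟶ Red.bc fB G) [IsMonHom jB]
    (hcommB : ∀ (X : Over U) (t : X ⟶ Red.bc fB T) (x : X ⟶ Red.DS U (Fin r → ℤ)),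
      (t ≫ (Over.pullback fB).map i) * (x ≫ jB) = (x ≫ jB) * (t ≫ (Over.pullback fB).map i))
    (t : U) (ht : IsClosed {t}) :
    ∃ W : U.Opens, t ∈ W ∧ ∀ (Y : Over U), Set.range Y.hom ⊆ (W : Set U) → ∀ p : Y ⟶ Red.DS U (Fin r → ℤ),
      ∃ z : Y ⟶ Red.bc fB T, z ≫ (Over.pullback fB).map i = p ≫ jB := by
  haveI := hT.1
  haveI := hT.2.1
  haveI : PreservesLimitsOfShape WalkingCospan (Over.pullback fB) :=
    (Adjunction.rightAdjoint_preservesLimits (Over.mapPullbackAdj fB)).preservesLimitsOfShape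
  haveI : LocallyOfFiniteType (Red.bc fB G).hom := inferInstanceAs (LocallyOfFiniteType (pullback.snd G.hom fB))
  let s := pointOfClosedPoint fB t ht
  have hs : s ≫ fB = 𝟙 _ := pointOfClosedPoint_comp _ _ _
  let D₀ := Red.DS (Spec (CommRingCat.of k)) (Fin r → ℤ)
  obtain ⟨x₀, hx₀⟩ := exists_toBC' fB jB
  let l : ∀ Y : Over (Spec (CommRingCat.of k)), (Over.map fB).obj ((Over.map s).obj Y) ⟶ Y := fun Y =>
    Over.homMk (𝟙 _) (by show 𝟙 _ ≫ Y.hom = (Y.hom ≫ s) ≫ fB; rw [Category.assoc, hs]; simp)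
  haveI hli : ∀ Y, IsIso (l Y) := fun Y => by
    haveI : IsIso ((Over.forget _).map (l Y)) := inferInstanceAs (IsIso (𝟙 _))
    exact isIso_of_reflects_iso (l Y) (Over.forget _)
  let j' : D₀ ⟶ G := inv (l D₀) ≫ (Over.map fB).map (push s (𝟙 D₀)) ≫ x₀
  have hl : ∀ {Y Y' : Over (Spec (CommRingCat.of k))} (a : Y ⟶ Y'),
      l Y ≫ a = (Over.map fB).map ((Over.map s).map a) ≫ l Y' := fun a => Over.OverMorphism.ext (by
    show 𝟙 _ ≫ a.left = a.left ≫ 𝟙 _
    simp)
  have hj' : ∀ {Y : Over (Spec (CommRingCat.of k))} (a : Y ⟶ D₀),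
      toBC fB (l Y ≫ a ≫ j') = push s a ≫ jB := fun {Y} a => by
    rw [← Category.assoc, hl, Category.assoc, IsIso.hom_inv_id_assoc, toBC_naturality, toBC_naturality, hx₀,
      ← Category.assoc, ← push_comp, Category.comp_id]
  haveI : IsMonHom j' := MTTorus.isMonHom_of_mul (A := D₀) j' fun {Y} a b => by
    rw [← cancel_epi (l Y), MonObj.comp_mul]
    refine MTBridge.toBC_inj fB ?_
    rw [toBC_mul, hj', hj', hj', push_mul, MonObj.mul_comp]
  obtain ⟨y, hy⟩ := Chev.Borel.exists_factor_maxTorus_of_commute i hT (Groth.Agent.Chev.CharQuot.isTorus_DS r) j' fun Y a b => by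
    rw [← cancel_epi (l Y), MonObj.comp_mul, MonObj.comp_mul]
    refine MTBridge.toBC_inj fB ?_
    rw [toBC_mul, toBC_mul, hj', ← Category.assoc (l Y) a i, toBC_comp, hcommB]
  let κt := U.fromSpecResidueField t
  let X := Red.bc κt (Red.DS U (Fin r → ℤ))
  obtain ⟨p, hp⟩ := exists_toBC' κt (𝟙 X)
  have hκ : (κt ≫ fB) ≫ s = κt := by
    show (κt ≫ fB) ≫ Spec.map (residueFieldIsoBase fB t ht).hom ≫ κt = κt
    rw [← SpecMap_residueFieldIsoBase_inv fB t ht, ← Category.assoc, ← Spec.map_comp, Iso.hom_inv_id, Spec.map_id,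
      Category.id_comp]
  let Z : Over (Spec (CommRingCat.of k)) := (Over.map fB).obj ((Over.map κt).obj X)
  let a : Z ⟶ D₀ := Over.homMk (pullback.lift (p.left ≫ pullback.fst _ _) Z.hom
    ((specULiftZIsTerminal.{u}).hom_ext _ _)) (pullback.lift_snd _ _ _)
  let c : (Over.map s).obj Z ≅ (Over.map κt).obj X := Over.isoMk (Iso.refl _) (by
    show 𝟙 _ ≫ X.hom ≫ κt = ((X.hom ≫ κt) ≫ fB) ≫ s
    rw [Category.id_comp, Category.assoc, Category.assoc]
    exact congrArg (X.hom ≫ ·) ((Category.assoc _ _ _).symm.trans hκ).symm)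
  have hpush : push s a = c.hom ≫ p := by
    apply Over.OverMorphism.ext
    apply pullback.hom_ext
    · rw [push_left_fst]
      show pullback.lift _ _ _ ≫ pullback.fst _ _ = (𝟙 _ ≫ p.left) ≫ _
      rw [pullback.lift_fst, Category.id_comp]
    · exact (Over.w (push s a)).trans ((Over.w (c.hom ≫ p)).symm)
  refine exists_nhd_factor (Iso.refl _) eT ((Over.pullback fB).map i) jB hcommB t
    (toBC κt (c.inv ≫ toBC fB (l Z ≫ a ≫ y))) ?_
  rw [← toBC_comp, Category.assoc, ← toBC_comp, Category.assoc, Category.assoc, hy, hj', hpush,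
    Category.assoc, c.inv_hom_id_assoc, toBC_comp, hp, Category.id_comp]

/-- Local containment near all closed points of a Jacobson base gives containment. -/
theorem exists_factor_jacobson {U : Scheme.{u}} [JacobsonSpace U] {T G D : Over U} (iB : T ⟶ G) [Mono iB]
    (jB : D ⟶ G)
    (hclosed : ∀ t : U, IsClosed {t} → ∃ W : U.Opens, t ∈ W ∧ ∀ (Y : Over U),
      Set.range Y.hom ⊆ (W : Set U) → ∀ p : Y ⟶ D, ∃ z : Y ⟶ T, z ≫ iB = p ≫ jB) :
    ∃ y : D ⟶ T, y ≫ iB = jB := by
  choose W htW hW using hclosed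
  refine factor_local iB jB fun p => ?_
  have hcov : ∀ x : U, ∃ (t : U) (ht : IsClosed {t}), x ∈ W t ht := by
    by_contra hne
    let Cl : Set U := ⋂ (t : U) (ht : IsClosed {t}), (W t ht : Set U)ᶜ
    have hCl : IsClosed Cl := isClosed_iInter fun t => isClosed_iInter fun ht => (W t ht).isOpen.isClosed_compl
    have hne' : Cl.Nonempty := by
      push_neg at hne
      obtain ⟨x, hx⟩ := hne
      exact ⟨x, Set.mem_iInter₂.2 fun t ht => hx t ht⟩
    obtain ⟨t, htC, ht⟩ := nonempty_inter_closedPoints hne' hCl.isLocallyClosed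
    exact Set.mem_iInter₂.1 htC t ht (htW t ht)
  obtain ⟨t, ht, hpW⟩ := hcov (D.hom p)
  obtain ⟨z, hz⟩ := hW t ht (Over.mk ((D.hom ⁻¹ᵁ W t ht).ι ≫ D.hom)) (by
    rintro _ ⟨x, rfl⟩
    exact x.2) (Over.homMk (D.hom ⁻¹ᵁ W t ht).ι rfl)
  exact ⟨D.hom ⁻¹ᵁ W t ht, hpW, z, hz⟩

/-- **A split torus over an extension commuting with the base change of a maximal torus is contained in it.** -/
theorem exists_factor_split_ext {k K : Type u} [Field k] [IsAlgClosed k] [Field K] [Algebra k K]
    {G T : Over (Spec (CommRingCat.of k))} [GrpObj G] [GrpObj T] [LocallyOfFiniteType G.hom] [QuasiCompact G.hom]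
    (i : T ⟶ G) (hT : AGF.IsMaxTorus i) {r : ℕ}
    (j : Red.DS (Spec (CommRingCat.of K)) (Fin r → ℤ) ⟶ Red.bc (Spec.map (CommRingCat.ofHom (algebraMap k K))) G)
    [IsMonHom j]
    (hcomm : ∀ (X : Over (Spec (CommRingCat.of K)))
      (t : X ⟶ Red.bc (Spec.map (CommRingCat.ofHom (algebraMap k K))) T)
      (x : X ⟶ Red.DS (Spec (CommRingCat.of K)) (Fin r → ℤ)),
      (t ≫ (Over.pullback (Spec.map (CommRingCat.ofHom (algebraMap k K)))).map i) * (x ≫ j) =
        (x ≫ j) * (t ≫ (Over.pullback (Spec.map (CommRingCat.ofHom (algebraMap k K)))).map i)) :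
    ∃ y : Red.DS (Spec (CommRingCat.of K)) (Fin r → ℤ) ⟶ Red.bc (Spec.map (CommRingCat.ofHom (algebraMap k K))) T,
      y ≫ (Over.pullback (Spec.map (CommRingCat.ofHom (algebraMap k K)))).map i = j := by
  haveI := hT.1
  haveI := hT.2.1
  obtain ⟨q, ⟨eT₀⟩⟩ := Groth.Agent.Chev.exists_split_algClosed hT.2.2.1
  haveI : LocallyOfFinitePresentation G.hom := inferInstance
  obtain ⟨B, hB, h, jB, hj⟩ := exists_stage k K (Fin r → ℤ) j
  haveI : Algebra.FiniteType k B := (Subalgebra.fg_iff_finiteType _).1 hB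
  haveI : IsJacobsonRing B := isJacobsonRing_of_finiteType (A := k)
  let g := Spec.map (CommRingCat.ofHom (algebraMap B K))
  let fB := Spec.map (CommRingCat.ofHom (algebraMap k B))
  haveI : IsSeparated G.hom := GrpField.isSeparated_hom G
  haveI : IsSeparated (Red.bc fB G).hom := inferInstanceAs (IsSeparated (pullback.snd G.hom fB))
  haveI : LocallyOfFiniteType fB :=
    (HasRingHomProperty.Spec_iff (P := @LocallyOfFiniteType)).2 (RingHom.finiteType_algebraMap.2 inferInstance)
  haveI : _root_.IsReduced (CommRingCat.of B : Type u) := inferInstanceAs (_root_.IsReduced B)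
  haveI : IsDominant g := by
    refine isDominant_of_of_appTop_injective ?_
    have hinj : Function.Injective (algebraMap B K) := Subtype.val_injective
    rw [show g.appTop = (Scheme.ΓSpecIso _).hom ≫ CommRingCat.ofHom (algebraMap B K) ≫ (Scheme.ΓSpecIso _).inv by
      rw [← Scheme.ΓSpecIso_naturality_assoc, Iso.hom_inv_id, Category.comp_id]]
    exact ((ConcreteCategory.bijective_of_isIso (Scheme.ΓSpecIso _).inv).1.comp hinj).comp
      (ConcreteCategory.bijective_of_isIso (Scheme.ΓSpecIso _).hom).1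
  haveI : PreservesLimitsOfShape WalkingCospan (Over.pullback fB) :=
    (Adjunction.rightAdjoint_preservesLimits (Over.mapPullbackAdj fB)).preservesLimitsOfShape
  have eT : Grp.mk (Red.bc fB T) ≅ Grp.mk (Red.DS (Spec (CommRingCat.of B)) (Fin q → ℤ)) :=
    bcMapIso fB eT₀ ≪≫ bcDS fB _
  haveI : Flat (Red.bc fB T).hom := flat_of_isMultTypeFT (Red.bc fB T) (isMultTypeFT_of_iso_DS eT)
  haveI : IsMonHom jB := isMonHom_stage h jB j hj
  have hcB := comm_stage h i jB j hj hcomm
  obtain ⟨y, hy⟩ := exists_factor_jacobson ((Over.pullback fB).map i) jB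
    (exists_nhd_closed fB i hT eT jB hcB)
  obtain ⟨z, hz⟩ := exists_tr h (toBC g (push g (𝟙 _)) ≫ (Over.pullback g).map y)
  refine ⟨z, tr_injective h ?_⟩
  rw [tr_comp, hz, Category.assoc, ← Functor.map_comp, hy]
  exact hj

/-- **A maximal torus over an algebraically closed field stays maximal over any algebraically closed extension.** -/
theorem isMaxTorus_ext {k K : Type u} [Field k] [IsAlgClosed k] [Field K] [IsAlgClosed K] [Algebra k K]
    {G T : Over (Spec (CommRingCat.of k))} [GrpObj G] [GrpObj T] [LocallyOfFiniteType G.hom] [QuasiCompact G.hom]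
    (i : T ⟶ G) (hT : AGF.IsMaxTorus i) :
    AGF.IsMaxTorus ((Over.pullback (Spec.map (CommRingCat.ofHom (algebraMap k K)))).map i) := by
  have him := hT.1
  have himono := hT.2.1
  have hTt := hT.2.2.1
  haveI := him; haveI := himono
  let ψ := Spec.map (CommRingCat.ofHom (algebraMap k K))
  haveI : PreservesLimitsOfShape WalkingCospan (Over.pullback ψ) :=
    (Adjunction.rightAdjoint_preservesLimits (Over.mapPullbackAdj ψ)).preservesLimitsOfShape
  refine ⟨inferInstance, inferInstance, Chev.Borel.isTorus_bc_scheme T ψ hTt, fun T' _ j _ _ f hT' hf => ?_⟩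
  haveI : IsMonHom f := MTSplit.isMonHom_of_comp_mono f j _ hf
  obtain ⟨r, ⟨e⟩⟩ := Groth.Agent.Chev.exists_split_algClosed hT'
  haveI : IsMonHom e.hom.hom.hom := e.hom.hom.isMonHom_hom
  haveI : IsMonHom e.inv.hom.hom := e.inv.hom.isMonHom_hom
  have he : e.hom.hom.hom ≫ e.inv.hom.hom = 𝟙 _ := ((Grp.forget _).mapIso e).hom_inv_id
  haveI : IsMonHom (e.inv.hom.hom ≫ j) := inferInstance
  obtain ⟨y, hy⟩ := exists_factor_split_ext i hT (e.inv.hom.hom ≫ j) fun X t x => by
    rw [← hf, ← Category.assoc, ← Category.assoc x, ← MonObj.mul_comp, ← MonObj.mul_comp]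
    congr 1
    exact mul_comm_of_iso_DS e _ _
  have hy' : y ≫ (Over.pullback ψ).map i = e.inv.hom.hom ≫ j := hy
  refine ⟨e.hom.hom.hom ≫ y, ?_, ?_⟩
  · rw [← cancel_mono ((Over.pullback ψ).map i), Category.assoc, Category.assoc, hy', reassoc_of% he]
    exact hf.trans (Category.id_comp _).symm
  · rw [← cancel_mono j, Category.assoc, Category.assoc, hf]
    exact (congrArg (e.hom.hom.hom ≫ ·) hy).trans ((reassoc_of% he) j |>.trans (Category.id_comp _).symm)

end Groth.Agent.Chev.MaxTorusExt
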