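import Groth.Agent.GrpAct.Stabilizer
import Groth.Agent.GrpAct.OrbitDim
import Groth.Agent.GrpField.RatClosure
import Groth.Agent.GrpComp.Identity
import Groth.Agent.Takeuchi.Quot
import Groth.Agent.Chev.LargestSA
import Groth.Agent.Chev.LargestNormal
import Groth.Agent.Chev.Complement
import Groth.Agent.PerfPush.H0
import Groth.Agent.AffHull.Basic
import Groth.Agent.SubGen.AlgClosed
import Groth.Agent.Chev.Trans
import Mathlib.GroupTheory.Solvable
import Mathlib.AlgebraicGeometry.Morphisms.FlatMono

/-!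
# Borel's fixed point theorem over an algebraically closed field

A smooth connected affine group with solvable group of rational points has a closed normal smooth
connected proper subgroup containing all commutators (the identity component of the closure of the
derived group); by induction it has fixed points, and a closed orbit among those is a proper
homogeneous space under an affine commutative group, hence a point.
-/

set_option autoImplicit false
set_option backward.isDefEq.respectTransparency false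

universe u

open CategoryTheory CategoryTheory.Limits MonoidalCategory CartesianMonoidalCategory MonObj GrpObj AlgebraicGeometry
open Groth.Agent.SubGen (rpt exists_rpt rpt_injective rpt_mem_closedPoints map_rpt apply_eq_rpt)

noncomputable section

namespace Groth.Agent.Chev.BorelFixed

variable {k : Type u} [Field k] [IsAlgClosed k]

/-- Morphisms into a separated scheme of finite type agree if they agree on rational points. -/
theorem hom_ext_rp {Z W : Over (Spec (CommRingCat.of k))} [IsReduced Z.left] [LocallyOfFiniteType Z.hom]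
    [IsSeparated W.hom] [LocallyOfFiniteType W.hom] {a b : Z ⟶ W} (h : ∀ z : RP Z, z ≫ a = z ≫ b) : a = b := by
  ext1
  haveI : LocallyOfFiniteType (a.left ≫ W.hom) := by rw [Over.w a]; infer_instance
  refine ext_of_apply_eq W.hom Set.univ isClosed_univ.isLocallyClosed dense_univ (fun w _ hw => ?_)
    ((Over.w a).trans (Over.w b).symm)
  obtain ⟨q, rfl⟩ := exists_rpt (mem_closedPoints_iff.2 hw)
  rw [map_rpt, map_rpt, h]

/-- A rational point in the image of a closed immersion lifts. -/
theorem exists_rp_lift {Y K : Over (Spec (CommRingCat.of k))} (i : K ⟶ Y) [IsClosedImmersion i.left]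
    (q : RP Y) (h : rpt q ∈ Set.range i.left) : ∃ q' : RP K, q' ≫ i = q := by
  haveI : IsReduced (𝟙_ (Over (Spec (CommRingCat.of k)))).left := inferInstanceAs (IsReduced (Spec (CommRingCat.of k)))
  refine exists_lift_range q i ?_
  rintro _ ⟨t, rfl⟩
  rw [apply_eq_rpt]
  exact h

/-- A morphism whose rational points land in a closed subscheme lands in it. -/
theorem exists_lift_rp {Z Y K : Over (Spec (CommRingCat.of k))} [IsReduced Z.left] [LocallyOfFiniteType Z.hom]
    (f : Z ⟶ Y) (i : K ⟶ Y) [IsClosedImmersion i.left] (h : ∀ z : RP Z, rpt (z ≫ f) ∈ Set.range i.left) :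
    ∃ g : Z ⟶ K, g ≫ i = f := by
  haveI : JacobsonSpace Z.left := LocallyOfFiniteType.jacobsonSpace Z.hom
  refine exists_lift_range f i ?_
  rintro _ ⟨w, rfl⟩
  have hsub : closedPoints Z.left ⊆ f.left ⁻¹' Set.range i.left := by
    intro v hv
    obtain ⟨q, rfl⟩ := exists_rpt hv
    rw [Set.mem_preimage, map_rpt]; exact h q
  exact closure_minimal hsub (i.left.isClosedEmbedding.isClosed_range.preimage f.left.continuous)
    (closure_closedPoints (X := Z.left) ▸ Set.mem_univ w)

/-- The morphism of groups of rational points. -/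
def rpHom {H G : Over (Spec (CommRingCat.of k))} [GrpObj H] [GrpObj G] (i : H ⟶ G) [IsMonHom i] : RP H →* RP G where
  toFun h := h ≫ i
  map_one' := MonObj.one_comp i
  map_mul' a b := MonObj.mul_comp a b i

/-- A smooth connected affine group with solvable rational points has a proper normal smooth connected
closed subgroup containing all commutators. -/
theorem exists_normal_commutator (G : Over (Spec (CommRingCat.of k))) [GrpObj G] [IsAffine G.left] [Smooth G.hom]
    [ConnectedSpace G.left] [Group.IsSolvable (RP G)] (hne : ∃ g : RP G, g ≠ 1) :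
    ∃ (N : Over (Spec (CommRingCat.of k))) (_ : GrpObj N) (i : N ⟶ G), IsMonHom i ∧ IsClosedImmersion i.left ∧
      Smooth N.hom ∧ ConnectedSpace N.left ∧ ¬ IsIso i ∧
      ∀ (T : Over (Spec (CommRingCat.of k))) (a b : T ⟶ G), ∃ n : T ⟶ N, n ≫ i = a * b * a⁻¹ * b⁻¹ := by
  haveI : JacobsonSpace G.left := LocallyOfFiniteType.jacobsonSpace G.hom
  haveI : IsReduced G.left := SmoothRed.isReduced_of_smooth_scheme G.hom
  let D : ℕ → Subgroup (RP G) := derivedSeries (RP G)
  have h0 : closure (rpt '' (D 0 : Set (RP G))) = Set.univ := by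
    refine Set.eq_univ_of_univ_subset ((closure_closedPoints (X := G.left)).symm.subset.trans (closure_mono ?_))
    intro w hw
    obtain ⟨q, rfl⟩ := exists_rpt hw
    exact ⟨q, trivial, rfl⟩
  have hD1 : closure (rpt '' (D 1 : Set (RP G))) ≠ Set.univ := by
    intro h1
    have hall : ∀ n, closure (rpt '' (D n : Set (RP G))) = Set.univ := by
      intro n
      induction n with
      | zero => exact h0
      | succ n ih =>
        obtain ⟨H, hH, iH, hiH, hic, -, hr⟩ := GrpField.RatClosure.exists_subgroup_closure (D (n + 1))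
        haveI := hiH
        haveI := hic
        replace hr : Set.range iH.left = closure (rpt '' (D (n + 1) : Set (RP G))) := hr
        have hC : IsClosed (Set.range iH.left) := iH.left.isClosedEmbedding.isClosed_range
        have hrD : rpt '' (D (n + 1) : Set (RP G)) ⊆ Set.range iH.left := hr.symm ▸ subset_closure
        have push : ∀ f : G ⟶ G, (∀ a ∈ D n, rpt (a ≫ f) ∈ Set.range iH.left) →
            ∀ a : RP G, rpt (a ≫ f) ∈ Set.range iH.left := by
          intro f hf a
          have : closure (rpt '' (D n : Set (RP G))) ⊆ f.left ⁻¹' Set.range iH.left := by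
            refine closure_minimal ?_ (hC.preimage f.left.continuous)
            rintro _ ⟨b, hb, rfl⟩
            rw [Set.mem_preimage, map_rpt]; exact hf b hb
          have h := this (ih ▸ Set.mem_univ (rpt a))
          rw [← map_rpt]; exact h
        have hcst : ∀ (a b : RP G), a ≫ (toUnit G ≫ b) = b := fun a b => by
          rw [← Category.assoc, toUnit_unique (a ≫ toUnit G) (𝟙 _), Category.id_comp]
        have e1 : ∀ a b : RP G, a ≫ (𝟙 G * (toUnit G ≫ b) * (𝟙 G)⁻¹ * (toUnit G ≫ b)⁻¹) = a * b * a⁻¹ * b⁻¹ :=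
          fun a b => by simp only [MonObj.comp_mul, GrpObj.comp_inv, Category.comp_id, hcst]
        have e2 : ∀ a b : RP G, b ≫ ((toUnit G ≫ a) * 𝟙 G * (toUnit G ≫ a)⁻¹ * (𝟙 G)⁻¹) = a * b * a⁻¹ * b⁻¹ :=
          fun a b => by simp only [MonObj.comp_mul, GrpObj.comp_inv, Category.comp_id, hcst]
        have hcomm : ∀ a b : RP G, rpt (a * b * a⁻¹ * b⁻¹) ∈ Set.range iH.left := by
          intro a b
          rw [← e2 a b]
          refine push _ (fun b' hb' => ?_) b
          rw [e2, ← e1]
          refine push _ (fun a' ha' => ?_) a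
          rw [e1]
          exact hrD ⟨_, Subgroup.commutator_mem_commutator ha' hb', rfl⟩
        have hle : D 1 ≤ (rpHom iH).range := by
          show derivedSeries (RP G) 1 ≤ _
          rw [derivedSeries_succ, derivedSeries_zero, Subgroup.commutator_le]
          intro a _ b _
          exact exists_rp_lift iH _ (hcomm a b)
        refine Set.eq_univ_of_univ_subset (h1.symm.subset.trans ?_)
        rw [← hr]
        refine closure_minimal ?_ hC
        rintro _ ⟨a, ha, rfl⟩
        obtain ⟨q, rfl⟩ := hle ha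
        exact ⟨rpt q, map_rpt _ _⟩
    obtain ⟨n, hn⟩ := Group.IsSolvable.solvable (G := RP G)
    have hu := hall n
    rw [show (D n : Set (RP G)) = {1} by show (derivedSeries (RP G) n : Set (RP G)) = _; rw [hn]; exact Subgroup.coe_bot,
      Set.image_singleton, (mem_closedPoints_iff.1 (rpt_mem_closedPoints (1 : RP G))).closure_eq] at hu
    obtain ⟨g, hg⟩ := hne
    exact hg (rpt_injective (Set.eq_of_mem_singleton (x := rpt g) (hu ▸ Set.mem_univ _)))
  obtain ⟨N₀, hN₀, i₀, hi₀, hi₀c, hi₀s, hr₀⟩ := GrpField.RatClosure.exists_subgroup_closure (D 1)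
  haveI := hi₀; haveI := hi₀c; haveI := hi₀s
  replace hr₀ : Set.range i₀.left = closure (rpt '' (D 1 : Set (RP G))) := hr₀
  haveI : Mono i₀ := GrpField.SchImg.mono_of_isClosedImmersion i₀
  obtain ⟨N, hN, j, hj, hjc, hjf, hjr, hgi, -, -⟩ := GrpComp.exists_identity_subgroup N₀
  haveI := hj; haveI := hjc; haveI := hjf
  haveI : LocallyOfFiniteType N₀.hom := inferInstance
  haveI : IsLocallyNoetherian N₀.left := LocallyOfFiniteType.isLocallyNoetherian N₀.hom
  haveI : IsOpenImmersion j.left := IsOpenImmersion.of_flat_of_mono j.left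
  haveI : Smooth N.hom := by rw [← Over.w j]; infer_instance
  haveI : Subsingleton (Spec (CommRingCat.of k)) := inferInstanceAs (Subsingleton (PrimeSpectrum k))
  haveI : IrreducibleSpace N.left := GeometricallyIrreducible.irreducibleSpace N.hom
    (fun _ _ => @isOpen_discrete _ _ (by infer_instance) _)
  refine ⟨N, hN, j ≫ i₀, inferInstance, inferInstanceAs (IsClosedImmersion (j.left ≫ i₀.left)), inferInstance,
    inferInstance, fun hiso => hD1 ?_, ?_⟩
  · haveI : IsIso (j ≫ i₀).left := inferInstanceAs (IsIso ((Over.forget _).map (j ≫ i₀)))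
    refine Set.eq_univ_of_univ_subset fun w _ => ?_
    obtain ⟨v, rfl⟩ := (j ≫ i₀).left.surjective w
    exact hr₀.subset ⟨j.left v, rfl⟩
  -- the commutator morphism
  haveI : Smooth (G ⊗ G).hom := inferInstanceAs (Smooth (pullback.fst G.hom G.hom ≫ G.hom))
  haveI : IsReduced (G ⊗ G).left := SmoothRed.isReduced_of_smooth_scheme (G ⊗ G).hom
  haveI : GeometricallyConnected G.hom := Rigid.geometricallyConnected_of_section G.hom η[G].left (Over.w η[G])
  haveI : GeometricallyIntegral G.hom := ClosedRep.GeomIntegral.geometricallyIntegral_of_smooth G.hom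
  haveI : IsIntegral G.left := AVDeg.isIntegral_av G
  haveI : IsIntegral (G ⊗ G).left := Rosenlicht.isIntegral_tensor G G
  let c : G ⊗ G ⟶ G := fst G G * snd G G * (fst G G)⁻¹ * (snd G G)⁻¹
  obtain ⟨c₀, hc₀⟩ := exists_lift_rp c i₀ (fun z => by
    rw [hr₀]
    refine subset_closure ⟨z ≫ c, ?_, rfl⟩
    simp only [c, MonObj.comp_mul, GrpObj.comp_inv]
    show _ ∈ derivedSeries (RP G) 1
    rw [derivedSeries_succ, derivedSeries_zero]
    exact Subgroup.commutator_mem_commutator (Subgroup.mem_top _) (Subgroup.mem_top _))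
  have he : GrpComp.ept N₀ ∈ Set.range c₀.left := by
    refine ⟨rpt (lift (1 : RP G) (1 : RP G)), ?_⟩
    have h1 : lift (1 : RP G) (1 : RP G) ≫ c₀ = 1 := by
      rw [← cancel_mono i₀, Category.assoc, hc₀, MonObj.one_comp]
      simp only [c, MonObj.comp_mul, GrpObj.comp_inv, lift_fst, lift_snd, inv_one, _root_.mul_one]
    rw [map_rpt, h1]
    show rpt (toUnit (𝟙_ (Over (Spec (CommRingCat.of k)))) ≫ η[N₀]) = _
    rw [toUnit_unique (toUnit (𝟙_ (Over (Spec (CommRingCat.of k))))) (𝟙 _), Category.id_comp]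
    rfl
  obtain ⟨c', hc'⟩ := GrpComp.exists_factor_flat j.left c₀.left (by
    rw [hjr]
    exact (isPreconnected_range c₀.left.continuous).subset_connectedComponent he)
  let c'' : G ⊗ G ⟶ N := Over.homMk c' (by rw [← Over.w j, ← Category.assoc, hc', Over.w])
  have hc'' : c'' ≫ j = c₀ := Over.OverMorphism.ext hc'
  intro T a b
  refine ⟨lift a b ≫ c'', ?_⟩
  rw [Category.assoc, reassoc_of% hc'', hc₀]
  simp only [c, MonObj.comp_mul, GrpObj.comp_inv, lift_fst, lift_snd]

/-- An action restricted along a homomorphism. -/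
def resAction {N G X : Over (Spec (CommRingCat.of k))} [GrpObj N] [GrpObj G] (i : N ⟶ G) [IsMonHom i]
    (a : AlgGrp.Action G X) : AlgGrp.Action N X where
  act := (i ▷ X) ≫ a.act
  one_act := by rw [← comp_whiskerRight_assoc, IsMonHom.one_hom, a.one_act]
  mul_act := by
    rw [← comp_whiskerRight_assoc, IsMonHom.mul_hom, comp_whiskerRight_assoc, a.mul_act]
    simp only [MonoidalCategory.tensorHom_def', comp_whiskerRight, Category.assoc, MonoidalCategory.whiskerLeft_comp]
    rw [associator_naturality_left_assoc, ← whisker_exchange_assoc, associator_naturality_middle_assoc]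

/-- The orbit map of a rational point at a rational point. -/
theorem rp_orbitMap {G X : Over (Spec (CommRingCat.of k))} [GrpObj G] (a : AlgGrp.Action G X) (x : RP X) (g : RP G) :
    g ≫ a.orbitMap x = lift g x ≫ a.act := by
  rw [GrpAct.comp_orbitMap, toUnit_unique (toUnit (𝟙_ (Over (Spec (CommRingCat.of k))))) (𝟙 _), Category.id_comp]

/-- **Borel's fixed point theorem**, by induction on the dimension. -/
theorem exists_fixed_aux (d : ℕ) : ∀ (G : Over (Spec (CommRingCat.of k))) [GrpObj G] [IsAffine G.left]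
    [Smooth G.hom] [ConnectedSpace G.left] [Group.IsSolvable (RP G)], topologicalKrullDim G.left ≤ d →
    ∀ (X : Over (Spec (CommRingCat.of k))) [IsProper X.hom] [Nonempty X.left] (a : AlgGrp.Action G X),
      ∃ x : RP X, a.orbitMap x = toUnit G ≫ x := by
  induction d using Nat.strong_induction_on with
  | _ d ih => ?_
  intro G _ _ _ _ _ hdim X _ _ a
  haveI : IsReduced G.left := SmoothRed.isReduced_of_smooth_scheme G.hom
  haveI : JacobsonSpace X.left := LocallyOfFiniteType.jacobsonSpace X.hom
  have hsimp : ∀ {Z : Over (Spec (CommRingCat.of k))} (g : RP G) (z : RP Z), g ≫ (toUnit G ≫ z) = z := fun g z => by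
    rw [← Category.assoc, toUnit_unique (g ≫ toUnit G) (𝟙 _), Category.id_comp]
  by_cases hne : ∃ g : RP G, g ≠ 1
  swap
  · push Not at hne
    obtain ⟨y, -, hy⟩ := nonempty_inter_closedPoints (Z := (Set.univ : Set X.left)) Set.univ_nonempty
      isOpen_univ.isLocallyClosed
    obtain ⟨q, -⟩ := exists_rpt hy
    exact ⟨q, hom_ext_rp fun g => by rw [rp_orbitMap, hne g, GrpAct.one_smul', hsimp]⟩
  obtain ⟨N, hN, i, hi, hic, hNs, hNc, hNiso, hcomm⟩ := exists_normal_commutator G hne
  haveI := hi; haveI := hic; haveI := hNs; haveI := hNc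
  haveI : IsAffine N.left := isAffine_of_isAffineHom i.left
  haveI : QuasiCompact N.hom := by rw [← Over.w i]; infer_instance
  haveI : IsReduced N.left := SmoothRed.isReduced_of_smooth_scheme N.hom
  haveI : Mono i := GrpField.SchImg.mono_of_isClosedImmersion i
  haveI : Group.IsSolvable (RP N) :=
    Group.isSolvable_of_isSolvable_injective (f := rpHom i) fun p q h => (cancel_mono i).1 h
  -- induction gives points fixed by `N`
  obtain ⟨m, hm⟩ := exists_natDim' N
  have hmd : m < d := by
    by_contra hle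
    refine hNiso (isIso_of_dim_eq i (le_antisymm (dim_le_of_closedImmersion i) (hdim.trans ?_)))
    rw [hm]
    exact_mod_cast not_lt.1 hle
  obtain ⟨x₁, hx₁⟩ := ih m hmd N hm.le X (resAction i a)
  let P : Type u := {z : RP X // ∀ n : RP N, lift (n ≫ i) z ≫ a.act = z}
  haveI : Nonempty P := ⟨⟨x₁, fun n => by
    have e := congrArg (n ≫ ·) hx₁
    simp only [rp_orbitMap] at e
    rw [← Category.assoc, toUnit_unique (n ≫ toUnit N) (𝟙 _), Category.id_comp] at e
    simpa [resAction, lift_whiskerRight_assoc] using e⟩⟩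
  have hnormal : ∀ (n : RP N) (g : RP G), ∃ n' : RP N, n' ≫ i = g⁻¹ * (n ≫ i) * g := fun n g => by
    obtain ⟨c, hc⟩ := hcomm _ g⁻¹ (n ≫ i)
    exact ⟨c * n, by rw [MonObj.mul_comp, hc, _root_.inv_inv, inv_mul_cancel_right]⟩
  let d' : P → WithBot ℕ∞ := fun z => topologicalKrullDim ↥(GrpAct.orbit a z.1)
  let x := (Function.argmin d').1
  have hxN : ∀ n : RP N, lift (n ≫ i) x ≫ a.act = x := (Function.argmin d').2
  have hmin : ∀ z : P, topologicalKrullDim ↥(GrpAct.orbit a x) ≤ topologicalKrullDim ↥(GrpAct.orbit a z.1) :=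
    fun z => not_lt.1 (Function.not_lt_argmin d' z)
  haveI : QuasiSeparatedSpace X.left := quasiSeparatedSpace_of_quasiSeparated X.hom
  -- the orbit is closed
  have hclosed : IsClosed (GrpAct.orbit a x) := by
    by_contra hncl
    obtain ⟨y₀, hy₀⟩ : (closure (GrpAct.orbit a x) \ GrpAct.orbit a x).Nonempty := by
      rw [Set.sdiff_nonempty]
      exact fun h => hncl (isClosed_of_closure_subset h)
    have hlc : IsLocallyClosed (closure (GrpAct.orbit a x) \ GrpAct.orbit a x) := by
      obtain ⟨U, C, hU, hC, e⟩ := GrpAct.isLocallyClosed_orbit' a x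
      have : closure (GrpAct.orbit a x) \ GrpAct.orbit a x = closure (GrpAct.orbit a x) ∩ Uᶜ := by
        ext y
        refine ⟨fun hy => ⟨hy.1, fun hyU => hy.2 (e ▸ ⟨hyU, ?_⟩)⟩,
          fun hy => ⟨hy.1, fun hyO => hy.2 ((e ▸ hyO : y ∈ U ∩ C).1)⟩⟩
        exact closure_minimal (e ▸ Set.inter_subset_right) hC hy.1
      rw [this]
      exact (isClosed_closure.inter hU.isClosed_compl).isLocallyClosed
    obtain ⟨y, hy, hyc⟩ := nonempty_inter_closedPoints ⟨y₀, hy₀⟩ hlc
    obtain ⟨z, rfl⟩ := exists_rpt hyc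
    have hzN : ∀ n : RP N, lift (n ≫ i) z ≫ a.act = z := by
      intro n
      let f : X ⟶ X := lift (toUnit X ≫ n ≫ i) (𝟙 X) ≫ a.act
      have hf : ∀ w : RP X, w ≫ f = lift (n ≫ i) w ≫ a.act := fun w => by
        rw [GrpAct.comp_smul, Category.comp_id, ← Category.assoc w (toUnit X),
          toUnit_unique (w ≫ toUnit X) (𝟙 _), Category.id_comp]
      have hfo : a.orbitMap x ≫ f = a.orbitMap x ≫ 𝟙 X := hom_ext_rp fun g => by
        obtain ⟨n', hn'⟩ := hnormal n g
        rw [← Category.assoc, hf, Category.comp_id, rp_orbitMap, ← GrpAct.mul_smul,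
          show (n ≫ i) * g = g * (g⁻¹ * (n ≫ i) * g) by simp only [_root_.mul_assoc, mul_inv_cancel_left],
          ← hn', GrpAct.mul_smul, hxN]
      have hsub : GrpAct.orbit a x ⊆ Set.range (equalizer.ι f (𝟙 X)).left := by
        rintro _ ⟨g, rfl⟩
        refine ⟨(equalizer.lift (a.orbitMap x) hfo).left g, ?_⟩
        rw [← Scheme.Hom.comp_apply, ← Over.comp_left, equalizer.lift_ι]
      obtain ⟨w, hw⟩ := exists_rp_lift (equalizer.ι f (𝟙 X)) z
        (closure_minimal hsub (equalizer.ι f (𝟙 X)).left.isClosedEmbedding.isClosed_range hy.1)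
      rw [← hf, ← hw, Category.assoc, equalizer.condition, Category.comp_id]
    have h2 := GrpAct.orbit_subset_boundary a x z (IsLocalRing.closedPoint k) hy
    have h1 : topologicalKrullDim (GrpAct.orbit a z) ≤
        topologicalKrullDim ↥(closure (GrpAct.orbit a x) \ GrpAct.orbit a x) :=
      Topology.IsInducing.topologicalKrullDim_le (f := Set.inclusion h2)
        (Topology.IsEmbedding.inclusion h2).isInducing
    exact (GrpAct.topologicalKrullDim_boundary_lt a x).not_ge ((hmin ⟨z, hzN⟩).trans h1)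
  -- the stabiliser
  haveI : IsClosedImmersion x.left :=
    isClosedImmersion_of_comp_eq_id (Y := Spec (CommRingCat.of k)) X.hom x.left (Over.w x)
  let H : Over (Spec (CommRingCat.of k)) := Over.mk (pullback.fst (a.orbitMap x).left x.left ≫ G.hom)
  let iH : H ⟶ G := Over.homMk (pullback.fst (a.orbitMap x).left x.left) rfl
  haveI : IsClosedImmersion iH.left := inferInstanceAs (IsClosedImmersion (pullback.fst (a.orbitMap x).left x.left))
  haveI : Mono iH := GrpField.SchImg.mono_of_isClosedImmersion iH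
  have hsnd : pullback.snd (a.orbitMap x).left x.left = (toUnit H).left := by
    rw [Over.toUnit_left]
    show _ = pullback.fst _ _ ≫ G.hom
    rw [← Over.w (a.orbitMap x), pullback.condition_assoc]
    exact ((congrArg (pullback.snd (a.orbitMap x).left x.left ≫ ·) (Over.w x)).trans (Category.comp_id _)).symm
  have hHw : iH ≫ a.orbitMap x = toUnit H ≫ x :=
    Over.OverMorphism.ext (pullback.condition.trans (by rw [hsnd]; rfl))
  have hmem : ∀ (T : Over (Spec (CommRingCat.of k))) (g : T ⟶ G),
      (∃ t : T ⟶ H, t ≫ iH = g) ↔ g ≫ a.orbitMap x = toUnit T ≫ x := by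
    intro T g
    refine ⟨?_, fun h => ?_⟩
    · rintro ⟨t, rfl⟩
      rw [Category.assoc, hHw, ← Category.assoc, toUnit_unique (t ≫ toUnit H) (toUnit T)]
    · have hl : g.left ≫ (a.orbitMap x).left = (toUnit T).left ≫ x.left := congrArg CommaMorphism.left h
      exact ⟨Over.homMk (pullback.lift _ _ hl) ((pullback.lift_fst_assoc _ _ _ _).trans (Over.w g)),
        Over.OverMorphism.ext (pullback.lift_fst _ _ _)⟩
  have hfix : ∀ (T : Over (Spec (CommRingCat.of k))) (g : T ⟶ G), g ≫ a.orbitMap x = toUnit T ≫ x ↔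
      lift g (toUnit T ≫ x) ≫ a.act = toUnit T ≫ x := fun T g => by rw [GrpAct.comp_orbitMap]
  have hmulfix : ∀ (T : Over (Spec (CommRingCat.of k))) (g h : T ⟶ G), g ≫ a.orbitMap x = toUnit T ≫ x →
      h ≫ a.orbitMap x = toUnit T ≫ x → (g * h) ≫ a.orbitMap x = toUnit T ≫ x := fun T g h hg hh => by
    rw [hfix, GrpAct.mul_smul, (hfix T h).1 hh, (hfix T g).1 hg]
  have hinvfix : ∀ (T : Over (Spec (CommRingCat.of k))) (g : T ⟶ G), g ≫ a.orbitMap x = toUnit T ≫ x →
      g⁻¹ ≫ a.orbitMap x = toUnit T ≫ x := fun T g hg => by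
    rw [hfix]
    conv_lhs => rw [← (hfix T g).1 hg]
    rw [← GrpAct.mul_smul, inv_mul_cancel, GrpAct.one_smul']
  obtain ⟨hHg, hHm⟩ := GrpField.SchImg.exists_grpObj_of_div iH ((hmem _ _).2 (by
      rw [hfix, show (η[G] : 𝟙_ _ ⟶ G) = 1 by
        rw [Hom.one_def, toUnit_unique (toUnit (𝟙_ (Over (Spec (CommRingCat.of k))))) (𝟙 _), Category.id_comp],
        GrpAct.one_smul'])) fun T h₁ h₂ => (hmem T _).2
    (hmulfix T _ _ (hinvfix T _ ((hmem T _).1 ⟨h₁, rfl⟩)) ((hmem T _).1 ⟨h₂, rfl⟩))
  haveI := hHm
  have hiN : i ≫ a.orbitMap x = toUnit N ≫ x := hom_ext_rp fun n => by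
    rw [← Category.assoc, rp_orbitMap, hxN, ← Category.assoc, toUnit_unique (n ≫ toUnit N) (𝟙 _), Category.id_comp]
  have hNT : ∀ (T : Over (Spec (CommRingCat.of k))) (n : T ⟶ N), (n ≫ i) ≫ a.orbitMap x = toUnit T ≫ x :=
    fun T n => by rw [Category.assoc, hiN, ← Category.assoc, toUnit_unique (n ≫ toUnit N) (toUnit T)]
  have hHn : AlgGrp.IsNormalHom iH := fun T g h => by
    obtain ⟨n, hn⟩ := hcomm T g (h ≫ iH)
    obtain ⟨h', hh'⟩ := (hmem T ((n ≫ i) * (h ≫ iH))).2 (hmulfix T _ _ (hNT T n) ((hmem T _).1 ⟨h, rfl⟩))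
    exact ⟨h', by rw [hh', hn, inv_mul_cancel_right]⟩
  obtain ⟨Q, hQ, q, hq, hQa, -, -, -, hker⟩ := Takeuchi.exists_affine_quotient G H iH hHn
  haveI := hq; haveI := hQa
  -- the closed orbit
  obtain ⟨O', j, hj, hred, hjr⟩ := GrpAct.exists_reduced_subscheme hclosed.isLocallyClosed
  haveI : IsClosedImmersion j := IsClosedImmersion.of_isPreimmersion j (hjr ▸ hclosed)
  let O : Over (Spec (CommRingCat.of k)) := Over.mk (j ≫ X.hom)
  let io : O ⟶ X := Over.homMk j
  haveI : IsImmersion io.left := hj
  haveI : IsReduced O.left := hred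
  obtain ⟨φ, hφ, hφf, hφs, hφp, -⟩ := GrpAct.exists_flat_orbitMap a x io hjr
  haveI := hφf; haveI := hφs; haveI := hφp
  obtain ⟨ψ, hψ⟩ := AVQuot.exists_desc φ q fun {V} b c e => by
    have e' : b ≫ a.orbitMap x = c ≫ a.orbitMap x := by
      rw [← hφ, ← Category.assoc, e, Category.assoc]
    rw [GrpAct.comp_orbitMap, GrpAct.comp_orbitMap] at e'
    obtain ⟨t, ht⟩ := (hmem V (b⁻¹ * c)).2 (by
      rw [hfix, GrpAct.mul_smul, ← e', ← GrpAct.mul_smul, inv_mul_cancel, GrpAct.one_smul'])
    have h1 : (b⁻¹ * c) ≫ q = 1 := by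
      rw [← ht, Category.assoc, hker.w, Hom.one_def, ← Category.assoc, toUnit_unique (t ≫ toUnit H) (toUnit V)]
    rw [MonObj.mul_comp, GrpObj.inv_comp, inv_mul_eq_one] at h1
    exact h1
  haveI : IsProper O.hom := inferInstanceAs (IsProper (j ≫ X.hom))
  haveI : ConnectedSpace O.left := φ.left.surjective.connectedSpace φ.left.continuous
  have hbij : Function.Bijective ((Scheme.ΓSpecIso (CommRingCat.of k)).inv ≫ O.hom.appTop).hom :=
    (PerfPush.bijective_appTop_of_algClosed O.hom).comp (ConcreteCategory.bijective_of_isIso (Scheme.ΓSpecIso (CommRingCat.of k)).inv)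
  have hq1 : q = 1 := by
    have e := AffHull.eq_const_of_affine hbij ((1 : RP G) ≫ φ) ψ
    rw [Category.assoc, hψ, MonObj.one_comp, MonObj.comp_one] at e
    rw [← hψ, e, MonObj.comp_one]
  let s := hker.lift (𝟙 G) (toUnit G) (by rw [Category.id_comp, hq1, Hom.one_def])
  exact ⟨x, ((Category.id_comp _).symm.trans ((hmem G (𝟙 G)).1 ⟨s, hker.lift_fst _ _ _⟩))⟩

/-- **Borel's fixed point theorem.** -/
theorem exists_fixed (G X : Over (Spec (CommRingCat.of k))) [GrpObj G] [IsAffine G.left]
    [Smooth G.hom] [ConnectedSpace G.left] [Group.IsSolvable (RP G)] [IsProper X.hom] [Nonempty X.left]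
    (a : AlgGrp.Action G X) : ∃ x : RP X, a.IsFixedPt x := by
  obtain ⟨d, hd⟩ := exists_natDim' G
  obtain ⟨x, hx⟩ := exists_fixed_aux d G hd.le X a
  refine ⟨x, fun T g => ?_⟩
  rw [← GrpAct.comp_orbitMap, hx, ← Category.assoc, toUnit_unique (g ≫ toUnit G) (toUnit T)]

end Groth.Agent.Chev.BorelFixed
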