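import Groth.Agent.PtsDense.Basic
import Groth.Agent.S18366

/-!
# Points of geometrically reduced schemes in separably closed fields are schematically dense
-/

set_option autoImplicit false

universe u

open CategoryTheory CategoryTheory.Limits AlgebraicGeometry

namespace Groth.Agent.Chev

/-- Rational points are dense on a geometrically reduced scheme over a separably closed field. -/
theorem dense_rational_of_geometricallyReduced (K : Type u) [Field K] [IsSepClosed K] {X : Scheme.{u}}
    (f : X ⟶ Spec (CommRingCat.of K)) [LocallyOfFiniteType f] [GeometricallyReduced f] :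
    Dense {x : X | ∃ s : Spec (CommRingCat.of K) ⟶ X, s ≫ f = 𝟙 _ ∧
      s (IsLocalRing.closedPoint K) = x} := by
  rw [dense_iff_inter_open]
  rintro U hU ⟨x, hx⟩
  obtain ⟨V, hV, hxV, hVU⟩ := exists_isAffineOpen_mem_and_subset (x := x) (U := ⟨U, hU⟩) hx
  haveI : IsAffine (V : Scheme.{u}) := hV
  haveI : Nonempty (V : Scheme.{u}) := ⟨(⟨x, hxV⟩ : V)⟩
  haveI : IsAffineHom (V.ι ≫ f) := isAffineHom_of_isAffine _
  haveI : QuasiCompact (V.ι ≫ f) := inferInstance
  haveI : GeometricallyReduced (V.ι ≫ f) := by
    refine ⟨geometrically_iff_of_isClosedUnderIsomorphisms.2 fun L _ y => ?_⟩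
    haveI : IsReduced (pullback f y) := pullback_of_geometrically GeometricallyReduced.geometrically_isReduced L y
    exact isReduced_of_isOpenImmersion (pullback.map (V.ι ≫ f) y f y V.ι (𝟙 _) (𝟙 _) (by simp) (by simp))
  obtain ⟨s, hs⟩ := S18366.result K (V.ι ≫ f)
  exact ⟨(s ≫ V.ι) (IsLocalRing.closedPoint K), hVU (s (IsLocalRing.closedPoint K)).2,
    s ≫ V.ι, by rw [Category.assoc, hs], rfl⟩

/-- A closed subscheme containing a dense set of points of a geometrically reduced scheme is everything. -/
theorem isIso_of_dense_points_factor (k K : Type u) [Field k] [Field K] [Algebra k K]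
    {X P : Scheme.{u}} (f : X ⟶ Spec (CommRingCat.of k)) [GeometricallyReduced f] (j : P ⟶ X) [IsClosedImmersion j]
    (hd : Dense {z : ↥(pullback f (Spec.map (CommRingCat.ofHom (algebraMap k K)))) |
      ∃ s : Spec (CommRingCat.of K) ⟶ pullback f (Spec.map (CommRingCat.ofHom (algebraMap k K))),
        s ≫ pullback.snd _ _ = 𝟙 _ ∧ s (IsLocalRing.closedPoint K) = z})
    (h : ∀ x : Spec (CommRingCat.of K) ⟶ X, x ≫ f = Spec.map (CommRingCat.ofHom (algebraMap k K)) →
      ∃ y, y ≫ j = x) : IsIso j := by
  let φ := Spec.map (CommRingCat.ofHom (algebraMap k K))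
  haveI : Flat φ := (HasRingHomProperty.Spec_iff (P := @Flat)).mpr
    (RingHom.flat_algebraMap_iff.mpr (inferInstance : Module.Flat k K))
  haveI : Surjective φ := ⟨fun y => ⟨IsLocalRing.closedPoint K,
    @Subsingleton.elim _ (inferInstanceAs (Subsingleton (PrimeSpectrum k))) _ _⟩⟩
  let pr := pullback.fst f φ
  haveI : IsReduced (pullback f φ) := pullback_of_geometrically GeometricallyReduced.geometrically_isReduced K φ
  let j' := pullback.snd j pr
  haveI : IsClosedImmersion j' := inferInstance
  haveI : Surjective j' := by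
    refine ⟨Set.range_eq_univ.mp (Set.eq_univ_of_univ_subset ?_)⟩
    rw [← hd.closure_eq]
    refine closure_minimal ?_ (Scheme.Hom.isClosedEmbedding j').isClosed_range
    rintro _ ⟨s, hs, rfl⟩
    obtain ⟨y, hy⟩ := h (s ≫ pr) (by
      rw [Category.assoc, pullback.condition, ← Category.assoc, hs, Category.id_comp])
    exact ⟨(pullback.lift y s hy : Spec (CommRingCat.of K) ⟶ pullback j pr) (IsLocalRing.closedPoint K), by
      show (pullback.lift y s hy ≫ pullback.snd j pr) (IsLocalRing.closedPoint K) = s (IsLocalRing.closedPoint K)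
      rw [pullback.lift_snd]⟩
  haveI : IsIso j' := isIso_of_isClosedImmersion_of_surjective (Y := pullback f φ) j'
  exact MorphismProperty.of_pullback_snd_of_descendsAlong (P := MorphismProperty.isomorphisms Scheme)
    (Q := @Surjective ⊓ @Flat ⊓ @QuasiCompact) (f := j) (g := pr)
    ⟨⟨inferInstance, inferInstance⟩, inferInstance⟩ (inferInstanceAs (IsIso j'))

/-- Two closed subschemes with the same separably closed points are the same. -/
theorem exists_iso_of_points_eq (k K : Type u) [Field k] [Field K] [Algebra k K] [IsSepClosed K]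
    {X Z Z' : Over (Spec (CommRingCat.of k))} [LocallyOfFiniteType X.hom]
    (c : Z ⟶ X) [IsClosedImmersion c.left] [GeometricallyReduced Z.hom]
    (c' : Z' ⟶ X) [IsClosedImmersion c'.left] [GeometricallyReduced Z'.hom]
    (h : ∀ x : Over.mk (Spec.map (CommRingCat.ofHom (algebraMap k K))) ⟶ X,
      (∃ z : Over.mk (Spec.map (CommRingCat.ofHom (algebraMap k K))) ⟶ Z, z ≫ c = x) ↔
        (∃ z : Over.mk (Spec.map (CommRingCat.ofHom (algebraMap k K))) ⟶ Z', z ≫ c' = x)) :
    ∃ e : Z ≅ Z', e.hom ≫ c' = c := by
  have key : ∀ {A B : Over (Spec (CommRingCat.of k))} (a : A ⟶ X) [IsClosedImmersion a.left]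
      [GeometricallyReduced A.hom] (b : B ⟶ X) [IsClosedImmersion b.left],
      (∀ z : Over.mk (Spec.map (CommRingCat.ofHom (algebraMap k K))) ⟶ A, ∃ w, w ≫ b = z ≫ a) →
      ∃ g : A ⟶ B, g ≫ b = a := by
    intro A B a _ _ b _ hab
    haveI : LocallyOfFiniteType A.hom := by rw [← Over.w a]; infer_instance
    haveI : IsIso (pullback.fst a.left b.left) := by
      haveI : LocallyOfFiniteType (pullback.snd A.hom (Spec.map (CommRingCat.ofHom (algebraMap k K)))) :=
        inferInstance
      refine isIso_of_dense_points_factor k K A.hom _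
        (dense_rational_of_geometricallyReduced K (pullback.snd A.hom _)) fun x hx => ?_
      obtain ⟨w, hw⟩ := hab (Over.homMk x hx)
      exact ⟨pullback.lift x w.left (congrArg CommaMorphism.left hw).symm, pullback.lift_fst _ _ _⟩
    let g := inv (pullback.fst a.left b.left) ≫ pullback.snd a.left b.left
    have hg : g ≫ b.left = a.left := by rw [Category.assoc, ← pullback.condition, IsIso.inv_hom_id_assoc]
    exact ⟨Over.homMk g (by rw [← Over.w b, ← Category.assoc, hg, Over.w a]), Over.OverMorphism.ext hg⟩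
  obtain ⟨g, hg⟩ := key c c' fun z => (h _).1 ⟨z, rfl⟩
  obtain ⟨g', hg'⟩ := key c' c fun z => (h _).2 ⟨z, rfl⟩
  haveI : Mono c := Over.mono_of_mono_left c
  haveI : Mono c' := Over.mono_of_mono_left c'
  exact ⟨⟨g, g', by rw [← cancel_mono c, Category.assoc, hg', hg, Category.id_comp],
    by rw [← cancel_mono c', Category.assoc, hg, hg', Category.id_comp]⟩, hg⟩

end Groth.Agent.Chev
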