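import Groth.Agent.Chev.BorelPre
import Groth.Agent.Chev.Component
import Groth.Agent.Chev.Main
import Groth.Agent.Chev.CentCover
import Groth.Agent.GrpField.RatClosure

/-!
# Borel subgroups and surjections with central kernel
-/

set_option autoImplicit false
set_option backward.isDefEq.respectTransparency false
set_option maxHeartbeats 1000000

universe u

open CategoryTheory CategoryTheory.Limits MonoidalCategory CartesianMonoidalCategory MonObj GrpObj AlgebraicGeometry
open Groth.Agent.SubGen (rpt exists_rpt map_rpt)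

noncomputable section

namespace Groth.Agent.Chev.Borel

open BorelFixed

section Base

variable {S : Scheme.{u}} {G G' : Over S} [GrpObj G] [GrpObj G']

/-- A subgroup containing the kernel is the preimage of its image, for points in any scheme. -/
theorem mem_of_map_mem_ker (u : G ⟶ G') [IsMonHom u] {H R' : Over S} [GrpObj H] (i : H ⟶ G) [IsMonHom i] [Mono i]
    (hkerle : ∀ (P : Over S) (z : P ⟶ G), z ≫ u = 1 → ∃ h : P ⟶ H, h ≫ i = z)
    (iR : R' ⟶ G') (p : H ⟶ R') [Flat p.left] [Surjective p.left] [LocallyOfFinitePresentation p.left]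
    (hp : p ≫ iR = i ≫ u) {X : Over S} (y : X ⟶ G) (r : X ⟶ R') (hr : r ≫ iR = y ≫ u) :
    ∃ h : X ⟶ H, h ≫ i = y := by
  let P : Over S := Over.mk (pullback.fst r.left p.left ≫ X.hom)
  let a : P ⟶ X := Over.homMk (pullback.fst r.left p.left)
  let b : P ⟶ H := Over.homMk (pullback.snd r.left p.left) (by
    show _ = pullback.fst r.left p.left ≫ X.hom
    rw [← Over.w r, pullback.condition_assoc, Over.w p])
  have hab : b ≫ p = a ≫ r := Over.OverMorphism.ext pullback.condition.symm
  haveI : Flat a.left := MorphismProperty.pullback_fst _ _ ‹Flat p.left›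
  haveI : Surjective a.left := MorphismProperty.pullback_fst _ _ ‹Surjective p.left›
  haveI : LocallyOfFinitePresentation a.left := MorphismProperty.pullback_fst _ _ ‹LocallyOfFinitePresentation p.left›
  obtain ⟨z, hz⟩ := hkerle P ((b ≫ i)⁻¹ * (a ≫ y)) (by
    rw [MonObj.mul_comp, GrpObj.inv_comp, Category.assoc, ← hp, ← Category.assoc b, hab, Category.assoc,
      Category.assoc, hr, inv_mul_cancel])
  let h' : P ⟶ H := b * z
  have hh' : h' ≫ i = a ≫ y := by
    rw [MonObj.mul_comp, hz, mul_inv_cancel_left]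
  obtain ⟨h, hh⟩ := AVQuot.exists_desc a h' fun {V} u v huv => (cancel_mono i).1 (by
    rw [Category.assoc, Category.assoc, hh', ← Category.assoc, huv, Category.assoc])
  haveI := AVQuot.epi_of_covering a
  exact ⟨h, (cancel_epi a).1 (by rw [← Category.assoc, hh, hh'])⟩

/-- The image of a subgroup containing the kernel determines it. -/
theorem exists_iso_of_covers {H A B : Over S} (a : A ⟶ G) (b : B ⟶ G) [Mono a] [Mono b] (p : H ⟶ A) (q : H ⟶ B)
    [Flat p.left] [Surjective p.left] [LocallyOfFinitePresentation p.left]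
    [Flat q.left] [Surjective q.left] [LocallyOfFinitePresentation q.left] (h : p ≫ a = q ≫ b) :
    ∃ e : A ≅ B, e.hom ≫ b = a := by
  obtain ⟨f, hf⟩ := AVQuot.exists_desc p q fun {V} u v huv => (cancel_mono b).1 (by
    rw [Category.assoc, Category.assoc, ← h, ← Category.assoc, huv, Category.assoc])
  obtain ⟨g, hg⟩ := AVQuot.exists_desc q p fun {V} u v huv => (cancel_mono a).1 (by
    rw [Category.assoc, Category.assoc, h, ← Category.assoc, huv, Category.assoc])
  haveI := AVQuot.epi_of_covering p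
  haveI := AVQuot.epi_of_covering q
  refine ⟨⟨f, g, (cancel_epi p).1 (by rw [← Category.assoc, hf, hg, Category.comp_id]),
    (cancel_epi q).1 (by rw [← Category.assoc, hg, hf, Category.comp_id])⟩, ?_⟩
  exact (cancel_epi p).1 (by rw [← Category.assoc, hf, h])

end Base

variable {k : Type u} [Field k] [IsAlgClosed k]

/-- Central points of a connected group lie in every Borel subgroup. -/
theorem central_factor_borel {G B : Over (Spec (CommRingCat.of k))} [GrpObj G] [GrpObj B] [Smooth G.hom]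
    [QuasiCompact G.hom] [ConnectedSpace G.left] (b : B ⟶ G) (hB : Red.IsBorelOver k b)
    {X : Over (Spec (CommRingCat.of k))} (z : X ⟶ G)
    (hz : ∀ (X' : Over (Spec (CommRingCat.of k))) (x : X' ⟶ X) (g : X' ⟶ G), (x ≫ z) * g = g * (x ≫ z)) :
    ∃ w : X ⟶ B, w ≫ b = z :=
  exists_factor_of_normalizes_borel b hB z fun X' x h =>
    ⟨⟨h, by rw [hz, mul_inv_cancel_right]⟩, ⟨h, by rw [_root_.mul_assoc, ← hz, inv_mul_cancel_left]⟩⟩

/-- The image of a Borel subgroup under a surjection with central kernel is a Borel subgroup. -/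
theorem exists_borel_image_central {G G' B : Over (Spec (CommRingCat.of k))} [GrpObj G] [GrpObj G'] [GrpObj B]
    [Smooth G.hom] [QuasiCompact G.hom] [ConnectedSpace G.left] [Smooth G'.hom] [QuasiCompact G'.hom]
    (u : G ⟶ G') [IsMonHom u] [Surjective u.left]
    (hker : ∀ (X : Over (Spec (CommRingCat.of k))) (z : X ⟶ G), z ≫ u = 1 →
      ∀ (X' : Over (Spec (CommRingCat.of k))) (x : X' ⟶ X) (g : X' ⟶ G), (x ≫ z) * g = g * (x ≫ z))
    (b : B ⟶ G) (hB : Red.IsBorelOver k b) :
    ∃ (R : Over (Spec (CommRingCat.of k))) (_ : GrpObj R) (iR : R ⟶ G') (p : B ⟶ R),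
      Red.IsBorelOver k iR ∧ IsMonHom p ∧ Flat p.left ∧ Surjective p.left ∧ LocallyOfFinitePresentation p.left ∧
        p ≫ iR = b ≫ u := by
  obtain ⟨hbm, hbc, hbs, hbconn, hbsol, hbmax⟩ := id hB
  haveI := hbm; haveI := hbc; haveI := hbs; haveI := hbconn
  haveI := isSolvable_rp hbsol
  haveI : Mono b := GrpField.SchImg.mono_of_isClosedImmersion b
  haveI : QuasiCompact B.hom := by rw [← Over.w b]; infer_instance
  obtain ⟨R, hRg, iR, p, hiR, hp, hiRc, hRs, hRq, hps, hpe⟩ := exists_smooth_image' (b ≫ u)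
  haveI := hiR; haveI := hp; haveI := hiRc; haveI := hRs; haveI := hRq; haveI := hps
  obtain ⟨hpf, hpl⟩ := covering_of_surjective p
  haveI : ConnectedSpace R.left := p.left.surjective.connectedSpace p.left.continuous
  haveI : Mono iR := GrpField.SchImg.mono_of_isClosedImmersion iR
  haveI : Group.IsSolvable (RP R) :=
    Group.isSolvable_of_surjective (f := rpHom p) fun y => exists_rp_preimage p y
  refine ⟨R, hRg, iR, p, ⟨hiR, hiRc, hRs, inferInstance, isSolvableGrp_of_rp R, ?_⟩, hp, hpf, hps, hpl, hpe⟩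
  intro R'' _ i'' _ f hi'' hs'' hconn'' hsol'' hf
  haveI := hi''; haveI := hs''; haveI := hconn''
  haveI := isSolvable_rp hsol''
  haveI : Mono i'' := GrpField.SchImg.mono_of_isClosedImmersion i''
  haveI : QuasiCompact R''.hom := by rw [← Over.w i'']; infer_instance
  -- the preimage
  let Sg : Subgroup (RP G) := (rpHom i'').range.comap (rpHom u)
  obtain ⟨H, hHg, iH, hiH, hiHc, hHs, hHr⟩ := GrpField.RatClosure.exists_subgroup_closure Sg
  haveI := hiH; haveI := hiHc; haveI := hHs
  haveI : QuasiCompact H.hom := by rw [← Over.w iH]; infer_instance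
  haveI : Mono iH := GrpField.SchImg.mono_of_isClosedImmersion iH
  have hmem : ∀ x : RP H, x ≫ iH ∈ Sg := fun x => by
    have h1 : rpt (x ≫ iH) ∈ (u.left ⁻¹' Set.range i''.left) := by
      have h2 : rpt (x ≫ iH) ∈ Set.range iH.left := ⟨rpt x, map_rpt _ _⟩
      rw [hHr] at h2
      refine closure_minimal ?_ ((Scheme.Hom.isClosedEmbedding i''.left).isClosed_range.preimage u.left.continuous) h2
      rintro _ ⟨g, ⟨r, hr⟩, rfl⟩
      exact ⟨rpt r, (map_rpt i'' r).trans ((congrArg rpt hr).trans (map_rpt u g).symm)⟩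
    rw [Set.mem_preimage, map_rpt] at h1
    obtain ⟨r, hr⟩ := exists_rp_of_mem_range i'' _ h1
    exact ⟨r, hr⟩
  have hkerle : (rpHom u).ker ≤ Subgroup.center (RP G) := fun z hz => Subgroup.mem_center_iff.2 fun g => by
    have h := hker _ z hz _ (𝟙 _) g
    rw [Category.id_comp] at h
    exact h.symm
  let φ : RP H →* RP G' := (rpHom u).comp (rpHom iH)
  haveI : Group.IsSolvable (RP H) := by
    let ψ : RP H →* (rpHom i'').range := φ.codRestrict _ fun x => hmem x
    haveI : Group.IsSolvable (rpHom i'').range :=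
      Group.isSolvable_of_surjective (f := (rpHom i'').rangeRestrict) (rpHom i'').rangeRestrict_surjective
    haveI : Group.IsSolvable ψ.ker := Group.isSolvable_of_comm fun a c => Subtype.ext ((cancel_mono iH).1 (by
      have h := Subgroup.mem_center_iff.1 (hkerle (show a.1 ≫ iH ∈ (rpHom u).ker from congrArg Subtype.val a.2)) (c.1 ≫ iH)
      show (a.1 * c.1) ≫ iH = (c.1 * a.1) ≫ iH
      rw [MonObj.mul_comp, MonObj.mul_comp, h]))
    exact Group.isSolvable_of_ker_le_range ψ.ker.subtype ψ (by rw [Subgroup.range_subtype])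
  obtain ⟨H₀, hH₀g, c, hcm, hcc, hcs, hirr, hcr⟩ := Groth.Agent.Chev.exists_component H
  haveI := hcm; haveI := hcc; haveI := hcs; haveI := hirr
  haveI : Mono c := GrpField.SchImg.mono_of_isClosedImmersion c
  haveI : QuasiCompact H₀.hom := by rw [← Over.w c]; infer_instance
  haveI : Group.IsSolvable (RP H₀) := Group.isSolvable_of_isSolvable_injective (f := rpHom c) fun x y h => (cancel_mono c).1 h
  haveI : IsReduced B.left := SmoothRed.isReduced_of_smooth_scheme B.hom
  obtain ⟨j, hj⟩ := exists_lift_rp b iH fun x => by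
    rw [hHr]
    refine subset_closure ⟨x ≫ b, ?_, rfl⟩
    exact ⟨(x ≫ p) ≫ f, by
      show ((x ≫ p) ≫ f) ≫ i'' = (x ≫ b) ≫ u
      rw [Category.assoc, hf, Category.assoc, hpe, Category.assoc]⟩
  haveI : IsMonHom j := MTSplit.isMonHom_of_comp_mono j iH b hj
  obtain ⟨j₀, hj₀⟩ := exists_factor_component hcr j
  haveI : IsIso j₀ := hbmax H₀ (c ≫ iH) j₀ (inferInstanceAs (IsClosedImmersion (c.left ≫ iH.left))) hcs
    inferInstance (isSolvableGrp_of_rp H₀) (by rw [← Category.assoc, hj₀, hj])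
  have hH0 : ∀ x : RP H₀, x ≫ c ≫ iH = (x ≫ CategoryTheory.inv j₀) ≫ b := fun x => by
    rw [← hj, ← hj₀]; simp
  -- the normalizer trick
  have hall : ∀ h : RP H, ∃ y : RP B, y ≫ b = h ≫ iH := fun h => by
    have hn : ∀ h : RP H, ∃ φ : B ⟶ B, φ ≫ b = AGF.conjBy (h ≫ iH) b := fun h => by
      haveI := isMonHom_conjBy h j
      obtain ⟨φ, hφ⟩ := exists_factor_component hcr (AGF.conjBy h j)
      refine ⟨φ ≫ CategoryTheory.inv j₀, ?_⟩
      have e : (φ ≫ CategoryTheory.inv j₀) ≫ b = φ ≫ c ≫ iH := by rw [← hj, ← hj₀]; simp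
      rw [e, ← Category.assoc, hφ, AGF.conjBy, AGF.conjBy, MonObj.mul_comp, MonObj.mul_comp, GrpObj.inv_comp,
        Category.assoc, hj]
    obtain ⟨φ, hφ⟩ := hn h
    obtain ⟨φ', hφ'⟩ := hn h⁻¹
    refine exists_factor_of_normalizes_borel b hB (h ≫ iH) fun X' x y => ⟨⟨y ≫ φ, ?_⟩, ⟨y ≫ φ', ?_⟩⟩
    · rw [Category.assoc, hφ, AGF.conjBy, MonObj.comp_mul, MonObj.comp_mul, GrpObj.comp_inv,
        ← Category.assoc y, toUnit_unique (y ≫ toUnit B) x]
    · rw [Category.assoc, hφ', AGF.conjBy, MonObj.comp_mul, MonObj.comp_mul, GrpObj.comp_inv, GrpObj.inv_comp,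
        ← Category.assoc y, toUnit_unique (y ≫ toUnit B) x, GrpObj.comp_inv, _root_.inv_inv]
  have hsub : ∀ y : RP R'', ∃ r : RP R, r ≫ iR = y ≫ i'' := fun y => by
    obtain ⟨g, hg⟩ := exists_rp_preimage u (y ≫ i'')
    have hgS : g ∈ Sg := ⟨y, hg.symm⟩
    obtain ⟨x, hx⟩ := exists_rp_of_mem_range iH g (by rw [hHr]; exact subset_closure ⟨g, hgS, rfl⟩)
    obtain ⟨z, hz⟩ := hall x
    exact ⟨z ≫ p, by rw [Category.assoc, hpe, ← Category.assoc, hz, hx, hg]⟩
  obtain ⟨e, he⟩ := exists_iso_of_rp iR i'' (fun r => ⟨r ≫ f, by rw [Category.assoc, hf]⟩) hsub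
  have : f = e.hom := (cancel_mono i'').1 (hf.trans he.symm)
  rw [this]
  infer_instance

/-- Borel subgroups exist. -/
theorem exists_borel_nonaff (G : Over (Spec (CommRingCat.of k))) [GrpObj G] [Smooth G.hom] [QuasiCompact G.hom]
    [ConnectedSpace G.left] :
    ∃ (B : Over (Spec (CommRingCat.of k))) (_ : GrpObj B) (b : B ⟶ G), Red.IsBorelOver k b := by
  obtain ⟨L, D, Q, hL, hD, hQ, l, d, q, R⟩ := exists_affReduction G
  haveI := R.l_hom; haveI := R.l_affine; haveI := R.l_smooth; haveI := R.l_connected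
  obtain ⟨B₀, hB₀, b₀, hb₀, -⟩ := exists_borel_proper L
  obtain ⟨P, hP, iP, hiP, -⟩ := exists_borel_of_affReduction R b₀ hb₀
  exact ⟨P, hP, iP, hiP⟩

/-- A subgroup isomorphic to a Borel subgroup over the group is a Borel subgroup. -/
theorem isBorelOver_of_iso {G A B : Over (Spec (CommRingCat.of k))} [GrpObj G] [GrpObj A] [GrpObj B] [QuasiCompact G.hom] (e : A ≅ B)
    (a : A ⟶ G) (b : B ⟶ G) [IsMonHom b] [Mono b] (he : e.hom ≫ b = a) (h : Red.IsBorelOver k a) :
    Red.IsBorelOver k b := by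
  obtain ⟨ham, hac, has, haconn, hasol, hamax⟩ := h
  haveI := ham; haveI := hac; haveI := has; haveI := haconn
  haveI : IsIso e.hom.left := ((Over.forget _).mapIso e).isIso_hom
  haveI : IsIso e.inv.left := ((Over.forget _).mapIso e).isIso_inv
  have hb : b = e.inv ≫ a := by rw [← he, e.inv_hom_id_assoc]
  haveI : IsClosedImmersion b.left := by rw [hb, Over.comp_left]; infer_instance
  haveI : Smooth B.hom := by rw [← Over.w e.inv]; infer_instance
  haveI : ConnectedSpace B.left := e.hom.left.surjective.connectedSpace e.hom.left.continuous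
  haveI : QuasiCompact A.hom := by
    haveI : QuasiCompact (a.left ≫ G.hom) := inferInstance
    rwa [← Over.w a]
  haveI : QuasiCompact B.hom := by rw [← Over.w e.inv]; infer_instance
  haveI : IsIso e.hom := e.isIso_hom
  haveI : IsMonHom e.hom := MTSplit.isMonHom_of_comp_mono e.hom b a he
  haveI := isSolvable_rp hasol
  haveI : Group.IsSolvable (RP B) := Group.isSolvable_of_surjective (f := rpHom e.hom) fun x =>
    ⟨x ≫ e.inv, by show (x ≫ e.inv) ≫ e.hom = x; rw [Category.assoc, e.inv_hom_id, Category.comp_id]⟩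
  refine ⟨inferInstance, inferInstance, inferInstance, inferInstance, isSolvableGrp_of_rp B,
    fun B'' _ i'' _ f h1 h2 h3 h4 hf => ?_⟩
  haveI : IsIso (e.hom ≫ f) := hamax B'' i'' (e.hom ≫ f) h1 h2 h3 h4 (by rw [Category.assoc, hf, he])
  exact IsIso.of_isIso_comp_left e.hom f

/-- The preimage of a Borel subgroup under a surjection with central kernel is a Borel subgroup. -/
theorem isBorelOver_preimage_central {G G' B B' : Over (Spec (CommRingCat.of k))} [GrpObj G] [GrpObj G'] [GrpObj B]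
    [GrpObj B'] [Smooth G.hom] [QuasiCompact G.hom] [ConnectedSpace G.left] [Smooth G'.hom] [QuasiCompact G'.hom]
    [ConnectedSpace G'.left] (u : G ⟶ G') [IsMonHom u] [Surjective u.left]
    (hker : ∀ (X : Over (Spec (CommRingCat.of k))) (z : X ⟶ G), z ≫ u = 1 →
      ∀ (X' : Over (Spec (CommRingCat.of k))) (x : X' ⟶ X) (g : X' ⟶ G), (x ≫ z) * g = g * (x ≫ z))
    (b' : B' ⟶ G') (hB' : Red.IsBorelOver k b') (b : B ⟶ G) [IsMonHom b] (v : B ⟶ B') (hsq : IsPullback b v u b') :
    Red.IsBorelOver k b := by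
  obtain ⟨B₁, hB₁g, b₁, hb₁⟩ := exists_borel_nonaff G
  obtain ⟨R, hRg, iR, p, hR, -, -, hps, -, hpe⟩ := exists_borel_image_central u hker b₁ hb₁
  obtain ⟨g', f, hf⟩ := borel_conj_nonaff iR b' hR hB'
  obtain ⟨g, hg⟩ := exists_rp_preimage u g'
  have hb₂ := isBorelOver_conjBy g b₁ hb₁
  haveI := hb₂.1; haveI := hb₂.2.1; haveI := hB'.1; haveI := hB'.2.1
  haveI : Mono (AGF.conjBy g b₁) := GrpField.SchImg.mono_of_isClosedImmersion _
  haveI : Mono b' := GrpField.SchImg.mono_of_isClosedImmersion b'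
  have hq : (p ≫ f.hom) ≫ b' = AGF.conjBy g b₁ ≫ u := by
    rw [Category.assoc, hf, AGF.conjBy, AGF.conjBy, MonObj.comp_mul, MonObj.comp_mul, GrpObj.comp_inv,
      MonObj.mul_comp, MonObj.mul_comp, GrpObj.inv_comp, ← Category.assoc p (toUnit R), comp_toUnit, Category.assoc,
      hg, hpe]
  haveI : Surjective (p ≫ f.hom).left := by
    haveI := hps
    haveI : IsIso f.hom.left := ((Over.forget _).mapIso f).isIso_hom
    show Surjective (p.left ≫ f.hom.left)
    infer_instance
  haveI := hb₂.2.2.1; haveI := hB'.2.2.1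
  haveI : QuasiCompact B₁.hom := by rw [← Over.w (AGF.conjBy g b₁)]; infer_instance
  haveI : IsMonHom (p ≫ f.hom) := MTSplit.isMonHom_of_comp_mono (p ≫ f.hom) b' _ hq
  obtain ⟨hqf, hql⟩ := covering_of_surjective (p ≫ f.hom)
  haveI := hqf; haveI := hql
  obtain ⟨w, hw⟩ := mem_of_map_mem_ker u (AGF.conjBy g b₁)
    (fun P z hz => central_factor_borel _ hb₂ z (hker P z hz)) b' (p ≫ f.hom) hq b v hsq.w.symm
  let e : B₁ ⟶ B := hsq.lift (AGF.conjBy g b₁) (p ≫ f.hom) hq.symm
  haveI : Mono b := hsq.mono_fst_of_mono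
  have he : e ≫ b = AGF.conjBy g b₁ := hsq.lift_fst _ _ _
  exact isBorelOver_of_iso ⟨e, w, (cancel_mono (AGF.conjBy g b₁)).1 (by rw [Category.assoc, hw, he, Category.id_comp]),
    (cancel_mono b).1 (by rw [Category.assoc, he, hw, Category.id_comp])⟩ _ b he hb₂

end Groth.Agent.Chev.Borel
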