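import Groth.Agent.Chev.AffPart
import Groth.Agent.AVQuot.Basic
import Groth.Agent.S19702

/-!
# Anti-affine subgroups map onto proper quotients
-/

set_option autoImplicit false
set_option backward.isDefEq.respectTransparency false

universe u

open CategoryTheory CategoryTheory.Limits MonoidalCategory CartesianMonoidalCategory MonObj GrpObj AlgebraicGeometry
open scoped CategoryTheory.Obj

noncomputable section

namespace Groth.Agent.Chev

open AVDeg (bcK specMap)

variable {k : Type u} [Field k]

/-- The property of having only constant functions. -/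
abbrev IsAnti (M : Over (Spec (CommRingCat.of k))) : Prop :=
  Function.Bijective ((Scheme.ΓSpecIso (CommRingCat.of k)).inv ≫ M.hom.appTop).hom

/-- Homomorphisms from anti-affine groups to affine groups are trivial. -/
theorem eq_one_of_anti {M Z : Over (Spec (CommRingCat.of k))} [GrpObj M] [GrpObj Z] [IsAffine Z.left]
    (hM : IsAnti M) (f : M ⟶ Z) [IsMonHom f] : f = 1 := by
  rw [AffHull.eq_const_of_affine hM η f, IsMonHom.one_hom, Hom.one_def]

/-- Anti-affine groups are smooth. -/
theorem smooth_of_anti (M : Over (Spec (CommRingCat.of k))) [GrpObj M] [LocallyOfFiniteType M.hom]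
    [QuasiCompact M.hom] (hM : IsAnti M) : Smooth M.hom := by
  have h := (Groth.Agent.S19702.result k (AlgebraicClosure k) M).1 hM
  haveI : LocallyOfFiniteType (bcK k (AlgebraicClosure k) M).hom :=
    inferInstanceAs (LocallyOfFiniteType (pullback.snd M.hom (specMap k (AlgebraicClosure k))))
  haveI hs : Smooth (bcK k (AlgebraicClosure k) M).hom := (S11412.result (AlgebraicClosure k) _ h).1
  haveI : Flat (specMap k (AlgebraicClosure k)) :=
    (HasRingHomProperty.Spec_iff (P := @Flat)).2 (RingHom.flat_algebraMap_iff.2 inferInstance)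
  haveI : Surjective (specMap k (AlgebraicClosure k)) :=
    ⟨fun _ => ⟨IsLocalRing.closedPoint _, Subsingleton.elim (α := PrimeSpectrum k) _ _⟩⟩
  exact MorphismProperty.of_pullback_snd_of_descendsAlong (P := @Smooth)
    (Q := @Surjective ⊓ @Flat ⊓ @QuasiCompact) (g := specMap k (AlgebraicClosure k))
    ⟨⟨inferInstance, inferInstance⟩, inferInstance⟩ hs

/-- A smooth scheme over a field is reduced. -/
theorem isReduced_of_smooth' (G : Over (Spec (CommRingCat.of k))) [Smooth G.hom] : IsReduced G.left := by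
  haveI : GeometricallyReduced G.hom := Rigid.geometricallyReduced_of_smooth _
  exact GeometricallyReduced.geometrically_isReduced (f := G.hom) (K := k) (𝟙 _) (𝟙 _) G.hom
    (IsPullback.of_horiz_isIso ⟨by rw [Category.id_comp, Category.comp_id]⟩)

/-- Homomorphisms descend along faithfully flat homomorphisms. -/
theorem isMonHom_desc {G Q P : Over (Spec (CommRingCat.of k))} [GrpObj G] [GrpObj Q] [GrpObj P] (q : G ⟶ Q)
    [IsMonHom q] [Flat q.left] [Surjective q.left] [LocallyOfFinitePresentation q.left] (d : Q ⟶ P)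
    [IsMonHom (q ≫ d)] : IsMonHom d := by
  refine ⟨?_, ?_⟩
  · rw [← IsMonHom.one_hom q, Category.assoc, IsMonHom.one_hom]
  · obtain ⟨h1, h2, h3⟩ := AVQuot.covering_tensor q q
    haveI := h1; haveI := h2
    haveI := AVQuot.epi_of_covering (q ⊗ₘ q)
    rw [← cancel_epi (q ⊗ₘ q), ← Category.assoc, ← IsMonHom.mul_hom q, Category.assoc, IsMonHom.mul_hom (q ≫ d),
      MonoidalCategory.tensorHom_comp_tensorHom_assoc]

/-- Quotient data of a normal subgroup of a smooth connected group, over any field. -/
theorem exists_quotient_group' {G L : Over (Spec (CommRingCat.of k))} [GrpObj G] [GrpObj L] [Smooth G.hom]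
    [QuasiCompact G.hom] [ConnectedSpace G.left] (l : L ⟶ G) [IsMonHom l] [IsClosedImmersion l.left]
    (hn : AlgGrp.IsNormalHom l) :
    ∃ (Q : Over (Spec (CommRingCat.of k))) (_ : GrpObj Q) (q : G ⟶ Q), IsMonHom q ∧ Flat q.left ∧ Surjective q.left ∧
      AlgGrp.IsKernel l q ∧ IsSeparated Q.hom ∧ Smooth Q.hom ∧ QuasiCompact Q.hom ∧ ConnectedSpace Q.left ∧
      LocallyOfFinitePresentation q.left := by
  haveI : Mono l := GrpField.SchImg.mono_of_isClosedImmersion l
  haveI : LocallyOfFiniteType L.hom := by rw [← Over.w l]; infer_instance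
  haveI : IsSeparated G.hom := GrpField.isSeparated_hom G
  obtain ⟨Q, hQ, q, hqm, hqf, hqs, hqp, hker, hsep, -, hsm⟩ := S3030.result k L G l hn
  haveI := hqm; haveI := hqf; haveI := hqs
  haveI : Smooth Q.hom := hsm inferInstance
  haveI : QuasiCompact Q.hom := by
    haveI : QuasiCompact (q.left ≫ Q.hom) := by rw [Over.w q]; infer_instance
    exact ThickLib.quasiCompact_of_comp_surjective q.left Q.hom
  exact ⟨Q, hQ, q, hqm, hqf, hqs, hker, hsep, inferInstance, inferInstance,
    q.left.surjective.connectedSpace q.left.continuous, hqp⟩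

/-- The reduced group of a group over a perfect field. -/
theorem exists_red_group [PerfectField k] (H : Over (Spec (CommRingCat.of k))) [GrpObj H] [LocallyOfFiniteType H.hom] :
    ∃ (R : Over (Spec (CommRingCat.of k))) (_ : GrpObj R) (r : R ⟶ H), IsMonHom r ∧ IsClosedImmersion r.left ∧
      Surjective r.left ∧ Smooth R.hom := by
  let I := Scheme.IdealSheafData.vanishingIdeal (⊤ : TopologicalSpace.Closeds H.left)
  let R : Over (Spec (CommRingCat.of k)) := Over.mk (I.subschemeι ≫ H.hom)
  let r : R ⟶ H := Over.homMk I.subschemeι rfl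
  haveI : IsClosedImmersion r.left := inferInstanceAs (IsClosedImmersion I.subschemeι)
  haveI : IsReduced R.left := inferInstanceAs (IsReduced I.subscheme)
  haveI : Surjective r.left := ⟨fun x => by
    have : x ∈ Set.range I.subschemeι := by
      rw [Scheme.IdealSheafData.range_subschemeι, Scheme.IdealSheafData.coe_support_vanishingIdeal]
      trivial
    exact this⟩
  haveI : LocallyOfFiniteType R.hom := by rw [← Over.w r]; infer_instance
  have hlift : ∀ {T : Over (Spec (CommRingCat.of k))} [IsReduced T.left] (g : T ⟶ H),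
      ∃ g' : T ⟶ R, g' ≫ r = g := fun g => exists_lift_range g r (by
    rw [Set.range_eq_univ.2 r.left.surjective]; exact Set.subset_univ _)
  haveI : IsReduced (R ⊗ R).left := Assoc.isReduced_pullback k R.hom R.hom
  haveI : IsReduced (𝟙_ (Over (Spec (CommRingCat.of k)))).left := inferInstanceAs (IsReduced (Spec (CommRingCat.of k)))
  obtain ⟨e, he⟩ := hlift η[H]
  obtain ⟨d, hd⟩ := hlift ((fst R R ≫ r)⁻¹ * (snd R R ≫ r))
  obtain ⟨hgrp, hmon⟩ := GrpField.SchImg.exists_grpObj_of_div r ⟨e, he⟩ fun T k₁ k₂ => ⟨lift k₁ k₂ ≫ d, by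
    rw [Category.assoc, hd, MonObj.comp_mul, GrpObj.comp_inv, lift_fst_assoc, lift_snd_assoc]⟩
  letI : GrpObj (Over.mk R.hom) := hgrp
  exact ⟨R, hgrp, r, hmon, inferInstance, inferInstance, GrpBasic.smooth_of_grpObj_perfect R.hom⟩

/-- The kernel of the affine hull of a group. -/
theorem exists_anti_kernel (H : Over (Spec (CommRingCat.of k))) [GrpObj H] [LocallyOfFiniteType H.hom]
    [QuasiCompact H.hom] :
    ∃ (_ : GrpObj (AffHull.hull H)) (D : Over (Spec (CommRingCat.of k))) (_ : GrpObj D) (i : D ⟶ H),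
      IsMonHom (AffHull.toHull H) ∧ Flat (AffHull.toHull H).left ∧ Surjective (AffHull.toHull H).left ∧
      LocallyOfFinitePresentation (AffHull.toHull H).left ∧ LocallyOfFiniteType (AffHull.hull H).hom ∧
      IsMonHom i ∧ IsClosedImmersion i.left ∧ AlgGrp.IsKernel i (AffHull.toHull H) ∧ IsAnti D ∧
      LocallyOfFiniteType D.hom ∧ QuasiCompact D.hom := by
  obtain ⟨hQ, hqm, hqf, hqs, hql, hQl, hqi⟩ := S4107.hull_cover H
  letI := hQ
  haveI := hqm; haveI := hqf; haveI := hqs; haveI := hql; haveI := hQl; haveI := hqi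
  obtain ⟨D, hD, i, him, hic, -, hker⟩ := AdjRep.exists_kernel (AffHull.toHull H)
  haveI := him; haveI := hic
  haveI : LocallyOfFiniteType D.hom := by rw [← Over.w i]; infer_instance
  haveI : QuasiCompact D.hom := by rw [← Over.w i]; infer_instance
  haveI := S4107.isIso_appTop_kernel H i hker
  exact ⟨hQ, D, hD, i, hqm, hqf, hqs, hql, hQl, him, hic, hker, ConcreteCategory.bijective_of_isIso _,
    inferInstance, inferInstance⟩

/-- Over an algebraically closed field the anti-affine part maps onto abelian quotients. -/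
theorem surjective_anti_to_av [IsAlgClosed k] {H A : Over (Spec (CommRingCat.of k))} [GrpObj H] [GrpObj A]
    [Smooth H.hom] [QuasiCompact H.hom] [IsProper A.hom] [Smooth A.hom] [ConnectedSpace A.left]
    (f : H ⟶ A) [IsMonHom f] [Surjective f.left] :
    ∃ (D : Over (Spec (CommRingCat.of k))) (_ : GrpObj D) (i : D ⟶ H), IsMonHom i ∧ IsClosedImmersion i.left ∧
      IsAnti D ∧ Surjective (i ≫ f).left := by
  obtain ⟨hQ, D, hD, i, hqm, hqf, hqs, hql, hQl, him, hic, hker, hanti, hDl, hDq⟩ := exists_anti_kernel H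
  haveI := hqm; haveI := hqf; haveI := hqs; haveI := hql; haveI := hQl; haveI := him; haveI := hic
  haveI := hDl; haveI := hDq
  haveI : IsSeparated H.hom := GrpField.isSeparated_hom H
  haveI := geometricallyIntegral_of_group (A := A)
  haveI : IsCommMonObj A := isCommMonObj_of_isProper_of_geometricallyIntegral A
  haveI : QuasiCompact (i ≫ f).left := by
    haveI : QuasiCompact ((i ≫ f).left ≫ A.hom) := by rw [Over.w]; infer_instance
    exact QuasiCompact.of_comp _ A.hom
  obtain ⟨C, hC, iC, g, hiC, hg, hgi, hicl, -, -, hgs⟩ := GrpField.SchImg.exists_image (i ≫ f)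
  haveI := hiC; haveI := hicl; haveI := hgs
  have hCn : AlgGrp.IsNormalHom iC := fun T a x => ⟨x, by rw [_root_.mul_comm a, _root_.mul_assoc, mul_inv_cancel, _root_.mul_one]⟩
  obtain ⟨R, hR, qR, hRm, hRf, hRs, hRk, hRsep, hRsm, hRq, hRc, -⟩ := exists_quotient_group' iC hCn
  haveI := hRm; haveI := hRf; haveI := hRs; haveI := hRsep; haveI := hRsm; haveI := hRq; haveI := hRc
  haveI : UniversallyClosed R.hom := by
    haveI : UniversallyClosed (qR.left ≫ R.hom) := by rw [Over.w]; infer_instance
    exact UniversallyClosed.of_comp_surjective qR.left R.hom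
  haveI : IsProper R.hom := { }
  have hkill : i ≫ f ≫ qR = 1 := by
    rw [← Category.assoc, ← hgi, Category.assoc, hRk.w, comp_toUnit_assoc, ← Hom.one_def]
  obtain ⟨d, hd⟩ := AdjRep.exists_desc i (AffHull.toHull H) hker (f ≫ qR) hkill
  haveI : IsMonHom (AffHull.toHull H ≫ d) := by rw [hd]; infer_instance
  haveI := isMonHom_desc (AffHull.toHull H) d
  haveI : Surjective d.left := by
    haveI : Surjective ((AffHull.toHull H).left ≫ d.left) := by
      rw [← Over.comp_left, hd, Over.comp_left]; infer_instance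
    exact Surjective.of_comp (AffHull.toHull H).left d.left
  haveI : QuasiCompact (AffHull.hull H).hom := inferInstance
  haveI : QuasiCompact d.left := by
    haveI : QuasiCompact (d.left ≫ R.hom) := by rw [Over.w]; infer_instance
    exact QuasiCompact.of_comp _ R.hom
  haveI : IsReduced R.left := isReduced_of_smooth R
  haveI : Flat d.left := GrpField.flat_of_surjective_reduced d
  haveI : IsAffine R.left := (S7983.result k _ R d).1 inferInstance
  have hqR : qR = toUnit A ≫ η[R] := by
    rw [← Category.comp_id qR, eq_one_of_affine_of_proper (𝟙 R), MonObj.comp_one, Hom.one_def]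
  haveI : Surjective iC.left := ⟨fun x => by
    refine ⟨(hRk.lift (𝟙 A) (toUnit A) (by rw [Category.id_comp, hqR])).left x, ?_⟩
    rw [← Scheme.Hom.comp_apply, ← Over.comp_left, hRk.lift_fst, Over.id_left]
    rfl⟩
  refine ⟨D, hD, i, him, hic, hanti, ?_⟩
  rw [← hgi, Over.comp_left]
  infer_instance

set_option maxHeartbeats 1000000 in
/-- The anti-affine part maps onto connected proper quotients. -/
theorem surjective_anti_to_proper {H A : Over (Spec (CommRingCat.of k))} [GrpObj H] [GrpObj A]
    [LocallyOfFiniteType H.hom] [QuasiCompact H.hom] [IsProper A.hom] [ConnectedSpace A.left]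
    (f : H ⟶ A) [IsMonHom f] [Surjective f.left] :
    ∃ (D : Over (Spec (CommRingCat.of k))) (_ : GrpObj D) (i : D ⟶ H), IsMonHom i ∧ IsClosedImmersion i.left ∧
      IsAnti D ∧ Surjective (i ≫ f).left := by
  let K := AlgebraicClosure k
  let F := Over.pullback (specMap k K)
  obtain ⟨hQ, D, hD, i, hqm, hqf, hqs, hql, hQl, him, hic, hker, hanti, hDl, hDq⟩ := exists_anti_kernel H
  haveI := hqm; haveI := him
  refine ⟨D, hD, i, him, hic, hanti, ?_⟩
  haveI : LocallyOfFiniteType (F.obj H).hom := inferInstanceAs (LocallyOfFiniteType (pullback.snd H.hom (specMap k K)))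
  haveI : LocallyOfFiniteType (F.obj A).hom := inferInstanceAs (LocallyOfFiniteType (pullback.snd A.hom (specMap k K)))
  haveI : IsProper (F.obj A).hom := inferInstanceAs (IsProper (pullback.snd A.hom (specMap k K)))
  haveI : GeometricallyConnected A.hom :=
    Groth.Agent.Rigid.geometricallyConnected_of_section A.hom η[A].left (Over.w η[A])
  haveI : ConnectedSpace (F.obj A).left :=
    GeometricallyConnected.geometrically_connectedSpace _ _ _ (IsPullback.of_hasPullback A.hom (specMap k K))
  haveI hfs : Surjective (F.map f).left := ⟨fun y => by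
    have := range_bcMap K f
    rw [Set.range_eq_univ.2 f.left.surjective, Set.preimage_univ] at this
    exact (Set.range_eq_univ.1 this) y⟩
  obtain ⟨H', hH', rH, hrHm, hrHc, hrHs, hH'sm⟩ := exists_red_group (F.obj H)
  obtain ⟨A', hA', rA, hrAm, hrAc, hrAs, hA'sm⟩ := exists_red_group (F.obj A)
  haveI := hrHm; haveI := hrHc; haveI := hrHs; haveI := hH'sm
  haveI := hrAm; haveI := hrAc; haveI := hrAs; haveI := hA'sm
  haveI : IsProper A'.hom := by rw [← Over.w rA]; infer_instance
  haveI : QuasiCompact H'.hom := by rw [← Over.w rH]; infer_instance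
  haveI : Mono rA := GrpField.SchImg.mono_of_isClosedImmersion rA
  haveI : IsReduced H'.left := isReduced_of_smooth H'
  have hhom : IsHomeomorph rA.left :=
    isHomeomorph_iff_isEmbedding_surjective.2 ⟨rA.left.isClosedEmbedding.isEmbedding, rA.left.surjective⟩
  haveI : ConnectedSpace A'.left := hhom.homeomorph.symm.surjective.connectedSpace hhom.homeomorph.symm.continuous
  obtain ⟨f', hf'⟩ := exists_lift_range (rH ≫ F.map f) rA (by
    rw [Set.range_eq_univ.2 rA.left.surjective]; exact Set.subset_univ _)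
  haveI : IsMonHom (f' ≫ rA) := by rw [hf']; infer_instance
  haveI := isMonHom_of_comp f' rA
  haveI : Surjective f'.left := ⟨fun a => by
    obtain ⟨b, hb⟩ := (F.map f).left.surjective (rA.left a)
    obtain ⟨c, rfl⟩ := rH.left.surjective b
    refine ⟨c, hhom.injective ?_⟩
    rw [← hb]
    exact congrArg (fun φ => φ.left c) hf'⟩
  obtain ⟨D', hD', i', hi'm, -, hanti', hs'⟩ := surjective_anti_to_av f'
  haveI := hi'm
  haveI : IsAffine (F.obj (AffHull.hull H)).left := isAffine_bcK K (X := AffHull.hull H)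
  have hone : (i' ≫ rH) ≫ F.map (AffHull.toHull H) = 1 := eq_one_of_anti hanti' _
  have e₂ : ∀ z : D' ⟶ F.obj (𝟙_ _), z ≫ F.map η[AffHull.hull H] = 1 := fun z => by
    rw [show η[AffHull.hull H] = (1 : 𝟙_ _ ⟶ AffHull.hull H) by rw [Hom.one_def, toUnit_unit, Category.id_comp],
      bcMap_one, MonObj.comp_one]
  let z := (hker.map F).lift (i' ≫ rH) (toUnit D' ≫ Functor.LaxMonoidal.ε F) (by rw [hone, e₂])
  have hz : z ≫ F.map i = i' ≫ rH := (hker.map F).lift_fst _ _ _
  refine ⟨fun a => ?_⟩
  obtain ⟨a₁, rfl⟩ := (pullback.fst A.hom (specMap k K)).surjective a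
  obtain ⟨a₂, rfl⟩ := rA.left.surjective a₁
  obtain ⟨x, rfl⟩ := hs'.surj a₂
  refine ⟨pullback.fst D.hom (specMap k K) (z.left x), ?_⟩
  have e : (i' ≫ f') ≫ rA = z ≫ F.map (i ≫ f) := by
    rw [Category.assoc, hf', F.map_comp, reassoc_of% hz]
  have hfst : (F.map (i ≫ f)).left ≫ pullback.fst A.hom (specMap k K) =
      pullback.fst D.hom (specMap k K) ≫ (i ≫ f).left := pullback.lift_fst _ _ _
  have e1 := congrArg (fun φ => pullback.fst A.hom (specMap k K) (φ.left x)) e
  refine Eq.trans ?_ e1.symm
  exact (congrArg (fun φ => φ (z.left x)) hfst).symm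

variable {G N A M : Over (Spec (CommRingCat.of k))} [GrpObj G] [GrpObj N] [GrpObj A] [GrpObj M]

/-- A subgroup surjecting onto the quotient generates the group together with the kernel. -/
theorem surjective_mul_of_surjective_comp (i : N ⟶ G) (q : G ⟶ A) [IsMonHom q] (hq : AlgGrp.IsKernel i q)
    (j : M ⟶ G) [Surjective (j ≫ q).left] : Surjective ((i ⊗ₘ j) ≫ μ[G]).left := by
  let P : Over (Spec (CommRingCat.of k)) := Over.mk (pullback.fst q.left (j ≫ q).left ≫ G.hom)
  let g : P ⟶ G := Over.homMk (pullback.fst q.left (j ≫ q).left)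
  have hw : pullback.snd q.left (j ≫ q).left ≫ M.hom = pullback.fst q.left (j ≫ q).left ≫ G.hom := by
    rw [← Over.w q, pullback.condition_assoc, Over.w (j ≫ q)]
  let m : P ⟶ M := Over.homMk (pullback.snd q.left (j ≫ q).left) hw
  have hgm : g ≫ q = m ≫ j ≫ q := Over.OverMorphism.ext pullback.condition
  have h0 : (g * (m ≫ j)⁻¹) ≫ q = toUnit P ≫ η[A] := by
    rw [MonObj.mul_comp, GrpObj.inv_comp, Category.assoc, hgm, mul_inv_cancel, Hom.one_def]
  let n : P ⟶ N := hq.lift _ _ h0
  have hm : lift n m ≫ (i ⊗ₘ j) ≫ μ[G] = g := by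
    rw [comp_tensor_mul, lift_fst, lift_snd, show n ≫ i = _ from hq.lift_fst _ _ _, inv_mul_cancel_right]
  haveI hs : Surjective g.left := MorphismProperty.pullback_fst _ _ ‹Surjective (j ≫ q).left›
  rw [← hm, Over.comp_left] at hs
  exact Surjective.of_comp (lift n m).left _

/-- The anti-affine part and an affine kernel with proper quotient generate. -/
theorem surjective_mul_anti [LocallyOfFiniteType G.hom] [QuasiCompact G.hom] [ConnectedSpace G.left]
    (i : N ⟶ G) [IsProper A.hom] (q : G ⟶ A) [IsMonHom q] [Surjective q.left] (hq : AlgGrp.IsKernel i q)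
    (j : M ⟶ G)
    (hMmax : ∀ (M' : Over (Spec (CommRingCat.of k))) [GrpObj M'] [LocallyOfFiniteType M'.hom] [QuasiCompact M'.hom]
      (j' : M' ⟶ G) [IsMonHom j'] [IsClosedImmersion j'.left], IsAnti M' → ∃ g : M' ⟶ M, g ≫ j = j') :
    Surjective ((i ⊗ₘ j) ≫ μ[G]).left := by
  haveI : ConnectedSpace A.left := q.left.surjective.connectedSpace q.left.continuous
  obtain ⟨D, hD, iD, hm, hc, hanti, hs⟩ := surjective_anti_to_proper q
  haveI := hm; haveI := hc
  haveI : LocallyOfFiniteType D.hom := by rw [← Over.w iD]; infer_instance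
  haveI : QuasiCompact D.hom := by rw [← Over.w iD]; infer_instance
  obtain ⟨g, hg⟩ := hMmax D iD hanti
  haveI : Surjective (j ≫ q).left := by
    haveI := hs
    haveI : Surjective (g.left ≫ (j ≫ q).left) := by
      rw [← Over.comp_left, reassoc_of% hg]; infer_instance
    exact Surjective.of_comp g.left _
  exact surjective_mul_of_surjective_comp i q hq j

/-- The anti-affine part is contained in every subgroup surjecting onto the proper quotient. -/
theorem exists_factor_anti [LocallyOfFiniteType G.hom] [QuasiCompact G.hom] [ConnectedSpace G.left]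
    [IsAffine N.left] (i : N ⟶ G) [IsMonHom i] [IsClosedImmersion i.left] [IsProper A.hom] (q : G ⟶ A) [IsMonHom q]
    [Surjective q.left] (hq : AlgGrp.IsKernel i q) (j : M ⟶ G) [IsMonHom j] [IsClosedImmersion j.left] (hM : IsAnti M)
    (hMmax : ∀ (M' : Over (Spec (CommRingCat.of k))) [GrpObj M'] [LocallyOfFiniteType M'.hom] [QuasiCompact M'.hom]
      (j' : M' ⟶ G) [IsMonHom j'] [IsClosedImmersion j'.left], IsAnti M' → ∃ g : M' ⟶ M, g ≫ j = j')
    {H : Over (Spec (CommRingCat.of k))} [GrpObj H] (h : H ⟶ G) [IsMonHom h] [IsClosedImmersion h.left]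
    (hHN : Surjective ((h ⊗ₘ i) ≫ μ[G]).left) : ∃ g : M ⟶ H, g ≫ h = j := by
  haveI : ConnectedSpace A.left := q.left.surjective.connectedSpace q.left.continuous
  haveI : LocallyOfFiniteType H.hom := by rw [← Over.w h]; infer_instance
  haveI : QuasiCompact H.hom := by rw [← Over.w h]; infer_instance
  haveI : LocallyOfFiniteType M.hom := by rw [← Over.w j]; infer_instance
  haveI : QuasiCompact M.hom := by rw [← Over.w j]; infer_instance
  haveI : Surjective (h ≫ q).left := by
    have e : ((h ⊗ₘ i) ≫ μ[G]) ≫ q = fst H N ≫ h ≫ q := by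
      rw [← Category.id_comp ((h ⊗ₘ i) ≫ μ[G]), comp_tensor_mul, MonObj.mul_comp, Category.id_comp, Category.id_comp,
        Category.assoc, Category.assoc, hq.w, comp_toUnit_assoc, ← Hom.one_def, _root_.mul_one]
    haveI := hHN
    haveI : Surjective ((fst H N).left ≫ (h ≫ q).left) := by
      rw [← Over.comp_left, ← e, Over.comp_left]; infer_instance
    exact Surjective.of_comp (fst H N).left _
  obtain ⟨D, hD, iD, hDm, hDc, hanti, hs⟩ := surjective_anti_to_proper (h ≫ q)
  haveI := hDm; haveI := hDc
  haveI : IsClosedImmersion (iD ≫ h).left := by rw [Over.comp_left]; infer_instance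
  haveI : LocallyOfFiniteType D.hom := by rw [← Over.w iD]; infer_instance
  haveI : QuasiCompact D.hom := by rw [← Over.w iD]; infer_instance
  obtain ⟨d, hd⟩ := hMmax D (iD ≫ h) hanti
  haveI : Mono j := GrpField.SchImg.mono_of_isClosedImmersion j
  haveI : Mono i := GrpField.SchImg.mono_of_isClosedImmersion i
  haveI : IsMonHom (d ≫ j) := by rw [hd]; infer_instance
  haveI := isMonHom_of_comp d j
  haveI : IsClosedImmersion d.left := by
    haveI : IsClosedImmersion (d.left ≫ j.left) := by rw [← Over.comp_left, hd]; infer_instance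
    exact IsClosedImmersion.of_comp d.left j.left
  haveI := smooth_of_anti M hM
  obtain ⟨hMc, hMcomm⟩ := S3293.result k M hM
  haveI := hMc; haveI := hMcomm
  obtain ⟨R, hR, r, hrm, hrf, hrs, hrk, hrsep, hRsm, hRq, hRc, -⟩ := exists_quotient_group' d
    (fun T a x => ⟨x, by rw [_root_.mul_comm a, _root_.mul_assoc, mul_inv_cancel, _root_.mul_one]⟩)
  haveI := hrm; haveI := hrs; haveI := hrsep; haveI := hRsm; haveI := hRq
  obtain ⟨K, hK, iK, hKm, hKc, -, hKk⟩ := AdjRep.exists_kernel (j ≫ q)
  haveI := hKm; haveI := hKc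
  haveI : LocallyOfFiniteType K.hom := by rw [← Over.w iK]; infer_instance
  haveI : QuasiCompact K.hom := by rw [← Over.w iK]; infer_instance
  haveI : IsAffine K.left := by
    let u : K ⟶ N := hq.lift (iK ≫ j) (toUnit K) (by rw [Category.assoc]; exact hKk.w)
    have hu : u ≫ i = iK ≫ j := hq.lift_fst _ _ _
    haveI : IsClosedImmersion (iK ≫ j).left := by rw [Over.comp_left]; infer_instance
    haveI : IsClosedImmersion (u.left ≫ i.left) := by rw [← Over.comp_left, hu]; infer_instance
    haveI : IsClosedImmersion u.left := IsClosedImmersion.of_comp u.left i.left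
    exact isAffine_of_isAffineHom u.left
  haveI hsd : Surjective (d ≫ j ≫ q).left := by rw [reassoc_of% hd]; exact hs
  haveI : Surjective (iK ≫ r).left := by
    let P : Over (Spec (CommRingCat.of k)) := Over.mk (pullback.fst (j ≫ q).left (d ≫ j ≫ q).left ≫ M.hom)
    let m : P ⟶ M := Over.homMk (pullback.fst (j ≫ q).left (d ≫ j ≫ q).left)
    let x : P ⟶ D := Over.homMk (pullback.snd (j ≫ q).left (d ≫ j ≫ q).left) (by
      show pullback.snd _ _ ≫ D.hom = pullback.fst _ _ ≫ M.hom
      rw [← Over.w (j ≫ q), pullback.condition_assoc, Over.w (d ≫ j ≫ q)])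
    have hmx : m ≫ j ≫ q = x ≫ d ≫ j ≫ q := Over.OverMorphism.ext pullback.condition
    have h0 : (m * (x ≫ d)⁻¹) ≫ j ≫ q = toUnit P ≫ η[A] := by
      rw [MonObj.mul_comp, GrpObj.inv_comp, Category.assoc, hmx, mul_inv_cancel, Hom.one_def]
    let n : P ⟶ K := hKk.lift _ _ h0
    have hn : n ≫ iK ≫ r = m ≫ r := by
      rw [← Category.assoc, show n ≫ iK = _ from hKk.lift_fst _ _ _, MonObj.mul_comp, GrpObj.inv_comp, Category.assoc,
        hrk.w, comp_toUnit_assoc, ← Hom.one_def, inv_one, _root_.mul_one]
    haveI : Surjective m.left := MorphismProperty.pullback_fst _ _ hsd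
    haveI : Surjective (n.left ≫ (iK ≫ r).left) := by
      rw [← Over.comp_left, hn, Over.comp_left]; infer_instance
    exact Surjective.of_comp n.left _
  haveI : IsSeparated M.hom := GrpField.isSeparated_hom M
  haveI : QuasiCompact (iK ≫ r).left := by
    haveI : QuasiCompact ((iK ≫ r).left ≫ R.hom) := by rw [Over.w]; infer_instance
    exact QuasiCompact.of_comp _ R.hom
  haveI : IsReduced R.left := isReduced_of_smooth' R
  haveI : Flat (iK ≫ r).left := GrpField.flat_of_surjective_reduced (iK ≫ r)
  haveI : IsAffine R.left := (S7983.result k K R (iK ≫ r)).1 inferInstance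
  have hr : 𝟙 M ≫ r = toUnit M ≫ η[R] := by rw [Category.id_comp, eq_one_of_anti hM r, Hom.one_def]
  refine ⟨hrk.lift _ _ hr ≫ iD, ?_⟩
  rw [Category.assoc, ← hd, ← Category.assoc, hrk.lift_fst, Category.id_comp]

end Groth.Agent.Chev
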