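import Groth.Agent.Chev.GalTorsor
import Groth.Agent.Chev.BcKernel
import Groth.Agent.DualCyc.Basic
import Groth.Agent.Blanchard.Descend
import Groth.Agent.MTBridge.Charts
import Groth.Agent.RedR1.GaSpace
import Groth.Agent.GrpField.QAAffine
import Groth.Agent.Chev.AntiAff

/-!
# Vanishing of Galois cohomology of split groups over an extension of the ground field

For a group over `k` and a Galois extension `Ks/K` of fields over `k`, the vanishing of the cohomology of the
base change to `K` is stable under extensions and holds for groups with additive or multiplicative coordinates.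
-/

set_option autoImplicit false
set_option linter.style.haveILetI false
set_option backward.isDefEq.respectTransparency false
set_option synthInstance.maxHeartbeats 400000

universe u

open CategoryTheory Limits MonoidalCategory CartesianMonoidalCategory MonObj GrpObj AlgebraicGeometry WithConv
open scoped CategoryTheory.Obj TensorProduct

noncomputable section

namespace Groth.Agent.Chev.SplitH1

open GalTorsor

variable (k : Type u) [Field k] (K : Type u) [Field K] [Algebra k K] (Ks : Type u) [Field Ks] [Algebra K Ks]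
  [Algebra k Ks] [IsScalarTower k K Ks]

/-- The cohomology of the base change vanishes. -/
def Good (G : Over (Spec (CommRingCat.of k))) [GrpObj G] : Prop :=
  GoodH1 K Ks (Red.bc (DualCyc.base k K) G)

variable {k K Ks}

theorem good_of_iso {G H : Over (Spec (CommRingCat.of k))} [GrpObj G] [GrpObj H]
    (e : Grp.mk G ≅ Grp.mk H) (h : Good k K Ks H) : Good k K Ks G :=
  goodH1_of_iso ((Over.pullback (DualCyc.base k K)).mapGrp.mapIso e) h

/-- A homomorphism between quasi-compact groups is quasi-compact. -/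
theorem quasiCompact_left {G H : Over (Spec (CommRingCat.of k))} [GrpObj H] [LocallyOfFiniteType H.hom]
    [QuasiCompact G.hom] (q : G ⟶ H) :
    QuasiCompact q.left := by
  haveI : IsSeparated H.hom := GrpField.isSeparated_hom H
  haveI : QuasiCompact (q.left ≫ H.hom) := by rw [Over.w]; infer_instance
  exact QuasiCompact.of_comp q.left H.hom

/-- A quotient map with smooth kernel is smooth. -/
theorem smooth_quotient {N B Q : Over (Spec (CommRingCat.of k))} [GrpObj N] [GrpObj B] [GrpObj Q]
    [LocallyOfFiniteType B.hom] [QuasiCompact B.hom] [Smooth Q.hom] [Smooth N.hom] (i : N ⟶ B) [IsMonHom i]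
    (q : B ⟶ Q) [IsMonHom q] [Surjective q.left] (hk : AlgGrp.IsKernel i q) : Smooth q.left := by
  haveI : IsReduced Q.left := Chev.isReduced_of_smooth' Q
  haveI := quasiCompact_left q
  refine GrpField.smooth_of_kernel q ?_
  have hsq := (show IsPullback i (toUnit N) q η[Q] from hk).map (Over.forget _)
  have hsm : Smooth (toUnit N).left := ‹Smooth N.hom›
  rw [show Limits.pullback.snd q.left η[Q].left = hsq.isoPullback.inv ≫ (toUnit N).left from
    (hsq.isoPullback_inv_snd).symm]
  exact MorphismProperty.comp_mem (W := @Smooth) _ _ inferInstance hsm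

/-- Dévissage. -/
theorem good_of_extension [IsGalois K Ks] [IsSepClosed Ks] {N B Q : Over (Spec (CommRingCat.of k))}
    [GrpObj N] [GrpObj B] [GrpObj Q] [IsCommMonObj B] [LocallyOfFiniteType B.hom] [QuasiCompact B.hom]
    [Smooth Q.hom] [Smooth N.hom] (i : N ⟶ B) [IsMonHom i] (q : B ⟶ Q) [IsMonHom q] [Surjective q.left]
    (hk : AlgGrp.IsKernel i q) (hN : Good k K Ks N) (hQ : Good k K Ks Q) : Good k K Ks B := by
  haveI := smooth_quotient i q hk
  have hker : IsPullback i (toUnit N) q η[Q] := hk
  haveI : Mono i := ⟨fun {X} a b h => hker.hom_ext h (toUnit_unique _ _)⟩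
  let F := Over.pullback (DualCyc.base k K)
  haveI : LocallyOfFiniteType (F.obj B).hom := inferInstanceAs (LocallyOfFiniteType (pullback.snd B.hom _))
  haveI : Smooth (F.map q).left :=
    MorphismProperty.of_isPullback (P := @Smooth) (Blanchard.isPullback_pullback_map _ q) ‹Smooth q.left›
  haveI : Surjective (F.map q).left :=
    MorphismProperty.of_isPullback (P := @Surjective) (Blanchard.isPullback_pullback_map _ q) ‹Surjective q.left›
  haveI : IsCommMonObj (F.obj B) := isCommMonObj_iff_isMulCommutative _ |>.2 fun T => ⟨⟨fun a b => by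
    obtain ⟨a, rfl⟩ := ((Over.mapPullbackAdj (DualCyc.base k K)).homEquiv T B).surjective a
    obtain ⟨b, rfl⟩ := ((Over.mapPullbackAdj (DualCyc.base k K)).homEquiv T B).surjective b
    show MTBridge.toBC _ a * MTBridge.toBC _ b = MTBridge.toBC _ b * MTBridge.toBC _ a
    rw [← MTBridge.toBC_mul, ← MTBridge.toBC_mul, mul_comm]⟩⟩
  exact goodH1_of_extension (F.map i) (F.map q) (isKernel_bc _ i q hk) hN hQ

theorem good_Ga [IsGalois K Ks] : Good k K Ks (Red.Ga (Spec (CommRingCat.of k))) :=
  goodH1_of_iso (RedR1.gaBC _ _) goodH1_Ga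

/-- The action of an automorphism on algebra points. -/
def act {A : Type u} [CommRing A] [Bialgebra k A] (σ : Ks ≃ₐ[K] Ks) (f : WithConv (A →ₐ[k] Ks)) :
    WithConv (A →ₐ[k] Ks) :=
  toConv ((σ.toAlgHom.restrictScalars k).comp f.ofConv)

/-- Vanishing read off on algebra points. -/
theorem good_sp {A : Type u} [CommRing A] [HopfAlgebra k A]
    (h : ∀ (c : (Ks ≃ₐ[K] Ks) → WithConv (A →ₐ[k] Ks)) (L : IntermediateField K Ks), FiniteDimensional K L →
      Normal K L → ConstOn L c → (∀ σ τ, c (σ * τ) = act σ (c τ) * c σ) → ∃ z, ∀ σ, c σ * z = act σ z) :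
    Good k K Ks (CoactBr.sp k A) := by
  intro c L hLf hLn hL hc
  let M := Spec.mapMulEquiv (R := k) (S := A) (T := Ks)
  let v : (pt K Ks ⟶ Red.bc (DualCyc.base k K) (CoactBr.sp k A)) → WithConv (A →ₐ[k] Ks) := fun x =>
    M.symm (DualCyc.lower (B := Ks) x)
  have hmul : ∀ x y, v (x * y) = v x * v y := fun x y => by
    show M.symm (DualCyc.lower _) = _
    rw [DualCyc.lower_mul, map_mul]
  have hv : ∀ σ x, v (hat σ ≫ x) = act σ (v x) := by
    intro σ x
    show M.symm (DualCyc.lower (B := Ks) (CoactBr.pt σ.toAlgHom ≫ x)) = _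
    rw [DualCyc.lower_pt]
    apply M.injective
    rw [MulEquiv.apply_symm_apply]
    show _ = CoactBr.pt ((σ.toAlgHom.restrictScalars k).comp (M.symm (DualCyc.lower x)).ofConv)
    rw [CoactBr.pt_comp]
    congr 1
    exact (M.apply_symm_apply _).symm
  have hinj : Function.Injective v := fun x y hxy => DualCyc.lower_injective (M.symm.injective hxy)
  obtain ⟨z, hz⟩ := h (fun σ => v (c σ)) L hLf hLn (fun σ σ' e => congrArg v (hL σ σ' e))
    (fun σ τ => by show v (c (σ * τ)) = _; rw [hc, hmul, hv])
  let z' : pt K Ks ⟶ Red.bc (DualCyc.base k K) (CoactBr.sp k A) := DualCyc.raise (M z)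
  have hz' : v z' = z := by
    show M.symm (DualCyc.lower (DualCyc.raise (M z))) = z
    rw [DualCyc.lower_raise, MulEquiv.symm_apply_apply]
  refine ⟨z', fun σ => ?_⟩
  rw [eq_mul_inv_iff_mul_eq]
  apply hinj
  rw [hmul, hv, hz']
  exact hz σ

/-- Additive coordinates. -/
theorem good_of_primitive [IsGalois K Ks] {A : Type u} [CommRing A] [HopfAlgebra k A] {n : ℕ} (x : Fin n → A)
    (hind : AlgebraicIndependent k x) (hgen : Algebra.adjoin k (Set.range x) = ⊤)
    (hprim : ∀ i, Coalgebra.comul (R := k) (x i) = x i ⊗ₜ[k] (1 : A) + (1 : A) ⊗ₜ[k] x i) :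
    Good k K Ks (CoactBr.sp k A) := by
  have hbij : Function.Bijective (MvPolynomial.aeval (R := k) x) := ⟨hind, fun a => by
    have ha : a ∈ (MvPolynomial.aeval (R := k) x).range := by
      rw [← Algebra.adjoin_range_eq_range_aeval, hgen]; exact Algebra.mem_top
    exact ha⟩
  let r := AlgEquiv.ofBijective _ hbij
  refine good_sp fun c L hLf hLn hL hc => ?_
  haveI := hLf; haveI := hLn
  have hadd : ∀ (f g : WithConv (A →ₐ[k] Ks)) i, (f * g).ofConv (x i) = f.ofConv (x i) + g.ofConv (x i) := by
    intro f g i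
    show (f * g) (x i) = _
    rw [AlgHom.convMul_apply, hprim]
    simp
  have hval : ∀ i, ∃ z : Ks, ∀ σ, (c σ).ofConv (x i) = σ z - z := fun i =>
    exists_cob_add (fun σ => (c σ).ofConv (x i)) L (fun σ σ' e => by
      show (c σ).ofConv (x i) = (c σ').ofConv (x i)
      rw [hL σ σ' e])
      fun σ τ => by rw [hc, hadd]; rfl
  choose z hz using hval
  let Z : A →ₐ[k] Ks := (MvPolynomial.aeval (R := k) z).comp r.symm.toAlgHom
  have hZ : ∀ i, Z (x i) = z i := fun i => by
    have : r.symm (x i) = MvPolynomial.X i := by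
      rw [AlgEquiv.symm_apply_eq]; exact (MvPolynomial.aeval_X x i).symm
    show MvPolynomial.aeval z (r.symm (x i)) = z i
    rw [this, MvPolynomial.aeval_X]
  refine ⟨toConv Z, fun σ => ofConv_injective (AlgHom.ext_of_adjoin_eq_top hgen ?_)⟩
  rintro _ ⟨i, rfl⟩
  rw [hadd, hz]
  show σ (z i) - z i + Z (x i) = σ (Z (x i))
  rw [hZ, sub_add_cancel]

/-- Multiplicative coordinates. -/
theorem good_of_lattice [IsGalois K Ks] (r : ℕ) :
    Good k K Ks (CoactBr.sp k (MonoidAlgebra k (Multiplicative (Fin r → ℤ)))) := by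
  classical
  let M := Multiplicative (Fin r → ℤ)
  refine good_sp fun c L hLf hLn hL hc => ?_
  haveI := hLf; haveI := hLn
  let u : WithConv (MonoidAlgebra k M →ₐ[k] Ks) → (M →* Ksˣ) := fun f =>
    MonoidHom.toHomUnits ((f.ofConv : MonoidAlgebra k M →* Ks).comp (MonoidAlgebra.of k M))
  have hu : ∀ (f : WithConv (MonoidAlgebra k M →ₐ[k] Ks)) (m : M), (u f m : Ks) = f.ofConv (MonoidAlgebra.of k M m) :=
    fun f m => rfl
  have humul : ∀ (f g : WithConv (MonoidAlgebra k M →ₐ[k] Ks)) (m : M), u (f * g) m = u f m * u g m := by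
    intro f g m
    refine Units.ext ?_
    rw [Units.val_mul, hu, hu, hu]
    show (f * g) (MonoidAlgebra.of k M m) = _
    rw [AlgHom.convMul_apply]
    simp [MonoidAlgebra.of_apply, MonoidAlgebra.comul_single]
  have hact : ∀ (σ : Ks ≃ₐ[K] Ks) (f : WithConv (MonoidAlgebra k M →ₐ[k] Ks)) (m : M),
      u (act σ f) m = Units.map σ.toAlgHom.toRingHom.toMonoidHom (u f m) := fun σ f m => Units.ext rfl
  let e : Fin r → M := fun i => Multiplicative.ofAdd (Pi.single i 1)
  have hdec : ∀ m : M, m = ∏ i, e i ^ (Multiplicative.toAdd m i) := by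
    intro m
    apply Multiplicative.toAdd.injective
    rw [toAdd_prod]
    ext j
    have hz : ∀ (x : M) (n : ℤ), Multiplicative.toAdd (x ^ n) = n • Multiplicative.toAdd x := fun x n => rfl
    simp only [e, hz, Finset.sum_apply, Pi.smul_apply, toAdd_ofAdd, Pi.single_apply, smul_eq_mul, mul_ite,
      _root_.mul_one, mul_zero, Finset.sum_ite_eq, Finset.mem_univ, if_true]
  have hval : ∀ i, ∃ z : Ksˣ, ∀ σ, u (c σ) (e i) = Units.map σ.toAlgHom.toRingHom.toMonoidHom z * z⁻¹ := fun i =>
    exists_cob_units (fun σ => u (c σ) (e i)) L (fun σ σ' h => by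
      show u (c σ) (e i) = u (c σ') (e i)
      rw [hL σ σ' h])
      fun σ τ => by rw [hc, humul, hact]
  choose z hz using hval
  let Z₀ : M →* Ksˣ :=
    { toFun := fun m => ∏ i, z i ^ (Multiplicative.toAdd m i)
      map_one' := by simp
      map_mul' := fun a b => by
        rw [← Finset.prod_mul_distrib]
        exact Finset.prod_congr rfl fun i _ => by rw [toAdd_mul, Pi.add_apply, zpow_add] }
  let Z : WithConv (MonoidAlgebra k M →ₐ[k] Ks) := toConv (MonoidAlgebra.lift k Ks M ((Units.coeHom Ks).comp Z₀))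
  have hZe : ∀ i, u Z (e i) = z i := by
    intro i
    refine Units.ext ?_
    rw [hu]
    show MonoidAlgebra.lift k Ks M _ (MonoidAlgebra.of k M (e i)) = _
    rw [MonoidAlgebra.lift_of]
    show ((∏ j, z j ^ (Multiplicative.toAdd (e i) j) : Ksˣ) : Ks) = _
    congr 1
    rw [Finset.prod_eq_single i (fun j _ hj => by simp [e, hj]) (by simp)]
    simp [e]
  refine ⟨Z, fun σ => ofConv_injective (MonoidAlgebra.algHom_ext' (MonoidHom.ext fun m => ?_) (by ext))⟩
  have key : u (c σ * Z) m = u (act σ Z) m := by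
    rw [hdec m, map_prod, map_prod]
    refine Finset.prod_congr rfl fun i _ => ?_
    rw [map_zpow, map_zpow, humul, hact, hZe, hz, inv_mul_cancel_right]
  exact congrArg Units.val key

theorem good_split [IsGalois K Ks] {T : Over (Spec (CommRingCat.of k))} [GrpObj T] {r : ℕ}
    (hT : Red.IsSplitTorusWith (Fin r → ℤ) T) : Good k K Ks T := by
  obtain ⟨e⟩ := hT
  obtain ⟨e'⟩ := MTBridge.nonempty_DS_iso k (Fin r → ℤ)
  exact good_of_iso (e ≪≫ e') (good_of_lattice r)

end Groth.Agent.Chev.SplitH1
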