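import Groth.Agent.Chev.TorsorNorm
import Groth.Agent.ClosedRep.GeomIntegral
import Groth.Agent.S11992
import Groth.Agent.AVRat.AxesSingular

/-!
# The map to the abelian variety defined by a torsor
-/

set_option autoImplicit false
set_option backward.isDefEq.respectTransparency false

universe u

open CategoryTheory CategoryTheory.Limits MonoidalCategory CartesianMonoidalCategory MonObj GrpObj AlgebraicGeometry
open IsLocalRing (closedPoint)

noncomputable section

namespace Groth.Agent.Chev

variable {k : Type u} [Field k] {A X Y : Over (Spec (CommRingCat.of k))}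

theorem geometricallyIntegral_of_group [GrpObj A] [Smooth A.hom] [ConnectedSpace ↥A.left] :
    GeometricallyIntegral A.hom :=
  haveI : GeometricallyConnected A.hom :=
    Groth.Agent.Rigid.geometricallyConnected_of_section A.hom η[A].left (Over.w η[A])
  Groth.Agent.ClosedRep.GeomIntegral.geometricallyIntegral_of_smooth A.hom

/-- A surjective map carries the generic point to the generic point. -/
theorem genericPoint_map [IsIntegral X.left] [IsIntegral Y.left] (g : X ⟶ Y) [Surjective g.left] :
    g.left (genericPoint X.left) = genericPoint Y.left := by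
  have h := (genericPoint_spec X.left).image g.left.continuous
  rw [Set.image_univ, Set.range_eq_univ.2 g.left.surjective, closure_univ] at h
  exact h.eq (genericPoint_spec Y.left)

theorem img_gen_comp [IsIntegral X.left] [IsIntegral Y.left] (g : X ⟶ Y) [Surjective g.left] :
    img (gen X ≫ g) = genericPoint Y.left := by
  show g.left ((spt (genericPoint X.left)).left (closedPoint _)) = _
  rw [spt_apply, genericPoint_map]

/-- Embeddings of the rational functions are determined by their points. -/
theorem algHom_gen_ext [IsIntegral Y.left] {N : Type u} [Field N] [Algebra k N] {φ ψ : KF Y →ₐ[k] N}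
    (h : VecGrp.ptMap φ ≫ gen Y = VecGrp.ptMap ψ ≫ gen Y) : φ = ψ := by
  haveI : Mono (Y.left.fromSpecStalk (genericPoint Y.left)) := inferInstance
  have h' : Spec.map (CommRingCat.ofHom φ.toRingHom) = Spec.map (CommRingCat.ofHom ψ.toRingHom) :=
    (cancel_mono (Y.left.fromSpecStalk (genericPoint Y.left))).1 (congrArg (fun q => q.left) h)
  exact AlgHom.ext fun r => congr($(Spec.map_injective h') r)

theorem hom_ext_gen [IsIntegral X.left] [IsSeparated Y.hom] {φ ψ : X ⟶ Y} (h : gen X ≫ φ = gen X ≫ ψ) : φ = ψ := by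
  apply Over.OverMorphism.ext
  haveI : IsDominant (X.left.fromSpecStalk (genericPoint X.left)) := ⟨by
    refine Dense.mono ?_ (dense_iff_closure_eq.2 (genericPoint_spec X.left).def)
    exact Set.singleton_subset_iff.2 ⟨closedPoint _, Scheme.fromSpecStalk_closedPoint⟩⟩
  exact ext_of_isDominant_of_isSeparated Y.hom (by rw [Over.w, Over.w]) (X.left.fromSpecStalk (genericPoint X.left))
    (congrArg (fun q => q.left) h)

/-- A point with values in the rational functions extends to a morphism into an abelian variety. -/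
theorem exists_extension [GrpObj A] [IsProper A.hom] [GeometricallyIntegral A.hom] [IsIntegral X.left]
    [Smooth X.hom] [IsSeparated X.hom] [QuasiCompact X.hom] [GeometricallyIntegral X.hom]
    (φ₀ : VecGrp.pt k (KF X) ⟶ A) : ∃ φ : X ⟶ A, gen X ≫ φ = φ₀ := by
  haveI : LocallyOfFiniteType A.hom := inferInstance
  obtain ⟨U, hxU, g, hg, hgA⟩ := spread_out_of_isGermInjective' X.hom A.hom (x := genericPoint X.left) φ₀.left
    ((Over.w φ₀).trans (spec_algebraMap_stalk (genericPoint X.left)))
  obtain ⟨h, hh, hhU⟩ := Groth.Agent.S11992.result k X.left X.hom A U ⟨_, hxU⟩ g hgA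
  refine ⟨Over.homMk h hh, Over.OverMorphism.ext ?_⟩
  show X.left.fromSpecStalk _ ≫ h = φ₀.left
  rw [hg, ← Scheme.Opens.fromSpecStalkOfMem_ι, Category.assoc, hhU]

set_option maxHeartbeats 1000000 in
/-- A torsor under an abelian variety has a map to it which is equivariant for a positive power. -/
theorem exists_torsor_map [GrpObj A] [IsProper A.hom] [Smooth A.hom] [ConnectedSpace ↥A.left]
    [Smooth X.hom] [IsSeparated X.hom] [QuasiCompact X.hom] [GeometricallyIntegral X.hom]
    [LocallyOfFiniteType Y.hom] [IsSeparated Y.hom] [IsIntegral Y.left]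
    {a : AlgGrp.Action A X} {f : X ⟶ Y} [Flat f.left] [Surjective f.left] (hP : IsPullback a.act (snd A X) f f) :
    ∃ (φ : X ⟶ A) (n : ℕ), 0 < n ∧
      ∀ (T : Over (Spec (CommRingCat.of k))) (b : T ⟶ A) (x : T ⟶ X), lift b x ≫ a.act ≫ φ = (x ≫ φ) * b ^ n := by
  classical
  haveI := geometricallyIntegral_of_group (A := A)
  haveI : IsCommMonObj A := isCommMonObj_of_isProper_of_geometricallyIntegral A
  haveI : IsIntegral X.left := GeometricallyIntegral.isIntegral_of_subsingleton X.hom
  haveI := Groth.Agent.AVRat.geometricallyIntegral_prod (X := A) (Y := X)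
  haveI : IsIntegral (A ⊗ X).left := GeometricallyIntegral.isIntegral_of_subsingleton (A ⊗ X).hom
  haveI : QuasiCompact f.left := by
    haveI : QuasiCompact (f.left ≫ Y.hom) := by rw [Over.w]; infer_instance
    exact QuasiCompact.of_comp f.left Y.hom
  haveI : Smooth f.left := smooth_of_torsor hP
  have hP' : IsPullback a.act.left (snd A X).left f.left f.left := hP.map (Over.forget _)
  haveI hsa : Surjective a.act.left := MorphismProperty.of_isPullback hP'.flip ‹Surjective f.left›
  haveI hss : Surjective (snd A X).left := MorphismProperty.of_isPullback hP' ‹Surjective f.left›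
  obtain ⟨L, _, _, _, _, p, hfin, hgal, hp⟩ := exists_galois_point (f := f)
  let gm : KF Y →ₐ[k] KF X := fmap (gen X ≫ f) (img_gen_comp f)
  letI : Algebra (KF Y) (KF X) := gm.toRingHom.toAlgebra
  haveI : IsScalarTower k (KF Y) (KF X) := IsScalarTower.of_algebraMap_eq fun c => (gm.commutes c).symm
  have hx : gen X ≫ f = VecGrp.ptMap (IsScalarTower.toAlgHom k (KF Y) (KF X)) ≫ gen Y :=
    (ptMap_fmap _ (img_gen_comp f)).symm.trans (by congr 2)
  haveI : IsScalarTower k (KF Y) (SeparableClosure (KF X)) := IsScalarTower.of_algebraMap_eq fun c => by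
    rw [IsScalarTower.algebraMap_apply k (KF X) (SeparableClosure (KF X)),
      IsScalarTower.algebraMap_apply (KF Y) (KF X) (SeparableClosure (KF X)), ← IsScalarTower.algebraMap_apply k (KF Y) (KF X)]
  obtain ⟨φ₀, n, hn, key⟩ := exists_map_of_tnorm hP p hp (Ms := SeparableClosure (KF X)) (gen X) hx
  obtain ⟨φ, hφ⟩ := exists_extension φ₀
  refine ⟨φ, n, hn, fun T b x => ?_⟩
  let w := gen (A ⊗ X)
  let δ : KF Y →ₐ[k] KF (A ⊗ X) := fmap (w ≫ snd A X ≫ f) (by
    haveI : Surjective (snd A X ≫ f).left := by rw [Over.comp_left]; infer_instance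
    exact img_gen_comp (snd A X ≫ f))
  letI : Algebra (KF Y) (KF (A ⊗ X)) := δ.toRingHom.toAlgebra
  haveI : IsScalarTower k (KF Y) (KF (A ⊗ X)) := IsScalarTower.of_algebraMap_eq fun c => (δ.commutes c).symm
  haveI : IsScalarTower k (KF Y) (SeparableClosure (KF (A ⊗ X))) := IsScalarTower.of_algebraMap_eq fun c => by
    rw [IsScalarTower.algebraMap_apply k (KF (A ⊗ X)) (SeparableClosure (KF (A ⊗ X))),
      IsScalarTower.algebraMap_apply (KF Y) (KF (A ⊗ X)) (SeparableClosure (KF (A ⊗ X))), ← IsScalarTower.algebraMap_apply k (KF Y) (KF (A ⊗ X))]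
  have hδ : VecGrp.ptMap δ ≫ gen Y = w ≫ snd A X ≫ f := ptMap_fmap _ _
  have hj : ∀ (g : A ⊗ X ⟶ X) (hg : img (w ≫ g) = genericPoint X.left), g ≫ f = snd A X ≫ f →
      ∀ c, fmap (w ≫ g) hg (algebraMap (KF Y) (KF X) c) = algebraMap (KF Y) (KF (A ⊗ X)) c := by
    intro g hg hgf c
    have e : (fmap (w ≫ g) hg).comp gm = δ := algHom_gen_ext (by
      rw [ptMap_comp, Category.assoc, ptMap_fmap, ← Category.assoc, ptMap_fmap, hδ, Category.assoc, hgf])
    exact congr($e c)
  let j₁ : KF X →ₐ[KF Y] KF (A ⊗ X) := { fmap (w ≫ a.act) (img_gen_comp a.act) with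
    commutes' := hj a.act (img_gen_comp a.act) hP.w }
  let j₂ : KF X →ₐ[KF Y] KF (A ⊗ X) := { fmap (w ≫ snd A X) (img_gen_comp (snd A X)) with
    commutes' := hj (snd A X) (img_gen_comp (snd A X)) rfl }
  have e₁ : VecGrp.ptMap (j₁.restrictScalars k) ≫ gen X = w ≫ a.act :=
    ptMap_fmap (w ≫ a.act) (img_gen_comp a.act)
  have e₂ : VecGrp.ptMap (j₂.restrictScalars k) ≫ gen X = w ≫ snd A X :=
    ptMap_fmap (w ≫ snd A X) (img_gen_comp (snd A X))
  have h := key (KF (A ⊗ X)) (SeparableClosure (KF (A ⊗ X))) j₁ j₂ (w ≫ fst A X) (by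
    rw [e₁, e₂, ← comp_lift, lift_fst_snd, Category.comp_id])
  rw [← hφ, reassoc_of% e₁, reassoc_of% e₂] at h
  have hgl : a.act ≫ φ = fst A X ^ n * (snd A X ≫ φ) := hom_ext_gen (by
    rw [h, MonObj.comp_mul, MonObj.comp_pow])
  have h2 := congrArg (fun q => lift b x ≫ q) hgl
  simp only [MonObj.comp_mul, MonObj.comp_pow, lift_fst, lift_snd_assoc] at h2
  rw [h2, _root_.mul_comm]

end Groth.Agent.Chev
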