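import Mathlib.RingTheory.Algebraic.Integral
import Mathlib.RingTheory.Spectrum.Prime.Chevalley
import Mathlib.RingTheory.FiniteType
import Mathlib.RingTheory.Ideal.GoingUp
import Mathlib.FieldTheory.IsAlgClosed.Basic
import Groth.Agent.LangMap.Main

/-!
# Algebraicity of a correspondence at a minimal multisection

Let `C` be generated up to integrality by `R₀` and the image of `B`, and let `P` be a prime of `C` over
the zero ideal of `R₀` whose trace on `B` is maximal among such primes. Then `C ⧸ P` is algebraic over `R₀`.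
-/

set_option autoImplicit false

universe u

open Polynomial

namespace Groth.Agent.Chev.AVAct

variable {k : Type u} [Field k] [Infinite k] {R₀ B C : Type u} [CommRing R₀] [IsDomain R₀] [CommRing B]
  [CommRing C] [Algebra k R₀] [Algebra k B] [Algebra k C] [Algebra R₀ C] [IsScalarTower k R₀ C]
  [Algebra.FiniteType k R₀] [Algebra.FiniteType k C]
  (β : B →ₐ[k] C) (P : Ideal C) [P.IsPrime]

/-- The images of `B` are algebraic. -/
theorem isAlgebraic_image (hP : P.comap (algebraMap R₀ C) = ⊥)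
    (hmin : ∀ P' : Ideal C, P'.IsPrime → P'.comap (algebraMap R₀ C) = ⊥ → P.comap β ≤ P'.comap β →
      P'.comap β = P.comap β) (b : B) : IsAlgebraic R₀ (Ideal.Quotient.mk P (β b)) := by
  classical
  by_contra htr
  haveI : IsNoetherianRing R₀ := Algebra.FiniteType.isNoetherianRing k R₀
  let φ : R₀[X] →ₐ[R₀] C ⧸ P := Polynomial.aeval (Ideal.Quotient.mk P (β b))
  have hφ : Function.Injective φ := transcendental_iff_injective.1 htr
  have hft : φ.toRingHom.FiniteType := by
    letI := φ.toRingHom.toAlgebra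
    haveI : IsScalarTower R₀ R₀[X] (C ⧸ P) := IsScalarTower.of_algebraMap_eq fun r => (φ.commutes r).symm
    haveI : IsScalarTower k R₀[X] (C ⧸ P) := IsScalarTower.of_algebraMap_eq fun r => by
      rw [IsScalarTower.algebraMap_apply k R₀ (C ⧸ P), IsScalarTower.algebraMap_apply k R₀ R₀[X]]
      exact (φ.commutes _).symm
    exact (Algebra.FiniteType.of_restrictScalars_finiteType k R₀[X] (C ⧸ P) : _)
  have hfp : φ.toRingHom.FinitePresentation := RingHom.FinitePresentation.of_finiteType.1 hft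
  have hgen : genericPoint (PrimeSpectrum R₀[X]) ∈ Set.range (PrimeSpectrum.comap φ.toRingHom) := by
    refine ⟨⟨⊥, Ideal.isPrime_bot⟩, ?_⟩
    have h0 : IsGenericPoint (⟨⊥, Ideal.isPrime_bot⟩ : PrimeSpectrum R₀[X]) Set.univ := by
      rw [isGenericPoint_def, PrimeSpectrum.closure_singleton]
      simp
    refine Eq.trans ?_ (h0.eq (genericPoint_spec _))
    exact PrimeSpectrum.ext (Ideal.comap_bot_of_injective φ.toRingHom hφ)
  obtain ⟨U, hU, ⟨x, hx⟩, hsub⟩ := LangMap.exists_open_subset_of_genericPoint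
    (PrimeSpectrum.isConstructible_range_comap hfp) hgen
  obtain ⟨_, ⟨g, rfl⟩, hxg, hgU⟩ :=
    PrimeSpectrum.isTopologicalBasis_basic_opens.exists_subset_of_mem_open hx hU
  have hg : g ≠ 0 := fun h => hxg (h ▸ zero_mem _)
  have hinj : Function.Injective (algebraMap k R₀) := (algebraMap k R₀).injective
  obtain ⟨c, hc⟩ : ∃ c : k, ¬ g.IsRoot (algebraMap k R₀ c) := by
    by_contra hall
    push Not at hall
    exact Set.infinite_univ (α := k) (((Polynomial.finite_setOf_isRoot hg).preimage hinj.injOn).subset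
      fun c _ => hall c)
  let ev : R₀[X] →ₐ[R₀] R₀ := Polynomial.aeval (algebraMap k R₀ c)
  haveI : (RingHom.ker ev.toRingHom).IsPrime := RingHom.ker_isPrime _
  have hmem : (⟨RingHom.ker ev.toRingHom, ‹_›⟩ : PrimeSpectrum R₀[X]) ∈
      (PrimeSpectrum.basicOpen g : Set (PrimeSpectrum R₀[X])) := fun h => hc h
  obtain ⟨P'', hP''⟩ := hsub (hgU hmem)
  have hker : P''.asIdeal.comap φ.toRingHom = RingHom.ker ev.toRingHom :=
    congrArg PrimeSpectrum.asIdeal hP''
  let P' : Ideal C := P''.asIdeal.comap (Ideal.Quotient.mk P)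
  have hP' : P'.comap (algebraMap R₀ C) = ⊥ := by
    ext r
    have h1 := SetLike.ext_iff.1 hker (Polynomial.C r)
    simp only [Ideal.mem_comap, RingHom.mem_ker, AlgHom.toRingHom_eq_coe, RingHom.coe_coe,
      Polynomial.aeval_C, φ, ev] at h1
    exact h1
  have hle : P ≤ P' := fun x hx => by
    show Ideal.Quotient.mk P x ∈ P''.asIdeal
    rw [Ideal.Quotient.eq_zero_iff_mem.2 hx]
    exact zero_mem _
  have heq := hmin P' inferInstance hP' (Ideal.comap_mono hle)
  have hbc : b - algebraMap k B c ∈ P'.comap β := by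
    have h1 := (SetLike.ext_iff.1 hker (Polynomial.X - Polynomial.C (algebraMap k R₀ c))).2 (by
      show ev (Polynomial.X - Polynomial.C (algebraMap k R₀ c)) = 0
      simp [ev])
    simp only [Ideal.mem_comap, AlgHom.toRingHom_eq_coe, RingHom.coe_coe, map_sub, Polynomial.aeval_X,
      Polynomial.aeval_C, φ] at h1
    show Ideal.Quotient.mk P (β (b - algebraMap k B c)) ∈ P''.asIdeal
    rw [map_sub, AlgHom.commutes, map_sub, IsScalarTower.algebraMap_apply k R₀ C]
    exact h1
  rw [heq, Ideal.mem_comap, map_sub, AlgHom.commutes, ← Ideal.Quotient.eq_zero_iff_mem, map_sub,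
    sub_eq_zero, IsScalarTower.algebraMap_apply k R₀ C] at hbc
  apply htr
  rw [hbc]
  exact isAlgebraic_algebraMap _

/-- The quotient is algebraic. -/
theorem isAlgebraic_quotient (hgen : ∀ c : C, IsIntegral (Algebra.adjoin R₀ (Set.range β)) c)
    (hP : P.comap (algebraMap R₀ C) = ⊥)
    (hmin : ∀ P' : Ideal C, P'.IsPrime → P'.comap (algebraMap R₀ C) = ⊥ → P.comap β ≤ P'.comap β →
      P'.comap β = P.comap β) : Algebra.IsAlgebraic R₀ (C ⧸ P) := by
  refine ⟨fun x => ?_⟩
  obtain ⟨c, rfl⟩ := Ideal.Quotient.mk_surjective x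
  let S := Subalgebra.algebraicClosure R₀ (C ⧸ P)
  have hT : Algebra.adjoin R₀ (Set.range β) ≤ S.comap (Ideal.Quotient.mkₐ R₀ P) :=
    Algebra.adjoin_le (by rintro _ ⟨b, rfl⟩; exact isAlgebraic_image β P hP hmin b)
  let φ : Algebra.adjoin R₀ (Set.range β) →+* S :=
    (((Ideal.Quotient.mkₐ R₀ P).comp (Algebra.adjoin R₀ (Set.range β)).val).codRestrict S
      fun t => hT t.2).toRingHom
  have hi : IsIntegral S (Ideal.Quotient.mk P c) :=
    IsIntegral.map_of_comp_eq φ (Ideal.Quotient.mk P) (RingHom.ext fun t => rfl) (hgen c)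
  exact IsIntegral.trans_isAlgebraic (R := R₀) hi

omit [IsDomain R₀] in
/-- There are no specialisations over the generic point. -/
theorem eq_of_le [IsDomain R₀] (halg : Algebra.IsAlgebraic R₀ (C ⧸ P)) (P' : Ideal C) [P'.IsPrime]
    (hP' : P'.comap (algebraMap R₀ C) = ⊥) (hle : P ≤ P') : P' = P := by
  refine le_antisymm (fun x hx => ?_) hle
  by_contra hxP
  have hne : Ideal.Quotient.mk P x ≠ 0 := fun h => hxP (Ideal.Quotient.eq_zero_iff_mem.1 h)
  have hmem : Ideal.Quotient.mk P x ∈ P'.map (Ideal.Quotient.mk P) := Ideal.mem_map_of_mem _ hx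
  apply Ideal.comap_ne_bot_of_algebraic_mem hne hmem (Algebra.IsAlgebraic.isAlgebraic (R := R₀) _)
  rw [← hP']
  ext r
  simp only [Ideal.mem_comap]
  rw [← Ideal.Quotient.mk_algebraMap]
  refine ⟨fun h => ?_, Ideal.mem_map_of_mem _⟩
  obtain ⟨y, hy, e⟩ := (Ideal.mem_map_iff_of_surjective _ Ideal.Quotient.mk_surjective).1 h
  have := hle ((Ideal.Quotient.eq).1 e)
  simpa using P'.sub_mem hy this

variable {Ω Ω' : Type u} [Field Ω] [Algebra R₀ Ω] [Field Ω'] [Algebra R₀ Ω']

/-- Finitely many homomorphisms extend a given embedding of `R₀`. -/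
theorem finite_algHom [Algebra.FiniteType R₀ C] [Module.IsTorsionFree R₀ Ω] (halg : Algebra.IsAlgebraic R₀ (C ⧸ P)) :
    {χ : C →ₐ[R₀] Ω | P ≤ RingHom.ker χ}.Finite := by
  classical
  obtain ⟨s, hs⟩ := (Algebra.FiniteType.out (R := R₀) (A := C))
  have hp : ∀ c : C, ∃ p : R₀[X], p ≠ 0 ∧ Polynomial.aeval (Ideal.Quotient.mk P c) p = 0 := fun c =>
    Algebra.IsAlgebraic.isAlgebraic (R := R₀) _
  choose p hp0 hp using hp
  let roots : ∀ c : s, Set Ω := fun c => {ω | ((p c.1).map (algebraMap R₀ Ω)).IsRoot ω}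
  have hfin : (Set.univ.pi roots).Finite := Set.Finite.pi fun c => Polynomial.finite_setOf_isRoot
    ((Polynomial.map_ne_zero_iff (FaithfulSMul.algebraMap_injective R₀ Ω)).2 (hp0 _))
  refine Set.Finite.of_finite_image (f := fun χ : C →ₐ[R₀] Ω => fun c : s => χ c.1) (hfin.subset ?_) ?_
  · rintro _ ⟨χ, hχ, rfl⟩ c -
    show ((p c.1).map (algebraMap R₀ Ω)).eval (χ c.1) = 0
    rw [Polynomial.eval_map, ← Polynomial.aeval_def, Polynomial.aeval_algHom_apply]
    apply hχ
    rw [← Ideal.Quotient.eq_zero_iff_mem, ← Ideal.Quotient.mkₐ_eq_mk R₀, ← Polynomial.aeval_algHom_apply]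
    exact hp c.1
  · intro χ _ χ' _ h
    apply AlgHom.ext_of_adjoin_eq_top hs
    intro c hc
    exact congrFun h ⟨c, hc⟩

/-- Every extension into a larger field comes from the algebraically closed one. -/
theorem exists_factor [IsAlgClosed Ω] [Module.IsTorsionFree R₀ Ω] (halg : Algebra.IsAlgebraic R₀ (C ⧸ P))
    (ψ : Ω →ₐ[R₀] Ω') (χ' : C →ₐ[R₀] Ω') (h : P ≤ RingHom.ker χ') :
    ∃ χ : C →ₐ[R₀] Ω, P ≤ RingHom.ker χ ∧ ψ.comp χ = χ' := by
  have hmem : ∀ c, χ' c ∈ ψ.range := by
    intro c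
    obtain ⟨p, hp0, hp⟩ := Algebra.IsAlgebraic.isAlgebraic (R := R₀) (Ideal.Quotient.mk P c)
    letI : Algebra Ω Ω' := ψ.toRingHom.toAlgebra
    haveI : IsScalarTower R₀ Ω Ω' := IsScalarTower.of_algebraMap_eq fun r => (ψ.commutes r).symm
    have hint : IsIntegral Ω (χ' c) := by
      apply IsAlgebraic.isIntegral
      refine ⟨p.map (algebraMap R₀ Ω),
        (Polynomial.map_ne_zero_iff (FaithfulSMul.algebraMap_injective R₀ Ω)).2 hp0, ?_⟩
      rw [Polynomial.aeval_map_algebraMap, Polynomial.aeval_algHom_apply]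
      apply h
      rw [← Ideal.Quotient.eq_zero_iff_mem, ← Ideal.Quotient.mkₐ_eq_mk R₀, ← Polynomial.aeval_algHom_apply]
      exact hp
    exact minpoly.mem_range_of_degree_eq_one Ω (χ' c)
      (IsAlgClosed.degree_eq_one_of_irreducible Ω (minpoly.irreducible hint))
  let e := AlgEquiv.ofInjective ψ ψ.toRingHom.injective
  let χ : C →ₐ[R₀] Ω := e.symm.toAlgHom.comp (χ'.codRestrict ψ.range hmem)
  have hχ : ∀ c, ψ (χ c) = χ' c := fun c => congrArg Subtype.val (e.apply_symm_apply ⟨χ' c, hmem c⟩)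
  refine ⟨χ, fun c hc => ψ.toRingHom.injective ?_, AlgHom.ext hχ⟩
  rw [map_zero]
  exact (hχ c).trans (h hc)

/-- There is an extension into an algebraically closed field. -/
theorem exists_algHom [IsAlgClosed Ω] [Module.IsTorsionFree R₀ Ω] (halg : Algebra.IsAlgebraic R₀ (C ⧸ P))
    (hP : P.comap (algebraMap R₀ C) = ⊥) : ∃ χ : C →ₐ[R₀] Ω, P ≤ RingHom.ker χ := by
  haveI : FaithfulSMul R₀ (C ⧸ P) := (faithfulSMul_iff_algebraMap_injective _ _).2 <|
    (injective_iff_map_eq_zero _).2 fun r hr => by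
      rw [← Ideal.Quotient.mk_algebraMap, Ideal.Quotient.eq_zero_iff_mem, ← Ideal.mem_comap, hP] at hr
      exact hr
  haveI : Module.IsTorsionFree R₀ (C ⧸ P) := inferInstance
  exact ⟨(IsAlgClosed.lift : (C ⧸ P) →ₐ[R₀] Ω).comp (Ideal.Quotient.mkₐ R₀ P), fun c hc => by
    show (IsAlgClosed.lift : (C ⧸ P) →ₐ[R₀] Ω) (Ideal.Quotient.mk P c) = 0
    rw [Ideal.Quotient.eq_zero_iff_mem.2 hc, map_zero]⟩

end Groth.Agent.Chev.AVAct
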