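import Groth.Agent.Chev.TorsorDiff
import Groth.Agent.Rigid.Integral
import Groth.Agent.Rigid.FibreTranslate
import Groth.Agent.S2500
import Groth.Agent.DvrDom.ClosedProper
import Mathlib.AlgebraicGeometry.ZariskisMainTheorem
import Mathlib.AlgebraicGeometry.AlgClosed.Basic

/-!
# Faithful actions of abelian varieties have finite stabilisers

For a proper group `A` acting faithfully on rational points on a connected separated scheme `X` of finite
type over an algebraically closed field, the map `(a, x) ↦ (a · x, x)` is finite.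
-/

set_option autoImplicit false
set_option backward.isDefEq.respectTransparency false

universe u

open CategoryTheory CategoryTheory.Limits MonoidalCategory CartesianMonoidalCategory MonObj GrpObj AlgebraicGeometry

noncomputable section

namespace Groth.Agent.Chev

variable {k : Type u} [Field k] [IsAlgClosed k] {A X : Over (Spec (CommRingCat.of k))}

local instance subsingleton_unit : Subsingleton ↥((𝟙_ (Over (Spec (CommRingCat.of k)))).left) :=
  inferInstanceAs (Subsingleton (PrimeSpectrum k))

local instance inhabited_unit : Inhabited ↥((𝟙_ (Over (Spec (CommRingCat.of k)))).left) :=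
  ⟨(IsLocalRing.closedPoint k : ↥(Spec (CommRingCat.of k)))⟩

/-- A closed point is a rational point. -/
theorem exists_rat_point [LocallyOfFiniteType X.hom] (x : X.left) (hx : IsClosed {x}) :
    ∃ p : 𝟙_ (Over (Spec (CommRingCat.of k))) ⟶ X, ∀ z, p.left z = x :=
  ⟨Over.homMk (pointOfClosedPoint X.hom x hx) (pointOfClosedPoint_comp _ _ _),
    fun z => pointOfClosedPoint_apply _ _ _ z⟩

/-- Rational points with the same image are equal. -/
theorem rat_point_ext [LocallyOfFiniteType X.hom] {p q : 𝟙_ (Over (Spec (CommRingCat.of k))) ⟶ X}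
    (h : ∀ z, p.left z = q.left z) : p = q :=
  Over.OverMorphism.ext (ext_of_apply_closedPoint_eq X.hom (Over.w p) (Over.w q) (h _))

variable [GrpObj A]

/-- Two rational points of the group acting in the same way are equal. -/
theorem eq_of_act_eq (a : AlgGrp.Action A X)
    (hfaith : ∀ g : 𝟙_ (Over (Spec (CommRingCat.of k))) ⟶ A,
      lift (toUnit X ≫ g) (𝟙 X) ≫ a.act = 𝟙 X → g = η[A])
    (g h : 𝟙_ (Over (Spec (CommRingCat.of k))) ⟶ A)
    (he : lift (toUnit X ≫ g) (𝟙 X) ≫ a.act = lift (toUnit X ≫ h) (𝟙 X) ≫ a.act) : g = h := by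
  have h1 : lift (toUnit X ≫ (h⁻¹ * g)) (𝟙 X) ≫ a.act = 𝟙 X := by
    rw [MonObj.comp_mul, GrpObj.comp_inv, lift_mul_act, he, ← lift_mul_act, inv_mul_cancel, Hom.one_def]
    have := congrArg (fun z => lift (toUnit X) (𝟙 X) ≫ z) a.one_act
    simp only [lift_whiskerRight_assoc, lift_leftUnitor_hom] at this
    exact this
  have h2 := hfaith _ h1
  rw [show η[A] = (1 : 𝟙_ _ ⟶ A) by rw [Hom.one_def, toUnit_unit, Category.id_comp], inv_mul_eq_one] at h2
  exact h2.symm

variable [IsProper A.hom] [LocallyOfFiniteType X.hom] [IsSeparated X.hom] [PreconnectedSpace ↥X.left]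
  (a : AlgGrp.Action A X)
  (hfaith : ∀ g : 𝟙_ (Over (Spec (CommRingCat.of k))) ⟶ A, lift (toUnit X ≫ g) (𝟙 X) ≫ a.act = 𝟙 X → g = η[A])

/-- The graph map of an action. -/
def actGraph : A ⊗ X ⟶ X ⊗ X := lift a.act (snd A X)

omit [IsAlgClosed k] [IsProper A.hom] [LocallyOfFiniteType X.hom] [IsSeparated X.hom] [PreconnectedSpace ↥X.left] in
theorem actGraph_fst : actGraph a ≫ fst X X = a.act := lift_fst _ _

omit [IsAlgClosed k] [IsProper A.hom] [LocallyOfFiniteType X.hom] [IsSeparated X.hom] [PreconnectedSpace ↥X.left] in
theorem actGraph_snd : actGraph a ≫ snd X X = snd A X := lift_snd _ _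

omit [IsAlgClosed k] [LocallyOfFiniteType X.hom] [PreconnectedSpace ↥X.left] in
theorem isProper_actGraph : IsProper (actGraph a).left := by
  haveI : IsProper (snd A X).left := MorphismProperty.pullback_snd (P := @IsProper) A.hom X.hom ‹_›
  haveI : IsSeparated (snd X X).left := MorphismProperty.pullback_snd (P := @IsSeparated) X.hom X.hom ‹_›
  haveI : IsProper ((actGraph a).left ≫ (snd X X).left) := by
    rw [← Over.comp_left, actGraph_snd]
    infer_instance
  exact IsProper.of_comp _ (snd X X).left

include hfaith in
set_option maxHeartbeats 1000000 in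
/-- The points of a fibre over a closed point are closed. -/
theorem isClosed_of_actGraph (p : (X ⊗ X).left) (hp : IsClosed {p}) (q : (A ⊗ X).left)
    (hq : (actGraph a).left q = p) : IsClosed {q} := by
  classical
  haveI : LocallyOfFiniteType A.hom := inferInstance
  haveI : LocallyOfFiniteType (A ⊗ X).hom := inferInstanceAs (LocallyOfFiniteType (pullback.fst A.hom X.hom ≫ A.hom))
  haveI : LocallyOfFiniteType (X ⊗ X).hom := inferInstanceAs (LocallyOfFiniteType (pullback.fst X.hom X.hom ≫ X.hom))
  haveI : IsProper (snd A X).left := MorphismProperty.pullback_snd (P := @IsProper) A.hom X.hom ‹_›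
  obtain ⟨pp, hpp⟩ := exists_rat_point p hp
  let x := pp ≫ snd X X
  let x' := pp ≫ fst X X
  let Z : TopologicalSpace.Closeds (A ⊗ X).left := ⟨closure {q}, isClosed_closure⟩
  let I := Scheme.IdealSheafData.vanishingIdeal Z
  let C : Over (Spec (CommRingCat.of k)) := Over.mk (I.subschemeι ≫ (A ⊗ X).hom)
  let ci : C ⟶ A ⊗ X := Over.homMk I.subschemeι rfl
  haveI : IsClosedImmersion ci.left := inferInstanceAs (IsClosedImmersion I.subschemeι)
  have hrange : Set.range ci.left = closure {q} := by
    show Set.range I.subschemeι = _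
    rw [Scheme.IdealSheafData.range_subschemeι, Scheme.IdealSheafData.coe_support_vanishingIdeal]
    rfl
  haveI : IsReduced C.left := DvrDom.isReduced_vanishingIdeal_subscheme Z
  haveI : IrreducibleSpace C.left := by
    haveI := Subtype.irreducibleSpace ((isIrreducible_singleton (x := q)).closure)
    exact (ci.left.isEmbedding.toHomeomorph.trans (Homeomorph.setCongr hrange)).irreducibleSpace_iff.2 this
  haveI : LocallyOfFiniteType C.hom := by rw [← Over.w ci]; infer_instance
  have hfib : ∀ c : C.left, (actGraph a).left (ci.left c) = p := by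
    intro c
    have hc : ci.left c ∈ closure {q} := hrange ▸ Set.mem_range_self c
    have : (actGraph a).left (ci.left c) ∈ closure ((actGraph a).left '' {q}) :=
      image_closure_subset_closure_image (actGraph a).left.continuous ⟨_, hc, rfl⟩
    rw [Set.image_singleton, hq, hp.closure_eq] at this
    exact this
  have hsnd : ∀ c : C.left, (snd A X).left (ci.left c) = x.left default := by
    intro c
    rw [← actGraph_snd a, Over.comp_left, Scheme.Hom.comp_apply, hfib, ← hpp default]
    rfl
  have hact : ∀ c : C.left, a.act.left (ci.left c) = x'.left default := by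
    intro c
    conv_lhs => rw [← actGraph_fst a]
    rw [Over.comp_left, Scheme.Hom.comp_apply, hfib, ← hpp default]
    rfl
  -- rational points of `C` act in the same way
  haveI : IsIntegral C.left := isIntegral_of_irreducibleSpace_of_isReduced _
  haveI : GeometricallyIrreducible C.hom := Groth.Agent.S2500.result C.hom
  haveI : GeometricallyReduced C.hom := Groth.Agent.Rigid.geometricallyReduced_of_perfect C.hom
  haveI : GeometricallyIntegral C.hom := GeometricallyIntegral.of_geometricallyReduced_of_geometricallyIrreducible _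
  haveI : IsProper C.hom := by
    let m : C ⟶ A := ci ≫ fst A X
    have hι : ci = m ≫ lift (𝟙 A) (toUnit A ≫ x) := by
      apply CartesianMonoidalCategory.hom_ext
      · simp [m]
      · rw [Category.assoc, lift_snd]
        apply Over.OverMorphism.ext
        haveI : LocallyOfFiniteType ((ci ≫ snd A X).left ≫ X.hom) := by rw [Over.w]; infer_instance
        refine ext_of_apply_eq X.hom Set.univ isClosed_univ.isLocallyClosed dense_univ (fun c _ _ => ?_) ?_
        · rw [Over.comp_left, Scheme.Hom.comp_apply, hsnd, Over.comp_left, Over.comp_left]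
          exact congrArg x.left (Subsingleton.elim _ _)
        · rw [Over.w, Over.w]
    haveI : IsSeparated (lift (𝟙 A) (toUnit A ≫ x)).left := by
      haveI : IsSeparated ((lift (𝟙 A) (toUnit A ≫ x)).left ≫ (fst A X).left) := by
        rw [← Over.comp_left, lift_fst, Over.id_left]; infer_instance
      exact IsSeparated.of_comp _ (fst A X).left
    haveI : IsClosedImmersion (m.left ≫ (lift (𝟙 A) (toUnit A ≫ x)).left) := by
      rw [← Over.comp_left, ← hι]; infer_instance
    haveI : IsClosedImmersion m.left := IsClosedImmersion.of_comp m.left (lift (𝟙 A) (toUnit A ≫ x)).left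
    rw [← Over.w m]
    infer_instance
  let f : C ⊗ X ⟶ X := lift (fst C X ≫ ci ≫ fst A X) (snd C X) ≫ a.act
  let g : (C ⊗ X).left ⟶ X.left := (snd C X).left
  haveI : IsProper g := MorphismProperty.pullback_snd (P := @IsProper) C.hom X.hom ‹_›
  haveI : Flat g := MorphismProperty.pullback_snd (P := @Flat) C.hom X.hom inferInstance
  haveI : LocallyOfFinitePresentation g :=
    MorphismProperty.pullback_snd (P := @LocallyOfFinitePresentation) C.hom X.hom inferInstance
  haveI : GeometricallyIntegral g := MorphismProperty.pullback_snd (P := @GeometricallyIntegral) C.hom X.hom ‹_›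
  obtain ⟨c₀, hc₀⟩ : q ∈ Set.range ci.left := hrange ▸ subset_closure rfl
  haveI : Surjective g := ⟨fun y => by
    obtain ⟨z, -, hz⟩ := Scheme.Pullback.exists_preimage_pullback (f := C.hom) (g := X.hom) c₀ y
      (@Subsingleton.elim _ (inferInstanceAs (Subsingleton (PrimeSpectrum k))) _ _)
    exact ⟨z, hz⟩⟩
  have hcol : (f.left '' (g ⁻¹' {x.left default})).Subsingleton := by
    suffices H : ∀ z, g z = x.left default → f.left z = x'.left default by
      rintro _ ⟨z₁, hz₁, rfl⟩ _ ⟨z₂, hz₂, rfl⟩
      rw [H z₁ hz₁, H z₂ hz₂]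
    by_contra hcon
    push Not at hcon
    obtain ⟨z₀, hz₀, hz₀'⟩ := hcon
    haveI : LocallyOfFiniteType (C ⊗ X).hom :=
      inferInstanceAs (LocallyOfFiniteType (pullback.fst C.hom X.hom ≫ C.hom))
    haveI : JacobsonSpace (C ⊗ X).left := LocallyOfFiniteType.jacobsonSpace (C ⊗ X).hom
    have hx : IsClosed {x.left default} := by
      haveI : IsClosedImmersion x.left := isClosedImmersion_of_comp_eq_id X.hom x.left (Over.w x)
      have := x.left.isClosedEmbedding.isClosed_range
      rwa [Set.range_eq_singleton (fun z => congrArg x.left (Subsingleton.elim z default))] at this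
    have hx' : IsClosed {x'.left default} := by
      haveI : IsClosedImmersion x'.left := isClosedImmersion_of_comp_eq_id X.hom x'.left (Over.w x')
      have := x'.left.isClosedEmbedding.isClosed_range
      rwa [Set.range_eq_singleton (fun z => congrArg x'.left (Subsingleton.elim z default))] at this
    obtain ⟨z, ⟨hz, hz'⟩, hzc⟩ := nonempty_inter_closedPoints
      (Z := g ⁻¹' {x.left default} ∩ (f.left ⁻¹' {x'.left default})ᶜ) ⟨z₀, hz₀, hz₀'⟩
      ((hx.preimage g.continuous).isLocallyClosed.inter
        (hx'.preimage f.left.continuous).isOpen_compl.isLocallyClosed)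
    obtain ⟨zp, hzp⟩ := exists_rat_point z hzc
    apply hz'
    show f.left z = _
    rw [← hzp default, ← hact ((zp ≫ fst C X).left default)]
    have e2 : zp ≫ snd C X = x := rat_point_ext fun w => by
      rw [Over.comp_left, Scheme.Hom.comp_apply, hzp, Subsingleton.elim w default]
      exact hz
    have e3 : zp ≫ fst C X ≫ ci ≫ snd A X = x := rat_point_ext fun w => by
      rw [Subsingleton.elim w default]
      exact hsnd _
    have e : zp ≫ f = (zp ≫ fst C X) ≫ ci ≫ a.act := by
      simp only [f, comp_lift_assoc, e2]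
      rw [← e3]
      simp only [← Category.assoc]
      rw [← comp_lift, lift_fst_snd, Category.comp_id]
    exact congrArg (fun m => m.left default) e
  haveI : PreconnectedSpace ↥X.left := ‹_›
  obtain ⟨κ, ⟨-, hκ⟩, -⟩ := Groth.Agent.Rigid.exists_factor_of_connected g
    (Groth.Agent.Rigid.goodFibres_of_geometricallyIntegral g) X.hom X.hom f.left
    (by rw [Over.w f]; exact (Over.w (snd C X)).symm) _ hcol
  have hpt : ∀ c : 𝟙_ (Over (Spec (CommRingCat.of k))) ⟶ C,
      (lift (toUnit X ≫ c ≫ ci ≫ fst A X) (𝟙 X) ≫ a.act).left = κ := by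
    intro c
    have e : lift (toUnit X ≫ c) (𝟙 X) ≫ f = lift (toUnit X ≫ c ≫ ci ≫ fst A X) (𝟙 X) ≫ a.act := by
      simp only [f, comp_lift_assoc, lift_fst_assoc, lift_snd, Category.assoc]
    rw [← e, Over.comp_left, hκ, ← Category.assoc, show (lift (toUnit X ≫ c) (𝟙 X)).left ≫ g = 𝟙 _ by
      rw [← Over.comp_left, lift_snd]; rfl, Category.id_comp]
  have huniq : ∀ c c' : 𝟙_ (Over (Spec (CommRingCat.of k))) ⟶ C, c = c' := by
    intro c c'
    have h1 : c ≫ ci ≫ fst A X = c' ≫ ci ≫ fst A X :=
      eq_of_act_eq a hfaith _ _ (Over.OverMorphism.ext ((hpt c).trans (hpt c').symm))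
    have h2 : ∀ d : 𝟙_ (Over (Spec (CommRingCat.of k))) ⟶ C, d ≫ ci ≫ snd A X = x := fun d =>
      rat_point_ext fun w => by rw [Subsingleton.elim w default]; exact hsnd _
    haveI : Mono ci.left := inferInstance
    haveI : Mono ci := Over.mono_of_mono_left ci
    rw [← cancel_mono ci]
    apply CartesianMonoidalCategory.hom_ext
    · simpa only [Category.assoc] using h1
    · simp only [Category.assoc, h2]
  -- hence `C` is a single point
  haveI : JacobsonSpace C.left := LocallyOfFiniteType.jacobsonSpace C.hom
  obtain ⟨c₁, -, hc₁⟩ := nonempty_inter_closedPoints (Z := (Set.univ : Set C.left)) ⟨c₀, trivial⟩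
    isClosed_univ.isLocallyClosed
  have hsub : closedPoints C.left ⊆ {c₁} := fun c hc => by
    obtain ⟨u, hu⟩ := exists_rat_point c hc
    obtain ⟨u₁, hu₁⟩ := exists_rat_point c₁ hc₁
    rw [Set.mem_singleton_iff, ← hu default, ← hu₁ default, huniq u u₁]
  have hall : c₀ ∈ ({c₁} : Set C.left) := by
    by_contra hne
    obtain ⟨y, hy, hyc⟩ := nonempty_inter_closedPoints (Z := ({c₁} : Set C.left)ᶜ) ⟨c₀, hne⟩
      (mem_closedPoints_iff.1 hc₁).isOpen_compl.isLocallyClosed
    exact hy (hsub hyc)
  rw [Set.mem_singleton_iff] at hall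
  subst hall
  rw [← hc₀, ← Set.image_singleton]
  exact ci.left.isClosedEmbedding.isClosedMap _ hc₁

include hfaith in
/-- The graph map of a faithful action of a proper group is finite. -/
theorem isFinite_actGraph [QuasiCompact X.hom] : IsFinite (actGraph a).left := by
  haveI := isProper_actGraph a
  haveI : LocallyOfFiniteType A.hom := inferInstance
  haveI : LocallyOfFiniteType (A ⊗ X).hom := inferInstanceAs (LocallyOfFiniteType (pullback.fst A.hom X.hom ≫ A.hom))
  haveI : QuasiCompact (A ⊗ X).hom := inferInstanceAs (QuasiCompact (pullback.fst A.hom X.hom ≫ A.hom))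
  haveI : LocallyOfFiniteType (X ⊗ X).hom := inferInstanceAs (LocallyOfFiniteType (pullback.fst X.hom X.hom ≫ X.hom))
  haveI : IsLocallyNoetherian (A ⊗ X).left := LocallyOfFiniteType.isLocallyNoetherian (A ⊗ X).hom
  haveI : CompactSpace (A ⊗ X).left := QuasiCompact.compactSpace_of_compactSpace (A ⊗ X).hom
  haveI : IsNoetherian (A ⊗ X).left := ⟨⟩
  haveI : JacobsonSpace (A ⊗ X).left := LocallyOfFiniteType.jacobsonSpace (A ⊗ X).hom
  haveI : LocallyOfFiniteType (actGraph a).left := inferInstance
  have key : (actGraph a).left.quasiFiniteLocus = ⊤ := by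
    refine top_le_iff.1 fun q _ => ?_
    by_contra hq
    obtain ⟨z, hz, hzc⟩ := nonempty_inter_closedPoints
      (Z := ((actGraph a).left.quasiFiniteLocus : Set (A ⊗ X).left)ᶜ) ⟨q, hq⟩
      (actGraph a).left.quasiFiniteLocus.isOpen.isClosed_compl.isLocallyClosed
    apply hz
    rw [SetLike.mem_coe, Scheme.Hom.mem_quasiFiniteLocus, Scheme.Hom.quasiFiniteAt_iff_isOpen_singleton_asFiber]
    have hpc : IsClosed {(actGraph a).left z} := by
      rw [← Set.image_singleton]
      exact (actGraph a).left.isClosedMap _ hzc
    let F := (actGraph a).left.fiber ((actGraph a).left z)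
    let e := (actGraph a).left.fiberι ((actGraph a).left z)
    haveI : T1Space F := ⟨fun w => by
      have hw : e w ∈ (actGraph a).left ⁻¹' {(actGraph a).left z} := by
        rw [← (actGraph a).left.range_fiberι]; exact ⟨w, rfl⟩
      have h := (isClosed_of_actGraph a hfaith _ hpc (e w) hw).preimage e.continuous
      rwa [← Set.image_singleton, e.isEmbedding.injective.preimage_image] at h⟩
    haveI : TopologicalSpace.NoetherianSpace F := e.isEmbedding.isInducing.noetherianSpace
    haveI : Finite F := by
      rw [← Set.finite_univ_iff]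
      refine Set.Finite.subset (Set.Finite.biUnion
        (TopologicalSpace.NoetherianSpace.finite_irreducibleComponents (α := F)) (t := id) ?_)
        (fun w _ => Set.mem_biUnion (irreducibleComponent_mem_irreducibleComponents w) mem_irreducibleComponent)
      intro S hS
      have hS' : IsIrreducible S := hS.1
      have h1 := IsIrreducible.closure_genericPoint hS' (isClosed_of_mem_irreducibleComponents S hS)
      rw [closure_singleton] at h1
      show S.Finite
      rw [← h1]
      exact Set.finite_singleton _
    exact isOpen_discrete _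
  haveI : LocallyQuasiFinite (actGraph a).left := (Scheme.Hom.quasiFiniteLocus_eq_top_iff _).1 key
  exact IsFinite.of_isProper_of_locallyQuasiFinite _

end Groth.Agent.Chev
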