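import Groth.Agent.Chev.TorsorDiff
import Mathlib.FieldTheory.Galois.Infinite
import Mathlib.FieldTheory.IsSepClosed

/-!
# The norm of the differences of a torsor
-/

set_option autoImplicit false
set_option backward.isDefEq.respectTransparency false

universe u

open CategoryTheory CategoryTheory.Limits MonoidalCategory CartesianMonoidalCategory MonObj GrpObj AlgebraicGeometry
open IsLocalRing (closedPoint)

noncomputable section

namespace Groth.Agent.Chev

variable {k : Type u} [Field k] {A X Y : Over (Spec (CommRingCat.of k))}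

/-- Points with values in a field agree if they agree in an extension field. -/
theorem ptMap_cancel {F F' : Type u} [Field F] [Field F'] [Algebra k F] [Algebra k F'] (φ : F →ₐ[k] F')
    {x y : VecGrp.pt k F ⟶ X} (h : VecGrp.ptMap φ ≫ x = VecGrp.ptMap φ ≫ y) : x = y := by
  apply Over.OverMorphism.ext
  haveI : Flat (Spec.map (CommRingCat.ofHom φ.toRingHom)) := by
    letI := φ.toRingHom.toAlgebra
    exact (HasRingHomProperty.Spec_iff (P := @Flat)).mpr
      (RingHom.flat_algebraMap_iff.mpr (inferInstance : Module.Flat F F'))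
  haveI : Surjective (Spec.map (CommRingCat.ofHom φ.toRingHom)) :=
    ⟨fun z => ⟨closedPoint F', @Subsingleton.elim _ (inferInstanceAs (Subsingleton (PrimeSpectrum F))) _ _⟩⟩
  haveI := Flat.epi_of_flat_of_surjective (Spec.map (CommRingCat.ofHom φ.toRingHom))
  have h' := congrArg (fun q => q.left) h
  exact (cancel_epi (Spec.map (CommRingCat.ofHom φ.toRingHom))).1 h'

/-- Composition with an embedding is a bijection on the embeddings of a finite normal extension. -/
theorem bijective_comp {K L E E' : Type u} [Field K] [Field L] [Field E] [Field E'] [Algebra K L] [Algebra K E]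
    [Algebra K E'] [Normal K L] (ψ : E →ₐ[K] E') (σ₀ : L →ₐ[K] E) :
    Function.Bijective fun σ : L →ₐ[K] E => ψ.comp σ := by
  refine ⟨fun s t h => AlgHom.ext fun l => ψ.toRingHom.injective congr($h l), fun σ' => ?_⟩
  letI : Algebra L E' := (ψ.comp σ₀).toRingHom.toAlgebra
  haveI : IsScalarTower K L E' := IsScalarTower.of_algebraMap_eq fun c => ((ψ.comp σ₀).commutes c).symm
  exact ⟨σ₀.comp (σ'.restrictNormal L), AlgHom.ext fun l => σ'.restrictNormal_commutes L l⟩

theorem comp_finsetProd [GrpObj A] [IsCommMonObj A] {T T' : Over (Spec (CommRingCat.of k))} (g : T' ⟶ T)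
    {J : Type*} (s : Finset J) (w : J → (T ⟶ A)) :
    g ≫ ∏ j ∈ s, w j = ∏ j ∈ s, g ≫ w j := by
  classical
  induction s using Finset.induction_on with
  | empty => simp [MonObj.comp_one]
  | insert j s hj ih => rw [Finset.prod_insert hj, Finset.prod_insert hj, MonObj.comp_mul, ih]

section Norm

variable [GrpObj A] [IsCommMonObj A] {a : AlgGrp.Action A X} {f : X ⟶ Y} (hP : IsPullback a.act (snd A X) f f)
  {K L : Type u} [Field K] [Field L] [Algebra k K] [Algebra k L] [Algebra K L] [IsScalarTower k K L]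
  [FiniteDimensional K L] {y₀ : VecGrp.pt k K ⟶ Y} (p : VecGrp.pt k L ⟶ X)
  (hp : p ≫ f = VecGrp.ptMap (IsScalarTower.toAlgHom k K L) ≫ y₀)
  {E : Type u} [Field E] [Algebra k E] [Algebra K E] [IsScalarTower k K E]

include hp in
theorem conj_over (x : VecGrp.pt k E ⟶ X) (hx : x ≫ f = VecGrp.ptMap (IsScalarTower.toAlgHom k K E) ≫ y₀)
    (σ : L →ₐ[K] E) : x ≫ f = (VecGrp.ptMap (σ.restrictScalars k) ≫ p) ≫ f := by
  rw [hx, Category.assoc, hp, ← Category.assoc, ← ptMap_comp]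
  congr 2
  exact AlgHom.ext fun c => (σ.commutes c).symm

/-- The norm of the differences with the conjugates of a point. -/
def tnorm (x : VecGrp.pt k E ⟶ X) (hx : x ≫ f = VecGrp.ptMap (IsScalarTower.toAlgHom k K E) ≫ y₀) :
    VecGrp.pt k E ⟶ A :=
  ∏ σ : L →ₐ[K] E, tdiff hP x (VecGrp.ptMap (σ.restrictScalars k) ≫ p) (conj_over p hp x hx σ)

theorem comp_tnorm [Normal K L] {E' : Type u} [Field E'] [Algebra k E'] [Algebra K E'] [IsScalarTower k K E']
    (ψ : E →ₐ[K] E') (σ₀ : L →ₐ[K] E) (x : VecGrp.pt k E ⟶ X)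
    (hx : x ≫ f = VecGrp.ptMap (IsScalarTower.toAlgHom k K E) ≫ y₀) (x' : VecGrp.pt k E' ⟶ X)
    (hx' : x' ≫ f = VecGrp.ptMap (IsScalarTower.toAlgHom k K E') ≫ y₀)
    (he : VecGrp.ptMap (ψ.restrictScalars k) ≫ x = x') :
    VecGrp.ptMap (ψ.restrictScalars k) ≫ tnorm hP p hp x hx = tnorm hP p hp x' hx' := by
  rw [tnorm, tnorm, comp_finsetProd]
  refine Fintype.prod_bijective _ (bijective_comp ψ σ₀) _ _ fun σ => ?_
  rw [comp_tdiff]
  congr 1
  rw [← Category.assoc, ← ptMap_comp]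
  rfl

theorem tnorm_act (b : VecGrp.pt k E ⟶ A) (x : VecGrp.pt k E ⟶ X)
    (hx : x ≫ f = VecGrp.ptMap (IsScalarTower.toAlgHom k K E) ≫ y₀)
    (x' : VecGrp.pt k E ⟶ X) (hx' : x' ≫ f = VecGrp.ptMap (IsScalarTower.toAlgHom k K E) ≫ y₀)
    (he : lift b x ≫ a.act = x') :
    tnorm hP p hp x' hx' = b ^ Fintype.card (L →ₐ[K] E) * tnorm hP p hp x hx := by
  subst he
  rw [tnorm, tnorm, ← Finset.card_univ, ← Finset.prod_const, ← Finset.prod_mul_distrib]
  exact Finset.prod_congr rfl fun σ _ => tdiff_act hP b x _ _ _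

end Norm

/-- A point fixed by the Galois group is defined over the base field, also for an infinite extension. -/
theorem exists_descent_inf {F L : Type u} [Field F] [Field L] [Algebra k F] [Algebra k L] [Algebra F L]
    [IsScalarTower k F L] [IsGalois F L] (x : VecGrp.pt k L ⟶ X)
    (hx : ∀ τ : L ≃ₐ[F] L, VecGrp.ptMap (τ.toAlgHom.restrictScalars k) ≫ x = x) :
    ∃ y : VecGrp.pt k F ⟶ X, VecGrp.ptMap (IsScalarTower.toAlgHom k F L) ≫ y = x := by
  haveI : Mono (X.left.fromSpecStalk (img x)) := inferInstance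
  have hfix : ∀ (τ : L ≃ₐ[F] L) (r : X.left.presheaf.stalk (img x)), τ (stc x r) = stc x r := by
    intro τ r
    have h : VecGrp.ptMap ((τ.toAlgHom.restrictScalars k).comp (stc x)) ≫ spt (img x) =
        VecGrp.ptMap (stc x) ≫ spt (img x) := by
      rw [ptMap_comp, Category.assoc, ptMap_stc, hx]
    have h' : Spec.map (CommRingCat.ofHom ((τ.toAlgHom.restrictScalars k).comp (stc x)).toRingHom) =
        Spec.map (CommRingCat.ofHom (stc x).toRingHom) :=
      (cancel_mono (X.left.fromSpecStalk (img x))).1 (congrArg (fun q => q.left) h)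
    exact congr($(Spec.map_injective h') r)
  let ι₀ := IsScalarTower.toAlgHom k F L
  have hmem : ∀ r, stc x r ∈ ι₀.range := fun r =>
    (InfiniteGalois.mem_range_algebraMap_iff_fixed (k := F) (stc x r)).2 fun τ => hfix τ r
  let φ : X.left.presheaf.stalk (img x) →ₐ[k] F :=
    (AlgEquiv.ofInjective ι₀ (algebraMap F L).injective).symm.toAlgHom.comp ((stc x).codRestrict ι₀.range hmem)
  have hφ : ι₀.comp φ = stc x := AlgHom.ext fun r => congrArg Subtype.val
    ((AlgEquiv.ofInjective ι₀ (algebraMap F L).injective).apply_symm_apply ⟨stc x r, hmem r⟩)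
  refine ⟨VecGrp.ptMap φ ≫ spt (img x), ?_⟩
  rw [← Category.assoc, ← ptMap_comp, hφ, ptMap_stc]

/-- An embedding of fields extends to the separable closure. -/
theorem exists_sep_lift {K M N Ms Ns : Type u} [Field K] [Field M] [Field N] [Field Ms] [Field Ns]
    [Algebra K M] [Algebra K N] [Algebra M Ms] [Algebra K Ms] [IsScalarTower K M Ms]
    [Algebra N Ns] [Algebra K Ns] [IsScalarTower K N Ns] [Algebra.IsSeparable M Ms] [IsSepClosed Ns]
    (j : M →ₐ[K] N) :
    ∃ J : Ms →ₐ[K] Ns, J.comp (IsScalarTower.toAlgHom K M Ms) = (IsScalarTower.toAlgHom K N Ns).comp j := by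
  letI : Algebra M Ns := ((IsScalarTower.toAlgHom K N Ns).comp j).toRingHom.toAlgebra
  let J₀ : Ms →ₐ[M] Ns := IsSepClosed.lift
  refine ⟨{ J₀.toRingHom with commutes' := fun c => ?_ }, AlgHom.ext fun m => J₀.commutes m⟩
  show J₀ (algebraMap K Ms c) = _
  rw [IsScalarTower.algebraMap_apply K M Ms, J₀.commutes]
  exact ((IsScalarTower.toAlgHom K N Ns).comp j).commutes c

theorem exists_map_of_tnorm [GrpObj A] [IsCommMonObj A] {a : AlgGrp.Action A X} {f : X ⟶ Y}
    (hP : IsPullback a.act (snd A X) f f) {K L : Type u} [Field K] [Field L] [Algebra k K] [Algebra k L]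
    [Algebra K L] [IsScalarTower k K L] [FiniteDimensional K L] [IsGalois K L] {y₀ : VecGrp.pt k K ⟶ Y}
    (p : VecGrp.pt k L ⟶ X) (hp : p ≫ f = VecGrp.ptMap (IsScalarTower.toAlgHom k K L) ≫ y₀)
    {M Ms : Type u} [Field M] [Field Ms] [Algebra k M] [Algebra K M] [IsScalarTower k K M] [Algebra k Ms]
    [Algebra M Ms] [IsScalarTower k M Ms] [Algebra K Ms] [IsScalarTower K M Ms] [IsScalarTower k K Ms]
    [IsGalois M Ms] [IsSepClosed Ms]
    (x : VecGrp.pt k M ⟶ X) (hx : x ≫ f = VecGrp.ptMap (IsScalarTower.toAlgHom k K M) ≫ y₀) :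
    ∃ (φ₀ : VecGrp.pt k M ⟶ A) (n : ℕ), 0 < n ∧
      ∀ (N Ns : Type u) [Field N] [Field Ns] [Algebra k N] [Algebra K N] [IsScalarTower k K N] [Algebra k Ns]
        [Algebra N Ns] [IsScalarTower k N Ns] [Algebra K Ns] [IsScalarTower K N Ns] [IsScalarTower k K Ns]
        [IsSepClosed Ns] (j₁ j₂ : M →ₐ[K] N) (b : VecGrp.pt k N ⟶ A),
        lift b (VecGrp.ptMap (j₂.restrictScalars k) ≫ x) ≫ a.act = VecGrp.ptMap (j₁.restrictScalars k) ≫ x →
        VecGrp.ptMap (j₁.restrictScalars k) ≫ φ₀ = b ^ n * (VecGrp.ptMap (j₂.restrictScalars k) ≫ φ₀) := by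
  let ι₀ : L →ₐ[K] Ms := IsSepClosed.lift
  let xs := VecGrp.ptMap (IsScalarTower.toAlgHom k M Ms) ≫ x
  have hxs : xs ≫ f = VecGrp.ptMap (IsScalarTower.toAlgHom k K Ms) ≫ y₀ := by
    rw [Category.assoc, hx, ← Category.assoc, ← ptMap_comp]
    congr 2
    exact AlgHom.ext fun c => (IsScalarTower.algebraMap_apply K M Ms c).symm
  obtain ⟨φ₀, hφ₀⟩ := exists_descent_inf (F := M) (tnorm hP p hp xs hxs) fun τ =>
    comp_tnorm hP p hp (τ.toAlgHom.restrictScalars K) ι₀ xs hxs xs hxs (by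
      rw [← Category.assoc, ← ptMap_comp]
      congr 2
      exact AlgHom.ext fun c => τ.commutes c)
  refine ⟨φ₀, Fintype.card (L →ₐ[K] Ms), Fintype.card_pos_iff.2 ⟨ι₀⟩, ?_⟩
  intro N Ns _ _ _ _ _ _ _ _ _ _ _ _ j₁ j₂ b hb
  obtain ⟨J₁, hJ₁⟩ := exists_sep_lift (Ms := Ms) (Ns := Ns) j₁
  obtain ⟨J₂, hJ₂⟩ := exists_sep_lift (Ms := Ms) (Ns := Ns) j₂
  have sq : ∀ (j : M →ₐ[K] N) (J : Ms →ₐ[K] Ns),
      J.comp (IsScalarTower.toAlgHom K M Ms) = (IsScalarTower.toAlgHom K N Ns).comp j →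
      ∀ {Z : Over (Spec (CommRingCat.of k))} (z : VecGrp.pt k M ⟶ Z),
      VecGrp.ptMap (J.restrictScalars k) ≫ VecGrp.ptMap (IsScalarTower.toAlgHom k M Ms) ≫ z =
        VecGrp.ptMap (IsScalarTower.toAlgHom k N Ns) ≫ VecGrp.ptMap (j.restrictScalars k) ≫ z := by
    intro j J h Z z
    simp only [← Category.assoc, ← ptMap_comp]
    congr 2
    exact AlgHom.ext fun c => congr($h c)
  have hxJ : ∀ J : Ms →ₐ[K] Ns, (VecGrp.ptMap (J.restrictScalars k) ≫ xs) ≫ f =
      VecGrp.ptMap (IsScalarTower.toAlgHom k K Ns) ≫ y₀ := by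
    intro J
    rw [Category.assoc, hxs, ← Category.assoc, ← ptMap_comp]
    congr 2
    exact AlgHom.ext fun c => J.commutes c
  apply ptMap_cancel (IsScalarTower.toAlgHom k N Ns)
  rw [MonObj.comp_mul, MonObj.comp_pow, ← sq j₁ J₁ hJ₁, ← sq j₂ J₂ hJ₂, hφ₀,
    comp_tnorm hP p hp J₁ ι₀ xs hxs _ (hxJ J₁) rfl, comp_tnorm hP p hp J₂ ι₀ xs hxs _ (hxJ J₂) rfl,
    Fintype.card_congr (Equiv.ofBijective _ (bijective_comp J₂ ι₀))]
  refine tnorm_act hP p hp _ _ (hxJ J₂) _ (hxJ J₁) ?_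
  have h := congrArg (fun q => VecGrp.ptMap (IsScalarTower.toAlgHom k N Ns) ≫ q) hb
  simp only [comp_lift_assoc] at h
  rw [← sq j₁ J₁ hJ₁, ← sq j₂ J₂ hJ₂] at h
  exact h

end Groth.Agent.Chev
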