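import Groth.Agent.Chev.AVActFinite
import Groth.Agent.Chev.AVActAlg
import Groth.Agent.Chev.TorsorNorm
import Mathlib.AlgebraicGeometry.Morphisms.Flat

/-!
# A finite correspondence transversal to the orbits

For an action with finite graph map there is a point `ζ` such that over a dominant point `x` only finitely
many pairs `(a, z)` with `z` over `ζ` satisfy `a · z = x`, and such pairs exist over algebraically closed fields.
-/

set_option autoImplicit false
set_option backward.isDefEq.respectTransparency false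

universe u

open CategoryTheory CategoryTheory.Limits MonoidalCategory CartesianMonoidalCategory MonObj GrpObj AlgebraicGeometry
open IsLocalRing (closedPoint)

noncomputable section

namespace Groth.Agent.Chev.AVAct

variable {k : Type u} [Field k] {X Z : Over (Spec (CommRingCat.of k))}

/-- The constants in the sections over an open. -/
def opHom (X : Over (Spec (CommRingCat.of k))) (V : X.left.Opens) : CommRingCat.of k ⟶ Γ(X.left, V) :=
  (Scheme.ΓSpecIso (CommRingCat.of k)).inv ≫ X.hom.appLE ⊤ V le_top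

instance opAlgebra (V : X.left.Opens) : Algebra k Γ(X.left, V) := (opHom X V).hom.toAlgebra

theorem opHom_appLE (f : Z ⟶ X) {V : X.left.Opens} {U : Z.left.Opens} (e : U ≤ f.left ⁻¹ᵁ V) :
    opHom X V ≫ f.left.appLE V U e = opHom Z U := by
  rw [opHom, Category.assoc, Scheme.Hom.appLE_comp_appLE]
  simp only [Over.w, opHom]

/-- Restriction along a morphism as a map of algebras. -/
def opMap (f : Z ⟶ X) {V : X.left.Opens} {U : Z.left.Opens} (e : U ≤ f.left ⁻¹ᵁ V) :
    Γ(X.left, V) →ₐ[k] Γ(Z.left, U) :=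
  { toRingHom := (f.left.appLE V U e).hom
    commutes' := fun c => congr($(opHom_appLE f e) c) }

theorem spec_opHom {V : X.left.Opens} (hV : IsAffineOpen V) :
    Spec.map (CommRingCat.ofHom (algebraMap k Γ(X.left, V))) = hV.fromSpec ≫ X.hom := by
  show Spec.map (opHom X V) = _
  rw [opHom, Spec.map_comp, ← IsAffineOpen.SpecMap_appLE_fromSpec X.hom (isAffineOpen_top _) hV le_top,
    IsAffineOpen.fromSpec_top]
  congr 1
  exact Scheme.isoSpec_Spec_inv (CommRingCat.of k) |>.symm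

/-- An affine open as a test object. -/
def opPt {V : X.left.Opens} (hV : IsAffineOpen V) : VecGrp.pt k Γ(X.left, V) ⟶ X :=
  Over.homMk hV.fromSpec (spec_opHom hV).symm

theorem ptMap_opMap (f : Z ⟶ X) {V : X.left.Opens} {U : Z.left.Opens} (hV : IsAffineOpen V) (hU : IsAffineOpen U)
    (e : U ≤ f.left ⁻¹ᵁ V) : VecGrp.ptMap (opMap f e) ≫ opPt hV = opPt hU ≫ f :=
  Over.OverMorphism.ext (IsAffineOpen.SpecMap_appLE_fromSpec f.left hV hU e)

theorem opPt_cancel {V : X.left.Opens} (hV : IsAffineOpen V) {R : Type u} [CommRing R] [Algebra k R]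
    {φ ψ : Γ(X.left, V) →ₐ[k] R} (h : VecGrp.ptMap φ ≫ opPt hV = VecGrp.ptMap ψ ≫ opPt hV) : φ = ψ := by
  have h' : Spec.map (CommRingCat.ofHom φ.toRingHom) = Spec.map (CommRingCat.ofHom ψ.toRingHom) :=
    (cancel_mono hV.fromSpec).1 (congrArg (fun q => q.left) h)
  exact AlgHom.ext fun r => congr($(Spec.map_injective h') r)

theorem exists_opPt_factor {V : X.left.Opens} (hV : IsAffineOpen V) {Ω : Type u} [Field Ω] [Algebra k Ω]
    (x : VecGrp.pt k Ω ⟶ X) (hx : img x ∈ V) : ∃ χ : Γ(X.left, V) →ₐ[k] Ω, VecGrp.ptMap χ ≫ opPt hV = x := by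
  have hr : Set.range x.left ⊆ Set.range hV.fromSpec := by
    rintro _ ⟨z, rfl⟩
    rw [IsAffineOpen.range_fromSpec]
    rwa [show z = closedPoint Ω from @Subsingleton.elim _ (inferInstanceAs (Subsingleton (PrimeSpectrum Ω))) _ _]
  let χ₀ := Spec.preimage (IsOpenImmersion.lift hV.fromSpec x.left hr)
  have hχ₀ : Spec.map χ₀ ≫ hV.fromSpec = x.left := by
    rw [Spec.map_preimage, IsOpenImmersion.lift_fac]
  have hk : CommRingCat.ofHom (algebraMap k Γ(X.left, V)) ≫ χ₀ = CommRingCat.ofHom (algebraMap k Ω) := by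
    apply Spec.map_injective
    rw [Spec.map_comp, spec_opHom hV, reassoc_of% hχ₀]
    exact Over.w x
  exact ⟨{ toRingHom := χ₀.hom, commutes' := fun c => congr($hk c) }, Over.OverMorphism.ext hχ₀⟩

theorem img_ptMap_opPt {V : X.left.Opens} (hV : IsAffineOpen V) {Ω : Type u} [Field Ω] [Algebra k Ω]
    (χ : Γ(X.left, V) →ₐ[k] Ω) :
    img (VecGrp.ptMap χ ≫ opPt hV) = hV.fromSpec ⟨RingHom.ker χ, RingHom.ker_isPrime _⟩ := by
  show hV.fromSpec ((Spec.map (CommRingCat.ofHom χ.toRingHom)) (closedPoint Ω)) = _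
  congr 1
  apply PrimeSpectrum.ext
  ext c
  show χ c ∈ IsLocalRing.maximalIdeal Ω ↔ _
  rw [IsLocalRing.isField_iff_maximalIdeal_eq.1 (Field.toIsField Ω), Ideal.mem_bot, RingHom.mem_ker]

theorem fromSpec_inj {V : X.left.Opens} (hV : IsAffineOpen V) {P Q : PrimeSpectrum Γ(X.left, V)}
    (h : hV.fromSpec P = hV.fromSpec Q) : P = Q :=
  hV.fromSpec.isOpenEmbedding.injective h

theorem fromSpec_specializes {V : X.left.Opens} (hV : IsAffineOpen V) {P Q : PrimeSpectrum Γ(X.left, V)}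
    (h : P ≤ Q) : hV.fromSpec P ⤳ hV.fromSpec Q :=
  ((PrimeSpectrum.le_iff_specializes P Q).1 h).map hV.fromSpec.continuous

theorem apply_fromSpec (f : Z ⟶ X) {V : X.left.Opens} {U : Z.left.Opens} (hV : IsAffineOpen V)
    (hU : IsAffineOpen U) (e : U ≤ f.left ⁻¹ᵁ V) (P : PrimeSpectrum Γ(Z.left, U)) :
    f.left (hU.fromSpec P) = hV.fromSpec (PrimeSpectrum.comap (opMap f e).toRingHom P) := by
  rw [← Scheme.Hom.comp_apply, ← IsAffineOpen.SpecMap_appLE_fromSpec f.left hV hU e, Scheme.Hom.comp_apply]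
  rfl

set_option maxHeartbeats 1000000 in
/-- The sections over a product of affine opens, and over its preimage under a finite map, are integral over
the sections of the two factors. -/
theorem exists_chart (f h : Z ⟶ X) [IsFinite (lift f h).left] (W₀ W : X.left.Opens) (hW₀ : IsAffineOpen W₀)
    (hW : IsAffineOpen W) :
    ∃ (U : Z.left.Opens) (_ : IsAffineOpen U) (e₁ : U ≤ f.left ⁻¹ᵁ W₀) (e₂ : U ≤ h.left ⁻¹ᵁ W),
      (∀ z, f.left z ∈ W₀ → h.left z ∈ W → z ∈ U) ∧
        ∀ c : Γ(Z.left, U), IsIntegral (Subring.closure (Set.range (opMap f e₁) ∪ Set.range (opMap h e₂))) c := by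
  let V : (X ⊗ X).left.Opens := (fst X X).left ⁻¹ᵁ W₀ ⊓ (snd X X).left ⁻¹ᵁ W
  have H : IsPullback (fst X X).left (snd X X).left X.hom X.hom := IsPullback.of_hasPullback X.hom X.hom
  have hV : IsAffineOpen V := by
    haveI : IsAffine _ := hW₀
    haveI : IsAffine _ := hW
    haveI : IsAffine _ := isAffineOpen_top (Spec (CommRingCat.of k))
    exact .of_isIso (Scheme.Hom.isPullback_resLE H (US := ⊤) (UT := W) (UX := W₀) le_top le_top
      (UY := V) rfl).isoPullback.hom
  have hpush := (isIso_pushoutSection_iff H (US := ⊤) (UT := W) (UX := W₀) (UY := V) le_top le_top rfl).1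
    (isIso_pushoutSection_of_isAffineOpen H le_top le_top rfl (isAffineOpen_top _) hW hW₀)
  let U : Z.left.Opens := (lift f h).left ⁻¹ᵁ V
  have hU : IsAffineOpen U := hV.preimage (lift f h).left
  have e₁ : U ≤ f.left ⁻¹ᵁ W₀ := fun z hz => by
    have := hz.1
    show f.left z ∈ W₀
    rwa [← lift_fst f h, Over.comp_left, Scheme.Hom.comp_apply]
  have e₂ : U ≤ h.left ⁻¹ᵁ W := fun z hz => by
    have := hz.2
    show h.left z ∈ W
    rwa [← lift_snd f h, Over.comp_left, Scheme.Hom.comp_apply]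
  refine ⟨U, hU, e₁, e₂, fun z h₁ h₂ => ⟨?_, ?_⟩, fun c => ?_⟩
  · show (fst X X).left ((lift f h).left z) ∈ W₀
    rwa [← Scheme.Hom.comp_apply, ← Over.comp_left, lift_fst]
  · show (snd X X).left ((lift f h).left z) ∈ W
    rwa [← Scheme.Hom.comp_apply, ← Over.comp_left, lift_snd]
  let p := (fst X X).left.appLE W₀ V inf_le_left
  let q := (snd X X).left.appLE W V inf_le_right
  let T := Subring.closure (Set.range p.hom ∪ Set.range q.hom)
  have hT : T = ⊤ := by
    let p' : Γ(X.left, W₀) ⟶ CommRingCat.of T :=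
      CommRingCat.ofHom (p.hom.codRestrict T fun x => Subring.subset_closure (Or.inl ⟨x, rfl⟩))
    let q' : Γ(X.left, W) ⟶ CommRingCat.of T :=
      CommRingCat.ofHom (q.hom.codRestrict T fun x => Subring.subset_closure (Or.inr ⟨x, rfl⟩))
    let incl : CommRingCat.of T ⟶ Γ((X ⊗ X).left, V) := CommRingCat.ofHom T.subtype
    haveI : Mono incl := ConcreteCategory.mono_of_injective _ Subtype.val_injective
    let d := hpush.desc p' q' (by rw [← cancel_mono incl, Category.assoc, Category.assoc]; exact hpush.w)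
    have hd : d ≫ incl = 𝟙 _ := by
      apply hpush.hom_ext
      · rw [hpush.inl_desc_assoc, Category.comp_id]; rfl
      · rw [hpush.inr_desc_assoc, Category.comp_id]; rfl
    exact eq_top_iff.2 fun x _ => by
      have hd' : T.subtype (d x) = x := congr($hd x)
      rw [← hd']
      exact (d x).2
  let θ := ((lift f h).left.app V).hom
  let S := Subring.closure (Set.range (opMap f e₁) ∪ Set.range (opMap h e₂))
  have hθ : T ≤ S.comap θ := by
    rw [Subring.closure_le]
    rintro _ (⟨x, rfl⟩ | ⟨x, rfl⟩)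
    · refine Subring.subset_closure (Or.inl ⟨x, ?_⟩)
      show f.left.appLE W₀ U e₁ x = (lift f h).left.app V ((fst X X).left.appLE W₀ V inf_le_left x)
      rw [Scheme.Hom.app_eq_appLE, ← CommRingCat.comp_apply, Scheme.Hom.appLE_comp_appLE]
      simp only [← Over.comp_left, lift_fst]
      rfl
    · refine Subring.subset_closure (Or.inr ⟨x, ?_⟩)
      show h.left.appLE W U e₂ x = (lift f h).left.app V ((snd X X).left.appLE W V inf_le_right x)
      rw [Scheme.Hom.app_eq_appLE, ← CommRingCat.comp_apply, Scheme.Hom.appLE_comp_appLE]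
      simp only [← Over.comp_left, lift_snd]
      rfl
  let θ' : Γ((X ⊗ X).left, V) →+* S := θ.codRestrict S fun x => hθ (hT ▸ Subring.mem_top x)
  have hfin : θ.IsIntegral := RingHom.Finite.to_isIntegral ((lift f h).left.finite_app V hV)
  letI := θ.toAlgebra
  exact IsIntegral.map_of_comp_eq θ' (RingHom.id _) (RingHom.ext fun x => rfl) (hfin c)

/-- Pairs over `ζ` carried to `x`. -/
def Sol {A : Over (Spec (CommRingCat.of k))} [GrpObj A] (a : AlgGrp.Action A X) (ζ : X.left) {Ω : Type u}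
    [Field Ω] [Algebra k Ω] (x : VecGrp.pt k Ω ⟶ X) : Set (VecGrp.pt k Ω ⟶ A ⊗ X) :=
  {w | w ≫ a.act = x ∧ img (w ≫ snd A X) = ζ}

variable {A : Over (Spec (CommRingCat.of k))} [GrpObj A]

/-- A point `ζ` none of whose proper specialisations still reaches the generic point. -/
theorem exists_minimal (a : AlgGrp.Action A X) [IsIntegral X.left] [TopologicalSpace.NoetherianSpace X.left] :
    ∃ q₀ : (A ⊗ X).left, a.act.left q₀ = genericPoint X.left ∧
      ∀ q, a.act.left q = genericPoint X.left → (snd A X).left q₀ ⤳ (snd A X).left q →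
        (snd A X).left q = (snd A X).left q₀ := by
  let S : Set (TopologicalSpace.Closeds X.left) := {C | ∃ q, a.act.left q = genericPoint X.left ∧
    (C : Set X.left) = closure {(snd A X).left q}}
  have hne : S.Nonempty := by
    let u := (lift (toUnit X ≫ η[A]) (𝟙 X)).left (genericPoint X.left)
    refine ⟨⟨closure {(snd A X).left u}, isClosed_closure⟩, u, ?_, rfl⟩
    have e : lift (toUnit X ≫ η[A]) (𝟙 X) ≫ a.act = 𝟙 X := by
      have := congrArg (fun z => lift (toUnit X) (𝟙 X) ≫ z) a.one_act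
      simp only [lift_whiskerRight_assoc, lift_leftUnitor_hom] at this
      exact this
    rw [← Scheme.Hom.comp_apply, ← Over.comp_left, e]
    rfl
  obtain ⟨C, ⟨q₀, hq₀, hC⟩, hmin⟩ := wellFounded_lt.has_min S hne
  refine ⟨q₀, hq₀, fun q hq hs => ?_⟩
  let C' : TopologicalSpace.Closeds X.left := ⟨closure {(snd A X).left q}, isClosed_closure⟩
  have hle : C' ≤ C := by
    rw [← SetLike.coe_subset_coe, hC]
    exact closure_minimal (Set.singleton_subset_iff.2 (specializes_iff_mem_closure.1 hs)) isClosed_closure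
  have hCC : C' = C := hle.eq_or_lt.resolve_right (hmin C' ⟨q, hq, rfl⟩)
  have h2 := congrArg SetLike.coe hCC
  rw [hC] at h2
  exact (isGenericPoint_closure (x := (snd A X).left q)).eq
    (show IsGenericPoint ((snd A X).left q₀) (closure {(snd A X).left q}) from h2.symm)

set_option maxHeartbeats 2000000 in
/-- The finite correspondence. -/
theorem exists_sol [IsAlgClosed k] [IsProper A.hom] [IsIntegral X.left] [LocallyOfFiniteType X.hom]
    [QuasiCompact X.hom] [IsSeparated X.hom] (a : AlgGrp.Action A X) [IsFinite (lift a.act (snd A X)).left] :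
    ∃ ζ : X.left, ∀ (Ω : Type u) [Field Ω] [Algebra k Ω] [IsAlgClosed Ω] (x : VecGrp.pt k Ω ⟶ X),
      img x = genericPoint X.left → (Sol a ζ x).Finite ∧ (Sol a ζ x).Nonempty ∧
        ∀ (Ω' : Type u) [Field Ω'] [Algebra k Ω'] (ψ : Ω →ₐ[k] Ω'),
          Set.BijOn (fun w => VecGrp.ptMap ψ ≫ w) (Sol a ζ x) (Sol a ζ (VecGrp.ptMap ψ ≫ x)) := by
  classical
  haveI : LocallyOfFiniteType A.hom := inferInstance
  haveI : LocallyOfFiniteType (A ⊗ X).hom := inferInstanceAs (LocallyOfFiniteType (pullback.fst A.hom X.hom ≫ A.hom))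
  haveI : IsLocallyNoetherian X.left := LocallyOfFiniteType.isLocallyNoetherian X.hom
  haveI : CompactSpace X.left := QuasiCompact.compactSpace_of_compactSpace X.hom
  haveI : IsNoetherian X.left := ⟨⟩
  obtain ⟨q₀, hq₀, hmin⟩ := exists_minimal a
  obtain ⟨W₀, hW₀, hηW₀, -⟩ := exists_isAffineOpen_mem_and_subset (X := X.left) (x := genericPoint X.left) (U := ⊤) trivial
  obtain ⟨W, hW, hζW, -⟩ := exists_isAffineOpen_mem_and_subset (X := X.left) (x := (snd A X).left q₀) (U := ⊤) trivial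
  obtain ⟨U, hU, e₁, e₂, hmem, hint⟩ := exists_chart a.act (snd A X) W₀ W hW₀ hW
  let α := opMap a.act e₁
  let β := opMap (snd A X) e₂
  haveI : Nonempty W₀ := ⟨⟨_, hηW₀⟩⟩
  letI : Algebra Γ(X.left, W₀) Γ((A ⊗ X).left, U) := α.toRingHom.toAlgebra
  haveI : IsScalarTower k Γ(X.left, W₀) Γ((A ⊗ X).left, U) :=
    IsScalarTower.of_algebraMap_eq fun c => (α.commutes c).symm
  have hftk : ∀ {Y : Over (Spec (CommRingCat.of k))} [LocallyOfFiniteType Y.hom] {O : Y.left.Opens},
      IsAffineOpen O → Algebra.FiniteType k Γ(Y.left, O) := by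
    intro Y _ O hO
    show (opHom Y O).hom.FiniteType
    rw [opHom, CommRingCat.hom_comp]
    exact (Y.hom.finiteType_appLE (isAffineOpen_top _) hO le_top).comp
      (RingHom.FiniteType.of_surjective _ (ConcreteCategory.bijective_of_isIso (Scheme.ΓSpecIso (CommRingCat.of k)).inv).2)
  haveI := hftk (Y := X) hW₀
  haveI := hftk (Y := X) hW
  haveI := hftk (Y := A ⊗ X) hU
  haveI : Algebra.FiniteType Γ(X.left, W₀) Γ((A ⊗ X).left, U) :=
    Algebra.FiniteType.of_restrictScalars_finiteType k _ _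
  haveI : IsNoetherianRing Γ((A ⊗ X).left, U) := Algebra.FiniteType.isNoetherianRing k _
  -- the generic point of `W₀` is the zero ideal
  have hbot : hW₀.fromSpec ⟨⊥, Ideal.isPrime_bot⟩ = genericPoint X.left := by
    obtain ⟨P, hP⟩ : genericPoint X.left ∈ Set.range hW₀.fromSpec := by rw [IsAffineOpen.range_fromSpec]; exact hηW₀
    have h1 : hW₀.fromSpec ⟨⊥, Ideal.isPrime_bot⟩ ⤳ genericPoint X.left :=
      hP ▸ fromSpec_specializes hW₀ (show (⟨⊥, Ideal.isPrime_bot⟩ : PrimeSpectrum Γ(X.left, W₀)) ≤ P from bot_le)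
    exact (h1.antisymm ((genericPoint_spec X.left).specializes trivial)).eq
  let p₀ : PrimeSpectrum Γ((A ⊗ X).left, U) := hU.primeIdealOf ⟨q₀, hmem q₀ (hq₀ ▸ hηW₀) hζW⟩
  have hp₀ : hU.fromSpec p₀ = q₀ := hU.fromSpec_primeIdealOf _
  let Q : Set (PrimeSpectrum Γ((A ⊗ X).left, U)) := {P | P.asIdeal.comap α.toRingHom = ⊥ ∧
    P.asIdeal.comap β.toRingHom = p₀.asIdeal.comap β.toRingHom}
  have hact : ∀ P, a.act.left (hU.fromSpec P) = genericPoint X.left ↔ P.asIdeal.comap α.toRingHom = ⊥ := by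
    intro P
    rw [apply_fromSpec a.act hW₀ hU e₁, ← hbot]
    exact ⟨fun h => congrArg PrimeSpectrum.asIdeal (fromSpec_inj hW₀ h),
      fun h => congrArg _ (PrimeSpectrum.ext h)⟩
  have hsnd : ∀ P, (snd A X).left (hU.fromSpec P) = (snd A X).left q₀ ↔
      P.asIdeal.comap β.toRingHom = p₀.asIdeal.comap β.toRingHom := by
    intro P
    rw [← hp₀, apply_fromSpec (snd A X) hW hU e₂, apply_fromSpec (snd A X) hW hU e₂]
    exact ⟨fun h => congrArg PrimeSpectrum.asIdeal (fromSpec_inj hW h),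
      fun h => congrArg _ (PrimeSpectrum.ext h)⟩
  have hgen : ∀ c : Γ((A ⊗ X).left, U), IsIntegral (Algebra.adjoin Γ(X.left, W₀) (Set.range β)) c := by
    intro c
    have hle : Subring.closure (Set.range α ∪ Set.range β) ≤
        (Algebra.adjoin Γ(X.left, W₀) (Set.range β)).toSubring := by
      rw [Subring.closure_le]
      rintro _ (⟨x, rfl⟩ | hx)
      · exact Subalgebra.algebraMap_mem _ x
      · exact Algebra.subset_adjoin hx
    exact IsIntegral.map_of_comp_eq (Subring.inclusion hle) (RingHom.id _) (RingHom.ext fun x => rfl) (hint c)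
  have halg : ∀ P ∈ Q, Algebra.IsAlgebraic Γ(X.left, W₀) (Γ((A ⊗ X).left, U) ⧸ P.asIdeal) := by
    intro P hP
    refine isAlgebraic_quotient β P.asIdeal hgen hP.1 fun P' hP' h1 h2 => ?_
    have h2' : (snd A X).left q₀ ⤳ (snd A X).left (hU.fromSpec ⟨P', hP'⟩) := by
      rw [← (hsnd P).2 hP.2, apply_fromSpec (snd A X) hW hU e₂, apply_fromSpec (snd A X) hW hU e₂]
      exact fromSpec_specializes hW h2
    exact ((hsnd _).1 (hmin _ ((hact _).2 h1) h2')).trans hP.2.symm
  have hQfin : Q.Finite := by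
    let I : Ideal Γ((A ⊗ X).left, U) := (p₀.asIdeal.comap β.toRingHom).map β.toRingHom
    refine Set.Finite.of_finite_image (f := PrimeSpectrum.asIdeal) ((I.finite_minimalPrimes_of_isNoetherianRing).subset ?_)
      (fun P _ P' _ h => PrimeSpectrum.ext h)
    rintro _ ⟨P, hP, rfl⟩
    obtain ⟨P₁, hP₁, hle⟩ := Ideal.exists_minimalPrimes_le (J := P.asIdeal) (I := I) (Ideal.map_le_iff_le_comap.2 hP.2.ge)
    haveI := hP₁.1.1
    have h1 : (⟨P₁, hP₁.1.1⟩ : PrimeSpectrum Γ((A ⊗ X).left, U)) ∈ Q :=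
      ⟨le_bot_iff.1 ((Ideal.comap_mono hle).trans hP.1.le),
        le_antisymm ((Ideal.comap_mono hle).trans hP.2.le) (Ideal.map_le_iff_le_comap.1 hP₁.1.2)⟩
    rwa [eq_of_le P₁ (halg _ h1) P.asIdeal hP.1 hle]
  have hp₀Q : p₀ ∈ Q := ⟨(hact p₀).1 (hp₀.symm ▸ hq₀), rfl⟩
  refine ⟨(snd A X).left q₀, fun Ω _ _ _ x hx => ?_⟩
  obtain ⟨ξ, hξ⟩ := exists_opPt_factor hW₀ x (hx ▸ hηW₀)
  have hξker : RingHom.ker ξ = ⊥ := by
    have h := img_ptMap_opPt hW₀ ξ
    rw [hξ, hx, ← hbot] at h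
    exact (congrArg PrimeSpectrum.asIdeal (fromSpec_inj hW₀ h)).symm
  letI : Algebra Γ(X.left, W₀) Ω := ξ.toRingHom.toAlgebra
  haveI : IsScalarTower k Γ(X.left, W₀) Ω := IsScalarTower.of_algebraMap_eq fun c => (ξ.commutes c).symm
  haveI : FaithfulSMul Γ(X.left, W₀) Ω := (faithfulSMul_iff_algebraMap_injective _ _).2
    ((RingHom.injective_iff_ker_eq_bot _).2 hξker)
  haveI : Module.IsTorsionFree Γ(X.left, W₀) Ω := inferInstance
  -- solutions are homomorphisms
  have hsol : ∀ (χ : Γ((A ⊗ X).left, U) →ₐ[Γ(X.left, W₀)] Ω) (P : PrimeSpectrum Γ((A ⊗ X).left, U)),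
      P ∈ Q → P.asIdeal ≤ RingHom.ker χ → VecGrp.ptMap (χ.restrictScalars k) ≫ opPt hU ∈ Sol a ((snd A X).left q₀) x := by
    intro χ P hP hPle
    refine ⟨?_, ?_⟩
    · rw [Category.assoc, ← ptMap_opMap a.act hW₀ hU e₁, ← Category.assoc, ← ptMap_comp]
      conv_rhs => rw [← hξ]
      congr 2
      exact AlgHom.ext fun r => χ.commutes r
    · haveI : (RingHom.ker χ).IsPrime := RingHom.ker_isPrime χ.toRingHom
      have hK : RingHom.ker χ = P.asIdeal := by
        refine eq_of_le P.asIdeal (halg P hP) (RingHom.ker χ) ?_ hPle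
        ext r
        rw [Ideal.mem_comap, RingHom.mem_ker, χ.commutes, Ideal.mem_bot, map_eq_zero_iff _
          (FaithfulSMul.algebraMap_injective _ _)]
      show (snd A X).left (img (VecGrp.ptMap (χ.restrictScalars k) ≫ opPt hU)) = _
      rw [img_ptMap_opPt, hsnd]
      exact (congrArg (Ideal.comap β.toRingHom) hK).trans hP.2
  have hsol' : ∀ (Ω' : Type u) [Field Ω'] [Algebra k Ω'] (ψ : Ω →ₐ[k] Ω') (w : VecGrp.pt k Ω' ⟶ A ⊗ X),
      w ∈ Sol a ((snd A X).left q₀) (VecGrp.ptMap ψ ≫ x) → ∃ (χ : Γ((A ⊗ X).left, U) →ₐ[k] Ω') (P : PrimeSpectrum Γ((A ⊗ X).left, U)),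
        VecGrp.ptMap χ ≫ opPt hU = w ∧ P ∈ Q ∧ P.asIdeal ≤ RingHom.ker χ ∧ χ.comp α = ψ.comp ξ := by
    intro Ω' _ _ ψ w hw
    have h1 : a.act.left (img w) = genericPoint X.left := by
      show img (w ≫ a.act) = _
      rw [hw.1]
      exact (congrArg x.left (@Subsingleton.elim _ (inferInstanceAs (Subsingleton (PrimeSpectrum Ω))) _ _)).trans hx
    have h2 : (snd A X).left (img w) = (snd A X).left q₀ := hw.2
    obtain ⟨χ, hχ⟩ := exists_opPt_factor hU w (hmem _ (h1 ▸ hηW₀) (h2 ▸ hζW))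
    rw [← hχ, img_ptMap_opPt] at h1 h2
    refine ⟨χ, ⟨RingHom.ker χ, RingHom.ker_isPrime _⟩, hχ, ⟨(hact _).1 h1, (hsnd _).1 h2⟩, le_rfl, ?_⟩
    apply opPt_cancel hW₀
    rw [ptMap_comp, Category.assoc, ptMap_opMap a.act hW₀ hU e₁, ← Category.assoc, hχ, hw.1,
      ptMap_comp, Category.assoc, hξ]
  refine ⟨?_, ?_, fun Ω' _ _ ψ => ⟨fun w hw => ⟨?_, ?_⟩, fun w _ w' _ h => ptMap_cancel ψ h, fun w hw => ?_⟩⟩
  · refine ((hQfin.biUnion fun P hP => finite_algHom (C := Γ((A ⊗ X).left, U)) P.asIdeal (Ω := Ω) (halg P hP)).image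
      fun χ => VecGrp.ptMap (χ.restrictScalars k) ≫ opPt hU).subset ?_
    intro w hw
    obtain ⟨χ, P, hχ, hP, hPle, hcomm⟩ := hsol' Ω (AlgHom.id k Ω) w (by rwa [ptMap_id, Category.id_comp])
    refine ⟨{ χ with commutes' := fun r => congr($hcomm r) }, Set.mem_biUnion hP hPle, hχ⟩
  · obtain ⟨χ, hχ⟩ := exists_algHom (Ω := Ω) p₀.asIdeal (halg p₀ hp₀Q) hp₀Q.1
    exact ⟨_, hsol χ p₀ hp₀Q hχ⟩
  · rw [Category.assoc, hw.1]
  · show (snd A X).left (w.left ((VecGrp.ptMap ψ).left (closedPoint Ω'))) = _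
    rw [@Subsingleton.elim _ (inferInstanceAs (Subsingleton (PrimeSpectrum Ω))) ((VecGrp.ptMap ψ).left (closedPoint Ω')) (closedPoint Ω)]
    exact hw.2
  · obtain ⟨χ', P, hχ', hP, hPle, hcomm⟩ := hsol' Ω' ψ w hw
    letI : Algebra Γ(X.left, W₀) Ω' := (ψ.comp ξ).toRingHom.toAlgebra
    let ψ₀ : Ω →ₐ[Γ(X.left, W₀)] Ω' := { ψ with commutes' := fun r => rfl }
    let χ'₀ : Γ((A ⊗ X).left, U) →ₐ[Γ(X.left, W₀)] Ω' := { χ' with commutes' := fun r => congr($hcomm r) }
    obtain ⟨χ, hχ, hψχ⟩ := exists_factor P.asIdeal (halg P hP) ψ₀ χ'₀ hPle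
    refine ⟨_, hsol χ P hP hχ, ?_⟩
    show VecGrp.ptMap ψ ≫ _ = w
    rw [← hχ', ← Category.assoc, ← ptMap_comp]
    congr 2
    exact AlgHom.ext fun c => congr($hψχ c)

end Groth.Agent.Chev.AVAct
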