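import Groth.Agent.Chev.AntiAff
import Groth.Agent.GrpField.Dimension
import Groth.Agent.LocNoethTop.Basic

/-!
# Affine parts of normal subgroups
-/

set_option autoImplicit false
set_option backward.isDefEq.respectTransparency false

universe u

open CategoryTheory CategoryTheory.Limits MonoidalCategory CartesianMonoidalCategory MonObj GrpObj AlgebraicGeometry

noncomputable section

namespace Groth.Agent.Chev

variable {k : Type u} [Field k]

/-- A subgroup mutually containing a kernel is a kernel. -/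
theorem isKernel_of_factor {G A L N : Over (Spec (CommRingCat.of k))} [GrpObj A] {l : L ⟶ G} {i : N ⟶ G} [Mono i]
    {q : G ⟶ A} (hk : AlgGrp.IsKernel l q) (f : N ⟶ L) (hf : f ≫ l = i) (g : L ⟶ N) (hg : g ≫ i = l) :
    AlgGrp.IsKernel i q := by
  refine IsPullback.mk' (by rw [← hf, Category.assoc, hk.w, comp_toUnit_assoc])
    (fun T φ φ' e₁ _ => (cancel_mono i).1 e₁) fun T a b e => ?_
  exact ⟨hk.lift a b e ≫ g, by rw [Category.assoc, hg, hk.lift_fst], toUnit_unique _ _⟩

/-- A normal subgroup may be multiplied from either side. -/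
theorem surjective_mul_swap {G N H : Over (Spec (CommRingCat.of k))} [GrpObj G] [GrpObj N] (i : N ⟶ G)
    (hn : AlgGrp.IsNormalHom i) (h : H ⟶ G) [hs : Surjective ((i ⊗ₘ h) ≫ μ[G]).left] :
    Surjective ((h ⊗ₘ i) ≫ μ[G]).left := by
  obtain ⟨y, hy⟩ := hn (N ⊗ H) (snd N H ≫ h)⁻¹ (fst N H)
  have e : lift (snd N H) y ≫ (h ⊗ₘ i) ≫ μ[G] = (i ⊗ₘ h) ≫ μ[G] := by
    rw [comp_tensor_mul, lift_fst, lift_snd, ← hy, ← Category.id_comp ((i ⊗ₘ h) ≫ μ[G]), comp_tensor_mul,
      Category.id_comp, Category.id_comp]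
    group
  haveI : Surjective ((lift (snd N H) y).left ≫ ((h ⊗ₘ i) ≫ μ[G]).left) := by
    rw [← Over.comp_left, e]; exact hs
  exact Surjective.of_comp (lift (snd N H) y).left _

variable [IsAlgClosed k]

set_option maxHeartbeats 1000000 in
/-- The affine part of a normal subgroup is the reduced identity component of the intersection. -/
theorem affPart_inter {G K N NK : Over (Spec (CommRingCat.of k))} [GrpObj G] [GrpObj K] [GrpObj N] [GrpObj NK]
    [Smooth G.hom] [QuasiCompact G.hom] (j : K ⟶ G) [IsMonHom j] [IsClosedImmersion j.left]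
    (hK : AlgGrp.IsNormalHom j) (i : N ⟶ G) [IsMonHom i] [IsClosedImmersion i.left]
    [Smooth N.hom] [ConnectedSpace N.left] [IsAffine N.left] (hN : AlgGrp.IsNormalHom i)
    (hNmax : ∀ (N' : Over (Spec (CommRingCat.of k))) [GrpObj N'] (i' : N' ⟶ G) [IsMonHom i'] [IsClosedImmersion i'.left]
      [Smooth N'.hom] [ConnectedSpace N'.left] [IsAffine N'.left], AlgGrp.IsNormalHom i' → ∃ f : N' ⟶ N, f ≫ i = i')
    (iK : NK ⟶ K) [IsMonHom iK] [IsClosedImmersion iK.left]
    [Smooth NK.hom] [ConnectedSpace NK.left] [IsAffine NK.left]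
    (hNKmax : ∀ (N' : Over (Spec (CommRingCat.of k))) [GrpObj N'] (i' : N' ⟶ K) [IsMonHom i'] [IsClosedImmersion i'.left]
      [Smooth N'.hom] [ConnectedSpace N'.left] [IsAffine N'.left], AlgGrp.IsNormalHom i' → ∃ f : N' ⟶ NK, f ≫ iK = i') :
    (∃ g : NK ⟶ N, g ≫ i = iK ≫ j) ∧
      topologicalKrullDim NK.left = topologicalKrullDim (pullback j.left i.left : Scheme.{u}) := by
  obtain ⟨L, hL, l, hlm, hlc, hls, hlcon, hla, hln, huniv⟩ := exists_affPart G
  haveI := hlm; haveI := hlc; haveI := hls; haveI := hlcon; haveI := hla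
  obtain ⟨e, he⟩ := hNmax L l hln
  have hNuniv : ∀ (H : Over (Spec (CommRingCat.of k))) [GrpObj H] (h : H ⟶ G) [IsMonHom h]
      [Smooth H.hom] [ConnectedSpace H.left] [IsAffine H.left], ∃ f : H ⟶ N, f ≫ i = h := by
    intro H _ h _ _ _ _
    obtain ⟨f, hf⟩ := huniv H h
    exact ⟨f ≫ e, by rw [Category.assoc, he, hf]⟩
  obtain ⟨g, hg⟩ := hNuniv NK (iK ≫ j)
  refine ⟨⟨g, hg⟩, ?_⟩
  haveI : IsSeparated G.hom := GrpField.isSeparated_hom G
  haveI : Mono j := GrpField.SchImg.mono_of_isClosedImmersion j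
  haveI : Mono i := GrpField.SchImg.mono_of_isClosedImmersion i
  let P : Over (Spec (CommRingCat.of k)) := Over.mk (pullback.fst j.left i.left ≫ K.hom)
  let a : P ⟶ K := Over.homMk (pullback.fst j.left i.left) rfl
  let b : P ⟶ N := Over.homMk (pullback.snd j.left i.left) (by
    show pullback.snd j.left i.left ≫ N.hom = pullback.fst j.left i.left ≫ K.hom
    rw [← Over.w i, ← pullback.condition_assoc, Over.w j])
  have hab : a ≫ j = b ≫ i := Over.OverMorphism.ext pullback.condition
  haveI : IsClosedImmersion a.left := inferInstanceAs (IsClosedImmersion (pullback.fst j.left i.left))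
  haveI : IsClosedImmersion b.left := inferInstanceAs (IsClosedImmersion (pullback.snd j.left i.left))
  haveI : IsClosedImmersion (a ≫ j).left := by rw [Over.comp_left]; infer_instance
  have hlift : ∀ {T : Over (Spec (CommRingCat.of k))} (x : T ⟶ K) (y : T ⟶ N), x ≫ j = y ≫ i →
      ∃ z : T ⟶ P, z ≫ a = x ∧ z ≫ b = y := fun {T} x y h =>
    ⟨Over.homMk (pullback.lift x.left y.left (congrArg (fun φ => φ.left) h)) (by
      show pullback.lift _ _ _ ≫ pullback.fst _ _ ≫ K.hom = _
      rw [pullback.lift_fst_assoc, Over.w]),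
      Over.OverMorphism.ext (pullback.lift_fst _ _ _), Over.OverMorphism.ext (pullback.lift_snd _ _ _)⟩
  obtain ⟨hP, hPm⟩ := GrpField.SchImg.exists_grpObj_of_div (a ≫ j)
    (by
      obtain ⟨z, hz, -⟩ := hlift η[K] η[N] (by rw [IsMonHom.one_hom, IsMonHom.one_hom])
      exact ⟨z, by rw [reassoc_of% hz, IsMonHom.one_hom]⟩)
    fun T x y => by
      obtain ⟨z, hz, -⟩ := hlift ((x ≫ a)⁻¹ * (y ≫ a)) ((x ≫ b)⁻¹ * (y ≫ b)) (by
        simp only [MonObj.mul_comp, GrpObj.inv_comp, Category.assoc, hab])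
      exact ⟨z, by rw [reassoc_of% hz, MonObj.mul_comp, GrpObj.inv_comp, Category.assoc, Category.assoc]⟩
  letI : GrpObj P := hP
  haveI : IsMonHom (a ≫ j) := hPm
  haveI : LocallyOfFiniteType P.hom := by rw [← Over.w (a ≫ j)]; infer_instance
  haveI : QuasiCompact P.hom := by rw [← Over.w (a ≫ j)]; infer_instance
  haveI : IsAffine P.left := isAffine_of_isAffineHom b.left
  obtain ⟨R, hR, r, hrm, hrc, hrs, hRsm⟩ := exists_red_group P
  haveI := hrm; haveI := hrc; haveI := hrs; haveI := hRsm
  haveI : QuasiCompact R.hom := by rw [← Over.w r]; infer_instance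
  obtain ⟨R₀, hR₀, c, hcm, hcc, hcs, hcirr, hcr⟩ := exists_component R
  haveI := hcm; haveI := hcc; haveI := hcs; haveI := hcirr
  haveI : IsAffine R.left := isAffine_of_isAffineHom r.left
  haveI : IsAffine R₀.left := isAffine_of_isAffineHom c.left
  haveI : ConnectedSpace R₀.left := inferInstance
  let d : R₀ ⟶ K := c ≫ r ≫ a
  let d' : R₀ ⟶ G := d ≫ j
  haveI : IsClosedImmersion d.left := by
    show IsClosedImmersion (c ≫ r ≫ a).left
    simp only [Over.comp_left]; infer_instance
  haveI : IsClosedImmersion d'.left := by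
    show IsClosedImmersion (d ≫ j).left
    rw [Over.comp_left]; infer_instance
  haveI : IsMonHom d' := by
    show IsMonHom ((c ≫ r ≫ a) ≫ j)
    rw [Category.assoc, Category.assoc]; infer_instance
  haveI : IsMonHom (d ≫ j) := ‹IsMonHom d'›
  haveI : IsMonHom d := isMonHom_of_comp d j
  -- conjugates of the component stay inside
  have hconj : ∀ z : RP G, ∃ f : R₀ ⟶ R₀, f ≫ d' = d' ≫ conjPt z := by
    intro z
    obtain ⟨y, hy⟩ := hNuniv R₀ (d' ≫ conjPt z)
    obtain ⟨x, hx⟩ := hK R₀ (toUnit R₀ ≫ z) d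
    rw [← comp_conjPt] at hx
    obtain ⟨w, hw, -⟩ := hlift x y (hx.symm.trans hy.symm)
    haveI : IsReduced R₀.left := isReduced_of_smooth R₀
    have hw' : w ≫ a ≫ j = d' ≫ conjPt z := by rw [reassoc_of% hw]; exact hx.symm
    obtain ⟨w₁, hw₁⟩ := exists_lift_range w r (by rw [Set.range_eq_univ.2 r.left.surjective]; exact Set.subset_univ _)
    haveI : Mono (a ≫ j) := GrpField.SchImg.mono_of_isClosedImmersion (a ≫ j)
    haveI : Mono r := GrpField.SchImg.mono_of_isClosedImmersion r
    haveI : IsMonHom (w ≫ a ≫ j) := by rw [hw']; infer_instance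
    haveI := isMonHom_of_comp w (a ≫ j)
    haveI : IsMonHom (w₁ ≫ r) := by rw [hw₁]; infer_instance
    haveI := isMonHom_of_comp w₁ r
    obtain ⟨w₀, hw₀⟩ := exists_lift_range w₁ c (by
      rw [hcr]
      refine (isConnected_range w₁.left.continuous).subset_connectedComponent ⟨SubGen.rpt (1 : RP R₀), ?_⟩
      rw [SubGen.map_rpt, MonObj.one_comp]
      exact GrpComp.one_apply _)
    refine ⟨w₀, ?_⟩
    rw [← hw', ← hw₁, ← hw₀]
    simp only [d', d, Category.assoc]
  have hdn : AlgGrp.IsNormalHom d' := by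
    haveI : Smooth (G ⊗ R₀).hom := by
      haveI : Smooth (Limits.pullback.fst G.hom R₀.hom) := MorphismProperty.pullback_fst _ _ hcs
      exact inferInstanceAs (Smooth (Limits.pullback.fst G.hom R₀.hom ≫ G.hom))
    haveI : IsReduced (G ⊗ R₀).left := isReduced_of_smooth (G ⊗ R₀)
    haveI : JacobsonSpace (G ⊗ R₀).left := LocallyOfFiniteType.jacobsonSpace (G ⊗ R₀).hom
    let w : G ⊗ R₀ ⟶ G := fst G R₀ * (snd G R₀ ≫ d') * (fst G R₀)⁻¹
    have hw : Set.range w.left ⊆ Set.range d'.left := by
      have hcl : IsClosed (w.left ⁻¹' Set.range d'.left) :=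
        d'.left.isClosedEmbedding.isClosed_range.preimage w.left.continuous
      suffices Set.univ ⊆ w.left ⁻¹' Set.range d'.left by
        rintro _ ⟨x, rfl⟩; exact this (Set.mem_univ x)
      rw [← closure_closedPoints (X := (G ⊗ R₀).left)]
      refine closure_minimal (fun x hx => ?_) hcl
      obtain ⟨z, rfl⟩ := SubGen.exists_rpt hx
      obtain ⟨f, hf⟩ := hconj (z ≫ fst G R₀)
      refine ⟨SubGen.rpt ((z ≫ snd G R₀) ≫ f), ?_⟩
      rw [SubGen.map_rpt, SubGen.map_rpt]
      congr 1
      rw [Category.assoc _ f, hf, ← Category.assoc, comp_conjPt,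
        show toUnit (𝟙_ (Over (Spec (CommRingCat.of k)))) = 𝟙 _ from toUnit_unique _ _, Category.id_comp]
      simp only [w, MonObj.comp_mul, GrpObj.comp_inv, Category.assoc]
    obtain ⟨w', hw'⟩ := exists_lift_range w d' hw
    intro T x y
    refine ⟨lift x y ≫ w', ?_⟩
    rw [Category.assoc, hw']
    simp only [w, MonObj.comp_mul, GrpObj.comp_inv, lift_fst, lift_snd_assoc, Category.assoc]
  have hdnK : AlgGrp.IsNormalHom d := by
    intro T x y
    obtain ⟨y', hy'⟩ := hdn T (x ≫ j) y
    refine ⟨y', ?_⟩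
    rw [← cancel_mono j, MonObj.mul_comp, MonObj.mul_comp, GrpObj.inv_comp, Category.assoc, Category.assoc]
    exact hy'
  obtain ⟨f, hf⟩ := hNKmax R₀ d hdnK
  haveI : IsClosedImmersion f.left := by
    haveI : IsClosedImmersion (f.left ≫ iK.left) := by rw [← Over.comp_left, hf]; infer_instance
    exact IsClosedImmersion.of_comp f.left iK.left
  obtain ⟨v, hv, -⟩ := hlift iK g hg.symm
  haveI : IsClosedImmersion v.left := by
    haveI : IsClosedImmersion (v.left ≫ a.left) := by rw [← Over.comp_left, hv]; infer_instance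
    exact IsClosedImmersion.of_comp v.left a.left
  haveI : IsReduced R.left := isReduced_of_smooth R
  have h1 : topologicalKrullDim R.left = topologicalKrullDim P.left :=
    IsHomeomorph.topologicalKrullDim_eq r.left
      (isHomeomorph_iff_isEmbedding_surjective.2 ⟨r.left.isClosedEmbedding.isEmbedding, r.left.surjective⟩)
  have h2 : topologicalKrullDim R₀.left = topologicalKrullDim R.left := by
    have hopen : IsOpen (Set.range c.left) := by
      rw [hcr]
      haveI : IsLocallyNoetherian R.left := LocallyOfFiniteType.isLocallyNoetherian R.hom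
      haveI : IsNoetherian R.left :=
        { toCompactSpace := QuasiCompact.compactSpace_of_compactSpace R.hom }
      exact Groth.Agent.LocNoethTop.isOpen_connectedComponent_of_noetherian _
    rw [← (GrpField.equidimensional R).2 (c.left (SubGen.rpt (1 : RP R₀))) _ hopen ⟨_, rfl⟩]
    exact IsHomeomorph.topologicalKrullDim_eq _ c.left.isClosedEmbedding.isEmbedding.toHomeomorph.isHomeomorph
  refine le_antisymm v.left.isClosedEmbedding.isInducing.topologicalKrullDim_le ?_
  show topologicalKrullDim P.left ≤ _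
  rw [← h1, ← h2]
  exact f.left.isClosedEmbedding.isInducing.topologicalKrullDim_le

end Groth.Agent.Chev
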