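import Groth.Agent.Chev.Space
import Groth.Agent.Chev.Generate

/-!
# Shrinking and translating curves
-/

set_option autoImplicit false
set_option backward.isDefEq.respectTransparency false

universe u

open CategoryTheory CategoryTheory.Limits MonoidalCategory CartesianMonoidalCategory MonObj GrpObj AlgebraicGeometry
open Polynomial

noncomputable section

namespace Groth.Agent.Chev

variable {k : Type u} [Field k] [IsAlgClosed k] {H : Over (Spec (CommRingCat.of k))} [GrpObj H]

namespace RatCurve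

variable (c : RatCurve H)

omit [IsAlgClosed k] [GrpObj H] in
theorem isUnit_coord (g' : k[X]) (hd : c.g ∣ g') :
    IsUnit (aeval (algebraMap k[X] (Localization.Away g') X) c.g) := by
  rw [aeval_algebraMap_apply, aeval_X_left_apply]
  exact isUnit_of_dvd_unit (map_dvd _ hd)
    (IsLocalization.map_units (M := Submonoid.powers g') _ ⟨g', Submonoid.mem_powers g'⟩)

/-- The curve translated by a constant and restricted. -/
def shift (g' : k[X]) (hg' : g' ≠ 0) (hd : c.g ∣ g') (d : RP H) : RatCurve H :=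
  ⟨g', hg', rat d * c.pu _ (c.isUnit_coord g' hd)⟩

omit [IsAlgClosed k] in
theorem rat_injective {a b : RP H} (h : rat (A := k) a = rat (A := k) b) : a = b := by
  have h' := congrArg (fun x : VecGrp.pt k k ⟶ H => ptK.hom ≫ x) h
  simp only [rat, ← Category.assoc, toUnit_unique (ptK.hom ≫ toUnit _) (𝟙 _), Category.id_comp] at h'
  exact h'

omit [IsAlgClosed k] in
theorem uv_shift (g' : k[X]) (hg' : g' ≠ 0) (hd : c.g ∣ g') (d : RP H) {s : k} (hs : g'.eval s ≠ 0) :
    (c.shift g' hg' hd d).uv s = d * c.uv s := by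
  have hcs : c.g.eval s ≠ 0 := fun h => hs (by
    obtain ⟨q, rfl⟩ := hd
    rw [eval_mul, h, zero_mul])
  refine rat_injective ?_
  rw [rat_mul, (c.shift g' hg' hd d).rat_uv hs, c.rat_uv hcs]
  show VecGrp.ptMap _ ≫ (rat d * c.pu _ _) = _
  rw [MonObj.comp_mul, ptMap_rat, ptMap_pu]
  congr 1
  refine c.pu_congr ?_ _ _
  exact ((c.shift g' hg' hd d).evalAlg_algebraMap _ _ X).trans (aeval_X _)

/-- The inverse curve. -/
def inv : RatCurve H := ⟨c.g, c.g_ne_zero, c.map⁻¹⟩

omit [IsAlgClosed k] in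
theorem uv_inv {s : k} (hs : c.g.eval s ≠ 0) : c.inv.uv s = (c.uv s)⁻¹ := by
  have hs' : c.inv.g.eval s ≠ 0 := hs
  simp only [uv, dif_pos hs', dif_pos hs]
  show ptK.hom ≫ VecGrp.ptMap _ ≫ c.map⁻¹ = (ptK.hom ≫ VecGrp.ptMap _ ≫ c.map)⁻¹
  rw [GrpObj.comp_inv, GrpObj.comp_inv]
  rfl

end RatCurve

variable [IsCommMonObj H] [IsIntegral H.left] [Smooth H.hom]

/-- If no proper closed subgroup contains the differences of a curve, differences of almost all values generate
all rational points, with a bound on the length of the words. -/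
theorem exists_words [IsSeparated H.hom] (c : RatCurve H)
    (hgen : ∀ (K : Over (Spec (CommRingCat.of k))) (_ : GrpObj K) (i : K ⟶ H), IsMonHom i → IsClosedImmersion i.left →
      (∀ s s' : k, c.g.eval s ≠ 0 → c.g.eval s' ≠ 0 → ∃ z : RP K, z ≫ i = (c.uv s')⁻¹ * c.uv s) → Surjective i.left)
    (g' : k[X]) (hg' : g' ≠ 0) (hd : c.g ∣ g') {v₁ : k} (hv₁ : g'.eval v₁ ≠ 0) :
    ∃ l, ∀ h : RP H, h ∈ Words (fun ε : Bool => if ε then c.shift g' hg' hd (c.uv v₁)⁻¹
      else (c.shift g' hg' hd (c.uv v₁)⁻¹).inv) l := by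
  classical
  set c₁ := c.shift g' hg' hd (c.uv v₁)⁻¹ with hc₁
  obtain ⟨a₀, ha₀⟩ := c₁.exists_point (s := v₁) hv₁
  rw [c.uv_shift g' hg' hd _ hv₁, inv_mul_cancel] at ha₀
  obtain ⟨P, hP, i, f', m, him, hci, hf', -, -, hm⟩ := exists_gen (Y := H) c₁.g hg' c₁.map ha₀
  haveI := him
  haveI := hci
  haveI : LocallyOfFiniteType P.hom := by rw [← Over.w i]; infer_instance
  haveI : JacobsonSpace H.left := LocallyOfFiniteType.jacobsonSpace H.hom
  have hdvd : ∀ {t : k}, g'.eval t ≠ 0 → c.g.eval t ≠ 0 := fun {t} ht h => ht (by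
    obtain ⟨q, hq⟩ := hd
    rw [hq, eval_mul, h, zero_mul])
  have hlift : ∀ s, c.g.eval s ≠ 0 → ∃ z : RP P, z ≫ i = (c.uv v₁)⁻¹ * c.uv s := by
    intro s hs
    have hmem : img (rat (A := k) ((c.uv v₁)⁻¹ * c.uv s)) ∈ Set.range i.left := by
      by_contra hn
      obtain ⟨B, hB⟩ := c.cofinite_mem _ i.left.isClosedEmbedding.isClosed_range.isOpen_compl hs hn
      obtain ⟨t, ht⟩ := Infinite.exists_notMem_finset (B ∪ g'.roots.toFinset)
      simp only [Finset.mem_union, Multiset.mem_toFinset, mem_roots hg', not_or] at ht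
      refine hB t (hdvd ht.2) ht.1 ?_
      obtain ⟨a, ha⟩ := c₁.exists_point (s := t) ht.2
      rw [c.uv_shift g' hg' hd _ ht.2, ← hf', ← Category.assoc] at ha
      rw [img_rat_eq, ← ha]
      exact ⟨SubGen.rpt (a ≫ f'), rfl⟩
    rw [img_rat_eq] at hmem
    obtain ⟨p, hp⟩ := hmem
    have hpc : p ∈ closedPoints P.left := by
      have : i.left ⁻¹' {SubGen.rpt ((c.uv v₁)⁻¹ * c.uv s)} = {p} := by
        ext q; simp only [Set.mem_preimage, Set.mem_singleton_iff]
        exact ⟨fun hq => i.left.isClosedEmbedding.injective (hq.trans hp.symm), fun hq => hq ▸ hp⟩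
      show IsClosed ({p} : Set P.left)
      rw [← this]
      exact (SubGen.rpt_mem_closedPoints (Y := H) ((c.uv v₁)⁻¹ * c.uv s) : IsClosed _).preimage i.left.continuous
    obtain ⟨z, rfl⟩ := SubGen.exists_rpt hpc
    exact ⟨z, SubGen.rpt_injective hp⟩
  haveI : Surjective i.left := hgen P hP i him hci fun s s' hs hs' => by
    obtain ⟨z, hz⟩ := hlift s hs
    obtain ⟨z', hz'⟩ := hlift s' hs'
    exact ⟨z'⁻¹ * z, by rw [MonObj.mul_comp, GrpObj.inv_comp, hz, hz', _root_.mul_inv_rev, _root_.inv_inv,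
      _root_.mul_assoc, mul_inv_cancel_left]⟩
  refine ⟨m, fun h => ?_⟩
  obtain ⟨p, hp⟩ := i.left.surjective (SubGen.rpt h)
  have hpc : p ∈ closedPoints P.left := by
    have : i.left ⁻¹' {SubGen.rpt h} = {p} := by
      ext q; simp only [Set.mem_preimage, Set.mem_singleton_iff]
      exact ⟨fun hq => i.left.isClosedEmbedding.injective (hq.trans hp.symm), fun hq => hq ▸ hp⟩
    show IsClosed ({p} : Set P.left)
    rw [← this]
    exact (SubGen.rpt_mem_closedPoints (Y := H) h : IsClosed _).preimage i.left.continuous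
  obtain ⟨z, rfl⟩ := SubGen.exists_rpt hpc
  obtain ⟨e, he⟩ := hm z
  have : z ≫ i = h := SubGen.rpt_injective hp
  rw [← this, ← he]
  clear hp hpc this he hm
  induction m with
  | nil =>
    rw [SubGen.comp_word_nil, MonObj.one_comp]
    exact rfl
  | cons b l ih =>
    rw [SubGen.comp_word_cons, MonObj.mul_comp]
    let a := e ≫ fst (Dom c₁.g) (SubGen.src (Dom c₁.g) l)
    obtain ⟨s, hs, hsa⟩ := c₁.exists_param a
    cases b
    · refine ⟨s, hs, _, ih (e ≫ snd (Dom c₁.g) (SubGen.src (Dom c₁.g) l)), ?_⟩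
      congr 1
      show (a ≫ f'⁻¹) ≫ i = c₁.inv.uv s
      rw [c₁.uv_inv hs, GrpObj.comp_inv, GrpObj.inv_comp, Category.assoc, hf', hsa]
    · refine ⟨s, hs, _, ih (e ≫ snd (Dom c₁.g) (SubGen.src (Dom c₁.g) l)), ?_⟩
      congr 1
      show (a ≫ f') ≫ i = c₁.uv s
      rw [Category.assoc, hf', hsa]

end Groth.Agent.Chev
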