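import Groth.Agent.Chev.Operator
import Groth.Agent.Chev.Shift
import Groth.Agent.Chev.GLPoints
import Groth.Agent.Chev.AffImage
import Groth.Agent.AdjRep.KerAffine
import Groth.Agent.AdjRep.Center
import Groth.Agent.GrpField.AbelianField

/-!
# Groups generated by a rational curve are affine

A commutative smooth connected group over an algebraically closed field which is generated by a rational curve is
affine: translates of the complement of an affine open set are linearly equivalent, and the resulting operators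
on a finite dimensional space of rational functions give a linear representation of an extension of the group.
-/

set_option autoImplicit false
set_option backward.isDefEq.respectTransparency false

universe u

open CategoryTheory CategoryTheory.Limits MonoidalCategory CartesianMonoidalCategory MonObj GrpObj AlgebraicGeometry
open Polynomial

noncomputable section

namespace Groth.Agent.Chev

variable {k : Type u} [Field k] [IsAlgClosed k]

set_option synthInstance.maxHeartbeats 1000000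

variable {H : Over (Spec (CommRingCat.of k))} [GrpObj H] [IsCommMonObj H] [IsIntegral H.left] [Smooth H.hom]
  {W : H.left.Opens} (E : Equations H W) (cs : Bool → RatCurve H) {r : ℕ} (b : Module.Basis (Fin r) k (Vsp E cs))

/-- Translations paired with the matrix of a normalized operator. -/
def pairSub : Subgroup (RP (H ⊗ AdjRep.GLSpec k r)) where
  carrier := {z | ∃ f, ∃ hf : IsNormalPair E cs (z ≫ fst _ _) f,
    mat (z ≫ snd _ _) = LinearMap.toMatrix b b (hf.op E cs)}
  mul_mem' := fun {z z'} ⟨f, hf, e⟩ ⟨f', hf', e'⟩ => by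
    refine ⟨_, (MonObj.mul_comp z z' (fst H (AdjRep.GLSpec k r))).symm ▸ hf.mul E cs hf', ?_⟩
    rw [MonObj.mul_comp, mat_mul, e, e', ← LinearMap.toMatrix_comp, ← op_mul]
    refine congrArg _ (LinearMap.ext fun a => Subtype.ext ?_)
    simp only [op_apply, MonObj.mul_comp]
  one_mem' := by
    refine ⟨1, (MonObj.one_comp (fst H (AdjRep.GLSpec k r))).symm ▸ IsNormalPair.one E cs, ?_⟩
    rw [MonObj.one_comp, mat_one, ← LinearMap.toMatrix_id b, ← op_one E cs]
    refine congrArg _ (LinearMap.ext fun a => Subtype.ext ?_)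
    simp only [op_apply, MonObj.one_comp]
  inv_mem' := fun {z} ⟨f, hf, e⟩ => by
    refine ⟨_, (GrpObj.inv_comp z (fst H (AdjRep.GLSpec k r))).symm ▸ hf.inv E cs, ?_⟩
    apply left_inv_eq_right_inv (a := mat (z ≫ snd _ _))
    · rw [GrpObj.inv_comp, ← mat_mul, inv_mul_cancel, mat_one]
    · rw [e, ← LinearMap.toMatrix_comp, ← LinearMap.toMatrix_id b]
      refine congrArg _ (LinearMap.ext fun a => Subtype.ext ?_)
      simp only [LinearMap.comp_apply, op_apply, LinearMap.id_apply, GrpObj.inv_comp, map_mul, tK_inv_right,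
        map_inv₀]
      rw [← _root_.mul_assoc, mul_inv_cancel₀ hf.1.ne_zero, _root_.one_mul]

/-- The generating translations lift to a curve of pairs. -/
theorem exists_lift_curve (c₁ : RatCurve H) (hcs : cs true = c₁) {v₁ : k} {Bad : Finset k}
    {M : Matrix (Fin r) (Fin r) k[X]} (hv₁ : v₁ ∉ Bad)
    (hM : ∀ v : k, v ∉ Bad → c₁.g.eval v ≠ 0 ∧
      ∃ (f : KF H) (hf : IsNormalPair E cs ((c₁.uv v₁)⁻¹ * c₁.uv v) f),
        LinearMap.toMatrix b b (hf.op E cs) = M.map (Polynomial.eval v)) :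
    ∃ (g₂ : k[X]) (_ : c₁.g ∣ g₂) (ψ₀ : Dom g₂ ⟶ H ⊗ AdjRep.GLSpec k r) (a₀ : RP (Dom g₂)),
      g₂ ≠ 0 ∧ (∀ a : RP (Dom g₂), a ≫ ψ₀ ∈ pairSub E cs b) ∧ g₂.eval v₁ ≠ 0 ∧
      a₀ ≫ ψ₀ ≫ fst _ _ = 1 ∧
      ∀ v, g₂.eval v ≠ 0 → ∃ a : RP (Dom g₂), a ≫ ψ₀ ≫ fst _ _ = (c₁.uv v₁)⁻¹ * c₁.uv v := by
  classical
  subst hcs
  have hdet : ∀ v, v ∉ Bad → M.det.eval v ≠ 0 := fun v hv => by
    obtain ⟨-, f, hf, e⟩ := hM v hv
    have h := det_ne_zero E cs b hf
    rw [e, ← coe_evalRingHom] at h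
    rwa [show (M.map (evalRingHom v)).det = evalRingHom v M.det from ((evalRingHom v).map_det M).symm,
      coe_evalRingHom] at h
  have hdet0 : M.det ≠ 0 := fun e => hdet v₁ hv₁ (by rw [e, eval_zero])
  let g₂ : k[X] := (cs true).g * (M.det * ∏ t ∈ Bad, (X - Polynomial.C t))
  have hg₂ : g₂ ≠ 0 := mul_ne_zero (cs true).g_ne_zero
    (mul_ne_zero hdet0 (Finset.prod_ne_zero_iff.2 fun t _ => X_sub_C_ne_zero t))
  have hgood : ∀ v, g₂.eval v ≠ 0 → v ∉ Bad := fun v hv => by
    simp only [g₂, eval_mul, eval_prod, eval_sub, eval_X, eval_C, mul_ne_zero_iff, Finset.prod_ne_zero_iff] at hv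
    exact fun hb => hv.2.2 v hb (sub_self v)
  have hv₁g : g₂.eval v₁ ≠ 0 := by
    simp only [g₂, eval_mul, eval_prod, eval_sub, eval_X, eval_C, mul_ne_zero_iff, Finset.prod_ne_zero_iff]
    exact ⟨(hM v₁ hv₁).1, hdet v₁ hv₁, fun t ht => sub_ne_zero.2 fun e => hv₁ (e ▸ ht)⟩
  let C₂ : RatCurve H := (cs true).shift g₂ hg₂ (Dvd.intro _ rfl) ((cs true).uv v₁)⁻¹
  have hC₂ : ∀ v, g₂.eval v ≠ 0 → C₂.uv v = ((cs true).uv v₁)⁻¹ * (cs true).uv v := fun v hv =>
    (cs true).uv_shift g₂ hg₂ _ _ hv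
  have hA : IsUnit (algebraMap k[X] (Localization.Away g₂) M.det) := isUnit_of_dvd_unit
    (map_dvd _ (dvd_mul_of_dvd_right (dvd_mul_right _ _) _))
    (IsLocalization.map_units (M := Submonoid.powers g₂) _ ⟨g₂, Submonoid.mem_powers g₂⟩)
  let MA : Matrix (Fin r) (Fin r) (Localization.Away g₂) := M.map (algebraMap k[X] (Localization.Away g₂))
  have hMA : MA.det * ↑hA.unit⁻¹ = 1 := by
    rw [show MA.det = algebraMap k[X] (Localization.Away g₂) M.det from
      ((algebraMap k[X] (Localization.Away g₂)).map_det M).symm, IsUnit.mul_val_inv]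
  let φ := CoordGrp.GLn.pt r k MA _ hMA
  obtain ⟨a₀, ha₀⟩ := C₂.exists_point (s := v₁) hv₁g
  refine ⟨g₂, Dvd.intro _ rfl, lift C₂.map (glPt φ), a₀, hg₂, fun a => ?_, hv₁g, ?_, fun v hv => ?_⟩
  · obtain ⟨v, σa, hv, hav, hal, hσ⟩ := C₂.exists_param_alg a
    obtain ⟨-, f, hf, e⟩ := hM v (hgood v hv)
    have h1 : (a ≫ lift C₂.map (glPt φ)) ≫ fst _ _ = ((cs true).uv v₁)⁻¹ * (cs true).uv v := by
      rw [Category.assoc, lift_fst]
      exact hav.trans (hC₂ v hv)
    refine ⟨f, h1.symm ▸ hf, ?_⟩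
    rw [Category.assoc, lift_snd]
    have e2 : (LinearMap.toMatrix b b) (IsNormalPair.op E cs (h1.symm ▸ hf)) = M.map (Polynomial.eval v) := by
      rw [← e]
      refine congrArg _ (LinearMap.ext fun q => Subtype.ext ?_)
      simp only [op_apply, h1]
    rw [e2]
    ext i j
    rw [Matrix.map_apply, mat_comp_glPt φ σa a hal, CoordGrp.GLn.pt_X]
    exact (congr($(hσ) (M i j))).trans (congrFun (coe_aeval_eq_eval v) _)
  · rw [lift_fst, ha₀, hC₂ v₁ hv₁g, inv_mul_cancel]
  · obtain ⟨a, ha⟩ := C₂.exists_point (s := v) hv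
    exact ⟨a, by rw [lift_fst, ha, hC₂ v hv]⟩

set_option maxHeartbeats 2000000 in
/-- A closed subgroup of pairs mapping onto the group has affine image. -/
theorem isAffine_of_pairs [QuasiCompact H.hom] [IsSeparated H.hom] (hWaff : IsAffineOpen W)
    (he : img (rat (A := k) (1 : RP H)) ∈ W) (P : Over (Spec (CommRingCat.of k))) [GrpObj P]
    (i : P ⟶ H ⊗ AdjRep.GLSpec k r) [IsMonHom i] [IsClosedImmersion i.left]
    (hP : ∀ z : RP P, z ≫ i ∈ pairSub E cs b) (hsurj : ∀ h : RP H, ∃ z : RP P, z ≫ i ≫ fst _ _ = h) :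
    IsAffine H.left := by
  haveI : QuasiCompact (AdjRep.GLSpec k r).hom :=
    inferInstanceAs (QuasiCompact (Spec.map (CommRingCat.ofHom (algebraMap k (CoordGrp.GLn r k)))))
  haveI : LocallyOfFiniteType (H ⊗ AdjRep.GLSpec k r).hom :=
    inferInstanceAs (LocallyOfFiniteType (pullback.fst H.hom (AdjRep.GLSpec k r).hom ≫ H.hom))
  haveI : QuasiCompact (H ⊗ AdjRep.GLSpec k r).hom :=
    inferInstanceAs (QuasiCompact (pullback.fst H.hom (AdjRep.GLSpec k r).hom ≫ H.hom))
  haveI : LocallyOfFiniteType P.hom := by rw [← Over.w i]; infer_instance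
  haveI : QuasiCompact P.hom := by rw [← Over.w i]; infer_instance
  haveI : IsLocallyNoetherian H.left := LocallyOfFiniteType.isLocallyNoetherian H.hom
  -- the kernel of the representation
  let u : P ⟶ AdjRep.GLSpec k r := i ≫ snd _ _
  haveI : IsMonHom u := inferInstanceAs (IsMonHom (i ≫ snd _ _))
  haveI : IsClosedImmersion η[AdjRep.GLSpec k r].left := by
    haveI : IsClosedImmersion (η[AdjRep.GLSpec k r].left ≫ (AdjRep.GLSpec k r).hom) := by
      rw [Over.w]; exact inferInstanceAs (IsClosedImmersion (𝟙 _))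
    haveI : IsSeparated (AdjRep.GLSpec k r).hom :=
      inferInstanceAs (IsSeparated (Spec.map (CommRingCat.ofHom (algebraMap k (CoordGrp.GLn r k)))))
    exact IsClosedImmersion.of_comp η[AdjRep.GLSpec k r].left (AdjRep.GLSpec k r).hom
  let N : Over (Spec (CommRingCat.of k)) := Over.mk (pullback.fst u.left η[AdjRep.GLSpec k r].left ≫ P.hom)
  let n : N ⟶ P := Over.homMk (pullback.fst u.left η[AdjRep.GLSpec k r].left) rfl
  haveI : IsClosedImmersion n.left :=
    inferInstanceAs (IsClosedImmersion (pullback.fst u.left η[AdjRep.GLSpec k r].left))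
  haveI : Mono n := GrpField.SchImg.mono_of_isClosedImmersion n
  have hnu : n ≫ u = 1 := by
    apply Over.OverMorphism.ext
    simp only [Hom.one_def, Over.comp_left, Over.toUnit_left]
    show pullback.fst u.left η[AdjRep.GLSpec k r].left ≫ u.left =
      (pullback.fst u.left η[AdjRep.GLSpec k r].left ≫ P.hom) ≫ η[AdjRep.GLSpec k r].left
    rw [pullback.condition]
    congr 1
    rw [← Over.w u, pullback.condition_assoc, Over.w η[AdjRep.GLSpec k r]]
    exact (Category.comp_id _).symm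
  have hN : ∀ (T : Over (Spec (CommRingCat.of k))) (g : T ⟶ P), (∃ w : T ⟶ N, w ≫ n = g) ↔ g ≫ u = 1 := by
    refine fun T g => ⟨?_, fun hg => ?_⟩
    · rintro ⟨w, rfl⟩
      rw [Category.assoc, hnu, MonObj.comp_one]
    · have h0 : g.left ≫ u.left = (toUnit T).left ≫ η[AdjRep.GLSpec k r].left := by
        rw [← Over.comp_left, hg, Hom.one_def, Over.comp_left]
      refine ⟨Over.homMk (pullback.lift g.left _ h0) ?_, Over.OverMorphism.ext (pullback.lift_fst _ _ _)⟩
      show pullback.lift _ _ h0 ≫ pullback.fst _ _ ≫ P.hom = T.hom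
      rw [pullback.lift_fst_assoc, Over.w g]
  let j : N ⟶ H := n ≫ i ≫ fst _ _
  haveI : IsClosedImmersion j.left := by
    let m : H ⟶ H ⊗ AdjRep.GLSpec k r := lift (𝟙 H) 1
    haveI : Mono m.left := by
      haveI : IsSplitMono m.left := ⟨⟨(fst H (AdjRep.GLSpec k r)).left, by rw [← Over.comp_left, lift_fst]; rfl⟩⟩
      infer_instance
    have hjm : j ≫ m = n ≫ i := by
      apply CartesianMonoidalCategory.hom_ext
      · rw [Category.assoc, lift_fst, Category.comp_id, Category.assoc]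
      · rw [Category.assoc, lift_snd, MonObj.comp_one, Category.assoc]
        exact hnu.symm
    haveI : IsClosedImmersion (j.left ≫ m.left) := by
      rw [← Over.comp_left, hjm, Over.comp_left]; infer_instance
    exact IsClosedImmersion.of_comp j.left m.left
  haveI : LocallyOfFiniteType N.hom := by rw [← Over.w n]; infer_instance
  haveI : JacobsonSpace N.left := LocallyOfFiniteType.jacobsonSpace N.hom
  have hsub : j.left ⁻¹' (W : Set H.left) = Set.univ := by
    by_contra hne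
    obtain ⟨x, hxW, hx⟩ := nonempty_inter_closedPoints (Set.nonempty_compl.2 hne)
      (W.2.preimage j.left.continuous).isClosed_compl.isLocallyClosed
    refine hxW ?_
    · obtain ⟨z, rfl⟩ := SubGen.exists_rpt hx
      show SubGen.rpt (z ≫ j) ∈ W
      obtain ⟨f, hf, e⟩ := hP (z ≫ n)
      have hid : hf.op E cs = LinearMap.id := by
        apply (LinearMap.toMatrix b b).injective
        rw [← e, LinearMap.toMatrix_id, Category.assoc, Category.assoc]
        show mat (z ≫ n ≫ u) = 1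
        rw [hnu, MonObj.comp_one, mat_one]
      have h := mem_of_op_eq_id E cs hf hid he
      rw [← img_rat_mul, _root_.one_mul, img_rat_eq] at h
      simpa [j] using h
  have hrange : Set.range j.left ⊆ Set.range W.ι := by
    rintro _ ⟨x, rfl⟩
    rw [Scheme.Opens.range_ι]
    have : x ∈ j.left ⁻¹' (W : Set H.left) := hsub ▸ Set.mem_univ x
    exact this
  haveI : IsClosedImmersion (IsOpenImmersion.lift W.ι j.left hrange ≫ W.ι) := by
    rw [IsOpenImmersion.lift_fac]; infer_instance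
  haveI : IsClosedImmersion (IsOpenImmersion.lift W.ι j.left hrange) := IsClosedImmersion.of_comp _ W.ι
  haveI : IsAffine W.toScheme := hWaff
  haveI : IsAffine N.left := isAffine_of_isAffineHom (IsOpenImmersion.lift W.ι j.left hrange)
  haveI : IsAffine P.left := AdjRep.isAffine_of_affine_kernel P r u N n hN
  -- the projection onto the group
  let p : P ⟶ H := i ≫ fst _ _
  haveI : IsMonHom p := inferInstanceAs (IsMonHom (i ≫ fst _ _))
  haveI : Surjective p.left := by
    refine ⟨fun x => ?_⟩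
    haveI : LocallyOfFiniteType (p.left ≫ H.hom) := by rw [Over.w]; infer_instance
    haveI : LocallyOfFiniteType p.left := locallyOfFiniteType_of_comp p.left H.hom
    haveI : LocallyOfFinitePresentation p.left := inferInstance
    haveI : QuasiCompact p.left := by
      haveI : QuasiCompact (p.left ≫ H.hom) := by rw [Over.w]; infer_instance
      exact QuasiCompact.of_comp p.left H.hom
    haveI : JacobsonSpace H.left := LocallyOfFiniteType.jacobsonSpace H.hom
    have hr : Set.range p.left = Set.univ := by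
      rw [← Set.image_univ]
      refine SubGen.eq_univ_of_closedPoints
        (p.left.isLocallyConstructible_image Topology.IsConstructible.univ.isLocallyConstructible) fun w hw => ?_
      obtain ⟨h, rfl⟩ := SubGen.exists_rpt hw
      obtain ⟨z, hz⟩ := hsurj h
      exact ⟨SubGen.rpt z, trivial, congrArg SubGen.rpt hz⟩
    exact hr.ge (Set.mem_univ x)
  exact isAffine_of_surjective p

set_option maxHeartbeats 2000000 in
theorem isAffine_of_ratCurve [QuasiCompact H.hom] [IsSeparated H.hom] (c : RatCurve H)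
    (hgen : ∀ (K : Over (Spec (CommRingCat.of k))) (_ : GrpObj K) (i : K ⟶ H), IsMonHom i → IsClosedImmersion i.left →
      (∀ s s' : k, c.g.eval s ≠ 0 → c.g.eval s' ≠ 0 → ∃ z : RP K, z ≫ i = (c.uv s')⁻¹ * c.uv s) → Surjective i.left) :
    IsAffine H.left := by
  classical
  haveI : IsLocallyNoetherian H.left := LocallyOfFiniteType.isLocallyNoetherian H.hom
  obtain ⟨_, ⟨W₀, hWaff, rfl⟩, heW, -⟩ := H.left.isBasis_affineOpens.exists_subset_of_mem_open
    (Set.mem_univ (img (rat (A := k) (1 : RP H)))) isOpen_univ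
  have hW : genericPoint H.left ∈ W₀ := (genericPoint_specializes' _).mem_open W₀.2 heW
  obtain ⟨E₀⟩ := exists_equations hWaff ⟨⟨_, heW⟩⟩
  obtain ⟨v₀, hv₀⟩ := c.exists_good
  let c₁ := c.shift c.g c.g_ne_zero dvd_rfl (c.uv v₀)⁻¹
  let cs₀ : Bool → RatCurve H := fun ε : Bool => if ε then c₁ else c₁.inv
  have hF : ∀ ε, ∃ F : (KF H)[X], F.Monic ∧ ∀ (Q : Ideal (KF H)[X]) [Q.IsPrime] (_ : Q ≠ ⊥)
      (hQ : (cs₀ ε).Avoids (genericPoint H.left) Q),
      RatCurve.UAt (genericPoint H.left) Q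
        (algebraMap _ (RatFunc (KF H)) F / (cs₀ ε).tau (E₀.d (img ((cs₀ ε).sQ (genericPoint H.left) Q hQ)))) :=
    fun ε => (cs₀ ε).exists_fund E₀ hW
  choose F hFm hFund using hF
  obtain ⟨l, hl⟩ := exists_words c hgen c.g c.g_ne_zero dvd_rfl hv₀
  haveI : FiniteDimensional k (Vsp E₀ cs₀) := finite_Vsp E₀ cs₀ hW hFm hFund hl
  let b₀ := Module.finBasis k (Vsp E₀ cs₀)
  obtain ⟨v₁, Bad, M, hv₁, hM⟩ := exists_matrix E₀ cs₀ hFm hFund b₀
  obtain ⟨g₂, hd, ψ₀, a₀, hg₂, hψS, hv₁g, ha₀, hcov⟩ := exists_lift_curve E₀ cs₀ b₀ (cs₀ true) rfl hv₁ hM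
  -- normalize the lifted curve and take the generated subgroup
  letI : GrpObj (H ⊗ AdjRep.GLSpec k (Module.finrank k (Vsp E₀ cs₀))) := GrpObj.tensorObj.instTensorObj
  letI : Group (Dom g₂ ⟶ H ⊗ AdjRep.GLSpec k (Module.finrank k (Vsp E₀ cs₀))) := Hom.group
  let ψ : Dom g₂ ⟶ H ⊗ AdjRep.GLSpec k (Module.finrank k (Vsp E₀ cs₀)) := (toUnit (Dom g₂) ≫ a₀ ≫ ψ₀)⁻¹ * ψ₀
  have hψa : ∀ a : RP (Dom g₂), a ≫ ψ = (a₀ ≫ ψ₀)⁻¹ * (a ≫ ψ₀) := fun a => by
    rw [MonObj.comp_mul, GrpObj.comp_inv, ← Category.assoc, toUnit_unique (a ≫ toUnit _) (𝟙 _), Category.id_comp]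
  haveI : LocallyOfFiniteType (H ⊗ AdjRep.GLSpec k (Module.finrank k (Vsp E₀ cs₀))).hom :=
    inferInstanceAs (LocallyOfFiniteType
      (pullback.fst H.hom (AdjRep.GLSpec k (Module.finrank k (Vsp E₀ cs₀))).hom ≫ H.hom))
  obtain ⟨P, hP, i, f', m, him, hci, hf', -, -, hm⟩ :=
    exists_gen g₂ hg₂ ψ (a₀ := a₀) (by rw [hψa, inv_mul_cancel])
  haveI := him
  haveI := hci
  refine isAffine_of_pairs E₀ cs₀ b₀ hWaff heW P i (fun z => ?_) fun h => ?_
  · obtain ⟨e, rfl⟩ := hm z
    have := word_mem f' ((pairSub E₀ cs₀ b₀).comap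
      { toFun := fun z : RP P => z ≫ i
        map_one' := MonObj.one_comp i
        map_mul' := fun x y => MonObj.mul_comp x y i }) (fun a => by
      show (a ≫ f') ≫ i ∈ pairSub E₀ cs₀ b₀
      rw [Category.assoc, hf', hψa]
      exact mul_mem (inv_mem (hψS a₀)) (hψS a)) m e
    exact this
  · haveI : IsMonHom (i ≫ fst _ _) := inferInstance
    let T : Subgroup (RP H) :=
      { carrier := {h | ∃ z : RP P, z ≫ i ≫ fst _ _ = h}
        mul_mem' := fun ⟨z, hz⟩ ⟨z', hz'⟩ => ⟨z * z', by rw [MonObj.mul_comp, hz, hz']⟩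
        one_mem' := ⟨1, MonObj.one_comp _⟩
        inv_mem' := fun ⟨z, hz⟩ => ⟨z⁻¹, by rw [GrpObj.inv_comp, hz]⟩ }
    have hT : ∀ v, g₂.eval v ≠ 0 → ((cs₀ true).uv v₁)⁻¹ * (cs₀ true).uv v ∈ T := fun v hv => by
      obtain ⟨a, ha⟩ := hcov v hv
      refine ⟨a ≫ f', ?_⟩
      rw [Category.assoc, ← Category.assoc f', hf', ← Category.assoc, hψa, MonObj.mul_comp, GrpObj.inv_comp,
        Category.assoc, Category.assoc, ha, ha₀, inv_one, _root_.one_mul]
    have hcg : ∀ v, g₂.eval v ≠ 0 → c.g.eval v ≠ 0 := fun v hv hc => by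
      obtain ⟨q, hq⟩ := hd
      refine hv ?_
      rw [hq, eval_mul, show (cs₀ true).g = c.g from rfl, hc, zero_mul]
    have huv : ∀ v, c.g.eval v ≠ 0 → (cs₀ true).uv v = (c.uv v₀)⁻¹ * c.uv v := fun v hv =>
      c.uv_shift c.g c.g_ne_zero dvd_rfl _ hv
    have hd' : c.g ∣ g₂ := hd
    obtain ⟨l', hl'⟩ := exists_words c hgen g₂ hg₂ hd' hv₁g
    have hsub : ∀ (l' : List Bool) (w : RP H), w ∈ Words (fun ε : Bool => if ε then c.shift g₂ hg₂ hd' (c.uv v₁)⁻¹
        else (c.shift g₂ hg₂ hd' (c.uv v₁)⁻¹).inv) l' → w ∈ T := by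
      intro l'
      induction l' with
      | nil => rintro w rfl; exact T.one_mem
      | cons ε l' ih =>
        rintro w ⟨s, hs, w', hw', rfl⟩
        refine T.mul_mem ?_ (ih w' hw')
        cases ε
        · have hs' : g₂.eval s ≠ 0 := hs
          show (c.shift g₂ hg₂ hd' (c.uv v₁)⁻¹).inv.uv s ∈ T
          rw [(c.shift g₂ hg₂ hd' (c.uv v₁)⁻¹).uv_inv hs, c.uv_shift g₂ hg₂ hd' _ hs']
          refine T.inv_mem ?_
          have h2 := hT s hs'
          rwa [huv s (hcg s hs'), huv v₁ (hcg v₁ hv₁g), _root_.mul_inv_rev, _root_.inv_inv, _root_.mul_assoc,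
            mul_inv_cancel_left] at h2
        · have hs' : g₂.eval s ≠ 0 := hs
          show (c.shift g₂ hg₂ hd' (c.uv v₁)⁻¹).uv s ∈ T
          rw [c.uv_shift g₂ hg₂ hd' _ hs']
          have h2 := hT s hs'
          rwa [huv s (hcg s hs'), huv v₁ (hcg v₁ hv₁g), _root_.mul_inv_rev, _root_.inv_inv, _root_.mul_assoc,
            mul_inv_cancel_left] at h2
    exact hsub l' h (hl' h)

end Groth.Agent.Chev
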