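import Groth.Agent.Chev.StructureDisc
import Groth.Agent.Chev.LevelDesc
import Groth.Agent.Chev.FrobTwist
import Groth.Agent.Chev.SmallestKer
import Groth.Agent.GrpBasic.Cartier

/-!
# A homomorphism to a proper group with affine kernel
-/

set_option autoImplicit false
set_option backward.isDefEq.respectTransparency false

universe u

open CategoryTheory CategoryTheory.Limits MonoidalCategory CartesianMonoidalCategory MonObj GrpObj AlgebraicGeometry
open scoped CategoryTheory.Obj

noncomputable section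

namespace Groth.Agent.Chev

open AVDeg (bcK specMap)

variable {k : Type u} [Field k]

/-- The comparison of base changes in a tower. -/
def towerMap (Ω : Type u) [Field Ω] [Algebra k Ω] (E : IntermediateField k Ω) :
    Over.pullback (specMap k Ω) ⟶ Over.pullback (specMap k E) ⋙ Over.pullback (specMap E Ω) where
  app X := Over.homMk (pullback.lift (toLevel Ω E X) (pullback.snd X.hom (specMap k Ω)) (toLevel_snd Ω E X))
    (pullback.lift_snd _ _ _)
  naturality X Y f := by
    apply Over.OverMorphism.ext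
    apply pullback.hom_ext
    · apply pullback.hom_ext
      · simp [toLevel, Over.pullback]
      · simp [toLevel, Over.pullback]
    · simp [Over.pullback]

/-- The comparison at one object. -/
abbrev towerApp (Ω : Type u) [Field Ω] [Algebra k Ω] (E : IntermediateField k Ω)
    (G : Over (Spec (CommRingCat.of k))) : bcK k Ω G ⟶ bcK E Ω (bcK k E G) :=
  (towerMap Ω E).app G

theorem isMonHom_towerApp (Ω : Type u) [Field Ω] [Algebra k Ω] (E : IntermediateField k Ω)
    (G : Over (Spec (CommRingCat.of k))) [GrpObj G] : IsMonHom (towerApp Ω E G) := by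
  let F := Over.pullback (specMap k Ω)
  let F₁ := Over.pullback (specMap k E)
  let F₂ := Over.pullback (specMap E Ω)
  have e : ∀ {S : Over (Spec (CommRingCat.of k))} (u : S ⟶ G),
      F.map u ≫ towerApp Ω E G = towerApp Ω E S ≫ F₂.map (F₁.map u) := fun u => (towerMap Ω E).naturality u
  have hm : ∀ {S : Over (Spec (CommRingCat.of k))} (a b : S ⟶ G),
      F.map (a * b) ≫ towerApp Ω E G = (F.map a ≫ towerApp Ω E G) * (F.map b ≫ towerApp Ω E G) := by
    intro S a b
    rw [e, e, e, Functor.map_mul, Functor.map_mul, MonObj.comp_mul]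
  have hμ : μ[G] = fst G G * snd G G := Eq.symm (by rw [Hom.mul_def, lift_fst_snd, Category.id_comp])
  have h1 := hm (1 : 𝟙_ _ ⟶ G) 1
  rw [_root_.mul_one, left_eq_mul] at h1
  have h2 := hm (fst G G) (snd G G)
  refine ⟨?_, ?_⟩
  · show (Functor.LaxMonoidal.ε F ≫ F.map η[G]) ≫ towerApp Ω E G = _
    rw [show η[G] = (1 : 𝟙_ _ ⟶ G) by rw [Hom.one_def, toUnit_unit, Category.id_comp], Category.assoc, h1,
      MonObj.comp_one, Hom.one_def, toUnit_unit, Category.id_comp]
  · show (Functor.LaxMonoidal.μ F G G ≫ F.map μ[G]) ≫ towerApp Ω E G = _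
    rw [hμ, Category.assoc, h2, MonObj.comp_mul]
    simp only [← Category.assoc, Functor.Monoidal.μ_fst, Functor.Monoidal.μ_snd]
    rw [Hom.mul_def]
    congr 1

theorem isIso_towerMap (Ω : Type u) [Field Ω] [Algebra k Ω] (E : IntermediateField k Ω)
    (X : Over (Spec (CommRingCat.of k))) : IsIso ((towerMap Ω E).app X) := by
  haveI : IsIso ((towerMap Ω E).app X).left := by
    have h : ((towerMap Ω E).app X).left = (isPullback_toLevel Ω E X).isoPullback.hom := by
      apply pullback.hom_ext
      · refine (pullback.lift_fst _ _ _).trans ?_; simp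
      · refine (pullback.lift_snd _ _ _).trans ?_; simp
    rw [h]; infer_instance
  haveI : IsIso ((Over.forget (Spec (CommRingCat.of Ω))).map ((towerMap Ω E).app X)) :=
    ‹IsIso ((towerMap Ω E).app X).left›
  exact isIso_of_reflects_iso _ (Over.forget _)

theorem ker_le_comap_map {W X X' Y : Scheme.{u}} (a : W ⟶ X) (t : X ⟶ X') [IsIso t] (π' : X' ⟶ Y) (ρ : X ⟶ Y)
    (hρ : t ≫ π' = ρ) (h : a.ker ≤ (a.ker.map ρ).comap ρ) :
    (a ≫ t).ker ≤ ((a ≫ t).ker.map π').comap π' := by
  subst hρ
  rw [Scheme.IdealSheafData.comap_comp] at h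
  have hJ : a.ker.map (t ≫ π') = (a ≫ t).ker.map π' := by
    rw [Scheme.IdealSheafData.map_ker, Scheme.IdealSheafData.map_ker, Category.assoc]
  rw [hJ] at h
  set K := ((a ≫ t).ker.map π').comap π'
  have h1 : (a ≫ t).ker ≤ (K.comap t).map t := by
    rw [← Scheme.IdealSheafData.map_ker a t]
    exact Scheme.IdealSheafData.map_mono t h
  refine h1.trans ?_
  have h2 := Scheme.IdealSheafData.comap_mono (inv t) (Scheme.IdealSheafData.comap_map_le (K.comap t) t)
  simpa [← Scheme.IdealSheafData.comap_comp, Scheme.IdealSheafData.comap_id] using h2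

set_option maxHeartbeats 1000000 in
theorem exists_proper_affine_kernel_charP (p : ℕ) [Fact p.Prime] [CharP k p]
    (G : Over (Spec (CommRingCat.of k))) [GrpObj G] [LocallyOfFiniteType G.hom] [QuasiCompact G.hom] :
    ∃ (P : Over (Spec (CommRingCat.of k))) (_ : GrpObj P) (f : G ⟶ P), IsMonHom f ∧ IsProper P.hom ∧
      ∀ (N : Over (Spec (CommRingCat.of k))) (i : N ⟶ G), IsClosedImmersion i.left → i ≫ f = 1 →
        IsAffine N.left := by
  let Ω := perfectClosure k (AlgebraicClosure k)
  haveI : PerfectField Ω := perfectClosure.perfectField k (AlgebraicClosure k)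
  haveI : Algebra.IsAlgebraic k Ω := perfectClosure.isAlgebraic k (AlgebraicClosure k)
  haveI : IsPurelyInseparable k Ω := perfectClosure.isPurelyInseparable k (AlgebraicClosure k)
  let FΩ := Over.pullback (specMap k Ω)
  haveI : LocallyOfFiniteType (FΩ.obj G).hom :=
    inferInstanceAs (LocallyOfFiniteType (pullback.snd G.hom (specMap k Ω)))
  haveI : QuasiCompact (FΩ.obj G).hom := inferInstanceAs (QuasiCompact (pullback.snd G.hom (specMap k Ω)))
  obtain ⟨H, hH, rH, hrm, hrc, hrs, hHsm⟩ := exists_red_group (FΩ.obj G)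
  haveI := hrm; haveI := hrc; haveI := hrs; haveI := hHsm
  haveI : QuasiCompact H.hom := by rw [← Over.w rH]; infer_instance
  obtain ⟨L, hL, l, Q, hQ, q, hlm, hlc, hla, hls, hlcon, hln, hqm, hqs, hqf, hker, hQp, hQs⟩ :=
    exists_structure_perfect_disc (AlgebraicClosure Ω) H
  haveI := hlm; haveI := hlc; haveI := hla; haveI := hqm; haveI := hqs; haveI := hqf; haveI := hQp
  haveI : IsClosedImmersion (l ≫ rH).left := by rw [Over.comp_left]; infer_instance
  -- a finite level
  obtain ⟨E, hEfin, hE⟩ := exists_finite_level Ω G (![rH.left.ker, (l ≫ rH).left.ker])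
  haveI := hEfin
  haveI : IsPurelyInseparable k E := IsPurelyInseparable.tower_bot k E Ω
  let Y := bcK k E G
  let F := Over.pullback (specMap E Ω)
  haveI : LocallyOfFiniteType Y.hom := inferInstanceAs (LocallyOfFiniteType (pullback.snd G.hom (specMap k E)))
  haveI : QuasiCompact Y.hom := inferInstanceAs (QuasiCompact (pullback.snd G.hom (specMap k E)))
  haveI : IsSeparated Y.hom := GrpField.isSeparated_hom Y
  let τ := towerApp (↥Ω) E G
  haveI := isIso_towerMap Ω E G
  haveI : IsMonHom τ := isMonHom_towerApp Ω E G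
  haveI : IsIso τ.left := inferInstanceAs (IsIso ((Over.forget _).map τ))
  have hτ : τ.left ≫ pullback.fst Y.hom (specMap E Ω) = toLevel Ω E G := pullback.lift_fst _ _ _
  let zH : H ⟶ F.obj Y := rH ≫ τ
  haveI : IsMonHom zH := by show IsMonHom (rH ≫ τ); infer_instance
  haveI : IsClosedImmersion zH.left := by show IsClosedImmersion (rH ≫ τ).left; rw [Over.comp_left]; infer_instance
  let zL : L ⟶ F.obj Y := (l ≫ rH) ≫ τ
  haveI : IsMonHom zL := by show IsMonHom ((l ≫ rH) ≫ τ); infer_instance
  haveI : IsClosedImmersion zL.left := by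
    show IsClosedImmersion ((l ≫ rH) ≫ τ).left; rw [Over.comp_left]; infer_instance
  obtain ⟨H₀, hH₀, h₀, eH, hhm, heHm, hhc, heH⟩ := exists_desc_subgroup Ω zH (by
    rw [show zH.left = rH.left ≫ τ.left from rfl]
    exact ker_le_comap_map rH.left τ.left _ _ hτ (hE 0).ge)
  obtain ⟨L₀, hL₀, m₀, eL, hmm, heLm, hmc, heL⟩ := exists_desc_subgroup Ω zL (by
    rw [show zL.left = (l ≫ rH).left ≫ τ.left from rfl]
    exact ker_le_comap_map (l ≫ rH).left τ.left _ _ hτ (hE 1).ge)
  haveI := hhm; haveI := hhc; haveI := hmm; haveI := hmc; haveI := heHm; haveI := heLm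
  haveI : Mono h₀ := GrpField.SchImg.mono_of_isClosedImmersion h₀
  have heH' : F.map h₀ = eH.inv ≫ zH := by rw [Iso.eq_inv_comp]; exact heH
  have heL' : F.map m₀ = eL.inv ≫ zL := by rw [Iso.eq_inv_comp]; exact heL
  haveI : IsIso eH.hom.left := inferInstanceAs (IsIso ((Over.forget _).map eH.hom))
  haveI : IsIso eH.inv.left := inferInstanceAs (IsIso ((Over.forget _).map eH.inv))
  haveI : IsIso eL.hom.left := inferInstanceAs (IsIso ((Over.forget _).map eL.hom))
  haveI : IsIso eL.inv.left := inferInstanceAs (IsIso ((Over.forget _).map eL.inv))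
  obtain ⟨l₀, hl₀⟩ := exists_factor_of_bc Ω h₀ m₀ (eL.inv ≫ l ≫ eH.hom) (by
    rw [Category.assoc, Category.assoc, heH, heL']
    simp [zH, zL])
  haveI : IsClosedImmersion l₀.left := by
    haveI : IsClosedImmersion (l₀.left ≫ h₀.left) := by rw [← Over.comp_left, hl₀]; infer_instance
    exact IsClosedImmersion.of_comp l₀.left h₀.left
  haveI : IsMonHom (l₀ ≫ h₀) := by rw [hl₀]; infer_instance
  haveI := isMonHom_of_comp l₀ h₀
  haveI : Mono (F.map h₀) := by
    haveI : Mono zH := GrpField.SchImg.mono_of_isClosedImmersion zH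
    rw [heH']; infer_instance
  have hl₀' : F.map l₀ = eL.inv ≫ l ≫ eH.hom := by
    rw [← cancel_mono (F.map h₀), ← F.map_comp, hl₀, heL', Category.assoc, Category.assoc, heH]
    simp [zH, zL]
  have hln₀ : AlgGrp.IsNormalHom l₀ := by
    obtain ⟨w, hw⟩ := hln (F.obj (H₀ ⊗ L₀)) (F.map (fst H₀ L₀) ≫ eH.inv) (F.map (snd H₀ L₀) ≫ eL.inv)
    obtain ⟨d, hd⟩ := exists_factor_of_bc Ω l₀ (fst H₀ L₀ * (snd H₀ L₀ ≫ l₀) * (fst H₀ L₀)⁻¹) (w ≫ eL.hom) (by
      have h1 := congrArg (· ≫ eH.hom) hw
      simp only [MonObj.mul_comp, GrpObj.inv_comp, Category.assoc, Iso.inv_hom_id, Category.comp_id] at h1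
      rw [Category.assoc, hl₀', Iso.hom_inv_id_assoc, ← h1, Functor.map_mul, Functor.map_mul, bcMap_inv,
        F.map_comp, hl₀'])
    intro T g x
    refine ⟨lift g x ≫ d, ?_⟩
    rw [Category.assoc, hd, MonObj.comp_mul, MonObj.comp_mul, GrpObj.comp_inv, lift_fst, lift_snd_assoc]
  haveI : LocallyOfFiniteType H₀.hom := by rw [← Over.w h₀]; infer_instance
  haveI : QuasiCompact H₀.hom := by rw [← Over.w h₀]; infer_instance
  haveI : LocallyOfFiniteType L₀.hom := by rw [← Over.w l₀]; infer_instance
  haveI : Flat (specMap E Ω) := AlgSpLib.flat_of_field _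
  haveI : Surjective (specMap E Ω) :=
    ⟨fun _ => ⟨IsLocalRing.closedPoint Ω, Subsingleton.elim (α := PrimeSpectrum E) _ _⟩⟩
  have hff : (@Surjective ⊓ @Flat ⊓ @QuasiCompact : MorphismProperty Scheme.{u}) (specMap E Ω) :=
    ⟨⟨inferInstance, inferInstance⟩, inferInstance⟩
  haveI : Smooth H₀.hom := MorphismProperty.of_pullback_snd_of_descendsAlong (P := @Smooth)
    (Q := @Surjective ⊓ @Flat ⊓ @QuasiCompact) (g := specMap E Ω) hff (by
      show Smooth (F.obj H₀).hom
      rw [← Over.w eH.inv]; infer_instance)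
  haveI : IsAffine L₀.left := by
    haveI : IsAffine (F.obj L₀).left := IsAffine.of_isIso eL.inv.left
    haveI : IsAffineHom L₀.hom := MorphismProperty.of_pullback_snd_of_descendsAlong (P := @IsAffineHom)
      (Q := @Surjective ⊓ @Flat ⊓ @QuasiCompact) (g := specMap E Ω) hff
      (isAffineHom_of_isAffine (F.obj L₀).hom)
    exact isAffine_of_isAffineHom L₀.hom
  haveI : Mono l₀ := GrpField.SchImg.mono_of_isClosedImmersion l₀
  haveI : Flat H₀.hom := inferInstance
  haveI : Flat L₀.hom := AlgSpLib.flat_of_field L₀.hom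
  obtain ⟨Q₀, hQ₀, q₀, hq₀m, hq₀f, hq₀s, hq₀p, hk₀, hQ₀sep, -, -⟩ := S3030.result E L₀ H₀ l₀ hln₀
  haveI := hq₀m; haveI := hq₀f; haveI := hq₀s; haveI := hq₀p; haveI := hQ₀sep
  haveI : LocallyOfFiniteType Q₀.hom := by
    haveI : LocallyOfFiniteType (q₀.left ≫ Q₀.hom) := by rw [Over.w q₀]; infer_instance
    exact S5938.result q₀.left Q₀.hom
  haveI : QuasiCompact Q₀.hom := by
    haveI : QuasiCompact (q₀.left ≫ Q₀.hom) := by rw [Over.w q₀]; infer_instance
    exact ThickLib.quasiCompact_of_comp_surjective q₀.left Q₀.hom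
  -- properness of the quotient
  haveI : IsSeparated H.hom := GrpField.isSeparated_hom H
  haveI : QuasiCompact q.left := by
    haveI : QuasiCompact (q.left ≫ Q.hom) := by rw [Over.w]; infer_instance
    exact QuasiCompact.of_comp _ Q.hom
  obtain ⟨d, hd⟩ := AdjRep.exists_desc l q hker (eH.hom ≫ F.map q₀) (by
    have h1 : eL.hom ≫ F.map l₀ = l ≫ eH.hom := by rw [hl₀', Iso.hom_inv_id_assoc]
    rw [← Category.assoc, ← h1, Category.assoc, ← F.map_comp, hk₀.w,
      show toUnit L₀ ≫ η[Q₀] = (1 : L₀ ⟶ Q₀) from Hom.one_def.symm, bcMap_one, MonObj.comp_one])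
  haveI : Surjective (F.map q₀).left := ⟨fun y => by
    have := range_bcMap Ω q₀
    rw [Set.range_eq_univ.2 q₀.left.surjective, Set.preimage_univ] at this
    exact (Set.range_eq_univ.1 this) y⟩
  haveI : Surjective d.left := by
    haveI : Surjective (q.left ≫ d.left) := by rw [← Over.comp_left, hd, Over.comp_left]; infer_instance
    exact Surjective.of_comp q.left d.left
  haveI : UniversallyClosed (F.obj Q₀).hom := by
    haveI : UniversallyClosed (d.left ≫ (F.obj Q₀).hom) := by rw [Over.w]; infer_instance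
    exact UniversallyClosed.of_comp_surjective d.left (F.obj Q₀).hom
  haveI : UniversallyClosed Q₀.hom := MorphismProperty.of_pullback_snd_of_descendsAlong (P := @UniversallyClosed)
      (Q := @Surjective ⊓ @Flat ⊓ @QuasiCompact) (g := specMap E Ω) hff
      (inferInstanceAs (UniversallyClosed (F.obj Q₀).hom))
  haveI : IsProper Q₀.hom := { }
  -- the Frobenius
  haveI : Surjective h₀.left := by
    haveI : Surjective (pullback.fst H₀.hom (specMap E Ω) ≫ h₀.left) := by
      rw [← bcMap_fst]
      haveI : Surjective (F.map h₀).left := by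
        rw [heH']
        show Surjective (eH.inv.left ≫ rH.left ≫ τ.left)
        infer_instance
      infer_instance
    exact Surjective.of_comp (pullback.fst H₀.hom (specMap E Ω)) h₀.left
  obtain ⟨n, ψ, hψ, v, hv⟩ := exists_factor_twist (p := p) G h₀
  let T := twistFun ψ
  have hmapc : ∀ {A B : Over (Spec (CommRingCat.of E))} (g : A ⟶ B), IsClosedImmersion g.left →
      IsClosedImmersion (T.map g).left := fun {A B} g hg => by
    have hsq : IsPullback (T.map g).left (pullback.fst A.hom (Spec.map (CommRingCat.ofHom ψ)))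
        (pullback.fst B.hom (Spec.map (CommRingCat.ofHom ψ))) g.left := by
      refine IsPullback.of_right ?_ (pullback.lift_fst _ _ _) (IsPullback.of_hasPullback B.hom _).flip
      rw [show (T.map g).left ≫ pullback.snd B.hom _ = pullback.snd A.hom _ from pullback.lift_snd _ _ _, Over.w g]
      exact (IsPullback.of_hasPullback A.hom _).flip
    exact MorphismProperty.of_isPullback (P := @IsClosedImmersion) hsq.flip hg
  haveI : IsClosedImmersion (T.map h₀).left := hmapc h₀ hhc
  haveI : Mono (T.map h₀) := GrpField.SchImg.mono_of_isClosedImmersion _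
  haveI : IsMonHom (v ≫ T.map h₀) := by rw [hv]; exact isMonHom_frobToApp hψ G
  haveI := isMonHom_of_comp v (T.map h₀)
  haveI : IsProper (T.obj Q₀).hom :=
    inferInstanceAs (IsProper (pullback.snd Q₀.hom (Spec.map (CommRingCat.ofHom ψ))))
  refine ⟨T.obj Q₀, inferInstance, v ≫ T.map q₀, inferInstance, inferInstance, fun N i hic hi => ?_⟩
  have hk := hk₀.map T
  have h1 : (i ≫ v) ≫ T.map q₀ = (toUnit N ≫ Functor.LaxMonoidal.ε T) ≫ T.map η[Q₀] := by
    rw [Category.assoc, hi, Hom.one_def, Category.assoc]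
    rfl
  let j : N ⟶ T.obj L₀ := hk.lift (i ≫ v) _ h1
  have hj : j ≫ T.map l₀ = i ≫ v := hk.lift_fst _ _ _
  haveI : IsClosedImmersion (T.map l₀).left := hmapc l₀ inferInstance
  haveI : IsAffine (T.obj L₀).left := by
    haveI : IsAffineHom (pullback.fst L₀.hom (Spec.map (CommRingCat.ofHom ψ))) :=
      MorphismProperty.pullback_fst _ _ inferInstance
    exact isAffine_of_isAffineHom (pullback.fst L₀.hom (Spec.map (CommRingCat.ofHom ψ)))
  haveI : IsAffineHom (frobToApp hψ G).left := isAffineHom_frobTo hψ G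
  haveI := hic
  haveI : IsAffineHom j.left := by
    haveI : IsAffineHom (j.left ≫ (T.map l₀).left ≫ (T.map h₀).left) := by
      rw [← Over.comp_left, ← Over.comp_left, reassoc_of% hj, hv, Over.comp_left]
      infer_instance
    exact IsAffineHom.of_comp j.left ((T.map l₀).left ≫ (T.map h₀).left)
  exact isAffine_of_isAffineHom j.left

/-- Every group has a homomorphism to a proper group with affine kernel. -/
theorem exists_proper_affine_kernel (G : Over (Spec (CommRingCat.of k))) [GrpObj G] [LocallyOfFiniteType G.hom]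
    [QuasiCompact G.hom] :
    ∃ (P : Over (Spec (CommRingCat.of k))) (_ : GrpObj P) (f : G ⟶ P), IsMonHom f ∧ IsProper P.hom ∧
      ∀ (N : Over (Spec (CommRingCat.of k))) (i : N ⟶ G), IsClosedImmersion i.left → i ≫ f = 1 →
        IsAffine N.left := by
  obtain ⟨p, hp⟩ := CharP.exists k
  rcases CharP.char_is_prime_or_zero k p with hpr | rfl
  · haveI := Fact.mk hpr
    exact exists_proper_affine_kernel_charP p G
  · haveI : CharZero k := CharP.charP_to_charZero k
    letI : GrpObj (Over.mk G.hom) := ‹GrpObj G›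
    haveI : Smooth G.hom := Groth.Agent.Cartier.smooth_of_charZero G.hom
    obtain ⟨L, hL, l, Q, hQ, q, hlm, hlc, hla, hls, hlcon, hln, hqm, hqs, hqf, hker, hQp, -⟩ :=
      exists_structure_perfect_disc (AlgebraicClosure k) G
    haveI := hlc; haveI := hla
    refine ⟨Q, hQ, q, hqm, hQp, fun N i hic hi => ?_⟩
    let j : N ⟶ L := hker.lift i (toUnit N) (by rw [hi, Hom.one_def])
    have hj : j ≫ l = i := hker.lift_fst _ _ _
    haveI : IsClosedImmersion (j.left ≫ l.left) := by rw [← Over.comp_left, hj]; exact hic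
    haveI : IsClosedImmersion j.left := IsClosedImmersion.of_comp j.left l.left
    exact isAffine_of_isAffineHom j.left

end Groth.Agent.Chev
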