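import Groth.Agent.Chev.AntiAff
import Groth.Prelude.Def_Red

/-!
# Anti-affine groups without proper anti-affine subgroups
-/

set_option autoImplicit false
set_option backward.isDefEq.respectTransparency false

universe u

open CategoryTheory CategoryTheory.Limits MonoidalCategory CartesianMonoidalCategory MonObj GrpObj AlgebraicGeometry

noncomputable section

namespace Groth.Agent.Chev

variable {k : Type u} [Field k]

/-- An affine anti-affine scheme is a point. -/
theorem isIso_hom_of_anti_of_isAffine (M : Over (Spec (CommRingCat.of k))) [IsAffine M.left] (hM : IsAnti M) :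
    IsIso M.hom := by
  haveI h1 : IsIso ((Scheme.ΓSpecIso (CommRingCat.of k)).inv ≫ M.hom.appTop) :=
    (ConcreteCategory.isIso_iff_bijective _).2 hM
  haveI : IsIso M.hom.appTop := IsIso.of_isIso_comp_left (Scheme.ΓSpecIso (CommRingCat.of k)).inv M.hom.appTop
  exact ((MorphismProperty.isomorphisms Scheme.{u}).arrow_mk_iso_iff (arrowIsoSpecΓOfIsAffine M.hom)).2
    (inferInstanceAs (IsIso (Spec.map M.hom.appTop)))

/-- A trivial subgroup is the unit. -/
theorem eq_one_of_isIso_hom {D G : Over (Spec (CommRingCat.of k))} [GrpObj D] [GrpObj G] (i : D ⟶ G) [IsMonHom i]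
    [IsIso D.hom] : i = 1 := by
  have h : 𝟙 D = toUnit D ≫ η[D] := by
    apply Over.OverMorphism.ext
    rw [← cancel_mono D.hom, Over.w, Over.w]
  rw [← Category.id_comp i, h, Category.assoc, IsMonHom.one_hom, Hom.one_def]

/-- A group whose anti-affine kernel is trivial is affine. -/
theorem isAffine_of_trivial_anti (H : Over (Spec (CommRingCat.of k))) [GrpObj H] [LocallyOfFiniteType H.hom]
    [QuasiCompact H.hom] (hQ : GrpObj (AffHull.hull H)) [IsMonHom (AffHull.toHull H)]
    [Flat (AffHull.toHull H).left] [Surjective (AffHull.toHull H).left]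
    [LocallyOfFinitePresentation (AffHull.toHull H).left] {D : Over (Spec (CommRingCat.of k))} [GrpObj D]
    (i : D ⟶ H) [IsMonHom i] (hk : AlgGrp.IsKernel i (AffHull.toHull H)) [IsIso D.hom] : IsAffine H.left := by
  let q := AffHull.toHull H
  haveI : Mono q := ⟨fun {T} g₁ g₂ e => by
    have h1 : (g₁⁻¹ * g₂) ≫ q = toUnit T ≫ η[AffHull.hull H] := by
      rw [MonObj.mul_comp, GrpObj.inv_comp, e, inv_mul_cancel, Hom.one_def]
    have h3 : ∃ w, w ≫ i = g₁⁻¹ * g₂ := ⟨hk.lift _ _ h1, hk.lift_fst _ _ _⟩
    obtain ⟨w, hw⟩ := h3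
    have h2 : g₁⁻¹ * g₂ = 1 := by rw [← hw, eq_one_of_isIso_hom i, MonObj.comp_one]
    exact inv_mul_eq_one.1 h2⟩
  haveI : Mono q.left := inferInstance
  haveI : QuasiCompact q.left := by
    haveI : QuasiCompact (q.left ≫ (AffHull.hull H).hom) := by rw [Over.w q]; infer_instance
    exact QuasiCompact.of_comp _ (AffHull.hull H).hom
  haveI : IsIso q.left := Flat.isIso_of_surjective_of_mono q.left
  exact IsAffine.of_isIso q.left

/-- A closed subgroup through which the identity factors is everything. -/
theorem isIso_of_isIso_comp {D H G : Over (Spec (CommRingCat.of k))} (i : D ⟶ H) (h : H ⟶ G) [IsClosedImmersion h.left]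
    [IsIso (i ≫ h)] : IsIso h := by
  haveI : Mono h := Over.mono_of_mono_left h
  haveI : IsSplitEpi h := ⟨⟨⟨inv (i ≫ h) ≫ i, by rw [Category.assoc, IsIso.inv_hom_id]⟩⟩⟩
  exact isIso_of_mono_of_isSplitEpi h

theorem nonaffine_minimal_iff (G : Over (Spec (CommRingCat.of k))) [GrpObj G] [LocallyOfFiniteType G.hom]
    [QuasiCompact G.hom] (hG : ¬ Red.IsTrivialGrp G) :
    (¬ IsAffine G.left ∧ ∀ (H : Over (Spec (CommRingCat.of k))) [GrpObj H] (h : H ⟶ G) [IsMonHom h]
      [IsClosedImmersion h.left], ¬ IsIso h → IsAffine H.left) ↔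
    (IsAnti G ∧ ∀ (H : Over (Spec (CommRingCat.of k))) [GrpObj H] (h : H ⟶ G) [IsMonHom h] [IsClosedImmersion h.left],
      ¬ IsIso h → IsAnti H → Red.IsTrivialGrp H) := by
  constructor
  · rintro ⟨hna, hsub⟩
    refine ⟨?_, fun H _ h _ _ hh hH => ?_⟩
    · obtain ⟨hQ, D, hD, i, hqm, hqf, hqs, hql, hQl, him, hic, hker, hanti, hDl, hDq⟩ := exists_anti_kernel G
      haveI := hqm; haveI := hqf; haveI := hqs; haveI := hql; haveI := him; haveI := hic
      by_cases hi : IsIso i
      · have hb : (Scheme.ΓSpecIso (CommRingCat.of k)).inv ≫ D.hom.appTop =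
            ((Scheme.ΓSpecIso (CommRingCat.of k)).inv ≫ G.hom.appTop) ≫ i.left.appTop := by
          rw [Category.assoc, ← Scheme.Hom.comp_appTop, Over.w i]
        haveI : IsIso i.left := (Over.forget _).map_isIso i
        haveI : IsIso i.left.appTop := inferInstance
        have hanti' := hanti
        unfold IsAnti at hanti' ⊢
        rw [hb, CommRingCat.hom_comp, RingHom.coe_comp] at hanti'
        exact (Function.Bijective.of_comp_iff'
          (ConcreteCategory.bijective_of_isIso i.left.appTop) _).1 hanti'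
      · haveI := hsub D i hi
        haveI := isIso_hom_of_anti_of_isAffine D hanti
        exact absurd (isAffine_of_trivial_anti G hQ i hker) hna
    · haveI := hsub H h hh
      exact isIso_hom_of_anti_of_isAffine H hH
  · rintro ⟨hanti, hmin⟩
    refine ⟨fun hA => hG (isIso_hom_of_anti_of_isAffine G hanti), fun H _ h _ _ hh => ?_⟩
    haveI : LocallyOfFiniteType H.hom := by rw [← Over.w h]; infer_instance
    haveI : QuasiCompact H.hom := by rw [← Over.w h]; infer_instance
    obtain ⟨hQ, D, hD, i, hqm, hqf, hqs, hql, hQl, him, hic, hker, hDanti, hDl, hDq⟩ := exists_anti_kernel H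
    haveI := hqm; haveI := hqf; haveI := hqs; haveI := hql; haveI := him; haveI := hic
    haveI : IsClosedImmersion (i ≫ h).left := by rw [Over.comp_left]; infer_instance
    haveI : IsIso D.hom := hmin D (i ≫ h) (fun hih => hh (isIso_of_isIso_comp i h)) hDanti
    exact isAffine_of_trivial_anti H hQ i hker

end Groth.Agent.Chev
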