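import Groth.Agent.S4130
import Groth.Agent.MTBridge.Prim
import Groth.Agent.MTBridge.OfHopf
import Groth.Agent.MTBridge.ExtCentral
import Groth.Agent.MTBridge.Centralizer
import Groth.Agent.MTKernel.Basic
import Groth.Agent.UnipMult.Basic
import Groth.Agent.PtsDense.Basic
import Groth.Agent.FinHopf.Power

/-!
# The reductive centre of an affine algebraic group over a field
-/

set_option autoImplicit false
set_option linter.style.haveILetI false
set_option backward.isDefEq.respectTransparency false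
set_option maxHeartbeats 1000000

universe u

open CategoryTheory CategoryTheory.Limits MonoidalCategory CartesianMonoidalCategory MonObj GrpObj AlgebraicGeometry
open TensorProduct WithConv
open Groth.Agent.MTBridge (specGrp pt pt_left toBC toBC_mul toBC_comp toBC_inj toBC_naturality exists_toBC')

noncomputable section

namespace Groth.Agent.Chev.RedCentre

variable {k : Type u} [Field k]

/-- Homomorphisms from groups of multiplicative type to unipotent groups are trivial, over an affine base. -/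
theorem bialgHom_unip_eq {R A U : Type u} [CommRing R] [Algebra k R] [CommRing A] [HopfAlgebra R A] [CommRing U]
    [HopfAlgebra k U] (hU : HopfRep.IsUnipotent k U) (hA : SGA3b.IsMultType R A) (f : R ⊗[k] U →ₐc[R] A) :
    (f : R ⊗[k] U →ₐ[R] A) = (Algebra.ofId R A).comp (Bialgebra.counitAlgHom R (R ⊗[k] U)) := by
  letI : Algebra k A := ((algebraMap R A).comp (algebraMap k R)).toAlgebra
  haveI : IsScalarTower k R A := .of_algebraMap_eq fun _ => rfl
  let ψ : U →ₐ[k] A := ((f : R ⊗[k] U →ₐ[R] A).restrictScalars k).comp Algebra.TensorProduct.includeRight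
  let mlt : A →ₗ[k] A →ₗ[k] A ⊗[R] A := LinearMap.mk₂ k (fun x y => x ⊗ₜ[R] y)
    (fun a b c => TensorProduct.add_tmul a b c)
    (fun r a c => by rw [← algebraMap_smul R r a, ← TensorProduct.smul_tmul', algebraMap_smul])
    (fun a b c => TensorProduct.tmul_add a b c)
    (fun r a c => by rw [← algebraMap_smul R r c, TensorProduct.tmul_smul, algebraMap_smul])
  let D : A →ₗ[k] A ⊗[R] A := (Coalgebra.comul (R := R) (A := A)).restrictScalars k
  have key : ∀ u : U, ψ u = Coalgebra.counit (R := k) u • (1 : A) := fun u => by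
    refine UnipMult.eq_counit hU (1 : A) ψ.toLinearMap (map_one ψ) mlt D (fun u => ?_) Bialgebra.comul_one
      (fun u c h => ?_) u
    · show Coalgebra.comul (R := R) (f ((1 : R) ⊗ₜ[k] u)) = _
      rw [← CoalgHomClass.map_comp_comul_apply f, TensorProduct.comul_tmul, CommSemiring.comul_apply]
      generalize Coalgebra.comul (R := k) u = z
      induction z using TensorProduct.induction_on with
      | zero => simp
      | tmul x y => simp [mlt, ψ]
      | add x y hx hy => simp only [TensorProduct.tmul_add, map_add, hx, hy]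
    · exact sub_eq_zero.1 (MTBridge.primitive_eq_zero hA _ h)
  refine Algebra.TensorProduct.ext (AlgHom.ext fun r => ?_) (AlgHom.ext fun y => ?_)
  · show f (r ⊗ₜ[k] 1) = algebraMap R A (Coalgebra.counit (R := R) (r ⊗ₜ[k] (1 : U)))
    rw [show r ⊗ₜ[k] (1 : U) = algebraMap R (R ⊗[k] U) r from rfl, Bialgebra.counit_algebraMap]
    exact AlgHomClass.commutes f r
  · show ψ y = algebraMap R A (Coalgebra.counit (R := R) ((1 : R) ⊗ₜ[k] y))
    rw [key, TensorProduct.counit_tmul, Algebra.smul_def, _root_.mul_one]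
    simp [Algebra.smul_def, ← IsScalarTower.algebraMap_apply k R A]

/-- A homomorphism from a group of multiplicative type to a unipotent group is trivial. -/
theorem eq_one_unipotent {U : Type u} [CommRing U] [HopfAlgebra k U] (hU : HopfRep.IsUnipotent k U) {S : Scheme.{u}}
    (f : S ⟶ Spec (CommRingCat.of k)) (H : Over S) [GrpObj H] (hH : SGA3x.IsMultTypeFT H)
    (u : H ⟶ Red.bc f (specGrp k U).X) [IsMonHom u] : u = 1 := by
  refine MTBridge.hom_ext_affine u 1 fun V hV => ?_
  obtain ⟨A, _, _, hA, -, ⟨e⟩⟩ := MTBridge.exists_hopf (Red.bc hV.fromSpec H) (MTBridge.isMultTypeFT_bc H hV.fromSpec hH)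
  haveI : IsIso e.inv.hom.hom := inferInstanceAs (IsIso ((Grp.forget _).map e.inv))
  rw [show (Over.pullback hV.fromSpec).map (1 : H ⟶ Red.bc f (specGrp k U).X) = 1 from Functor.map_one _,
    ← cancel_epi e.inv.hom.hom, MonObj.comp_one]
  let R : Type u := Γ(S, V)
  letI : Algebra k R := (Spec.preimage (hV.fromSpec ≫ f)).hom.toAlgebra
  have hj : Spec.map (CommRingCat.ofHom (algebraMap k R)) = hV.fromSpec ≫ f := Spec.map_preimage _
  obtain ⟨e'⟩ := MTBridge.nonempty_bc_specGrp k R U
  let i : Grp.mk (Red.bc hV.fromSpec (Red.bc f (specGrp k U).X)) ≅ specGrp R (R ⊗[k] U) :=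
    (MTBridge.bcComp f hV.fromSpec (specGrp k U).X).symm ≪≫ MTBridge.bcCongr hj.symm (specGrp k U).X ≪≫ e'
  haveI : IsIso i.hom.hom.hom := inferInstanceAs (IsIso ((Grp.forget _).map i.hom))
  let w : (specGrp R A).X ⟶ (specGrp R (R ⊗[k] U)).X :=
    (e.inv.hom.hom ≫ (Over.pullback hV.fromSpec).map u) ≫ i.hom.hom.hom
  haveI : IsMonHom w := inferInstanceAs (IsMonHom ((e.inv.hom.hom ≫ (Over.pullback hV.fromSpec).map u) ≫ i.hom.hom.hom))
  haveI : IsMonHom i.hom.hom.hom := i.hom.hom.isMonHom_hom
  rw [← cancel_mono i.hom.hom.hom, MonObj.one_comp]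
  obtain ⟨g, hg⟩ := MTBridge.exists_bialgHom w
  apply Over.OverMorphism.ext
  show w.left = _
  rw [hg, bialgHom_unip_eq hU hA g]
  exact congrArg (fun x => x.left) (Spec.mapMulEquiv (R := R) (S := R ⊗[k] U) (T := A)).map_one

/-- A point killed by a homomorphism of affine groups factors through the closed subgroup cut out by the image of
the augmentation ideal. -/
theorem exists_factor_ker {A B : Type u} [CommRing A] [HopfAlgebra k A] [CommRing B] [HopfAlgebra k B]
    (φ : B →ₐc[k] A) (J : Ideal A) (hJ : J = Ideal.map (φ : B →+* A) (RingHom.ker (Bialgebra.counitAlgHom k B)))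
    {X : Over (Spec (CommRingCat.of k))} (a : X ⟶ (specGrp k A).X)
    (ha : a ≫ pt (toConv (φ : B →ₐ[k] A)) = (1 : X ⟶ (specGrp k B).X)) :
    ∃ b : X.left ⟶ Spec (CommRingCat.of (A ⧸ J)), b ≫ Spec.map (CommRingCat.ofHom (Ideal.Quotient.mk J)) = a.left := by
  let q : (specGrp k A).X ⟶ (specGrp k B).X := pt (toConv (φ : B →ₐ[k] A))
  let one' : (specGrp k A).X ⟶ (specGrp k B).X := 1
  have h1 : a.left ≫ q.left = a.left ≫ one'.left := by
    have e : a ≫ q = a ≫ one' := by rw [ha, MonObj.comp_one]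
    exact congrArg (fun m => m.left) e
  let ψ : CommRingCat.of A ⟶ Γ(X.left, ⊤) := (Scheme.ΓSpecIso (CommRingCat.of A)).inv ≫ a.left.appTop
  have hone : one'.left = Spec.map (CommRingCat.ofHom (((1 : WithConv (B →ₐ[k] A))).ofConv.toRingHom)) := by
    rw [← pt_left]
    exact congrArg (fun m => m.left) (map_one (Spec.mapMulEquiv (R := k) (S := B) (T := A))).symm
  have hq : q.left = Spec.map (CommRingCat.ofHom (φ : B →ₐ[k] A).toRingHom) := pt_left _
  have h2 : CommRingCat.ofHom (φ : B →ₐ[k] A).toRingHom ≫ ψ =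
      CommRingCat.ofHom (((1 : WithConv (B →ₐ[k] A))).ofConv.toRingHom) ≫ ψ := by
    have e : (a.left ≫ q.left).appTop = (a.left ≫ one'.left).appTop := by rw [h1]
    rw [hq, hone, Scheme.Hom.comp_appTop, Scheme.Hom.comp_appTop] at e
    have e' := congrArg (fun m => (Scheme.ΓSpecIso (CommRingCat.of B)).inv ≫ m) e
    simp only [ψ]
    rw [Scheme.ΓSpecIso_inv_naturality_assoc, Scheme.ΓSpecIso_inv_naturality_assoc]
    exact e'
  have hle : J ≤ RingHom.ker ψ.hom := by
    rw [hJ, Ideal.map_le_iff_le_comap]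
    intro b hb
    have e := congrArg (fun m => m.hom b) h2
    rw [Ideal.mem_comap, RingHom.mem_ker]
    refine (show ψ.hom ((φ : B →+* A) b) = ψ.hom ((1 : WithConv (B →ₐ[k] A)) b) from e).trans ?_
    rw [AlgHom.convOne_apply, show Coalgebra.counit (R := k) b = 0 from hb, map_zero, map_zero]
  refine ⟨X.left.toSpecΓ ≫ Spec.map (CommRingCat.ofHom (Ideal.Quotient.lift J ψ.hom fun x hx => hle hx)), ?_⟩
  rw [Category.assoc, ← Spec.map_comp,
    show CommRingCat.ofHom (Ideal.Quotient.mk J) ≫ CommRingCat.ofHom (Ideal.Quotient.lift J ψ.hom fun x hx => hle hx) = ψ from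
      CommRingCat.hom_ext (RingHom.ext fun x => rfl)]
  have key : ∀ a0 : X.left ⟶ Spec (CommRingCat.of A),
      X.left.toSpecΓ ≫ Spec.map ((Scheme.ΓSpecIso (CommRingCat.of A)).inv ≫ a0.appTop) = a0 := fun a0 => by
    rw [Spec.map_comp, ← Category.assoc, ← Scheme.toSpecΓ_naturality, Category.assoc,
      toSpecΓ_SpecMap_ΓSpecIso_inv, Category.comp_id]
  exact key a.left

/-- Commutative points give a cocommutative Hopf algebra. -/
theorem isCocomm_of_comm {A : Type u} [CommRing A] [HopfAlgebra k A]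
    (h : ∀ (X : Over (Spec (CommRingCat.of k))) (x y : X ⟶ (specGrp k A).X), x * y = y * x) :
    Coalgebra.IsCocomm k A := by
  let L : WithConv (A →ₐ[k] A ⊗[k] A) := toConv Algebra.TensorProduct.includeLeft
  let Rr : WithConv (A →ₐ[k] A ⊗[k] A) := toConv Algebra.TensorProduct.includeRight
  have e : L * Rr = Rr * L := by
    apply (Spec.mapMulEquiv (R := k) (S := A) (T := A ⊗[k] A)).injective
    rw [map_mul, map_mul]
    exact h _ _ _
  refine ⟨LinearMap.ext fun a => ?_⟩
  have e' := congrArg (fun φ : WithConv (A →ₐ[k] A ⊗[k] A) => φ.ofConv a) e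
  simp only [AlgHom.convMul_apply, L, Rr] at e'
  show TensorProduct.comm k A A (Coalgebra.comul (R := k) a) = Coalgebra.comul (R := k) a
  revert e'
  generalize Coalgebra.comul (R := k) a = z
  intro e'
  have e1 : ∀ z : A ⊗[k] A, Algebra.TensorProduct.lift (S := k) (Algebra.TensorProduct.includeLeft : A →ₐ[k] A ⊗[k] A)
      Algebra.TensorProduct.includeRight (fun _ _ => Commute.all _ _) z = z := fun z => by
    induction z using TensorProduct.induction_on with
    | zero => simp
    | tmul x y => simp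
    | add x y hx hy => rw [map_add, hx, hy]
  have e2 : ∀ z : A ⊗[k] A, Algebra.TensorProduct.lift (S := k) (Algebra.TensorProduct.includeRight : A →ₐ[k] A ⊗[k] A)
      Algebra.TensorProduct.includeLeft (fun _ _ => Commute.all _ _) z = TensorProduct.comm k A A z := fun z => by
    induction z using TensorProduct.induction_on with
    | zero => simp
    | tmul x y => simp
    | add x y hx hy => rw [map_add, map_add, hx, hy]
  rw [e1, e2] at e'
  exact e'.symm

theorem free_of_isField {A B : Type u} [CommRing A] [CommRing B] (φ : A →+* B) (hF : IsField A) :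
    @Module.Free A B _ _ φ.toAlgebra.toModule := by
  letI := φ.toAlgebra
  let F : Field A := hF.toField
  exact @Module.Free.of_divisionRing A B F.toDivisionRing _ _

theorem isLocFree_of_field {X : Scheme.{u}} (p : X ⟶ Spec (CommRingCat.of k)) :
    Groth.Agent.ClosedRep.IsLocFree p := fun s => by
  refine ⟨⟨⊤, isAffineOpen_top _⟩, X,
    fun x => ⟨_, (exists_isAffineOpen_mem_and_subset (x := x) (U := ⊤) trivial).choose_spec.1⟩,
    fun i => le_top, trivial, fun x _ => ⟨x,
      (exists_isAffineOpen_mem_and_subset (x := x) (U := ⊤) trivial).choose_spec.2.1⟩, fun i => ?_⟩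
  exact free_of_isField _
    ((Scheme.ΓSpecIso (CommRingCat.of k)).commRingCatIsoToRingEquiv.toMulEquiv.isField (Field.toIsField k))

/-- The centre of an affine group over a field. -/
theorem exists_centre (G : Over (Spec (CommRingCat.of k))) [GrpObj G] [IsAffine G.left] :
    ∃ (C : Over (Spec (CommRingCat.of k))) (_ : GrpObj C) (c : C ⟶ G), IsMonHom c ∧ IsClosedImmersion c.left ∧
      ∀ (X : Over (Spec (CommRingCat.of k))) (x : X ⟶ G), (∃ z : X ⟶ C, z ≫ c = x) ↔
        ∀ (X' : Over (Spec (CommRingCat.of k))) (a : X' ⟶ X) (y : X' ⟶ G), y * (a ≫ x) = (a ≫ x) * y := by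
  haveI : IsClosedImmersion η[G].left :=
    isClosedImmersion_of_comp_eq_id (Y := Spec (CommRingCat.of k)) G.hom η[G].left (by simp)
  let e : G ⊗ G ⟶ G := (fst G G * snd G G) * (snd G G * fst G G)⁻¹
  obtain ⟨P, j, hj, hP⟩ := PtsDense.exists_closed_factLocus e η[G] (isLocFree_of_field G.hom)
  haveI := hj
  haveI : Mono j := (Over.forget _).mono_of_mono_map (inferInstanceAs (Mono j.left))
  have hP' : ∀ {Y : Over (Spec (CommRingCat.of k))} (t : Y ⟶ G), (∃ p, p ≫ j = t) ↔
      ∀ (Y' : Over (Spec (CommRingCat.of k))) (a : Y' ⟶ Y) (y : Y' ⟶ G), y * (a ≫ t) = (a ≫ t) * y := by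
    intro Y t
    refine (hP Y t).trans ⟨fun ⟨w, hw⟩ Y' a y => ?_, fun h => ⟨toUnit _, ?_⟩⟩
    · have h1 : lift y a ≫ ((G ◁ t) ≫ e) = 1 := by
        rw [← hw, Hom.one_def, ← Category.assoc, toUnit_unique (lift y a ≫ w) (toUnit _)]
      simp only [e, MonObj.comp_mul, GrpObj.comp_inv, whiskerLeft_fst, whiskerLeft_snd, lift_fst,
        lift_snd_assoc] at h1
      exact mul_inv_eq_one.1 h1
    · simp only [e, MonObj.comp_mul, GrpObj.comp_inv, whiskerLeft_fst, whiskerLeft_snd]
      rw [h _ (snd G Y) (fst G Y), mul_inv_cancel, Hom.one_def]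
  obtain ⟨hPg, hjm⟩ := MTBridge.exists_grpObj_of_div j ((hP' _).2 fun Y' a y => by
      rw [show a ≫ η[G] = (1 : Y' ⟶ G) by rw [Hom.one_def, toUnit_unique (toUnit Y') a]]
      rw [_root_.mul_one, _root_.one_mul])
    (fun Y a b => (hP' _).2 fun Y' x y => by
      have h1 := (hP' (a ≫ j)).1 ⟨a, rfl⟩ Y' x y
      have h2 := (hP' (b ≫ j)).1 ⟨b, rfl⟩ Y' x y
      simp only [MonObj.comp_mul, GrpObj.comp_inv]
      exact (Commute.inv_right h1).mul_right h2)
  exact ⟨P, hPg, j, hjm, hj, fun X x => hP' x⟩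

/-- The largest subgroup of multiplicative type of a commutative affine algebraic group, with its universal property
over every base. -/
theorem exists_multType_part (C : Over (Spec (CommRingCat.of k))) [GrpObj C] [IsAffine C.left]
    [LocallyOfFiniteType C.hom] (hcomm : ∀ (X : Over (Spec (CommRingCat.of k))) (x y : X ⟶ C), x * y = y * x) :
    ∃ (M : Over (Spec (CommRingCat.of k))) (_ : GrpObj M) (m : M ⟶ C), IsMonHom m ∧ IsClosedImmersion m.left ∧
      SGA3x.IsMultTypeFT M ∧
      ∀ (S : Scheme.{u}) (f : S ⟶ Spec (CommRingCat.of k)) (H : Over S) [GrpObj H] (v : H ⟶ Red.bc f C) [IsMonHom v],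
        SGA3x.IsMultTypeFT H → ∃ w : H ⟶ Red.bc f M, w ≫ (Over.pullback f).map m = v := by
  obtain ⟨A, hA, e, he⟩ := FinHopf.exists_hopf (R := CommRingCat.of k) C
  haveI := he
  haveI : IsIso e.hom.left := ((Over.forget _).mapIso e).isIso_hom
  haveI : Algebra.FiniteType k A := by
    have h0 : LocallyOfFiniteType (e.hom.left ≫ C.hom) := inferInstance
    rw [Over.w e.hom] at h0
    exact RingHom.finiteType_algebraMap.1 ((HasRingHomProperty.Spec_iff (P := @LocallyOfFiniteType)).1 h0)
  haveI : Coalgebra.IsCocomm k A := isCocomm_of_comm fun X x y => by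
    refine (cancel_mono e.hom).1 ?_
    rw [MonObj.mul_comp, MonObj.mul_comp]
    exact hcomm _ _ _
  obtain ⟨J, hJh, hJm, -, B, _, _, φ, -, hJ, hBu⟩ := Groth.Agent.S4130.result k A
  haveI := hJh
  let M : Over (Spec (CommRingCat.of k)) := (specGrp k (A ⧸ J)).X
  let m₀ : M ⟶ (specGrp k A).X := pt (toConv (Ideal.Quotient.mkₐ k J))
  haveI : IsMonHom m₀ :=
    ((hopfSpec (CommRingCat.of k)).map
      (CommHopfAlgCat.ofHom (X := A) (Y := A ⧸ J) (Bialgebra.Quotient.mkBialgHom (R := k) J)).op).hom.isMonHom_hom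
  haveI : IsClosedImmersion m₀.left :=
    IsClosedImmersion.spec_of_surjective (CommRingCat.ofHom (Ideal.Quotient.mk J)) Ideal.Quotient.mk_surjective
  let q : (specGrp k A).X ⟶ (specGrp k B).X := pt (toConv (φ : B →ₐ[k] A))
  haveI : IsMonHom q :=
    ((hopfSpec (CommRingCat.of k)).map (CommHopfAlgCat.ofHom (X := B) (Y := A) φ).op).hom.isMonHom_hom
  haveI : Algebra.FiniteType k (A ⧸ J) :=
    Algebra.FiniteType.of_surjective (Ideal.Quotient.mkₐ k J) (Ideal.Quotient.mkₐ_surjective k J)
  let m : M ⟶ C := m₀ ≫ e.hom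
  haveI : IsClosedImmersion m.left := inferInstanceAs (IsClosedImmersion (m₀.left ≫ e.hom.left))
  refine ⟨M, inferInstance, m, inferInstanceAs (IsMonHom (m₀ ≫ e.hom)), inferInstance,
    MTBridge.isMultTypeFT_specGrp (MultT.isMultType_of_const hJm), fun S f H _ v _ hH => ?_⟩
  haveI : IsMonHom e.inv := inferInstance
  let F := Over.pullback f
  let v' : H ⟶ Red.bc f (specGrp k A).X := v ≫ F.map e.inv
  haveI : IsMonHom v' := inferInstanceAs (IsMonHom (v ≫ F.map e.inv))
  have hv : v' ≫ F.map q = 1 := eq_one_unipotent hBu f H hH (v' ≫ F.map q)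
  obtain ⟨a, ha⟩ := exists_toBC' f v'
  have haq : a ≫ q = 1 := toBC_inj f (by
    rw [toBC_comp, ha, hv]
    have h := toBC_mul f (1 : (Over.map f).obj H ⟶ (specGrp k B).X) 1
    rw [_root_.mul_one] at h
    exact (left_eq_mul.1 h).symm)
  obtain ⟨b, hb⟩ := exists_factor_ker φ J hJ a haq
  let b' : (Over.map f).obj H ⟶ M := Over.homMk b (by
    have e1 : m₀.left = Spec.map (CommRingCat.ofHom (Ideal.Quotient.mk J)) := pt_left _
    rw [← Over.w m₀, ← Category.assoc, e1]
    erw [hb]
    exact Over.w a)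
  have hba : b' ≫ m₀ = a := Over.OverMorphism.ext (by
    have e1 : m₀.left = Spec.map (CommRingCat.ofHom (Ideal.Quotient.mk J)) := pt_left _
    show b ≫ m₀.left = a.left
    rw [e1]
    exact hb)
  refine ⟨toBC f b', ?_⟩
  show toBC f b' ≫ F.map (m₀ ≫ e.hom) = v
  rw [Functor.map_comp, ← Category.assoc, ← toBC_comp, hba, ha]
  show (v ≫ F.map e.inv) ≫ F.map e.hom = v
  rw [Category.assoc, ← Functor.map_comp, e.inv_hom_id, CategoryTheory.Functor.map_id, Category.comp_id]

end Groth.Agent.Chev.RedCentre
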