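import Groth.Agent.Chev.NormAux
import Groth.Agent.Chev.BorelCent
import Groth.Agent.Chev.BorelCover
import Groth.Agent.Chev.TorusImage
import Groth.Agent.Rigid.FibreTranslate
import Groth.Agent.S5260

/-!
# Rational points normalising a Borel subgroup lie in it
-/

set_option autoImplicit false
set_option backward.isDefEq.respectTransparency false

universe u

open CategoryTheory CategoryTheory.Limits MonoidalCategory CartesianMonoidalCategory MonObj GrpObj AlgebraicGeometry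
open Groth.Agent.Takeuchi (Pt)
open Groth.Agent.SubGen (rpt exists_rpt map_rpt rpt_injective rpt_mem_closedPoints)
open Groth.Agent.MTBridge (specGrp)

noncomputable section

namespace Groth.Agent.Chev.Borel

open BorelFixed

variable {k : Type u} [Field k] [IsAlgClosed k]

/-- Iterates of an endomorphism and their partial products. -/
def tpow {T : Over (Spec (CommRingCat.of k))} [GrpObj T] (φ : T ⟶ T) : ℕ → (T ⟶ T)
  | 0 => 𝟙 T
  | i + 1 => tpow φ i ≫ φ

/-- The partial norms. -/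
def tnorm {T : Over (Spec (CommRingCat.of k))} [GrpObj T] (φ : T ⟶ T) : ℕ → (T ⟶ T)
  | 0 => 1
  | i + 1 => tnorm φ i * tpow φ i

theorem isMonHom_tnorm {T : Over (Spec (CommRingCat.of k))} [GrpObj T] (hT : Red.IsTorus T) (φ : T ⟶ T) [IsMonHom φ]
    (i : ℕ) : IsMonHom (tnorm φ i) := by
  haveI := smooth_of_isTorus hT
  have hp : ∀ i, IsMonHom (tpow φ i) := fun i => by
    induction i with
    | zero => exact inferInstanceAs (IsMonHom (𝟙 T))
    | succ i ih => haveI := ih; exact inferInstanceAs (IsMonHom (tpow φ i ≫ φ))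
  induction i with
  | zero => exact isMonHom_one_torus
  | succ i ih => haveI := ih; haveI := hp i; exact isMonHom_mul_torus hT _ _

theorem tnorm_shift {T : Over (Spec (CommRingCat.of k))} [GrpObj T] (hT : Red.IsTorus T) (φ : T ⟶ T) [IsMonHom φ]
    (p : RP T) (i : ℕ) : (p ≫ tnorm φ i) ≫ φ * p = p ≫ tnorm φ i * p ≫ tpow φ i := by
  induction i with
  | zero => simp only [tnorm, tpow, MonObj.comp_one, MonObj.one_comp, _root_.one_mul, Category.comp_id]
  | succ i ih =>
    simp only [tnorm, tpow, MonObj.comp_mul, MonObj.mul_comp, Category.assoc] at ih ⊢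
    rw [_root_.mul_assoc, rp_torus_comm hT (p ≫ tpow φ i ≫ φ) p, ← _root_.mul_assoc, ih]

/-- The induction. -/
theorem mem_borel_of_normalizes_aux (d : ℕ) : ∀ (G : Over (Spec (CommRingCat.of k))) [GrpObj G] [IsAffine G.left]
    [Smooth G.hom] [ConnectedSpace G.left], topologicalKrullDim G.left ≤ d →
    ∀ (B : Over (Spec (CommRingCat.of k))) [GrpObj B] (iB : B ⟶ G), Red.IsBorelOver k iB →
      ∀ g : RP G, (∀ b : RP B, ∃ b' : RP B, b' ≫ iB = g * (b ≫ iB) * g⁻¹) → ∃ b : RP B, b ≫ iB = g := by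
  induction d using Nat.strong_induction_on with
  | _ d ih => ?_
  intro G _ _ _ _ hdim B _ iB hB g₀ hg₀
  obtain ⟨hBm, hBc, hBs, hBconn, hBsol, -⟩ := id hB
  haveI := hBm; haveI := hBc; haveI := hBs; haveI := hBconn
  haveI : IsAffine B.left := isAffine_of_isAffineHom iB.left
  haveI : Mono iB := GrpField.SchImg.mono_of_isClosedImmersion iB
  haveI : IsReduced B.left := SmoothRed.isReduced_of_smooth_scheme B.hom
  -- conjugation by `g₀` on `B`
  obtain ⟨e₀, he₀⟩ := exists_lift_rp (AGF.conjBy g₀ iB) iB fun b => by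
    obtain ⟨b', hb'⟩ := hg₀ b
    exact ⟨rpt b', by rw [map_rpt, hb', comp_conjBy, toUnit_one, Category.id_comp]⟩
  haveI := isMonHom_conjBy g₀ iB
  haveI := isClosedImmersion_conjBy g₀ iB
  haveI : IsIso e₀ := isIso_of_le (AGF.conjBy g₀ iB) iB e₀ he₀ le_rfl
  haveI : IsMonHom e₀ := MTSplit.isMonHom_of_comp_mono e₀ iB (AGF.conjBy g₀ iB) he₀
  -- a maximal torus
  obtain ⟨T₁, B₁, hT₁g, hB₁g, t₁, b₁, ht₁m, -, hb₁, hT₁, -⟩ := exists_maxTorus G
  obtain ⟨g₁, e₁, he₁⟩ := borel_conj b₁ iB hb₁ hB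
  obtain ⟨iT, hiT, ht0⟩ : ∃ iT : T₁ ⟶ G, AGF.IsMaxTorus iT ∧ (t₁ ≫ e₁.hom) ≫ iB = iT :=
    ⟨_, isMaxTorus_conjBy g₁ _ hT₁, by rw [Category.assoc, he₁, comp_conjBy']⟩
  let t : T₁ ⟶ B := t₁ ≫ e₁.hom
  have ht : t ≫ iB = iT := ht0
  obtain ⟨him, himono, hTt, himax⟩ := id hiT
  haveI := him; haveI := himono
  haveI := isAffine_of_isTorus hTt
  haveI := smooth_of_isTorus hTt
  haveI := connectedSpace_of_isTorus hTt
  haveI : IsReduced T₁.left := SmoothRed.isReduced_of_smooth_scheme T₁.hom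
  haveI : IsMonHom t := MTSplit.isMonHom_of_comp_mono t iB iT ht
  have hmaxB : ∀ (h : RP G) (s : T₁ ⟶ B), s ≫ iB = AGF.conjBy h iT → AGF.IsMaxTorus s := fun h s hs => by
    obtain ⟨hhm, hhmono, -, hhmax⟩ := isMaxTorus_conjBy h iT hiT
    haveI := hhm; haveI := hhmono
    haveI : IsMonHom s := MTSplit.isMonHom_of_comp_mono s iB _ hs
    haveI : Mono (s ≫ iB) := by rw [hs]; infer_instance
    exact ⟨inferInstance, mono_of_mono s iB, hTt, fun T₂ _ j _ _ w hT₂ hw =>
      hhmax T₂ (j ≫ iB) w hT₂ (by rw [← Category.assoc, hw, hs])⟩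
  obtain ⟨b₀, φ, hφm, hφ⟩ := maxTorus_conj (t ≫ e₀) t
    (hmaxB g₀ (t ≫ e₀) (by rw [Category.assoc, he₀, comp_conjBy', ht]))
    (hmaxB 1 t (by rw [conjBy_one, ht]))
  let g : RP G := (b₀ ≫ iB) * g₀
  suffices hmem : ∃ b : RP B, b ≫ iB = g by
    obtain ⟨b, hb⟩ := hmem
    exact ⟨b₀⁻¹ * b, by rw [MonObj.mul_comp, GrpObj.inv_comp, hb, inv_mul_cancel_left]⟩
  have hφG : φ.hom ≫ iT = AGF.conjBy g iT := by
    rw [← ht, ← Category.assoc, hφ, conjBy_comp, Category.assoc, he₀, comp_conjBy', conjBy_conjBy]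
  have hg : ∀ b : RP B, ∃ b' : RP B, b' ≫ iB = g * (b ≫ iB) * g⁻¹ := fun b => by
    obtain ⟨b', hb'⟩ := hg₀ b
    refine ⟨b₀ * b' * b₀⁻¹, ?_⟩
    rw [MonObj.mul_comp, MonObj.mul_comp, GrpObj.inv_comp, hb']
    simp only [g, _root_.mul_inv_rev, _root_.mul_assoc]
  haveI : IsAffineHom G.hom := inferInstance
  obtain ⟨C, hCg, c, hC, -, -⟩ := Groth.Agent.S5247.result T₁ G
    (MTBridge.isMultTypeFT_of_isTorus T₁ hTt) ‹Smooth G.hom› inferInstance iT
  obtain ⟨m, hm0, zc, hzc⟩ := exists_pow_mem_centralizer iT hiT c hC g φ hφG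
  -- the norm
  haveI := hφm
  haveI := isMonHom_tnorm hTt φ.hom m
  let ν : T₁ ⟶ T₁ := tnorm φ.hom m
  have hpow : ∀ (p : RP T₁) (i : ℕ), (p ≫ tpow φ.hom i) ≫ iT = g ^ i * (p ≫ iT) * (g ^ i)⁻¹ := fun p i => by
    induction i with
    | zero => simp only [tpow, Category.comp_id, pow_zero, _root_.one_mul, inv_one, _root_.mul_one]
    | succ i ihi =>
      rw [tpow, ← Category.assoc, Category.assoc _ φ.hom, hφG, comp_conjBy, toUnit_one, Category.id_comp, ihi,
        pow_succ']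
      simp only [_root_.mul_inv_rev, _root_.mul_assoc]
  have hperiod : ∀ p : RP T₁, p ≫ tpow φ.hom m = p := fun p => by
    refine (cancel_mono iT).1 ?_
    rw [hpow, ← hzc]
    have h := (hC.2.2 _ (zc ≫ c)).1 ⟨zc, rfl⟩ _ (𝟙 _) p
    rw [Category.id_comp] at h
    rw [h, mul_inv_cancel_right]
  have hfix : ∀ p : RP T₁, (p ≫ ν) ≫ φ.hom = p ≫ ν := fun p => by
    have h := tnorm_shift hTt φ.hom p m
    rw [hperiod] at h
    exact mul_right_cancel h
  -- the fixed torus
  obtain ⟨R, hRg, iR, pR, hiR, hpR, hiRc, hRs, hpRs, hpRc⟩ := exists_smooth_image (ν ≫ t)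
  haveI := hiR; haveI := hpR; haveI := hiRc; haveI := hRs; haveI := hpRs
  haveI : IsAffine R.left := isAffine_of_isAffineHom iR.left
  have hRt : Red.IsTorus R := isTorus_of_surjective hTt pR
  let iS : R ⟶ G := iR ≫ iB
  haveI : Mono iR := GrpField.SchImg.mono_of_isClosedImmersion iR
  haveI : LocallyOfFiniteType R.hom := inferInstance
  have hlift : ∀ r : RP R, ∃ p : RP T₁, r ≫ iS = (p ≫ ν) ≫ iT := fun r => by
    obtain ⟨p, rfl⟩ := exists_rp_preimage pR r
    refine ⟨p, ?_⟩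
    simp only [iS, Category.assoc, ← ht]
    rw [← Category.assoc pR, hpRc]
    simp only [Category.assoc]
  haveI : IsReduced R.left := SmoothRed.isReduced_of_smooth_scheme R.hom
  obtain ⟨Z, hZg, z, hZ, -, -⟩ := Groth.Agent.S5247.result R G
    (MTBridge.isMultTypeFT_of_isTorus R hRt) ‹Smooth G.hom› inferInstance iS
  obtain ⟨hZs, hZa, hZcl, hZconn', -⟩ := centralizer_torus iS hRt z hZ
  haveI := hZs; haveI := hZa; haveI := hZcl; haveI := hZ.1; haveI := hZ.2.1
  haveI := hZconn' inferInstance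
  obtain ⟨gz, hgz⟩ := (hZ.2.2 _ g).2 fun X' x h => by
    have e : AGF.conjBy g iS = iS := hom_ext_rp fun r => by
      obtain ⟨p, hp⟩ := hlift r
      rw [comp_conjBy, toUnit_one, Category.id_comp, hp]
      conv_rhs => rw [← hfix p, Category.assoc, hφG, comp_conjBy, toUnit_one, Category.id_comp]
    have e2 := congrArg (fun w => h ≫ w) e
    simp only [comp_conjBy] at e2
    rw [toUnit_unique x (toUnit X')]
    exact mul_inv_eq_iff_eq_mul.1 e2
  by_cases hiso : IsIso z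
  swap
  · -- induction
    obtain ⟨m', hm'⟩ := exists_natDim' Z
    have hlt : m' < d := by
      by_contra hle
      refine hiso (isIso_of_dim_eq z (le_antisymm (dim_le_of_closedImmersion z) (hdim.trans ?_)))
      rw [hm']
      exact_mod_cast not_lt.1 hle
    obtain ⟨D, hDg, dB, hD, -, -⟩ := Groth.Agent.S5247.result R B
      (MTBridge.isMultTypeFT_of_isTorus R hRt) ‹Smooth B.hom› inferInstance iR
    haveI := hD.1; haveI := hD.2.1
    obtain ⟨dC, hdC⟩ := (hZ.2.2 _ (dB ≫ iB)).2 fun X' x h => by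
      have h1 := congrArg (fun w => w ≫ iB) ((hD.2.2 D dB).1 ⟨𝟙 D, Category.id_comp _⟩ X' x h)
      simpa only [MonObj.mul_comp, Category.assoc, iS] using h1
    haveI : IsMonHom dC := MTSplit.isMonHom_of_comp_mono dC z (dB ≫ iB) hdC
    have hfac : ∀ s : PullbackCone z iB, ∃ l : s.pt ⟶ D, l ≫ dC = s.fst ∧ l ≫ dB = s.snd := fun s => by
      obtain ⟨l, hl⟩ := (hD.2.2 _ s.snd).2 fun X' x h => by
        refine (cancel_mono iB).1 ?_
        have h1 := (hZ.2.2 _ (s.fst ≫ z)).1 ⟨s.fst, rfl⟩ X' x h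
        simp only [MonObj.mul_comp, Category.assoc]
        rw [← s.condition]
        exact h1
      exact ⟨l, (cancel_mono z).1 (by rw [Category.assoc, hdC, ← Category.assoc, hl, s.condition]), hl⟩
    choose l hl1 hl2 using hfac
    have hpb : IsPullback dC dB z iB := IsPullback.of_isLimit' ⟨hdC⟩ (PullbackCone.IsLimit.mk hdC l hl1 hl2
      fun s m' _ h2 => (cancel_mono dB).1 (by rw [hl2, h2]))
    have hBZ := isBorelOver_centralizer iS hRt iB hB iR rfl z hZ dC dB hpb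
    obtain ⟨b, hb⟩ := ih m' hlt Z hm'.le D dC hBZ gz fun b => by
      obtain ⟨b', hb'⟩ := hg (b ≫ dB)
      have hcomm : (gz * (b ≫ dC) * gz⁻¹) ≫ z = b' ≫ iB := by
        rw [hb', MonObj.mul_comp, MonObj.mul_comp, GrpObj.inv_comp, hgz, Category.assoc, hdC, Category.assoc]
      exact ⟨hpb.lift _ _ hcomm, hpb.lift_fst _ _ hcomm⟩
    exact ⟨b ≫ dB, by rw [Category.assoc, ← hdC, ← Category.assoc, hb, hgz]⟩
  -- the fixed torus is central
  haveI := hiso
  have hcentral : ∀ (p : RP T₁) (h : RP G), h * ((p ≫ ν) ≫ iT) = ((p ≫ ν) ≫ iT) * h := fun p h => by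
    have h1 := (hZ.2.2 _ ((h ≫ inv z) ≫ z)).1 ⟨_, rfl⟩ _ (𝟙 _) (p ≫ pR)
    rw [Category.id_comp, Category.assoc h, IsIso.inv_hom_id, Category.comp_id] at h1
    have e : (p ≫ pR) ≫ iS = (p ≫ ν) ≫ iT := by
      simp only [iS, Category.assoc, ← ht]
      rw [← Category.assoc pR, hpRc]
      simp only [Category.assoc]
    rwa [e] at h1
  -- the normalizer of `B`
  haveI : GeometricallyConnected B.hom :=
    Groth.Agent.Rigid.geometricallyConnected_of_section B.hom (η[B] : 𝟙_ _ ⟶ B).left (Over.w (η[B] : 𝟙_ _ ⟶ B))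
  obtain ⟨NB, hNBg, jN, hNB, hNBc, -⟩ := Groth.Agent.S5260.result G B (fun s => by
    haveI : Subsingleton (Spec ((Spec (CommRingCat.of k)).residueField s)) := inferInstanceAs (Subsingleton (PrimeSpectrum _))
    exact GeometricallyConnected.connectedSpace_of_subsingleton (pullback.snd B.hom _)) iB
  haveI := hNB.1; haveI := hNBc
  have hBN : ∀ b : RP B, ∃ h : RP NB, h ≫ jN = b ≫ iB := fun b => (hNB.2.2 _ (b ≫ iB)).2 fun X' x h =>
    ⟨⟨(x ≫ b) * h * (x ≫ b)⁻¹, by simp only [MonObj.mul_comp, GrpObj.inv_comp, Category.assoc]⟩,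
      ⟨(x ≫ b)⁻¹ * h * (x ≫ b), by simp only [MonObj.mul_comp, GrpObj.inv_comp, Category.assoc]⟩⟩
  obtain ⟨eg, heg⟩ := exists_lift_rp (AGF.conjBy g iB) iB fun b => by
    obtain ⟨b', hb'⟩ := hg b
    exact ⟨rpt b', by rw [map_rpt, hb', comp_conjBy, toUnit_one, Category.id_comp]⟩
  haveI := isMonHom_conjBy g iB
  haveI := isClosedImmersion_conjBy g iB
  haveI : IsIso eg := isIso_of_le (AGF.conjBy g iB) iB eg heg le_rfl
  obtain ⟨gN, hgN⟩ := (hNB.2.2 _ g).2 fun X' x h => by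
    refine ⟨⟨h ≫ eg, ?_⟩, ⟨h ≫ inv eg, ?_⟩⟩
    · rw [Category.assoc, heg, comp_conjBy, toUnit_unique x (toUnit X')]
    · have e : inv eg ≫ iB = AGF.conjBy g⁻¹ iB := by
        have e' := congrArg (fun w => inv eg ≫ w) heg
        simp only [IsIso.inv_hom_id_assoc, comp_conjBy'] at e'
        conv_rhs => rw [e', conjBy_conjBy, inv_mul_cancel, conjBy_one]
      rw [Category.assoc, e, comp_conjBy, toUnit_unique x (toUnit X'), GrpObj.comp_inv, _root_.inv_inv]
  -- coordinates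
  obtain ⟨A, hA, e, he⟩ := FinHopf.exists_hopf (R := CommRingCat.of k) G
  haveI := he
  obtain ⟨A', hA', e', he'⟩ := FinHopf.exists_hopf (R := CommRingCat.of k) B
  haveI := he'
  haveI : IsIso e.hom.left := inferInstanceAs (IsIso ((Over.forget _).map e.hom))
  haveI : IsIso e'.hom.left := inferInstanceAs (IsIso ((Over.forget _).map e'.hom))
  haveI : IsMonHom e.inv := inferInstance
  haveI : Algebra.FiniteType k A := by
    have h0 : LocallyOfFiniteType (e.hom.left ≫ G.hom) := inferInstance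
    rw [Over.w e.hom] at h0
    exact RingHom.finiteType_algebraMap.1 ((HasRingHomProperty.Spec_iff (P := @LocallyOfFiniteType)).1 h0)
  let v₀ : (specGrp k A').X ⟶ (specGrp k A).X := e'.hom ≫ iB ≫ e.inv
  haveI : IsMonHom v₀ := by dsimp [v₀]; infer_instance
  obtain ⟨jh, hjh⟩ := MTBridge.exists_bialgHom v₀
  have hf : e'.hom.left ≫ iB.left = Spec.map (CommRingCat.ofHom (jh : A →ₐ[k] A').toRingHom) ≫ e.hom.left := by
    rw [← Over.comp_left, show e'.hom ≫ iB = v₀ ≫ e.hom by simp [v₀], Over.comp_left, hjh]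
  have hptB : ∀ b : RP B, ProjRep.ptsEquiv e (b ≫ iB) = WithConv.toConv ((ProjRep.ptsEquiv e' b).ofConv.comp (jh : A →ₐ[k] A')) :=
    fun b => ptsEquiv_comp e' e iB _ hf b
  obtain ⟨V, _, _, hcm, hfin, v, hv, hline⟩ := exists_line e jN
  haveI := hfin
  let ρ : RP G → V →ₗ[k] V := fun h => rho (ProjRep.ptsEquiv e h)
  have hρ : ∀ x y : RP G, ρ (x * y) = ρ x ∘ₗ ρ y := fun x y => by simp only [ρ, map_mul, rho_mul]
  have hρ1 : ρ 1 = LinearMap.id := by simp only [ρ, map_one, rho_one]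
  obtain ⟨l₀, hl₀⟩ : ∃ l : V →ₗ[k] k, l v = 1 := by
    obtain ⟨l, hl⟩ : ∃ l : V →ₗ[k] k, l v ≠ 0 := by
      by_contra h
      push Not at h
      exact hv ((Module.forall_dual_apply_eq_zero_iff k v).1 h)
    exact ⟨(l v)⁻¹ • l, by simp [hl]⟩
  let W : Submodule k V := Submodule.span k (Set.range fun h => ρ h v)
  have hWC : ∀ (h : RP G), ∀ w ∈ W, ρ h w ∈ W := by
    intro h w hw
    induction hw using Submodule.span_induction with
    | mem x hx =>
      obtain ⟨y, rfl⟩ := hx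
      exact Submodule.subset_span ⟨h * y, by show ρ (h * y) v = _; rw [hρ, LinearMap.comp_apply]⟩
    | zero => simp
    | add x y _ _ hx hy => rw [map_add]; exact Submodule.add_mem _ hx hy
    | smul r x _ hx => rw [map_smul]; exact Submodule.smul_mem _ r hx
  have hW : ∀ ψ : Pt k A k, ∀ w ∈ W, rho ψ w ∈ W := fun ψ w hw => by
    simpa [ρ] using hWC ((ProjRep.ptsEquiv e).symm ψ) w hw
  obtain ⟨D, hD⟩ := exists_det_fun W hW
  let detW : RP G → k := fun h => ProjRep.ptsEquiv e h D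
  have hdetmul : ∀ x y, detW (x * y) = detW x * detW y := by
    intro x y
    simp only [detW, hD, ← map_mul]
    congr 1
    refine LinearMap.ext fun w => Subtype.ext ?_
    show rho (ProjRep.ptsEquiv e (x * y)) (w : V) = rho _ (rho _ (w : V))
    rw [map_mul, rho_mul, LinearMap.comp_apply]
  have hdet1 : detW 1 = 1 := by
    simp only [detW, hD]
    rw [show (rho (ProjRep.ptsEquiv e (1 : RP G))).restrict (hW _) = LinearMap.id from
      LinearMap.ext fun w => Subtype.ext (by simp [rho_one]), LinearMap.det_id]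
  let n := Module.finrank k W
  let F : (V →ₗ[k] k) → A := fun l => mc (A := A) l v ^ n * HopfAlgebraStruct.antipode (R := k) D
  let f : (V →ₗ[k] k) → RP G → k := fun l h => l (ρ h v) ^ n * detW h⁻¹
  have hF : ∀ (l : V →ₗ[k] k) (h : RP G), ProjRep.ptsEquiv e h (F l ^ m) = f l h ^ m := by
    intro l h
    show (ProjRep.ptsEquiv e h).ofConv (F l ^ m) = _
    rw [map_pow, map_mul, map_pow]
    simp only [f, detW, map_inv, Takeuchi.inv_apply, ρ, ← apply_mc]
  have hf1 : ∀ l, f l 1 = l v ^ n := fun l => by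
    simp only [f, inv_one, hdet1, _root_.mul_one, hρ1, LinearMap.id_coe, id_eq]
  -- the character of the normalizer
  have hχ : ∀ h : RP G, (∃ x : RP NB, x ≫ jN = h) → ρ h v = l₀ (ρ h v) • v := fun h hh => by
    obtain ⟨r, hr⟩ := (hline h).1 hh
    change ρ h v = r • v at hr
    simp only [hr, map_smul, hl₀, smul_eq_mul, _root_.mul_one]
  have hfmul : ∀ (l : V →ₗ[k] k) (x y : RP G), (∃ w : RP NB, w ≫ jN = y) → f l (x * y) = f l x * f l₀ y := by
    intro l x y hy
    simp only [f]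
    rw [hρ, LinearMap.comp_apply, hχ y hy, map_smul, map_smul, map_smul, hl₀, smul_eq_mul, smul_eq_mul,
      _root_.mul_one, _root_.mul_inv_rev, hdetmul, mul_pow]
    ring
  have hNmem : ∀ p : RP T₁, ∃ w : RP NB, w ≫ jN = p ≫ iT := fun p => by
    obtain ⟨w, hw⟩ := hBN (p ≫ t)
    exact ⟨w, by rw [hw, Category.assoc, ht]⟩
  have hlam : ∀ (p : RP T₁), f l₀ ((p ≫ φ.hom) ≫ iT) = f l₀ (p ≫ iT) := fun p => by
    have hgi : ∃ w : RP NB, w ≫ jN = g⁻¹ := ⟨gN⁻¹, by rw [GrpObj.inv_comp, hgN]⟩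
    rw [Category.assoc, hφG, comp_conjBy, toUnit_one, Category.id_comp, hfmul _ _ _ hgi, hfmul _ _ _ (hNmem p)]
    have h1 := hfmul l₀ g g⁻¹ hgi
    rw [mul_inv_cancel, hf1, hl₀, one_pow] at h1
    linear_combination (-(f l₀ (p ≫ iT))) * h1
  have hnorm : ∀ (p : RP T₁) (i : ℕ), f l₀ ((p ≫ tnorm φ.hom i) ≫ iT) = f l₀ (p ≫ iT) ^ i := fun p i => by
    have hpi : ∀ i, f l₀ ((p ≫ tpow φ.hom i) ≫ iT) = f l₀ (p ≫ iT) := fun i => by
      induction i with
      | zero => simp only [tpow, Category.comp_id]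
      | succ i ihi => rw [tpow, ← Category.assoc, hlam, ihi]
    induction i with
    | zero => simp only [tnorm, MonObj.comp_one, MonObj.one_comp, hf1, hl₀, one_pow, pow_zero]
    | succ i ihi =>
      rw [tnorm, MonObj.comp_mul, MonObj.mul_comp, hfmul _ _ _ (hNmem _), ihi, hpi, pow_succ]
  have hlam1 : ∀ p : RP T₁, f l₀ (p ≫ iT) ^ m = 1 := fun p => by
    rw [← hnorm]
    obtain ⟨w, hw⟩ := hNmem (p ≫ ν)
    show f l₀ ((p ≫ ν) ≫ iT) = 1
    set z' := (p ≫ ν) ≫ iT
    have hsc : ∀ x ∈ W, ρ z' x = l₀ (ρ z' v) • x := by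
      intro x hx
      induction hx using Submodule.span_induction with
      | mem x hx =>
        obtain ⟨y, rfl⟩ := hx
        show ρ z' (ρ y v) = _
        rw [← LinearMap.comp_apply, ← hρ, ← hcentral p y, hρ, LinearMap.comp_apply]
        conv_lhs => rw [hχ z' ⟨w, hw⟩, map_smul]
      | zero => simp
      | add x y _ _ hx hy => rw [map_add, hx, hy, smul_add]
      | smul r x _ hx => rw [map_smul, hx, smul_comm]
    have hdz : detW z' = l₀ (ρ z' v) ^ n := by
      simp only [detW, hD]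
      rw [show (rho (ProjRep.ptsEquiv e z')).restrict (hW _) = l₀ (ρ z' v) • LinearMap.id from
        LinearMap.ext fun w => Subtype.ext (hsc w w.2), LinearMap.det_smul, LinearMap.det_id, _root_.mul_one]
    simp only [f]
    rw [← hdz, ← hdetmul, mul_inv_cancel, hdet1]
  -- trivial on `B`
  obtain ⟨π, hπ, htπ, huniq⟩ := exists_retraction iB hB iT hiT t ht
  haveI := hπ
  have hθ : ∀ b : RP B, f l₀ (b ≫ iB) ^ m = 1 := by
    intro b
    let θ : A' := jh (F l₀ ^ m)
    have hval : ∀ q : RP B, ProjRep.ptsEquiv e' q θ = f l₀ (q ≫ iB) ^ m := fun q => by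
      rw [← hF, hptB]
      rfl
    rw [← hval]
    refine char_eq_one t hTt π huniq htπ e' θ (fun p q => ?_) ?_ (fun p => ?_) b
    · rw [hval, hval, hval, MonObj.mul_comp, hfmul _ _ _ (hBN q), mul_pow]
    · rw [hval, MonObj.one_comp, hf1, hl₀, one_pow, one_pow]
    · rw [hval, Category.assoc, ht, hlam1]
  -- the functions are constant
  obtain ⟨X, a, o, hXl, hXq, hXf, hXs, hXp⟩ := Groth.Agent.S3279.result k G B iB
  have hX : AGF.IsQuotient iB X a o := ⟨hXl, hXf, hXs, hXp⟩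
  haveI := isProper_quotient_borel iB hB a o hX
  have hn : n ≠ 0 := by
    have hmem : v ∈ W := Submodule.subset_span ⟨1, by simp [hρ1]⟩
    haveI : Nontrivial W := ⟨⟨⟨v, hmem⟩, 0, fun h => hv (congrArg Subtype.val h)⟩⟩
    exact Module.finrank_pos.ne'
  have hall : ∀ h : RP G, ∃ x : RP NB, x ≫ jN = h := by
    intro h
    rw [hline]
    refine ⟨l₀ (ρ h v), ?_⟩
    rw [← sub_eq_zero]
    refine (Module.forall_dual_apply_eq_zero_iff k _).1 fun l => ?_
    let l' : V →ₗ[k] k := l - l v • l₀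
    have hconst : f l' h ^ m = 0 := by
      rw [← hF, eq_of_invariant iB a o hX e (F l' ^ m) (fun x b => by
        rw [hF, hF, hfmul _ _ _ (hBN b), mul_pow, hθ, _root_.mul_one]) h, hF, hf1,
        show l' v = 0 by simp [l', hl₀], zero_pow hn, zero_pow hm0.ne']
    have h0 := (pow_eq_zero_iff hm0.ne').1 hconst
    have hdg : detW h⁻¹ ≠ 0 := fun h0 => by
      have := hdetmul h h⁻¹
      rw [mul_inv_cancel, hdet1, h0, mul_zero] at this
      exact one_ne_zero this
    have h2 := (pow_eq_zero_iff hn).1 ((mul_eq_zero.1 h0).resolve_right hdg)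
    simp only [l', LinearMap.sub_apply, LinearMap.smul_apply, smul_eq_mul] at h2
    rw [map_sub, map_smul, smul_eq_mul]
    linear_combination h2
  obtain ⟨x, b, hxb⟩ := exists_conj_mem_borel iB hB g
  obtain ⟨w, hw⟩ := hall x
  obtain ⟨⟨b', hb'⟩, -⟩ := (hNB.2.2 _ x).1 ⟨w, hw⟩ _ (𝟙 _) b
  rw [Category.id_comp, hxb] at hb'
  exact ⟨b', hb'.symm⟩

/-- A rational point normalising a Borel subgroup lies in it. -/
theorem mem_borel_of_normalizes {G B : Over (Spec (CommRingCat.of k))} [GrpObj G] [GrpObj B] [IsAffine G.left]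
    [Smooth G.hom] [ConnectedSpace G.left] (iB : B ⟶ G) (hB : Red.IsBorelOver k iB) (g : RP G)
    (hg : ∀ b : RP B, ∃ b' : RP B, b' ≫ iB = g * (b ≫ iB) * g⁻¹) : ∃ b : RP B, b ≫ iB = g := by
  obtain ⟨d, hd⟩ := exists_natDim' G
  exact mem_borel_of_normalizes_aux d G hd.le B iB hB g hg

end Groth.Agent.Chev.Borel
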