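import Groth.Agent.Chev.BorelTools
import Groth.Agent.Chev.ProjRep
import Groth.Agent.Chev.AntiAff
import Groth.Agent.S3279
import Groth.Agent.S8014
import Groth.Agent.S14586

/-!
# A smooth connected solvable subgroup with proper quotient, and conjugacy of Borel subgroups
-/

set_option autoImplicit false
set_option backward.isDefEq.respectTransparency false

universe u

open CategoryTheory CategoryTheory.Limits MonoidalCategory CartesianMonoidalCategory MonObj GrpObj AlgebraicGeometry
open Groth.Agent.SubGen (rpt exists_rpt rpt_injective rpt_mem_closedPoints map_rpt apply_eq_rpt)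

noncomputable section

namespace Groth.Agent.Chev.Borel

variable {k : Type u} [Field k] [IsAlgClosed k]

/-- A smooth connected solvable group is conjugate into a subgroup with proper quotient. -/
theorem exists_conj_le {G B H X : Over (Spec (CommRingCat.of k))} [GrpObj G] [GrpObj B] [GrpObj H]
    [LocallyOfFiniteType G.hom] [Nonempty G.left]
    (b : B ⟶ G) [IsMonHom b] (a : AlgGrp.Action G X) (o : RP X) (hX : AGF.IsQuotient b X a o) [IsProper X.hom]
    (iH : H ⟶ G) [IsMonHom iH] [IsAffine H.left] [Smooth H.hom] [ConnectedSpace H.left] [Group.IsSolvable (RP H)] :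
    ∃ (g : RP G) (f : H ⟶ B), f ≫ b = AGF.conjBy g iH := by
  haveI := hX.2.2.1
  haveI : Nonempty X.left := ⟨rpt o⟩
  obtain ⟨x, hx⟩ := BorelFixed.exists_fixed H X (BorelFixed.resAction iH a)
  obtain ⟨g₁, hg₁⟩ := exists_rp_preimage (a.orbitMap o) x
  refine ⟨g₁⁻¹, (GrpAct.mem_iff b a o hX.2.2.2 _).2 ?_⟩
  have h1 : lift (toUnit H ≫ g₁) (toUnit H ≫ o) ≫ a.act = toUnit H ≫ x := by
    rw [← GrpAct.comp_orbitMap, Category.assoc, hg₁]
  have h2 : lift iH (toUnit H ≫ x) ≫ a.act = toUnit H ≫ x := by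
    have := hx H (𝟙 H)
    rwa [resAction_smul, Category.id_comp] at this
  rw [AGF.conjBy, GrpObj.comp_inv, _root_.inv_inv, GrpAct.mul_smul, GrpAct.mul_smul, h1, h2]
  conv_lhs => rw [← h1]
  rw [← GrpAct.mul_smul, inv_mul_cancel, GrpAct.one_smul']

/-- Solvable subgroups with proper quotient are Borel subgroups. -/
theorem isBorelOver_of_proper {G B X : Over (Spec (CommRingCat.of k))} [GrpObj G] [GrpObj B] [IsAffine G.left]
    [LocallyOfFiniteType G.hom] [Nonempty G.left]
    (b : B ⟶ G) [IsMonHom b] [IsClosedImmersion b.left] [Smooth B.hom] [ConnectedSpace B.left]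
    (hsolv : Red.IsSolvableGrp B)
    (a : AlgGrp.Action G X) (o : RP X) (hX : AGF.IsQuotient b X a o) [IsProper X.hom] :
    Red.IsBorelOver k b := by
  refine ⟨inferInstance, inferInstance, inferInstance, inferInstance, hsolv, fun B' _ i' _ f hi' hs' hc' hsol' hf => ?_⟩
  haveI := hi'; haveI := hs'; haveI := hc'
  haveI : IsAffine B'.left := isAffine_of_isAffineHom i'.left
  haveI : IsAffine B.left := isAffine_of_isAffineHom b.left
  haveI : QuasiCompact B'.hom := by rw [← Over.w i']; infer_instance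
  haveI : QuasiCompact B.hom := by rw [← Over.w b]; infer_instance
  haveI := isSolvable_rp hsol'
  obtain ⟨g, h, hh⟩ := exists_conj_le b a o hX i'
  haveI := isClosedImmersion_conjBy g i'
  haveI : IsClosedImmersion (h.left ≫ b.left) := by rw [← Over.comp_left, hh]; infer_instance
  haveI : IsClosedImmersion h.left := IsClosedImmersion.of_comp h.left b.left
  exact isIso_of_le b i' f hf (dim_le_of_closedImmersion h)

/-- A Borel subgroup is conjugate to any solvable subgroup with proper quotient. -/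
theorem conj_of_proper {G B B' X : Over (Spec (CommRingCat.of k))} [GrpObj G] [GrpObj B] [GrpObj B'] [IsAffine G.left]
    [LocallyOfFiniteType G.hom] [Nonempty G.left]
    (b : B ⟶ G) [IsMonHom b] [IsClosedImmersion b.left] [Smooth B.hom] [ConnectedSpace B.left]
    (hsolv : Red.IsSolvableGrp B)
    (a : AlgGrp.Action G X) (o : RP X) (hX : AGF.IsQuotient b X a o) [IsProper X.hom]
    (b' : B' ⟶ G) (hB' : Red.IsBorelOver k b') :
    ∃ (g : RP G) (f : B ≅ B'), f.hom ≫ b' = AGF.conjBy g b := by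
  obtain ⟨him, hic, hs, hc, hsol, hmax⟩ := hB'
  haveI := him; haveI := hic; haveI := hs; haveI := hc
  haveI : IsAffine B'.left := isAffine_of_isAffineHom b'.left
  haveI := isSolvable_rp hsol
  obtain ⟨g, f, hf⟩ := exists_conj_le b a o hX b'
  haveI := isMonHom_conjBy g⁻¹ b
  haveI := isClosedImmersion_conjBy g⁻¹ b
  have e : f ≫ AGF.conjBy g⁻¹ b = b' := by rw [comp_conjBy', hf, conjBy_conjBy, inv_mul_cancel, conjBy_one]
  haveI := hmax B (AGF.conjBy g⁻¹ b) f inferInstance inferInstance inferInstance hsolv e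
  exact ⟨g⁻¹, (asIso f).symm, (IsIso.inv_comp_eq f).2 e.symm⟩

omit [IsAlgClosed k] in
/-- A morphism covered by finitely many universally closed pieces is universally closed. -/
theorem universallyClosed_of_covering {P T : Scheme.{u}} (π : P ⟶ T) {ci : Type*} [Finite ci] (W : ci → Scheme.{u})
    (m : ∀ i, W i ⟶ P) (h : ∀ i, UniversallyClosed (m i ≫ π)) (hcov : ∀ p : P, ∃ i, p ∈ Set.range (m i)) :
    UniversallyClosed π := by
  refine ⟨fun {P' T'} i₁ i₂ π' hc => ?_⟩
  intro C hC
  have e : π' '' C = ⋃ i, (pullback.snd (m i) i₁ ≫ π') '' (pullback.snd (m i) i₁ ⁻¹' C) := by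
    ext t
    simp only [Set.mem_iUnion, Set.mem_image, Set.mem_preimage]
    constructor
    · rintro ⟨p, hp, rfl⟩
      obtain ⟨i, w, hw⟩ := hcov (i₁ p)
      obtain ⟨z, -, hz⟩ := Scheme.Pullback.exists_preimage_pullback (f := m i) (g := i₁) w p hw
      exact ⟨i, z, hz ▸ hp, by rw [Scheme.Hom.comp_apply, hz]⟩
    · rintro ⟨i, z, hz, rfl⟩
      exact ⟨_, hz, (Scheme.Hom.comp_apply _ _ _).symm⟩
  rw [e]
  refine isClosed_iUnion_of_finite fun i => ?_
  haveI : UniversallyClosed (pullback.snd (m i) i₁ ≫ π') :=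
    MorphismProperty.of_isPullback ((IsPullback.of_hasPullback (m i) i₁).paste_vert hc.flip) (h i)
  exact (pullback.snd (m i) i₁ ≫ π').isClosedMap _ (hC.preimage (pullback.snd (m i) i₁).continuous)

set_option maxHeartbeats 1000000 in
/-- Properness of a quotient in two steps. -/
theorem exists_proper_quotient_step {G P B X Z : Over (Spec (CommRingCat.of k))} [GrpObj G] [GrpObj P] [GrpObj B]
    [IsAffine G.left] [Smooth G.hom] [Smooth P.hom] [Smooth B.hom] [IsProper X.hom]
    (iP : P ⟶ G) [IsMonHom iP] [IsClosedImmersion iP.left] (bP : B ⟶ P) [IsMonHom bP] [IsClosedImmersion bP.left]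
    (a : AlgGrp.Action G X) (x : RP X) (hclosed : IsClosed (GrpAct.orbit a x))
    (hPx : iP ≫ a.orbitMap x = toUnit P ≫ x)
    {ci : Type u} [Finite ci] (h : ci → RP G) (hh : ∀ i, h i ≫ a.orbitMap x = x)
    (hcos : ∀ g : RP G, g ≫ a.orbitMap x = x → ∃ i, ∃ p : RP P, g = h i * (p ≫ iP))
    (aZ : AlgGrp.Action P Z) (oZ : RP Z) (hZ : AGF.IsQuotient bP Z aZ oZ) [IsProper Z.hom] :
    ∃ (Y : Over (Spec (CommRingCat.of k))) (aY : AlgGrp.Action G Y) (oY : RP Y),
      AGF.IsQuotient (bP ≫ iP) Y aY oY ∧ IsProper Y.hom := by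
  haveI : IsClosedImmersion (bP ≫ iP).left := inferInstanceAs (IsClosedImmersion (bP.left ≫ iP.left))
  haveI : IsAffine B.left := isAffine_of_isAffineHom (bP ≫ iP).left
  haveI : IsAffine P.left := isAffine_of_isAffineHom iP.left
  haveI : QuasiCompact B.hom := by rw [← Over.w (bP ≫ iP)]; infer_instance
  haveI : QuasiCompact P.hom := by rw [← Over.w iP]; infer_instance
  haveI : IsReduced P.left := SmoothRed.isReduced_of_smooth_scheme P.hom
  haveI : Mono (bP ≫ iP) := GrpField.SchImg.mono_of_isClosedImmersion _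
  obtain ⟨Y, aY, oY, hlft, hYqc, hYf, hYs, hYp⟩ := Groth.Agent.S3279.result k G B (bP ≫ iP)
  haveI := hlft; haveI := hYqc; haveI := hYf; haveI := hYs
  have hY : AGF.IsQuotient (bP ≫ iP) Y aY oY := ⟨hlft, hYf, hYs, hYp⟩
  refine ⟨Y, aY, oY, hY, ?_⟩
  haveI : IsSeparated Y.hom := isSeparated_quot aY oY hY
  haveI : IsLocallyNoetherian Y.left := LocallyOfFiniteType.isLocallyNoetherian Y.hom
  -- the closed orbit
  haveI : QuasiSeparatedSpace X.left := quasiSeparatedSpace_of_quasiSeparated X.hom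
  obtain ⟨O', jO, hjO, hred, hjr⟩ := GrpAct.exists_reduced_subscheme hclosed.isLocallyClosed
  haveI : IsClosedImmersion jO := IsClosedImmersion.of_isPreimmersion jO (hjr ▸ hclosed)
  let O : Over (Spec (CommRingCat.of k)) := Over.mk (jO ≫ X.hom)
  let io : O ⟶ X := Over.homMk jO
  haveI : IsImmersion io.left := hjO
  haveI : IsReduced O.left := hred
  haveI : Mono io := (Over.forget _).mono_of_mono_map (inferInstanceAs (Mono io.left))
  haveI : IsProper O.hom := inferInstanceAs (IsProper (jO ≫ X.hom))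
  obtain ⟨aO, oO, hact, hoO, horb⟩ := GrpAct.exists_action a x io hjr
  obtain ⟨φ, hφ, hφf, hφs, hφp, hφq⟩ := GrpAct.exists_flat_orbitMap a x io hjr
  haveI := hφf; haveI := hφs; haveI := hφp; haveI := hφq
  have hφe : aO.orbitMap oO = φ := by rw [← cancel_mono io, horb, hφ]
  have hPo : iP ≫ φ = toUnit P ≫ oO := by rw [← cancel_mono io, Category.assoc, hφ, hPx, Category.assoc, hoO]
  obtain ⟨f, ⟨hfe, hfo⟩, -⟩ := Groth.Agent.S8014.result k G B (bP ≫ iP) Y aY oY hY O aO oO (fun T t => by
    rw [← GrpAct.comp_orbitMap, hφe, Category.assoc, Category.assoc, hPo, ← Category.assoc, ← Category.assoc,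
      toUnit_unique ((t ≫ bP) ≫ toUnit P) (toUnit T)])
  rw [hφe] at hfo
  obtain ⟨j, ⟨hje, hjo⟩, -⟩ := Groth.Agent.S8014.result k P B bP Z aZ oZ hZ Y (BorelFixed.resAction iP aY) oY
    (fun T t => by rw [resAction_smul, Category.assoc]; exact (GrpAct.mem_iff (bP ≫ iP) aY oY hYp _).1 ⟨t, rfl⟩)
  rw [resAction_orbitMap] at hjo
  haveI : LocallyOfFiniteType Z.hom := inferInstance
  haveI := hZ.2.1; haveI := hZ.2.2.1
  haveI : IsLocallyNoetherian Z.left := LocallyOfFiniteType.isLocallyNoetherian Z.hom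
  haveI : Flat (aZ.orbitMap oZ).left := hZ.2.1
  haveI : Epi (aZ.orbitMap oZ) := by
    haveI : LocallyOfFiniteType ((aZ.orbitMap oZ).left ≫ Z.hom) := by rw [Over.w]; infer_instance
    haveI : LocallyOfFiniteType (aZ.orbitMap oZ).left := locallyOfFiniteType_of_comp _ Z.hom
    exact AVQuot.epi_of_covering _
  have hjf : j ≫ f = toUnit Z ≫ oO := by
    rw [← cancel_epi (aZ.orbitMap oZ), reassoc_of% hjo, hfo, hPo, ← Category.assoc,
      toUnit_unique (aZ.orbitMap oZ ≫ toUnit Z) (toUnit P)]
  -- the finitely many pieces covering the base change to `G`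
  let ψ : ∀ _ : ci, G ⊗ Z ⟶ Y := fun i => lift (fst G Z * (toUnit (G ⊗ Z) ≫ h i)) (snd G Z ≫ j) ≫ aY.act
  have hψf : ∀ i, ψ i ≫ f = fst G Z ≫ φ := fun i => by
    have hho : h i ≫ aO.orbitMap oO = oO := by rw [hφe, ← cancel_mono io, Category.assoc, hφ, hh, hoO]
    have e1 : lift (toUnit (G ⊗ Z) ≫ h i) (toUnit (G ⊗ Z) ≫ oO) ≫ aO.act = toUnit (G ⊗ Z) ≫ oO := by
      rw [← GrpAct.comp_orbitMap, Category.assoc, hho]
    have e2 : snd G Z ≫ j ≫ f = toUnit (G ⊗ Z) ≫ oO := by
      rw [hjf, ← Category.assoc, toUnit_unique (snd G Z ≫ toUnit Z) (toUnit _)]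
    rw [show ψ i = lift (fst G Z * (toUnit (G ⊗ Z) ≫ h i)) (snd G Z ≫ j) ≫ aY.act from rfl, Category.assoc,
      ← hfe, lift_whiskerLeft_assoc, Category.assoc, e2, GrpAct.mul_smul, e1, ← GrpAct.comp_orbitMap, hφe]
  haveI : JacobsonSpace G.left := LocallyOfFiniteType.jacobsonSpace G.hom
  haveI huc : UniversallyClosed f.left := by
    refine MorphismProperty.of_pullback_fst_of_descendsAlong (P := @UniversallyClosed)
      (Q := (@Surjective ⊓ @Flat ⊓ @QuasiCompact : MorphismProperty Scheme.{u})) (f := φ.left) (g := f.left)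
      ⟨⟨hφs, hφf⟩, hφq⟩ ?_
    let m : ci → ((G ⊗ Z).left ⟶ pullback φ.left f.left) := fun i =>
      pullback.lift (fst G Z).left (ψ i).left (congrArg CommaMorphism.left (hψf i)).symm
    have hm1 : ∀ i, UniversallyClosed (m i ≫ pullback.fst φ.left f.left) := fun i => by
      rw [pullback.lift_fst]
      exact MorphismProperty.pullback_fst (P := @UniversallyClosed) G.hom Z.hom inferInstance
    refine universallyClosed_of_covering _ (fun _ => (G ⊗ Z).left) m hm1 fun p => ?_
    let W : Over (Spec (CommRingCat.of k)) := Over.mk (pullback.fst φ.left f.left ≫ G.hom)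
    let w1 : W ⟶ G := Over.homMk (pullback.fst φ.left f.left) rfl
    let w2 : W ⟶ Y := Over.homMk (pullback.snd φ.left f.left) (by
      show pullback.snd φ.left f.left ≫ Y.hom = pullback.fst φ.left f.left ≫ G.hom
      rw [← Over.w f, ← Over.w φ, pullback.condition_assoc])
    have hw : w1 ≫ φ = w2 ≫ f := Over.OverMorphism.ext pullback.condition
    haveI : LocallyOfFiniteType f.left := by
      haveI : LocallyOfFiniteType (f.left ≫ O.hom) := by rw [Over.w]; infer_instance
      exact locallyOfFiniteType_of_comp f.left O.hom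
    haveI : LocallyOfFiniteType W.hom := inferInstanceAs (LocallyOfFiniteType (pullback.fst φ.left f.left ≫ G.hom))
    haveI : JacobsonSpace W.left := LocallyOfFiniteType.jacobsonSpace W.hom
    haveI : IsSeparated f.left := by
      haveI : IsSeparated (f.left ≫ O.hom) := by rw [Over.w]; infer_instance
      exact IsSeparated.of_comp f.left O.hom
    have hcl : IsClosed (⋃ i, Set.range (m i)) := isClosed_iUnion_of_finite fun i => by
      haveI := hm1 i
      haveI : UniversallyClosed (m i) :=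
        UniversallyClosed.of_comp_of_isSeparated (m i) (pullback.fst φ.left f.left)
      exact (m i).isClosedMap.isClosed_range
    suffices closedPoints W.left ⊆ ⋃ i, Set.range (m i) by
      have hp := closure_minimal this hcl (closure_closedPoints (X := W.left) ▸ Set.mem_univ (p : W.left))
      exact Set.mem_iUnion.1 hp
    intro v hv
    obtain ⟨q, rfl⟩ := exists_rpt hv
    obtain ⟨g', hg'⟩ := exists_rp_preimage (aY.orbitMap oY) (q ≫ w2)
    have e0 : (q ≫ w1) ≫ φ = g' ≫ φ := by
      rw [Category.assoc, hw, ← Category.assoc, ← hg', Category.assoc, hfo]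
    have hfix : ((q ≫ w1)⁻¹ * g') ≫ a.orbitMap x = x := by
      have e1 := congrArg (· ≫ io) e0
      simp only [Category.assoc, hφ] at e1
      rw [← Category.assoc, BorelFixed.rp_orbitMap, BorelFixed.rp_orbitMap] at e1
      rw [BorelFixed.rp_orbitMap, GrpAct.mul_smul, ← e1, ← GrpAct.mul_smul, inv_mul_cancel, GrpAct.one_smul']
    obtain ⟨i, p', hp'⟩ := hcos _ hfix
    refine Set.mem_iUnion.2 ⟨i, ?_⟩
    have hz : (p' ≫ aZ.orbitMap oZ) ≫ j = lift (p' ≫ iP) oY ≫ aY.act := by
      rw [Category.assoc, hjo, ← Category.assoc, BorelFixed.rp_orbitMap]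
    have eψ : lift (q ≫ w1) (p' ≫ aZ.orbitMap oZ) ≫ ψ i = q ≫ w2 := by
      show lift _ _ ≫ lift _ _ ≫ aY.act = _
      rw [GrpAct.comp_smul, MonObj.comp_mul, lift_fst, rp_const, lift_snd_assoc, hz, ← GrpAct.mul_smul,
        _root_.mul_assoc, ← hp', mul_inv_cancel_left, ← BorelFixed.rp_orbitMap, hg']
    refine ⟨rpt (lift (q ≫ w1) (p' ≫ aZ.orbitMap oZ)), ?_⟩
    have e : (lift (q ≫ w1) (p' ≫ aZ.orbitMap oZ)).left ≫ m i = q.left := by
      apply pullback.hom_ext
      · rw [Category.assoc, pullback.lift_fst, ← Over.comp_left, lift_fst]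
        rfl
      · rw [Category.assoc, pullback.lift_snd, ← Over.comp_left, eψ]
        rfl
    show m i ((lift (q ≫ w1) (p' ≫ aZ.orbitMap oZ)).left _) = q.left _
    rw [← Scheme.Hom.comp_apply, e]
    rfl
  haveI : UniversallyClosed Y.hom := by rw [← Over.w f]; infer_instance
  exact { }

/-- The trivial quotient of a group by itself. -/
theorem isQuotient_self (G : Over (Spec (CommRingCat.of k))) [GrpObj G] [Flat G.hom] :
    ∃ (a : AlgGrp.Action G (𝟙_ (Over (Spec (CommRingCat.of k))))),
      AGF.IsQuotient (𝟙 G) (𝟙_ (Over (Spec (CommRingCat.of k)))) a (𝟙 _) := by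
  let a : AlgGrp.Action G (𝟙_ (Over (Spec (CommRingCat.of k)))) :=
    { act := toUnit _
      one_act := toUnit_unique _ _
      mul_act := toUnit_unique _ _ }
  have hl : (toUnit G).left = G.hom := by rw [Over.toUnit_left]
  refine ⟨a, inferInstanceAs (LocallyOfFiniteType (𝟙 (Spec (CommRingCat.of k)))), ?_, ?_, ?_⟩
  · rw [toUnit_unique (a.orbitMap _) (toUnit G), hl]; infer_instance
  · rw [toUnit_unique (a.orbitMap _) (toUnit G), hl]
    haveI : Subsingleton (𝟙_ (Over (Spec (CommRingCat.of k)))).left := inferInstanceAs (Subsingleton (PrimeSpectrum k))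
    exact ⟨fun v => ⟨rpt (1 : RP G), Subsingleton.elim (α := (𝟙_ (Over (Spec (CommRingCat.of k)))).left) _ _⟩⟩
  · rw [MonoidalCategory.whiskerLeft_id, Category.id_comp]
    refine IsPullback.of_isLimit' ⟨toUnit_unique _ _⟩ (PullbackCone.IsLimit.mk _
      (fun s => lift s.fst (s.fst⁻¹ * s.snd)) (fun s => lift_fst _ _)
      (fun s => (Hom.mul_def _ _).symm.trans (mul_inv_cancel_left _ _)) fun s m h1 h2 => ?_)
    apply CartesianMonoidalCategory.hom_ext
    · rw [lift_fst]; exact h1
    · rw [lift_snd, ← h1, ← h2, show m ≫ μ[G] = (m ≫ fst G G) * (m ≫ snd G G) by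
        rw [Hom.mul_def, ← comp_lift, lift_fst_snd, Category.comp_id], inv_mul_cancel_left]

/-- There is a smooth connected solvable closed subgroup with proper quotient. -/
theorem exists_proper_aux (d : ℕ) : ∀ (G : Over (Spec (CommRingCat.of k))) [GrpObj G] [IsAffine G.left]
    [Smooth G.hom] [ConnectedSpace G.left], topologicalKrullDim G.left ≤ d →
    ∃ (B : Over (Spec (CommRingCat.of k))) (_ : GrpObj B) (b : B ⟶ G), IsMonHom b ∧ IsClosedImmersion b.left ∧
      Smooth B.hom ∧ ConnectedSpace B.left ∧ Red.IsSolvableGrp B ∧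
      ∃ (X : Over (Spec (CommRingCat.of k))) (a : AlgGrp.Action G X) (o : RP X),
        AGF.IsQuotient b X a o ∧ IsProper X.hom := by
  induction d using Nat.strong_induction_on with
  | _ d ih => ?_
  intro G _ _ _ _ hdim
  haveI : IsReduced G.left := SmoothRed.isReduced_of_smooth_scheme G.hom
  by_cases hs : Group.IsSolvable (RP G)
  · obtain ⟨a, ha⟩ := isQuotient_self G
    exact ⟨G, ‹_›, 𝟙 G, inferInstance, inferInstanceAs (IsClosedImmersion (𝟙 G.left)), inferInstance, inferInstance,
      isSolvableGrp_of_rp G, _, a, _, ha, inferInstanceAs (IsProper (𝟙 (Spec (CommRingCat.of k))))⟩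
  obtain ⟨X, hX, hXne, a, hnf⟩ := ProjRep.exists_action_no_fixed G hs
  haveI := hX; haveI := hXne
  obtain ⟨x, hcl⟩ := Groth.Agent.S14586.result k G X a
  obtain ⟨H, hH, iH, hiH, hiHc, hmem⟩ := exists_stabilizer a x
  haveI := hiH; haveI := hiHc
  haveI : LocallyOfFiniteType H.hom := by rw [← Over.w iH]; infer_instance
  haveI : QuasiCompact H.hom := by rw [← Over.w iH]; infer_instance
  obtain ⟨H₀, hH₀, j, hj, hjc, hjf, hjr, hgi, -, -⟩ := GrpComp.exists_identity_subgroup H
  haveI := hj; haveI := hjc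
  haveI : LocallyOfFiniteType H₀.hom := by rw [← Over.w j]; infer_instance
  haveI : Subsingleton (Spec (CommRingCat.of k)) := inferInstanceAs (Subsingleton (PrimeSpectrum k))
  haveI : IrreducibleSpace H₀.left := GeometricallyIrreducible.irreducibleSpace H₀.hom
    (fun _ _ => @isOpen_discrete _ _ (by infer_instance) _)
  obtain ⟨P, hP, r, hr, hrc, hrs, hPs⟩ := exists_red_group H₀
  haveI := hr; haveI := hrc; haveI := hrs; haveI := hPs
  haveI : ConnectedSpace P.left := by
    let e : P.left ≃ₜ H₀.left :=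
      r.left.isClosedEmbedding.isEmbedding.toHomeomorph.trans
        ((Homeomorph.setCongr (Set.range_eq_univ.2 r.left.surjective)).trans (Homeomorph.Set.univ _))
    exact e.symm.surjective.connectedSpace e.symm.continuous
  let iP : P ⟶ G := r ≫ j ≫ iH
  haveI : IsClosedImmersion iP.left := inferInstanceAs (IsClosedImmersion (r.left ≫ j.left ≫ iH.left))
  haveI : IsAffine P.left := isAffine_of_isAffineHom iP.left
  haveI : QuasiCompact P.hom := by rw [← Over.w iP]; infer_instance
  have hPx : iP ≫ a.orbitMap x = toUnit P ≫ x := (hmem P iP).1 ⟨r ≫ j, by rw [Category.assoc]⟩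
  obtain ⟨m, hm⟩ := exists_natDim' P
  have hmd : m < d := by
    by_contra hle
    haveI : IsIso iP := isIso_of_dim_eq iP (le_antisymm (dim_le_of_closedImmersion iP) (hdim.trans (by
      rw [hm]; exact_mod_cast not_lt.1 hle)))
    obtain ⟨g, hg⟩ := hnf x
    refine hg ?_
    rw [← BorelFixed.rp_orbitMap, show g = (g ≫ inv iP) ≫ iP by rw [Category.assoc, IsIso.inv_hom_id, Category.comp_id],
      Category.assoc, hPx, rp_const]
  obtain ⟨B, hB, bP, hbm, hbc, hbs, hbconn, hbsol, Z, aZ, oZ, hZ, hZp⟩ := ih m hmd P hm.le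
  haveI := hbm; haveI := hbc; haveI := hbs; haveI := hZp
  -- finitely many cosets
  haveI : IsLocallyNoetherian H.left := LocallyOfFiniteType.isLocallyNoetherian H.hom
  haveI : CompactSpace H.left := QuasiCompact.compactSpace_of_compactSpace H.hom
  haveI : IsNoetherian H.left := { }
  haveI : JacobsonSpace H.left := LocallyOfFiniteType.jacobsonSpace H.hom
  haveI : Finite ↥(irreducibleComponents ↥H.left) :=
    TopologicalSpace.NoetherianSpace.finite_irreducibleComponents.to_subtype
  have hpt : ∀ C : ↥(irreducibleComponents ↥H.left), ∃ t : RP H, rpt t ∈ C.1 := fun C => by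
    obtain ⟨v, hv, hvc⟩ := nonempty_inter_closedPoints C.2.1.nonempty
      (isClosed_of_mem_irreducibleComponents C.1 C.2).isLocallyClosed
    obtain ⟨t, rfl⟩ := exists_rpt hvc
    exact ⟨t, hv⟩
  choose t ht using hpt
  obtain ⟨Y, aY, oY, hY, hYp⟩ := exists_proper_quotient_step iP bP a x hcl hPx (fun C => t C ≫ iH)
    (fun C => by rw [(hmem _ _).1 ⟨t C, rfl⟩, toUnit_one, Category.id_comp])
    (fun g hg => by
      obtain ⟨s, hs'⟩ := (hmem _ g).2 (by rw [hg, toUnit_one, Category.id_comp])
      let C : ↥(irreducibleComponents ↥H.left) :=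
        ⟨irreducibleComponent (rpt s), irreducibleComponent_mem_irreducibleComponents _⟩
      let L : H ⟶ H := (toUnit H ≫ (t C)⁻¹) * 𝟙 H
      have hL : ∀ y : RP H, y ≫ L = (t C)⁻¹ * y := fun y => by
        rw [MonObj.comp_mul, Category.comp_id, rp_const]
      have hsub : rpt ((t C)⁻¹ * s) ∈ connectedComponent (GrpComp.ept H) := by
        have h1 : GrpComp.ept H ∈ L.left '' C.1 := ⟨rpt (t C), ht C, by
          rw [map_rpt, hL, inv_mul_cancel, Hom.one_def, toUnit_one, Category.id_comp]
          rfl⟩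
        exact (C.2.1.isPreirreducible.isPreconnected.image _ L.left.continuous.continuousOn).subset_connectedComponent h1
          ⟨rpt s, mem_irreducibleComponent, by rw [map_rpt, hL]⟩
      rw [← hjr] at hsub
      obtain ⟨s₀, hs₀⟩ := BorelFixed.exists_rp_lift j _ hsub
      obtain ⟨p, hp⟩ := exists_rp_preimage r s₀
      refine ⟨C, p, ?_⟩
      rw [show p ≫ iP = ((p ≫ r) ≫ j) ≫ iH by simp [iP], hp, hs₀, ← MonObj.mul_comp, mul_inv_cancel_left, hs'])
    aZ oZ hZ
  exact ⟨B, hB, bP ≫ iP, inferInstance, inferInstanceAs (IsClosedImmersion (bP.left ≫ iP.left)), hbs, hbconn, hbsol,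
    Y, aY, oY, hY, hYp⟩

end Groth.Agent.Chev.Borel
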