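import Groth.Agent.Chev.GeomPtIso
import Groth.Agent.S3901

/-!
# Borel subgroups of algebraic groups
-/

set_option autoImplicit false
set_option backward.isDefEq.respectTransparency false

universe u

open CategoryTheory CategoryTheory.Limits MonoidalCategory CartesianMonoidalCategory MonObj GrpObj AlgebraicGeometry
open Groth.Agent.SubGen (rpt exists_rpt map_rpt)

noncomputable section

namespace Groth.Agent.Chev.Borel

open BorelFixed

variable {k : Type u} [Field k] [IsAlgClosed k]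

/-- Closed subgroups with the same rational points and reduced sources are isomorphic over the group. -/
theorem exists_iso_of_rp {G A B : Over (Spec (CommRingCat.of k))} [Smooth A.hom] [Smooth B.hom] (a : A ⟶ G) (b : B ⟶ G)
    [IsClosedImmersion a.left] [IsClosedImmersion b.left]
    (h₁ : ∀ x : RP A, ∃ y : RP B, y ≫ b = x ≫ a) (h₂ : ∀ y : RP B, ∃ x : RP A, x ≫ a = y ≫ b) :
    ∃ e : A ≅ B, e.hom ≫ b = a := by
  haveI : Mono a := GrpField.SchImg.mono_of_isClosedImmersion a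
  haveI : Mono b := GrpField.SchImg.mono_of_isClosedImmersion b
  haveI : IsReduced A.left := SmoothRed.isReduced_of_smooth_scheme A.hom
  haveI : IsReduced B.left := SmoothRed.isReduced_of_smooth_scheme B.hom
  obtain ⟨f, hf⟩ := exists_lift_rp a b fun x => by
    obtain ⟨y, hy⟩ := h₁ x
    exact ⟨rpt y, by rw [map_rpt, hy]⟩
  obtain ⟨g, hg⟩ := exists_lift_rp b a fun y => by
    obtain ⟨x, hx⟩ := h₂ y
    exact ⟨rpt x, by rw [map_rpt, hx]⟩
  exact ⟨⟨f, g, (cancel_mono a).1 (by rw [Category.assoc, hg, hf, Category.id_comp]),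
    (cancel_mono b).1 (by rw [Category.assoc, hf, hg, Category.id_comp])⟩, hf⟩

section

variable {G : Over (Spec (CommRingCat.of k))} [GrpObj G] [IsAffine G.left] [Smooth G.hom] [ConnectedSpace G.left]

/-- Central rational points lie in every Borel subgroup. -/
theorem central_mem_borel {B : Over (Spec (CommRingCat.of k))} [GrpObj B] (iB : B ⟶ G) (hB : Red.IsBorelOver k iB)
    (z : RP G) (hz : ∀ g : RP G, g * z = z * g) : ∃ b : RP B, b ≫ iB = z := by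
  obtain ⟨x, b, hb⟩ := exists_conj_mem_borel iB hB z
  refine ⟨b, ?_⟩
  have h : b ≫ iB = x⁻¹ * z * x := by
    rw [← hb]; simp only [_root_.mul_assoc, inv_mul_cancel, inv_mul_cancel_left, _root_.mul_one]
  rw [h, _root_.mul_assoc, ← hz x, inv_mul_cancel_left]

/-- A maximal torus of a Borel subgroup is a maximal torus of the group. -/
theorem isMaxTorus_comp_borel {B T : Over (Spec (CommRingCat.of k))} [GrpObj B] [GrpObj T] (iB : B ⟶ G)
    (hB : Red.IsBorelOver k iB) (t : T ⟶ B) (ht : AGF.IsMaxTorus t) : AGF.IsMaxTorus (t ≫ iB) := by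
  obtain ⟨htm, htmono, hTt, hmax⟩ := ht
  obtain ⟨hBm, hBc, hBs, hBconn, hBsol, -⟩ := id hB
  haveI := htm; haveI := htmono; haveI := hBm; haveI := hBc; haveI := hBs; haveI := hBconn
  haveI : IsAffine B.left := isAffine_of_isAffineHom iB.left
  haveI := isSolvable_rp hBsol
  haveI : Mono iB := GrpField.SchImg.mono_of_isClosedImmersion iB
  -- a maximal torus of the group inside `B`
  obtain ⟨T₁, B₁, hT₁g, hB₁g, t₁, b₁, -, -, hb₁, hT₁, -⟩ := exists_maxTorus G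
  obtain ⟨g₁, e₁, he₁⟩ := borel_conj b₁ iB hb₁ hB
  obtain ⟨iT, hiT, ht1⟩ : ∃ iT : T₁ ⟶ G, AGF.IsMaxTorus iT ∧ (t₁ ≫ e₁.hom) ≫ iB = iT :=
    ⟨_, isMaxTorus_conjBy g₁ _ hT₁, by rw [Category.assoc, he₁, comp_conjBy']⟩
  haveI := hiT.1; haveI := hiT.2.1
  haveI : IsMonHom (t₁ ≫ e₁.hom) := MTSplit.isMonHom_of_comp_mono _ iB iT ht1
  haveI : Mono ((t₁ ≫ e₁.hom) ≫ iB) := by rw [ht1]; infer_instance
  haveI : Mono (t₁ ≫ e₁.hom) := mono_of_mono (t₁ ≫ e₁.hom) iB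
  obtain ⟨T₂, hT₂, i₂, π₂, hi₂, hπ₂, hi₂c, hret, hT₂t, huniv, -⟩ := exists_section_torus B
  haveI := hi₂
  haveI : Mono i₂ := GrpField.SchImg.mono_of_isClosedImmersion i₂
  -- both are conjugate in `B` to the torus `T₂`
  obtain ⟨g, f, hfm, hf⟩ := huniv T t hTt
  haveI := hfm
  haveI := isMonHom_conjBy g⁻¹ i₂
  haveI := mono_conjBy g⁻¹ i₂
  haveI : IsIso f := hmax T₂ (AGF.conjBy g⁻¹ i₂) f hT₂t (by
    rw [comp_conjBy', hf, conjBy_conjBy, inv_mul_cancel, conjBy_one])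
  obtain ⟨g', f', hf'm, hf'⟩ := huniv T₁ (t₁ ≫ e₁.hom) hiT.2.2.1
  haveI := hf'm
  haveI : IsIso f' := by
    haveI := isMonHom_conjBy g'⁻¹ i₂
    haveI := mono_conjBy g'⁻¹ i₂
    refine hiT.2.2.2 T₂ (AGF.conjBy g'⁻¹ i₂ ≫ iB) f' hT₂t ?_
    rw [← Category.assoc, comp_conjBy', hf', conjBy_conjBy, inv_mul_cancel, conjBy_one, ht1]
  let φ₀ : T ≅ T₁ := asIso f ≪≫ (asIso f').symm
  have k1 : f' ≫ AGF.conjBy g⁻¹ i₂ = AGF.conjBy (g⁻¹ * g') (t₁ ≫ e₁.hom) := by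
    rw [comp_conjBy', hf', conjBy_conjBy]
  have k2 : f ≫ AGF.conjBy g⁻¹ i₂ = t := by
    rw [comp_conjBy', hf, conjBy_conjBy, inv_mul_cancel, conjBy_one]
  have key : φ₀.hom ≫ AGF.conjBy ((g⁻¹ * g') ≫ iB) iT = t ≫ iB := by
    rw [← ht1, ← conjBy_comp, ← k1, Category.assoc f']
    show (f ≫ (asIso f').inv) ≫ (asIso f').hom ≫ AGF.conjBy g⁻¹ i₂ ≫ iB = t ≫ iB
    rw [Category.assoc, Iso.inv_hom_id_assoc, ← Category.assoc, k2]
  obtain ⟨hm', hmono', -, hmax'⟩ := isMaxTorus_conjBy ((g⁻¹ * g') ≫ iB) iT hiT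
  haveI := hm'
  refine ⟨inferInstance, inferInstance, hTt, fun T' _ j _ _ φ hT' hφ => ?_⟩
  haveI : IsIso (φ₀.inv ≫ φ) := hmax' T' j (φ₀.inv ≫ φ) hT' (by
    rw [Category.assoc, hφ, ← key, Iso.inv_hom_id_assoc])
  exact @IsIso.of_isIso_comp_left _ _ _ _ _ φ₀.inv φ (Iso.isIso_inv φ₀) this

end

variable {G L D Q : Over (Spec (CommRingCat.of k))} [GrpObj G] [GrpObj L] [GrpObj D] [GrpObj Q] [Smooth G.hom]
  [QuasiCompact G.hom] {l : L ⟶ G} {d : D ⟶ G} {q : G ⟶ Q}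

/-- Every Borel subgroup comes from a Borel subgroup of the affine part. -/
theorem exists_borel_form (R : AffReduction l d q) {B : Over (Spec (CommRingCat.of k))} [GrpObj B] (b : B ⟶ G)
    (hB : Red.IsBorelOver k b) :
    ∃ (B₀ : Over (Spec (CommRingCat.of k))) (_ : GrpObj B₀) (i₀ : B₀ ⟶ L), Red.IsBorelOver k i₀ ∧
      ∀ g : RP G, (∃ x : RP B, x ≫ b = g) ↔ ∃ (a : RP B₀) (z : RP D), (a ≫ i₀ ≫ l) * (z ≫ d) = g := by
  haveI := R.l_hom; haveI := R.l_affine; haveI := R.l_smooth; haveI := R.l_connected; haveI := R.q_hom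
  haveI := R.q_affine; haveI := R.q_smooth; haveI := R.q_connected; haveI := R.lq_surj
  obtain ⟨hbm, hbc, hbs, hbconn, hbsol, hbmax⟩ := id hB
  haveI := hbm; haveI := hbc; haveI := hbs; haveI := hbconn
  haveI := isSolvable_rp hbsol
  haveI : QuasiCompact B.hom := by rw [← Over.w b]; infer_instance
  haveI : Mono b := GrpField.SchImg.mono_of_isClosedImmersion b
  obtain ⟨R₂, hR₂g, i₂, p₂, hi₂, hp₂, hi₂c, hR₂s, hp₂s, hp₂e⟩ := exists_smooth_image (b ≫ q)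
  haveI := hi₂; haveI := hp₂; haveI := hi₂c; haveI := hR₂s; haveI := hp₂s
  haveI : ConnectedSpace R₂.left := p₂.left.surjective.connectedSpace p₂.left.continuous
  haveI : IsAffine R₂.left := isAffine_of_isAffineHom i₂.left
  haveI : Group.IsSolvable (RP R₂) := Group.isSolvable_of_surjective (f := rpHom p₂) fun x => exists_rp_preimage p₂ x
  obtain ⟨R', hR'g, iR', f₂, hR', hf₂⟩ := exists_borel_containing i₂
  obtain ⟨B₀, hB₀g, i₀, p₀, hB₀, hp₀s, hp₀e⟩ := exists_borel_over (l ≫ q) iR' hR'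
  haveI := hp₀s; haveI := hR'.2.2.1; haveI := hB₀.2.2.1
  obtain ⟨P, hPg, iP, hP, hrp⟩ := exists_borel_of_affReduction R i₀ hB₀
  have hsub : ∀ x : RP B, ∃ y : RP P, y ≫ iP = x ≫ b := fun x => by
    obtain ⟨a, ha⟩ := exists_rp_preimage p₀ (x ≫ p₂ ≫ f₂)
    have e : (x ≫ b) ≫ q = (a ≫ i₀ ≫ l) ≫ q := by
      rw [Category.assoc, ← hp₂e, ← hf₂, Category.assoc a, Category.assoc i₀, ← hp₀e, ← Category.assoc a, ha]
      simp only [Category.assoc]
    obtain ⟨z, hz⟩ := R.ker ((a ≫ i₀ ≫ l)⁻¹ * (x ≫ b)) (by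
      rw [MonObj.mul_comp, GrpObj.inv_comp, e, inv_mul_cancel])
    exact (hrp (x ≫ b)).2 ⟨a, z, by rw [hz, mul_inv_cancel_left]⟩
  haveI := hP.1; haveI := hP.2.1; haveI := hP.2.2.1
  haveI : IsReduced B.left := SmoothRed.isReduced_of_smooth_scheme B.hom
  obtain ⟨f, hf⟩ := exists_lift_rp b iP fun x => by
    obtain ⟨y, hy⟩ := hsub x
    exact ⟨rpt y, by rw [map_rpt, hy]⟩
  haveI : IsIso f := hbmax P iP f hP.2.1 hP.2.2.1 hP.2.2.2.1 hP.2.2.2.2.1 hf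
  refine ⟨B₀, hB₀g, i₀, hB₀, fun g => (Iff.trans ⟨?_, ?_⟩ (hrp g))⟩
  · rintro ⟨x, rfl⟩
    exact hsub x
  · rintro ⟨y, rfl⟩
    exact ⟨y ≫ inv f, by rw [← hf, Category.assoc, IsIso.inv_hom_id_assoc]⟩

/-- Borel subgroups of connected algebraic groups are conjugate. -/
theorem borel_conj_nonaff [ConnectedSpace G.left] {B₁ B₂ : Over (Spec (CommRingCat.of k))} [GrpObj B₁] [GrpObj B₂]
    (b₁ : B₁ ⟶ G) (b₂ : B₂ ⟶ G) (h₁ : Red.IsBorelOver k b₁) (h₂ : Red.IsBorelOver k b₂) :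
    ∃ (g : RP G) (f : B₁ ≅ B₂), f.hom ≫ b₂ = AGF.conjBy g b₁ := by
  obtain ⟨L, D, Q, hL, hD, hQ, l, d, q, R⟩ := exists_affReduction G
  haveI := R.l_hom; haveI := R.l_affine; haveI := R.l_smooth; haveI := R.l_connected
  obtain ⟨C₁, _, i₁, hi₁, hr₁⟩ := exists_borel_form R b₁ h₁
  obtain ⟨C₂, _, i₂, hi₂, hr₂⟩ := exists_borel_form R b₂ h₂
  obtain ⟨g, e, he⟩ := borel_conj i₁ i₂ hi₁ hi₂
  haveI := h₁.1; haveI := h₁.2.1; haveI := h₂.2.1; haveI := h₁.2.2.1; haveI := h₂.2.2.1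
  obtain ⟨-, hc, -⟩ := isBorelOver_conjBy (g ≫ l) b₁ h₁
  haveI := hc
  have hval : ∀ x : RP B₁, x ≫ AGF.conjBy (g ≫ l) b₁ = (g ≫ l) * (x ≫ b₁) * (g ≫ l)⁻¹ := fun x => by
    rw [comp_conjBy, toUnit_one, Category.id_comp]
  have hmove : ∀ (a : RP C₁) (z : RP D), ((a ≫ e.hom) ≫ i₂ ≫ l) * (z ≫ d) =
      (g ≫ l) * ((a ≫ i₁ ≫ l) * (z ≫ d)) * (g ≫ l)⁻¹ := fun a z => by
    rw [Category.assoc a e.hom, reassoc_of% he, conjBy_comp, comp_conjBy, toUnit_one, Category.id_comp,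
      _root_.mul_assoc _ (g ≫ l)⁻¹, ← R.central _ z (g ≫ l)⁻¹]
    simp only [_root_.mul_assoc]
  obtain ⟨f, hf⟩ := exists_iso_of_rp (AGF.conjBy (g ≫ l) b₁) b₂
    (fun x => by
      obtain ⟨a, z, haz⟩ := (hr₁ (x ≫ b₁)).1 ⟨x, rfl⟩
      obtain ⟨y, hy⟩ := (hr₂ _).2 ⟨a ≫ e.hom, z, hmove a z⟩
      exact ⟨y, by rw [hy, hval, haz]⟩)
    (fun y => by
      obtain ⟨a, z, haz⟩ := (hr₂ (y ≫ b₂)).1 ⟨y, rfl⟩
      obtain ⟨x, hx⟩ := (hr₁ ((a ≫ e.inv ≫ i₁ ≫ l) * (z ≫ d))).2 ⟨a ≫ e.inv, z, by simp only [Category.assoc]⟩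
      refine ⟨x, ?_⟩
      rw [hval, hx, ← Category.assoc a e.inv, ← hmove, Category.assoc a e.inv e.hom, e.inv_hom_id, Category.comp_id, haz])
  exact ⟨g ≫ l, f, hf⟩

/-- A torus of a Borel subgroup lies in the Borel subgroup of the affine part. -/
theorem exists_factor_borelPart (R : AffReduction l d q) {B T B₀ : Over (Spec (CommRingCat.of k))} [GrpObj T]
    [GrpObj B₀] (b : B ⟶ G) (i₀ : B₀ ⟶ L) (hB₀ : Red.IsBorelOver k i₀)
    (hrp : ∀ g : RP G, (∃ x : RP B, x ≫ b = g) ↔ ∃ (a : RP B₀) (z : RP D), (a ≫ i₀ ≫ l) * (z ≫ d) = g)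
    {t : T ⟶ B} (s : T ⟶ L) (hs : s ≫ l = t ≫ b) (hTt : Red.IsTorus T) : ∃ t₀ : T ⟶ B₀, t₀ ≫ i₀ = s := by
  haveI := R.l_hom; haveI := R.l_closed; haveI := R.l_affine; haveI := R.l_smooth; haveI := R.l_connected
  haveI := hB₀.1; haveI := hB₀.2.1
  haveI : Mono l := GrpField.SchImg.mono_of_isClosedImmersion l
  haveI := smooth_of_isTorus hTt
  haveI : IsReduced T.left := SmoothRed.isReduced_of_smooth_scheme T.hom
  haveI := locallyOfFiniteType_of_isTorus hTt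
  exact exists_lift_rp s i₀ fun p => by
    obtain ⟨a, z, haz⟩ := (hrp (p ≫ t ≫ b)).1 ⟨p ≫ t, by rw [Category.assoc]⟩
    have hz : ((a ≫ i₀)⁻¹ * (p ≫ s)) ≫ l = z ≫ d := by
      rw [MonObj.mul_comp, GrpObj.inv_comp, Category.assoc, Category.assoc, hs, ← haz, inv_mul_cancel_left]
    obtain ⟨w, hw⟩ := central_mem_borel i₀ hB₀ ((a ≫ i₀)⁻¹ * (p ≫ s)) fun x => (cancel_mono l).1 (by
      revert hz
      generalize (a ≫ i₀)⁻¹ * (p ≫ s) = v
      intro hz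
      rw [MonObj.mul_comp, MonObj.mul_comp, hz, R.central])
    refine ⟨rpt (a * w), ?_⟩
    rw [map_rpt, MonObj.mul_comp, hw, mul_inv_cancel_left]

/-- Maximal tori of Borel subgroups are maximal tori. -/
theorem isMaxTorus_comp_borel_nonaff (R : AffReduction l d q) {B T : Over (Spec (CommRingCat.of k))} [GrpObj B]
    [GrpObj T] (b : B ⟶ G) (hB : Red.IsBorelOver k b) (t : T ⟶ B) (ht : AGF.IsMaxTorus t) :
    AGF.IsMaxTorus (t ≫ b) := by
  haveI := R.l_hom; haveI := R.l_closed; haveI := R.l_affine; haveI := R.l_smooth; haveI := R.l_connected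
  haveI := R.d_hom
  obtain ⟨htm, htmono, hTt, hmax⟩ := id ht
  haveI := htm; haveI := htmono; haveI := hB.1; haveI := hB.2.1
  haveI : Mono b := GrpField.SchImg.mono_of_isClosedImmersion b
  haveI : Mono l := GrpField.SchImg.mono_of_isClosedImmersion l
  obtain ⟨B₀, _, i₀, hB₀, hrp⟩ := exists_borel_form R b hB
  haveI := hB₀.1; haveI := hB₀.2.1; haveI := hB₀.2.2.1
  haveI : Mono i₀ := GrpField.SchImg.mono_of_isClosedImmersion i₀
  haveI : IsReduced B₀.left := SmoothRed.isReduced_of_smooth_scheme B₀.hom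
  obtain ⟨s, hs, hsm, hsmono⟩ := exists_factor_torus R (t ≫ b) hTt
  haveI := hsm; haveI := hsmono
  obtain ⟨t₀, ht₀⟩ := exists_factor_borelPart R b i₀ hB₀ hrp (t := t) s hs hTt
  haveI : IsMonHom t₀ := MTSplit.isMonHom_of_comp_mono t₀ i₀ s ht₀
  haveI : Mono (t₀ ≫ i₀) := by rw [ht₀]; infer_instance
  haveI : Mono t₀ := mono_of_mono t₀ i₀
  -- the Borel subgroup of the affine part inside `B`
  obtain ⟨j, hj⟩ := exists_lift_rp (i₀ ≫ l) b fun a => by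
    obtain ⟨x, hx⟩ := (hrp (a ≫ i₀ ≫ l)).2 ⟨a, 1, by rw [MonObj.one_comp, _root_.mul_one]⟩
    exact ⟨rpt x, by rw [map_rpt, hx]⟩
  haveI : IsMonHom j := MTSplit.isMonHom_of_comp_mono j b (i₀ ≫ l) hj
  haveI : Mono (j ≫ b) := by rw [hj]; infer_instance
  haveI : Mono j := mono_of_mono j b
  have ht₀max : AGF.IsMaxTorus t₀ := ⟨inferInstance, inferInstance, hTt, fun T' _ j' _ _ f hT' hf =>
    hmax T' (j' ≫ j) f hT' ((cancel_mono b).1 (by
      simp only [Category.assoc]; rw [hj, reassoc_of% hf, reassoc_of% ht₀, hs]))⟩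
  obtain ⟨-, -, -, hLmax⟩ := isMaxTorus_comp_borel i₀ hB₀ t₀ ht₀max
  refine ⟨inferInstance, inferInstance, hTt, fun T' _ j' _ _ f hT' hf => ?_⟩
  obtain ⟨u, hu, hum, humono⟩ := exists_factor_torus R j' hT'
  haveI := hum; haveI := humono
  exact hLmax T' u f hT' ((cancel_mono l).1 (by rw [Category.assoc, hu, hf, Category.assoc, reassoc_of% ht₀, hs]))

/-- The centralizer of a maximal torus of a Borel subgroup lies in it, on rational points. -/
theorem centralizer_mem_borel_nonaff (R : AffReduction l d q) {B T : Over (Spec (CommRingCat.of k))} [GrpObj B]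
    [GrpObj T] (b : B ⟶ G) (hB : Red.IsBorelOver k b) (t : T ⟶ B) (ht : AGF.IsMaxTorus t) (g : RP G)
    (hg : ∀ (X : Over (Spec (CommRingCat.of k))) (x : X ⟶ 𝟙_ _) (h : X ⟶ T),
      (x ≫ g) * (h ≫ t ≫ b) = (h ≫ t ≫ b) * (x ≫ g)) :
    ∃ y : RP B, y ≫ b = g := by
  haveI := R.l_hom; haveI := R.l_closed; haveI := R.l_affine; haveI := R.l_smooth; haveI := R.l_connected
  haveI := ht.1; haveI := hB.1
  haveI : Mono l := GrpField.SchImg.mono_of_isClosedImmersion l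
  obtain ⟨B₀, _, i₀, hB₀, hrp⟩ := exists_borel_form R b hB
  obtain ⟨s, hs, hsmax⟩ := exists_factor_maxTorus R (t ≫ b) (isMaxTorus_comp_borel_nonaff R b hB t ht)
  obtain ⟨t₀, ht₀⟩ := exists_factor_borelPart R b i₀ hB₀ hrp (t := t) s hs ht.2.2.1
  obtain ⟨a, z, haz⟩ := R.decomp g
  haveI := hsmax.1
  obtain ⟨CL, _, cL, hCL, -, -⟩ := Groth.Agent.S5247.result T L (MTBridge.isMultTypeFT_of_isTorus T ht.2.2.1)
    ‹Smooth L.hom› inferInstance s
  obtain ⟨f, hf⟩ := centralizer_le_borel s hsmax cL hCL i₀ hB₀ t₀ ht₀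
  obtain ⟨a', ha'⟩ := (hCL.2.2 _ a).2 fun X' x h => by
    have h1 := hg X' x h
    rw [← haz, ← hs, MonObj.comp_mul, ← Category.assoc x z d, _root_.mul_assoc,
      R.central _ (x ≫ z) (h ≫ s ≫ l), ← _root_.mul_assoc, ← _root_.mul_assoc] at h1
    apply (cancel_mono l).1
    simpa only [MonObj.mul_comp, Category.assoc] using mul_right_cancel h1
  exact (hrp g).2 ⟨a' ≫ f, z, by rw [Category.assoc, reassoc_of% hf, ← Category.assoc, ha', haz]⟩

end Groth.Agent.Chev.Borel
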