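import Groth.Agent.Chev.CartanNorm

/-!
# Cartan subgroups of connected solvable groups are their own normalizers
-/

set_option autoImplicit false
set_option backward.isDefEq.respectTransparency false

universe u

open CategoryTheory CategoryTheory.Limits MonoidalCategory CartesianMonoidalCategory MonObj GrpObj AlgebraicGeometry
open Groth.Agent.SubGen (rpt exists_rpt map_rpt)

noncomputable section

namespace Groth.Agent.Chev.Borel

open BorelFixed

variable {k : Type u} [Field k] [IsAlgClosed k]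

/-- A surjective homomorphism of smooth groups is a covering. -/
theorem covering_of_surjective {H R : Over (Spec (CommRingCat.of k))} [GrpObj H] [GrpObj R] [Smooth H.hom] [Smooth R.hom]
    [QuasiCompact H.hom] (p : H ⟶ R) [IsMonHom p] [Surjective p.left] :
    Flat p.left ∧ LocallyOfFinitePresentation p.left := by
  haveI : IsSeparated R.hom := GrpField.isSeparated_hom R
  haveI : QuasiCompact (p.left ≫ R.hom) := by rw [Over.w p]; infer_instance
  haveI : QuasiCompact p.left := QuasiCompact.of_comp p.left R.hom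
  haveI : IsReduced R.left := SmoothRed.isReduced_of_smooth_scheme R.hom
  refine ⟨(Groth.Agent.S5355.result k H R p p.left.surjective.denseRange).2 inferInstance, ?_⟩
  haveI : LocallyOfFiniteType (p.left ≫ R.hom) := by rw [Over.w p]; infer_instance
  haveI : LocallyOfFiniteType p.left := locallyOfFiniteType_of_comp p.left R.hom
  haveI : IsLocallyNoetherian R.left := LocallyOfFiniteType.isLocallyNoetherian R.hom
  infer_instance

variable {G L D Q : Over (Spec (CommRingCat.of k))} [GrpObj G] [GrpObj L] [GrpObj D] [GrpObj Q]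
  {l : L ⟶ G} {d : D ⟶ G} {q : G ⟶ Q}

/-- A subgroup containing the central part is the preimage of its image, for points in any scheme. -/
theorem mem_of_map_mem (R : AffReduction l d q) {H R' : Over (Spec (CommRingCat.of k))} [GrpObj H] (i : H ⟶ G)
    [IsMonHom i] [Mono i] (dH : D ⟶ H) (hdH : dH ≫ i = d) (iR : R' ⟶ Q) (p : H ⟶ R') [Flat p.left] [Surjective p.left]
    [LocallyOfFinitePresentation p.left] (hp : p ≫ iR = i ≫ q) {X : Over (Spec (CommRingCat.of k))} (y : X ⟶ G)
    (r : X ⟶ R') (hr : r ≫ iR = y ≫ q) : ∃ h : X ⟶ H, h ≫ i = y := by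
  haveI := R.q_hom
  let P : Over (Spec (CommRingCat.of k)) := Over.mk (pullback.fst r.left p.left ≫ X.hom)
  let a : P ⟶ X := Over.homMk (pullback.fst r.left p.left)
  let b : P ⟶ H := Over.homMk (pullback.snd r.left p.left) (by
    show _ = pullback.fst r.left p.left ≫ X.hom
    rw [← Over.w r, pullback.condition_assoc, Over.w p])
  have hab : b ≫ p = a ≫ r := Over.OverMorphism.ext pullback.condition.symm
  haveI : Flat a.left := MorphismProperty.pullback_fst _ _ ‹Flat p.left›
  haveI : Surjective a.left := MorphismProperty.pullback_fst _ _ ‹Surjective p.left›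
  haveI : LocallyOfFinitePresentation a.left := MorphismProperty.pullback_fst _ _ ‹LocallyOfFinitePresentation p.left›
  obtain ⟨z, hz⟩ := R.kernel P ((b ≫ i)⁻¹ * (a ≫ y)) (by
    rw [MonObj.mul_comp, GrpObj.inv_comp, Category.assoc, ← hp, ← Category.assoc b, hab, Category.assoc,
      Category.assoc, hr, inv_mul_cancel])
  let h' : P ⟶ H := b * (z ≫ dH)
  have hh' : h' ≫ i = a ≫ y := by
    rw [MonObj.mul_comp, Category.assoc, hdH, hz, mul_inv_cancel_left]
  obtain ⟨h, hh⟩ := AVQuot.exists_desc a h' fun {V} u v huv => (cancel_mono i).1 (by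
    rw [Category.assoc, Category.assoc, hh', ← Category.assoc, huv, Category.assoc])
  haveI := AVQuot.epi_of_covering a
  exact ⟨h, (cancel_epi a).1 (by rw [← Category.assoc, hh, hh'])⟩

/-- The affine normalizer statement: in a connected solvable affine group a Cartan subgroup is self-normalizing. -/
theorem exists_factor_of_normalizes_cartan [IsAffine G.left] [Smooth G.hom] [ConnectedSpace G.left]
    [Group.IsSolvable (RP G)] {T C : Over (Spec (CommRingCat.of k))} [GrpObj T] [GrpObj C] (iT : T ⟶ G)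
    (hT : AGF.IsMaxTorus iT) (c : C ⟶ G) (hc : Red.IsCentralizerOf iT c)
    {X : Over (Spec (CommRingCat.of k))} (y : X ⟶ G)
    (hy : ∀ (X' : Over (Spec (CommRingCat.of k))) (x : X' ⟶ X) (h : X' ⟶ C),
      (∃ h' : X' ⟶ C, (x ≫ y) * (h ≫ c) * (x ≫ y)⁻¹ = h' ≫ c) ∧
      (∃ h' : X' ⟶ C, (x ≫ y)⁻¹ * (h ≫ c) * (x ≫ y) = h' ≫ c)) :
    ∃ z : X ⟶ C, z ≫ c = y := by
  obtain ⟨him, himono, hTt, hTmax⟩ := id hT
  haveI := him; haveI := himono; haveI := hc.1; haveI := hc.2.1
  obtain ⟨hs, haff, hcl, hconn, hsol, -, tc, htc, htcmax, hcent⟩ := centralizer_maxTorus iT hT c hc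
  haveI := hs; haveI := haff; haveI := hcl; haveI := hconn
  haveI : QuasiCompact C.hom := inferInstance
  haveI : GeometricallyConnected C.hom :=
    Groth.Agent.Rigid.geometricallyConnected_of_section C.hom (η[C] : 𝟙_ _ ⟶ C).left (Over.w (η[C] : 𝟙_ _ ⟶ C))
  haveI : Subsingleton (Spec (CommRingCat.of k)) := inferInstanceAs (Subsingleton (PrimeSpectrum k))
  have hfib : ∀ s : Spec (CommRingCat.of k),
      ConnectedSpace ↥(pullback C.hom ((Spec (CommRingCat.of k)).fromSpecResidueField s)) := fun s => by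
    haveI : Subsingleton (Spec ((Spec (CommRingCat.of k)).residueField s)) :=
      inferInstanceAs (Subsingleton (PrimeSpectrum _))
    exact GeometricallyConnected.connectedSpace_of_subsingleton
      (pullback.snd C.hom ((Spec (CommRingCat.of k)).fromSpecResidueField s))
  obtain ⟨N, hNg, j, hN, hjc, -⟩ := Groth.Agent.S5260.result G C hfib c
  haveI := hN.1; haveI := hN.2.1; haveI := hjc
  obtain ⟨s, hs'⟩ := (hN.2.2 C c).2 fun X' x h =>
    ⟨⟨x * h * x⁻¹, by rw [MonObj.mul_comp, MonObj.mul_comp, GrpObj.inv_comp]⟩,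
      ⟨x⁻¹ * h * x, by rw [MonObj.mul_comp, MonObj.mul_comp, GrpObj.inv_comp]⟩⟩
  have hpts : ∀ x : RP N, ∃ b : RP C, b ≫ s = x := fun x => by
    -- conjugation by the point preserves the maximal torus of `C`
    have hmem := (hN.2.2 _ (x ≫ j)).1 ⟨x, rfl⟩
    haveI := smooth_of_isTorus hTt
    haveI : IsReduced T.left := SmoothRed.isReduced_of_smooth_scheme T.hom
    haveI := locallyOfFiniteType_of_isTorus hTt
    obtain ⟨u, hu⟩ := exists_lift_rp (AGF.conjBy (x ≫ j) iT) c fun p => by
      obtain ⟨⟨h', hh'⟩, -⟩ := hmem _ (𝟙 _) (p ≫ tc)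
      refine ⟨rpt h', ?_⟩
      rw [map_rpt, ← hh', Category.id_comp, Category.assoc, htc, comp_conjBy, toUnit_one, Category.id_comp]
    obtain ⟨hcjm, hcjmono, -, hcjmax⟩ := isMaxTorus_conjBy (x ≫ j) iT hT
    haveI := hcjm; haveI := hcjmono
    haveI : IsMonHom u := MTSplit.isMonHom_of_comp_mono u c _ hu
    haveI : Mono (u ≫ c) := by rw [hu]; infer_instance
    haveI : Mono u := mono_of_mono u c
    have humax : AGF.IsMaxTorus u := ⟨inferInstance, inferInstance, hTt, fun T' _ j' _ _ f hT' hf =>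
      hcjmax T' (j' ≫ c) f hT' (by rw [← Category.assoc, hf, hu])⟩
    obtain ⟨g, φ, hφ⟩ := Groth.Agent.S3901.result k C T T tc u htcmax humax
    have hfix : AGF.conjBy g tc = tc := hom_ext_rp fun p => by
      rw [comp_conjBy, toUnit_one, Category.id_comp, hcent, mul_inv_cancel_right]
    have key : φ.hom ≫ AGF.conjBy (x ≫ j) iT = iT := by rw [← hu, ← Category.assoc, hφ, hfix, htc]
    -- the retraction onto a torus forces the automorphism to be trivial
    obtain ⟨T₁, _, i₁, π, hi₁, hπ, -, hret, hT₁, huniv, -⟩ := exists_section_torus G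
    haveI := hπ
    haveI := isAffine_of_isTorus hT₁
    haveI := locallyOfFiniteType_of_isTorus hT₁
    obtain ⟨g₁, f₁, hf₁m, hf₁⟩ := huniv T iT hTt
    haveI := hi₁
    haveI := isMonHom_conjBy g₁⁻¹ i₁
    haveI : Mono i₁ := ⟨fun u v h => by simpa [hret] using congrArg (fun m => m ≫ π) h⟩
    haveI := mono_conjBy g₁⁻¹ i₁
    haveI := hf₁m
    haveI : IsIso f₁ := hTmax T₁ (AGF.conjBy g₁⁻¹ i₁) f₁ hT₁ (by
      rw [comp_conjBy', hf₁, conjBy_conjBy, inv_mul_cancel, conjBy_one])
    have hf₁π : iT ≫ π = f₁ := by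
      rw [← Category.comp_id f₁, ← hret, ← Category.assoc, hf₁, conjBy_comp, conjBy_torus hT₁]
    have hφid : φ.hom = 𝟙 T := by
      have h := congrArg (fun m => m ≫ π) key
      simp only [Category.assoc, conjBy_comp, conjBy_torus hT₁] at h
      rw [hf₁π] at h
      rw [← cancel_mono f₁, Category.id_comp]
      exact h
    rw [hφid, Category.id_comp] at key
    obtain ⟨b, hb⟩ := (hc.2.2 _ (x ≫ j)).2 fun X' x' h => by
      have h2 := congrArg (fun m => h ≫ m) key
      simp only [comp_conjBy] at h2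
      rw [toUnit_unique x' (toUnit X')]
      exact mul_inv_eq_iff_eq_mul.1 h2
    exact ⟨b, (cancel_mono j).1 (by rw [Category.assoc, hs', hb])⟩
  haveI : IsIso s := isIso_to_normalizer' c iT hTt tc htc c hc (𝟙 C) (Category.id_comp c) j hN s hs' hpts
  obtain ⟨n, hn⟩ := (hN.2.2 X y).2 hy
  exact ⟨n ≫ inv s, by rw [← hn, Category.assoc, ← hs', IsIso.inv_hom_id_assoc]⟩

/-- In a connected solvable group a Cartan subgroup is self-normalizing. -/
theorem exists_factor_of_normalizes_cartan' [Smooth G.hom] [QuasiCompact G.hom] [ConnectedSpace G.left]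
    [Group.IsSolvable (RP G)] {T C : Over (Spec (CommRingCat.of k))} [GrpObj T] [GrpObj C] [Smooth C.hom] (iT : T ⟶ G)
    (hT : AGF.IsMaxTorus iT) (c : C ⟶ G) [IsClosedImmersion c.left] (hc : Red.IsCentralizerOf iT c)
    {X : Over (Spec (CommRingCat.of k))} (y : X ⟶ G)
    (hy : ∀ (X' : Over (Spec (CommRingCat.of k))) (x : X' ⟶ X) (h : X' ⟶ C),
      (∃ h' : X' ⟶ C, (x ≫ y) * (h ≫ c) * (x ≫ y)⁻¹ = h' ≫ c) ∧
      (∃ h' : X' ⟶ C, (x ≫ y)⁻¹ * (h ≫ c) * (x ≫ y) = h' ≫ c)) :
    ∃ z : X ⟶ C, z ≫ c = y := by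
  obtain ⟨L, D, Q, hL, hD, hQ, l, d, q, R⟩ := exists_affReduction G
  haveI := R.l_hom; haveI := R.l_closed; haveI := R.l_affine; haveI := R.l_smooth; haveI := R.l_connected
  haveI := R.q_hom; haveI := R.q_affine; haveI := R.q_smooth; haveI := R.q_connected; haveI := R.lq_surj
  haveI := R.d_hom; haveI := R.d_smooth
  haveI := hc.1; haveI := hc.2.1; haveI := hT.1; haveI := hT.2.1
  haveI : Mono l := GrpField.SchImg.mono_of_isClosedImmersion l
  haveI : QuasiCompact C.hom := by rw [← Over.w c]; infer_instance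
  -- solvability passes to the affine group and the affine quotient
  haveI : Group.IsSolvable (RP L) := Group.isSolvable_of_isSolvable_injective (f := rpHom l)
    fun u v h => (cancel_mono l).1 h
  haveI : Group.IsSolvable (RP Q) := Group.isSolvable_of_surjective (f := rpHom (l ≫ q))
    fun x => exists_rp_preimage (l ≫ q) x
  have hTt := hT.2.2.1
  haveI := isAffine_of_isTorus hTt
  haveI := smooth_of_isTorus hTt
  haveI := locallyOfFiniteType_of_isTorus hTt
  haveI : QuasiCompact T.hom := inferInstance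
  haveI : IsReduced T.left := SmoothRed.isReduced_of_smooth_scheme T.hom
  -- the torus in `L` and its image in `Q`
  obtain ⟨t, ht, htmax⟩ := exists_factor_maxTorus R iT hT
  haveI := htmax.1; haveI := htmax.2.1
  obtain ⟨T', hT'g, iT', p, hiT', hp, hiT'c, hT's, hps, hpe⟩ := exists_smooth_image (t ≫ l ≫ q)
  haveI := hiT'; haveI := hp; haveI := hiT'c; haveI := hT's; haveI := hps
  haveI : IsReduced T'.left := SmoothRed.isReduced_of_smooth_scheme T'.hom
  have hT' : AGF.IsMaxTorus iT' := isMaxTorus_image (l ≫ q) t htmax iT' p hpe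
  obtain ⟨C', hC'g, c', hC', hC'c, hC's⟩ := Groth.Agent.S5247.result T' Q
    (MTBridge.isMultTypeFT_of_isTorus T' hT'.2.2.1) ‹Smooth Q.hom› inferInstance iT'
  haveI := hC'.1; haveI := hC'.2.1; haveI := hC'c; haveI := hC's
  haveI : IsReduced C.left := SmoothRed.isReduced_of_smooth_scheme C.hom
  haveI : LocallyOfFiniteType T'.hom := by rw [← Over.w iT']; infer_instance
  -- `C` maps to `C'`, surjectively
  have hcomm' : ∀ (g : RP Q), (∀ x : RP T', g * (x ≫ iT') = (x ≫ iT') * g) → ∃ w : RP C', w ≫ c' = g :=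
    fun g hg => (hC'.2.2 _ g).2 fun X' x h => by
      haveI := isAffine_of_isTorus hT'.2.2.1
      have huniv : (toUnit T' ≫ g) * iT' = iT' * (toUnit T' ≫ g) := hom_ext_rp fun p => by
        rw [MonObj.comp_mul, MonObj.comp_mul, rp_const, hg]
      have e := congrArg (fun m => h ≫ m) huniv
      rw [toUnit_unique x (toUnit X')]
      simpa only [MonObj.comp_mul, comp_toUnit_assoc] using e
  obtain ⟨pC, hpC⟩ := exists_lift_rp (c ≫ q) c' fun z => by
    obtain ⟨w, hw⟩ := hcomm' (z ≫ c ≫ q) fun x => by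
      obtain ⟨a, rfl⟩ := exists_rp_preimage p x
      have h := (hc.2.2 _ (z ≫ c)).1 ⟨z, rfl⟩ _ (𝟙 _) a
      rw [Category.id_comp, ← ht] at h
      have h' := congrArg (fun m => m ≫ q) h
      simpa only [MonObj.mul_comp, Category.assoc, hpe] using h'
    exact ⟨rpt w, by rw [map_rpt, hw]⟩
  haveI : IsMonHom pC := MTSplit.isMonHom_of_comp_mono pC c' (c ≫ q) hpC
  obtain ⟨hC's', hC'a, -, hC'conn', -⟩ := centralizer_maxTorus iT' hT' c' hC'
  obtain ⟨T₁, _, i₁, π₁, hi₁, hπ₁, -, hret, hT₁, huniv₁, -⟩ := exists_section_torus L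
  haveI := hi₁; haveI := hπ₁
  have hrp' : ∀ w : RP C', ∃ z : RP C, z ≫ pC = w := fun w => by
    obtain ⟨a, ha⟩ := exists_rp_preimage (l ≫ q) (w ≫ c')
    -- the commutator of `a` with the torus is a homomorphism into the kernel
    let v : T ⟶ L := t * (toUnit T ≫ a) * t⁻¹ * (toUnit T ≫ a)⁻¹
    have hv : ∀ x : RP T, x ≫ v = (x ≫ t) * a * (x ≫ t)⁻¹ * a⁻¹ := fun x => by
      simp only [v, MonObj.comp_mul, GrpObj.comp_inv, rp_const]
    have hvc : ∀ (x : RP T) (b : RP L), (x ≫ v) * b = b * (x ≫ v) := fun x b => by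
      have h := (hC'.2.2 _ (w ≫ c')).1 ⟨w, rfl⟩ _ (𝟙 _) (x ≫ p)
      rw [Category.id_comp, Category.assoc, hpe, ← ha] at h
      obtain ⟨z, hz⟩ := R.ker ((x ≫ v) ≫ l) (by
        rw [hv]
        simp only [MonObj.mul_comp, GrpObj.inv_comp, Category.assoc]
        rw [← h, mul_inv_cancel_right, mul_inv_cancel])
      apply (cancel_mono l).1
      rw [MonObj.mul_comp, MonObj.mul_comp, ← hz, R.central]
    haveI : IsMonHom v := isMonHom_of_rp_mul v fun x x' => by
      rw [hv, hv x', MonObj.mul_comp, _root_.mul_inv_rev]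
      calc (x ≫ t) * (x' ≫ t) * a * ((x' ≫ t)⁻¹ * (x ≫ t)⁻¹) * a⁻¹
          = (x ≫ t) * ((x' ≫ t) * a * (x' ≫ t)⁻¹ * a⁻¹) * a * (x ≫ t)⁻¹ * a⁻¹ := by
            simp only [_root_.mul_assoc, inv_mul_cancel_left]
        _ = _ := by
            rw [← hv x', ← hvc x' (x ≫ t), _root_.mul_assoc (x' ≫ v), _root_.mul_assoc (x' ≫ v), _root_.mul_assoc (x' ≫ v),
              hvc x', hv x]
    haveI := isAffine_of_isTorus hT₁
    haveI := locallyOfFiniteType_of_isTorus hT₁
    haveI : IsSeparated T₁.hom := inferInstance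
    have hvπ : v ≫ π₁ = 1 := hom_ext_rp fun x => by
      haveI := isAffine_of_isTorus hT₁
      haveI := locallyOfFiniteType_of_isTorus hT₁
      rw [← Category.assoc, hv, MonObj.mul_comp, MonObj.mul_comp, MonObj.mul_comp, GrpObj.inv_comp, GrpObj.inv_comp,
        rp_torus_comm hT₁ ((x ≫ t) ≫ π₁) (a ≫ π₁), mul_inv_cancel_right, mul_inv_cancel, MonObj.comp_one]
    have hv1 := hom_eq_one_of_comp_eq_one hTt hT₁ i₁ π₁ hret huniv₁ v hvπ
    have hcomm : ∀ x : RP T, (x ≫ t) * a = a * (x ≫ t) := fun x => by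
      have h := hv x
      rw [hv1, MonObj.comp_one] at h
      exact mul_inv_eq_iff_eq_mul.1 (mul_inv_eq_one.1 h.symm)
    obtain ⟨z, hz⟩ := (hc.2.2 _ (a ≫ l)).2 fun X' x h => by
      have huniv : (toUnit T ≫ a) * t = t * (toUnit T ≫ a) := hom_ext_rp fun p => by
        rw [MonObj.comp_mul, MonObj.comp_mul, rp_const, hcomm]
      have e := congrArg (fun m => h ≫ m ≫ l) huniv
      rw [toUnit_unique x (toUnit X')]
      simpa only [MonObj.comp_mul, MonObj.mul_comp, comp_toUnit_assoc, Category.assoc, ht] using e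
    refine ⟨z, (cancel_mono c').1 ?_⟩
    rw [Category.assoc, hpC, ← ha, reassoc_of% hz]
  haveI : JacobsonSpace C'.left := LocallyOfFiniteType.jacobsonSpace C'.hom
  haveI : QuasiCompact pC.left := by
    haveI : QuasiCompact (pC.left ≫ C'.hom) := by rw [Over.w pC]; infer_instance
    exact QuasiCompact.of_comp pC.left C'.hom
  haveI : Surjective pC.left := by
    refine (Groth.Agent.S5355.result k C C' pC ?_).1
    rw [denseRange_iff_closure_range]
    refine Set.eq_univ_of_univ_subset ?_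
    rw [← closure_closedPoints]
    refine closure_mono fun x hx => ?_
    obtain ⟨w, rfl⟩ := exists_rpt hx
    obtain ⟨z, rfl⟩ := hrp' w
    exact ⟨rpt z, map_rpt pC z⟩
  obtain ⟨hpf, hpl⟩ := covering_of_surjective pC
  haveI := hpf; haveI := hpl
  haveI := AVQuot.epi_of_covering pC
  -- the central part lies in `C`
  obtain ⟨dH, hdH⟩ := (hc.2.2 D d).2 fun X' x h => R.central X' x (h ≫ iT)
  -- the image normalises `C'`
  have hnorm : ∀ (u : X ⟶ G), (∀ (X' : Over (Spec (CommRingCat.of k))) (x : X' ⟶ X) (h : X' ⟶ C),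
      ∃ h' : X' ⟶ C, (x ≫ u) * (h ≫ c) * (x ≫ u)⁻¹ = h' ≫ c) →
      ∀ (X' : Over (Spec (CommRingCat.of k))) (x : X' ⟶ X) (h : X' ⟶ C'),
        ∃ h' : X' ⟶ C', (x ≫ u ≫ q) * (h ≫ c') * (x ≫ u ≫ q)⁻¹ = h' ≫ c' := by
    intro u hu X' x h
    let P : Over (Spec (CommRingCat.of k)) := Over.mk (pullback.fst h.left pC.left ≫ X'.hom)
    let a : P ⟶ X' := Over.homMk (pullback.fst h.left pC.left)
    let b : P ⟶ C := Over.homMk (pullback.snd h.left pC.left) (by
      show _ = pullback.fst h.left pC.left ≫ X'.hom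
      rw [← Over.w h, pullback.condition_assoc, Over.w pC])
    have hab : b ≫ pC = a ≫ h := Over.OverMorphism.ext pullback.condition.symm
    haveI : Flat a.left := MorphismProperty.pullback_fst _ _ ‹Flat pC.left›
    haveI : Surjective a.left := MorphismProperty.pullback_fst _ _ ‹Surjective pC.left›
    haveI : LocallyOfFinitePresentation a.left := MorphismProperty.pullback_fst _ _ ‹LocallyOfFinitePresentation pC.left›
    obtain ⟨h'', hh''⟩ := hu P (a ≫ x) b
    let m : X' ⟶ Q := (x ≫ u ≫ q) * (h ≫ c') * (x ≫ u ≫ q)⁻¹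
    have hm : (h'' ≫ pC) ≫ c' = a ≫ m := by
      have e := congrArg (fun z => z ≫ q) hh''
      simp only [MonObj.mul_comp, GrpObj.inv_comp, Category.assoc] at e
      rw [Category.assoc, hpC, ← e, MonObj.comp_mul, MonObj.comp_mul, GrpObj.comp_inv, ← reassoc_of% hab, hpC]
    obtain ⟨h', hh'⟩ := AVQuot.exists_desc a (h'' ≫ pC) fun {V} v w hvw => (cancel_mono c').1 (by
      rw [Category.assoc v (h'' ≫ pC) c', Category.assoc w (h'' ≫ pC) c', hm, ← Category.assoc, hvw, Category.assoc])
    haveI := AVQuot.epi_of_covering a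
    exact ⟨h', ((cancel_epi a).1 (by rw [← Category.assoc, hh', hm])).symm⟩
  obtain ⟨r, hr⟩ := exists_factor_of_normalizes_cartan iT' hT' c' hC' (y ≫ q) fun X' x h => by
    refine ⟨?_, ?_⟩
    · exact hnorm y (fun X' x h => (hy X' x h).1) X' x h
    · obtain ⟨h', hh'⟩ := hnorm y⁻¹ (fun X' x h => by
        obtain ⟨h', hh'⟩ := (hy X' x h).2
        exact ⟨h', by rw [GrpObj.comp_inv, _root_.inv_inv, hh']⟩) X' x h
      refine ⟨h', ?_⟩
      rw [← hh', GrpObj.inv_comp, GrpObj.comp_inv, _root_.inv_inv]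
  exact mem_of_map_mem R c dH hdH c' pC hpC y r hr

end Groth.Agent.Chev.Borel
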