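import Groth.Agent.S3449
import Groth.Agent.S3388
import Groth.Agent.S10830
import Groth.Agent.ExtShX.CodimField
import Groth.Agent.DimField.Cons
import Groth.Agent.GrpAct.Stabilizer
import Groth.Agent.Chev.Complement

/-!
# A morphism with a small fibre is dominant
-/

set_option autoImplicit false
set_option backward.isDefEq.respectTransparency false

universe u

open CategoryTheory CategoryTheory.Limits AlgebraicGeometry Topology

noncomputable section

namespace Groth.Agent.Chev.DomDim

theorem exists_natCast_of_lt {x : WithBot ℕ∞} {a : ℕ} (h0 : x ≠ ⊥) (h : x < (a : WithBot ℕ∞)) :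
    ∃ o : ℕ, x = o ∧ o < a := by
  induction x with
  | bot => exact absurd rfl h0
  | coe x =>
    induction x with
    | top => exact absurd h (not_lt.2 (WithBot.coe_le_coe.2 le_top))
    | coe o => exact ⟨o, rfl, by exact_mod_cast h⟩

variable {k : Type u} [Field k]

/-- If some fibre of `f` has local dimension at most `c`, and `dim P = dim G + c`, then `f` is dominant. -/
theorem denseRange_of_fibre {P G : Over (Spec (CommRingCat.of k))} [LocallyOfFiniteType P.hom]
    [LocallyOfFiniteType G.hom] [IrreducibleSpace P.left] [IrreducibleSpace G.left] [IsReduced P.left]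
    [QuasiCompact P.hom] [IsSeparated G.hom] (f : P ⟶ G) (a c : ℕ) (hG : topologicalKrullDim G.left = a)
    (hP : topologicalKrullDim P.left = (a + c : ℕ)) (x : P.left) (W : Set P.left) (hW : IsOpen W) (hxW : x ∈ W)
    (hfib : topologicalKrullDim ↥(f.left ⁻¹' {f.left x} ∩ W) ≤ c) : DenseRange f.left := by
  by_contra hnd
  let Y : Set G.left := closure (Set.range f.left)
  have hY : Y ≠ Set.univ := fun h => hnd (dense_iff_closure_eq.2 h)
  have hlt := Groth.Agent.S10830.result G.left (by rw [hG]; intro h; exact ENat.coe_ne_top a (WithBot.coe_eq_coe.1 h))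
    Y isClosed_closure hY
  obtain ⟨O', j, hj, hred, hjr⟩ := GrpAct.exists_reduced_subscheme (A := Y) isClosed_closure.isLocallyClosed
  haveI : IsClosedImmersion j := IsClosedImmersion.of_isPreimmersion j (hjr ▸ isClosed_closure)
  let O : Over (Spec (CommRingCat.of k)) := Over.mk (j ≫ G.hom)
  let io : O ⟶ G := Over.homMk j
  haveI : IsClosedImmersion io.left := ‹IsClosedImmersion j›
  obtain ⟨f', hf'⟩ := Groth.Agent.Chev.exists_lift_range f io (by rw [show Set.range io.left = Y from hjr]; exact subset_closure)
  have hrange : ∀ y, io.left (f'.left y) = f.left y := fun y => by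
    rw [← Scheme.Hom.comp_apply, ← Over.comp_left, hf']
  haveI : IsDominant f'.left := ⟨by
    intro z
    have hz : io.left z ∈ closure (Set.range f.left) := by
      show io.left z ∈ Y
      rw [← hjr]
      exact ⟨z, rfl⟩
    have himg : Set.range f.left = io.left '' Set.range f'.left := by
      rw [← Set.range_comp]
      exact congrArg Set.range (funext fun y => (hrange y).symm)
    rw [himg] at hz
    rw [io.left.isClosedEmbedding.isEmbedding.isInducing.closure_eq_preimage_closure_image]
    exact hz⟩
  haveI : IrreducibleSpace O.left := by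
    haveI : Nonempty O.left := ⟨f'.left x⟩
    have h1 : IsPreirreducible (Set.univ : Set O.left) := by
      rw [← f'.left.denseRange.closure_eq, ← Set.image_univ]
      exact ((IrreducibleSpace.isIrreducible_univ _).2.image _ f'.left.continuous.continuousOn).closure
    haveI : PreirreducibleSpace O.left := ⟨h1⟩
    exact ⟨inferInstance⟩
  have hOd : topologicalKrullDim O.left = topologicalKrullDim ↥Y := by
    rw [← hjr]
    exact IsHomeomorph.topologicalKrullDim_eq _ io.left.isClosedEmbedding.isEmbedding.toHomeomorph.isHomeomorph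
  haveI : LocallyOfFiniteType O.hom := inferInstanceAs (LocallyOfFiniteType (j ≫ G.hom))
  -- the generic fibre
  have h2 : ∀ s : Spec (CommRingCat.of k), CAlg.IsUniversallyCatenary ((Spec (CommRingCat.of k)).presheaf.stalk s) :=
    fun s => Catenary.isUniversallyCatenary_stalk (isAffineOpen_top _) s trivial
      (Catenary.isUniversallyCatenary_of_ringEquiv (Scheme.ΓSpecIso (CommRingCat.of k)).commRingCatIsoToRingEquiv.symm
        (ExtShX.isUniversallyCatenary_field k))
  haveI : Subsingleton ↥(Spec (CommRingCat.of k)) := inferInstanceAs (Subsingleton (PrimeSpectrum k))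
  haveI : IsLocallyNoetherian (Spec (CommRingCat.of k)) := inferInstance
  have hdim := Groth.Agent.S3449.result h2 (fun S' _ s hs _ => by
    rw [show {t : Spec (CommRingCat.of k) | t ∈ S' ∧ t ⤳ s} = S' from
      Set.ext fun t => ⟨fun h => h.1, fun h => ⟨h, specializes_of_eq (Subsingleton.elim t s)⟩⟩])
    P.hom O.hom f'.left (Over.w f')
  haveI : LocallyOfFiniteType f'.left := by
    haveI : LocallyOfFiniteType (f'.left ≫ O.hom) := by rw [Over.w f']; infer_instance
    exact locallyOfFiniteType_of_comp f'.left O.hom
  have he := Groth.Agent.S3388.result f'.left x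
  have hloc : FlatMor.fibreDimAt f'.left x ≤ c := by
    let φ := f'.left.fiberι (f'.left x)
    let U : TopologicalSpace.Opens (f'.left.fiber (f'.left x)) := ⟨φ ⁻¹' W, hW.preimage φ.continuous⟩
    have hxU : f'.left.asFiber x ∈ U := by
      show φ (f'.left.asFiber x) ∈ W
      rw [Scheme.Hom.fiberι_asFiber]
      exact hxW
    refine (iInf_le _ (⟨U, hxU⟩ : {V : TopologicalSpace.Opens _ // f'.left.asFiber x ∈ V})).trans (le_trans ?_ hfib)
    let g : ↥(U : Set ↥(f'.left.fiber (f'.left x))) → ↥(f.left ⁻¹' {f.left x} ∩ W) := fun z => ⟨φ z.1, by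
      refine ⟨?_, z.2⟩
      have h := (f'.left.range_fiberι (f'.left x)).subset ⟨z.1, rfl⟩
      show f.left (φ z.1) = f.left x
      rw [← hrange, ← hrange x, show f'.left (φ z.1) = f'.left x from h]⟩
    have hg : IsInducing g :=
      IsInducing.of_comp (Continuous.subtype_mk (φ.continuous.comp continuous_subtype_val) _) continuous_subtype_val
        (φ.isEmbedding.isInducing.comp IsInducing.subtypeVal)
    exact hg.topologicalKrullDim_le
  have hO0 : topologicalKrullDim O.left ≠ ⊥ := by
    haveI : Nonempty O.left := ⟨f'.left x⟩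
    haveI : Nonempty (TopologicalSpace.IrreducibleCloseds O.left) :=
      ⟨⟨Set.univ, IrreducibleSpace.isIrreducible_univ _, isClosed_univ⟩⟩
    exact (Order.bot_lt_krullDim_iff.2 inferInstance).ne'
  obtain ⟨o, ho, hoa⟩ := exists_natCast_of_lt hO0 (hOd ▸ hG ▸ hlt)
  have hle : topologicalKrullDim P.left ≤ ((o + c : ℕ) : WithBot ℕ∞) := by
    rw [hdim, ho, Nat.cast_add]
    exact add_le_add_right (he.trans hloc) _
  rw [hP, Nat.cast_le] at hle
  omega

end Groth.Agent.Chev.DomDim
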