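import Groth.Agent.Chev.CentNilp
import Groth.Agent.Chev.DomDim
import Groth.Agent.FBaseDim.Product
import Groth.Agent.GrpField.Irreducible
import Groth.Agent.MTBridge.MonoTori
import Groth.Agent.S5248
import Groth.Agent.S5249

/-!
# The conjugates of the centralizer of a maximal torus are dense
-/

set_option autoImplicit false
set_option backward.isDefEq.respectTransparency false

universe u

open CategoryTheory CategoryTheory.Limits MonoidalCategory CartesianMonoidalCategory MonObj GrpObj AlgebraicGeometry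
open Groth.Agent.SubGen (rpt exists_rpt map_rpt rpt_injective rpt_mem_closedPoints)

noncomputable section

namespace Groth.Agent.Chev.Borel

open BorelFixed

variable {k : Type u} [Field k] [IsAlgClosed k]

omit [IsAlgClosed k] in
/-- Conjugates of maximal tori are maximal tori. -/
theorem isMaxTorus_conjBy {G T : Over (Spec (CommRingCat.of k))} [GrpObj G] [GrpObj T] (g : RP G) (iT : T ⟶ G)
    (hT : AGF.IsMaxTorus iT) : AGF.IsMaxTorus (AGF.conjBy g iT) := by
  obtain ⟨him, himono, hTt, hmax⟩ := hT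
  haveI := him; haveI := himono
  refine ⟨isMonHom_conjBy g iT, ?_, hTt, fun T₂ _ j hj hjm w hT₂ hw => ?_⟩
  · exact ⟨fun {Z} p q h => (cancel_mono iT).1 (by
      rw [comp_conjBy, comp_conjBy] at h
      exact mul_left_cancel (mul_right_cancel h))⟩
  haveI := isMonHom_conjBy g⁻¹ j
  haveI : Mono (AGF.conjBy g⁻¹ j) := ⟨fun {Z} p q h => (cancel_mono j).1 (by
      rw [comp_conjBy, comp_conjBy] at h
      exact mul_left_cancel (mul_right_cancel h))⟩
  exact hmax T₂ (AGF.conjBy g⁻¹ j) w hT₂ (by rw [comp_conjBy', hw, conjBy_conjBy, inv_mul_cancel, conjBy_one])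

variable {G T C : Over (Spec (CommRingCat.of k))} [GrpObj G] [GrpObj T] [GrpObj C] [IsAffine G.left] [Smooth G.hom]
  [ConnectedSpace G.left]

/-- The conjugation morphism of a subscheme. -/
abbrev conjMap (c : C ⟶ G) : G ⊗ C ⟶ G := fst G C * (snd G C ≫ c) * (fst G C)⁻¹

omit [IsAlgClosed k] [GrpObj C] [IsAffine G.left] [Smooth G.hom] [ConnectedSpace G.left] in
theorem rp_conjMap (c : C ⟶ G) (z : RP (G ⊗ C)) :
    z ≫ conjMap c = (z ≫ fst G C) * ((z ≫ snd G C) ≫ c) * (z ≫ fst G C)⁻¹ := by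
  simp only [conjMap, MonObj.comp_mul, GrpObj.comp_inv, Category.assoc]

/-- The conjugates of the centralizer of a maximal torus are dense. -/
theorem denseRange_conjMap (iT : T ⟶ G) (hT : AGF.IsMaxTorus iT) (c : C ⟶ G) (hc : Red.IsCentralizerOf iT c) :
    DenseRange (conjMap c).left := by
  obtain ⟨him, himono, hTt, -⟩ := id hT
  haveI := him; haveI := himono; haveI := hc.1; haveI := hc.2.1
  obtain ⟨hs, haff, hcl, hconn', s, hsC⟩ := centralizer_torus iT hTt c hc
  obtain ⟨-, -, -, hconn, -, -, tc, htc, htcmax, hcent⟩ := centralizer_maxTorus iT hT c hc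
  haveI := hs; haveI := haff; haveI := hcl; haveI := hconn; haveI := htcmax.1
  haveI := isAffine_of_isTorus hTt
  haveI := smooth_of_isTorus hTt
  haveI : IsReduced T.left := SmoothRed.isReduced_of_smooth_scheme T.hom
  haveI : IsAffineHom G.hom := inferInstance
  -- the normalizer
  have hM := MTBridge.isMultTypeFT_of_isTorus T hTt
  obtain ⟨N, hNg, n, hN, hNc, hNs⟩ := Groth.Agent.S5248.result T G hM ‹_› inferInstance iT
  haveI := hN.1; haveI := hN.2.1; haveI := hNc; haveI := hNs
  obtain ⟨fC, hfC, hfo, hfc⟩ := Groth.Agent.S5249.result T G C N hM ‹_› inferInstance iT c n hc hN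
  haveI := hfo; haveI := hfc
  haveI : IsReduced N.left := SmoothRed.isReduced_of_smooth_scheme N.hom
  haveI : IsMonHom fC := MTSplit.isMonHom_of_comp_mono fC n c hfC
  let t0 : RP G := s ≫ iT
  -- membership in the centralizer
  have hmemC : ∀ y : RP G, (∀ p : RP T, y * (p ≫ iT) = (p ≫ iT) * y) → ∃ z : RP C, z ≫ c = y := by
    intro y hy
    refine (hc.2.2 _ y).2 fun X' x h => ?_
    have e : ((toUnit T ≫ y) * iT : T ⟶ G) = iT * (toUnit T ≫ y) := hom_ext_rp fun p => by
      rw [MonObj.comp_mul, MonObj.comp_mul, rp_const, hy p]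
    have e' := congrArg (fun m => h ≫ m) e
    simp only [MonObj.comp_mul, ← Category.assoc, toUnit_unique (h ≫ toUnit T) x] at e'
    exact e'
  -- conjugates fixing `t0`
  have hkey : ∀ (g : RP G) (y : RP C), g * (y ≫ c) * g⁻¹ = t0 →
      ∃ n₀ : RP N, n₀ ≫ n = g ∧ y ≫ c = g⁻¹ * t0 * g := by
    intro g y hgy
    have hy : y ≫ c = g⁻¹ * t0 * g := by rw [← hgy]; simp [_root_.mul_assoc]
    have hcomm : ∀ p : RP T, (y ≫ c) * (p ≫ iT) = (p ≫ iT) * (y ≫ c) := fun p => by
      have h := (hc.2.2 _ (y ≫ c)).1 ⟨y, rfl⟩ _ (𝟙 _) p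
      simpa only [Category.id_comp] using h
    obtain ⟨w, hw⟩ := (hsC T (AGF.conjBy g iT)).1 (hom_ext_rp fun p => by
      rw [MonObj.comp_mul p (AGF.conjBy g iT), MonObj.comp_mul p _ (AGF.conjBy g iT), rp_const, comp_conjBy, toUnit_one,
        Category.id_comp]
      have h := congrArg (fun m => g * m * g⁻¹) (hcomm p)
      rw [hy] at h
      simp only [_root_.mul_assoc, inv_mul_cancel_left, mul_inv_cancel_left, mul_inv_cancel, _root_.mul_one] at h ⊢
      exact h.symm)
    have hgmax := isMaxTorus_conjBy g iT hT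
    haveI := hgmax.1; haveI := hgmax.2.1
    haveI : IsMonHom w := MTSplit.isMonHom_of_comp_mono w c (AGF.conjBy g iT) hw
    haveI : Mono (w ≫ c) := by rw [hw]; infer_instance
    have hwmax : AGF.IsMaxTorus w := ⟨inferInstance, mono_of_mono w c, hTt, fun T' _ j _ _ f hT' hf =>
      hgmax.2.2.2 T' (j ≫ c) f hT' (by rw [← Category.assoc, hf, hw])⟩
    obtain ⟨h₀, φ, hφm, hφ⟩ := maxTorus_conj w tc hwmax htcmax
    have hfix : φ.hom ≫ tc = w := by
      have e : AGF.conjBy h₀⁻¹ (φ.hom ≫ tc) = φ.hom ≫ tc := hom_ext_rp fun p => by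
        rw [comp_conjBy, toUnit_one, Category.id_comp, ← Category.assoc, hcent (p ≫ φ.hom) h₀⁻¹,
          mul_inv_cancel_right]
      rw [← e, hφ, conjBy_conjBy, inv_mul_cancel, conjBy_one]
    have hg1 : φ.hom ≫ iT = AGF.conjBy g iT := by
      conv_lhs => rw [← htc, ← Category.assoc, hfix, hw]
    have hg2 : φ.inv ≫ iT = AGF.conjBy g⁻¹ iT := by
      have e := congrArg (fun m => φ.inv ≫ m) hg1
      simp only [φ.inv_hom_id_assoc, comp_conjBy'] at e
      conv_rhs => rw [e, conjBy_conjBy, inv_mul_cancel, conjBy_one]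
    obtain ⟨n₀, hn₀⟩ := (hN.2.2 _ g).2 fun X' x h => by
      refine ⟨⟨h ≫ φ.hom, ?_⟩, ⟨h ≫ φ.inv, ?_⟩⟩
      · rw [Category.assoc, hg1, comp_conjBy, toUnit_unique x (toUnit X')]
      · rw [Category.assoc, hg2, comp_conjBy, toUnit_unique x (toUnit X'), GrpObj.comp_inv, _root_.inv_inv]
    exact ⟨n₀, hn₀, hy⟩
  -- the fibre is covered by the normalizer
  obtain ⟨m', hm'⟩ := exists_lift_rp (n⁻¹ * (toUnit N ≫ t0) * n) c fun q => by
    obtain ⟨z, hz⟩ := hmemC (q ≫ (n⁻¹ * (toUnit N ≫ t0) * n)) fun p => by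
      obtain ⟨⟨p', hp'⟩, -⟩ := (hN.2.2 _ (q ≫ n)).1 ⟨q, rfl⟩ _ (𝟙 _) p
      rw [Category.id_comp] at hp'
      rw [MonObj.comp_mul, MonObj.comp_mul, GrpObj.comp_inv, rp_const]
      have hc0 : t0 * (p' ≫ iT) = (p' ≫ iT) * t0 := by
        have h := congrArg (fun m => m ≫ iT) (rp_torus_comm hTt s p')
        simpa only [MonObj.mul_comp] using h
      have hp : p ≫ iT = (q ≫ n)⁻¹ * (p' ≫ iT) * (q ≫ n) := by rw [← hp']; simp [_root_.mul_assoc]
      rw [hp]
      calc (q ≫ n)⁻¹ * t0 * (q ≫ n) * ((q ≫ n)⁻¹ * (p' ≫ iT) * (q ≫ n))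
          = (q ≫ n)⁻¹ * (t0 * (p' ≫ iT)) * (q ≫ n) := by simp [_root_.mul_assoc]
        _ = (q ≫ n)⁻¹ * ((p' ≫ iT) * t0) * (q ≫ n) := by rw [hc0]
        _ = _ := by simp [_root_.mul_assoc]
    exact ⟨rpt z, by rw [map_rpt, hz]⟩
  let σ : N ⟶ G ⊗ C := lift n m'
  haveI : IsClosedImmersion (σ.left ≫ (fst G C).left) := by rw [← Over.comp_left, lift_fst]; infer_instance
  haveI : IsSeparated (fst G C).left := by
    show IsSeparated (pullback.fst G.hom C.hom)
    infer_instance
  haveI : IsClosedImmersion σ.left := IsClosedImmersion.of_comp σ.left (fst G C).left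
  haveI : Mono c := hc.2.1
  haveI hPs : Smooth (G ⊗ C).hom := by
    show Smooth (pullback.fst G.hom C.hom ≫ G.hom)
    infer_instance
  haveI : IsReduced (G ⊗ C).left := SmoothRed.isReduced_of_smooth_scheme (G ⊗ C).hom
  haveI : JacobsonSpace (G ⊗ C).left := LocallyOfFiniteType.jacobsonSpace (G ⊗ C).hom
  let P := G ⊗ C
  let F : Set P.left := (conjMap c).left ⁻¹' {rpt t0}
  have hFc : IsClosed F :=
    (mem_closedPoints_iff.1 (rpt_mem_closedPoints t0)).preimage (conjMap c).left.continuous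
  have hFsub : F ⊆ Set.range σ.left := by
    rw [← JacobsonSpace.closure_inter_closedPoints_eq_closure hFc.isLocallyClosed |>.trans hFc.closure_eq]
    refine closure_minimal ?_ σ.left.isClosedEmbedding.isClosed_range
    rintro x ⟨hxF, hxc⟩
    obtain ⟨z, rfl⟩ := exists_rpt hxc
    have h1 : z ≫ conjMap c = t0 := rpt_injective ((map_rpt (conjMap c) z).symm.trans hxF)
    rw [rp_conjMap] at h1
    obtain ⟨n₀, hn₀, hy⟩ := hkey _ _ h1
    refine ⟨rpt n₀, ?_⟩
    rw [map_rpt]
    congr 1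
    apply CartesianMonoidalCategory.hom_ext
    · rw [Category.assoc, lift_fst, hn₀]
    · refine (cancel_mono c).1 ?_
      rw [Category.assoc, Category.assoc, lift_snd_assoc, hm', hy, MonObj.comp_mul, MonObj.comp_mul,
        GrpObj.comp_inv, rp_const, hn₀]
  let W : Set P.left := (σ.left '' (Set.range fC.left)ᶜ)ᶜ
  have hWo : IsOpen W :=
    (σ.left.isClosedEmbedding.isClosedMap _ fC.left.isOpenEmbedding.isOpen_range.isClosed_compl).isOpen_compl
  let x₀ : RP N := (1 : RP N)
  have hx₀ : rpt x₀ ∈ Set.range fC.left := ⟨rpt (1 : RP C), by rw [map_rpt, MonObj.one_comp]⟩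
  have hxW : σ.left (rpt x₀) ∈ W := by
    rintro ⟨y, hy, hy'⟩
    exact hy (σ.left.isClosedEmbedding.injective hy' ▸ hx₀)
  have hxF : (conjMap c).left (σ.left (rpt x₀)) = rpt t0 := by
    rw [map_rpt, map_rpt, rp_conjMap]
    congr 1
    rw [Category.assoc, Category.assoc, Category.assoc, lift_fst, lift_snd_assoc, hm', MonObj.comp_mul, MonObj.comp_mul,
      GrpObj.comp_inv, rp_const, show x₀ ≫ n = 1 from MonObj.one_comp n]
    simp
  obtain ⟨a, ha⟩ := exists_natDim' G
  obtain ⟨d, hd⟩ := exists_natDim' C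
  haveI : GeometricallyIrreducible G.hom := GrpField.geometricallyIrreducible_of_connected G
  haveI : IrreducibleSpace C.left := GrpField.irreducibleSpace_of_nhds (GrpField.exists_irreducible_nhd C)
  haveI : IrreducibleSpace G.left := GrpField.irreducibleSpace_of_nhds (GrpField.exists_irreducible_nhd G)
  haveI : IrreducibleSpace P.left := by
    haveI : GeometricallyIrreducible (pullback.snd G.hom C.hom) :=
      MorphismProperty.pullback_snd (P := @GeometricallyIrreducible) _ _ ‹_›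
    exact GeometricallyIrreducible.irreducibleSpace (pullback.snd G.hom C.hom)
      (pullback.snd G.hom C.hom).isOpenMap
  haveI : QuasiCompact P.hom := by
    show QuasiCompact (pullback.fst G.hom C.hom ≫ G.hom)
    infer_instance
  refine DomDim.denseRange_of_fibre (conjMap c) a d ha ?_ (σ.left (rpt x₀)) W hWo hxW ?_
  · show topologicalKrullDim ↥(pullback G.hom C.hom) = _
    rw [FBaseDim.topologicalKrullDim_prod, ha, hd, Nat.cast_add]
  · rw [hxF]
    have hsub : F ∩ W ⊆ Set.range (σ.left ∘ fC.left) := by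
      rintro x ⟨hx1, hx2⟩
      obtain ⟨y, rfl⟩ := hFsub hx1
      have hy : y ∈ Set.range fC.left := by
        by_contra hy
        exact hx2 ⟨y, hy, rfl⟩
      obtain ⟨z, rfl⟩ := hy
      exact ⟨z, rfl⟩
    have hemb := σ.left.isClosedEmbedding.isEmbedding.comp fC.left.isClosedEmbedding.isEmbedding
    refine (Topology.IsInducing.topologicalKrullDim_le (Topology.IsEmbedding.inclusion hsub).isInducing).trans ?_
    rw [← hd]
    exact le_of_eq (IsHomeomorph.topologicalKrullDim_eq _ hemb.toHomeomorph.isHomeomorph).symm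

end Groth.Agent.Chev.Borel
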