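import Groth.Agent.S3302
import Groth.Agent.S3303
import Groth.Agent.S3306
import Groth.Agent.S3307
import Groth.Agent.S3309
import Groth.Agent.S3310
import Groth.Agent.Takeuchi.Points
import Mathlib.RingTheory.Smooth.Basic
import Mathlib.RingTheory.Bialgebra.MonoidAlgebra

/-!
# Centralizers of split tori are smooth and connected, and cut out by one cocharacter and by one point

The weight decomposition of the coordinate ring reduces a torus to a generic cocharacter, whose
centralizer is a retract of its limit subgroup.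
-/

set_option autoImplicit false
set_option backward.isDefEq.respectTransparency false

universe u

open TensorProduct WithConv LaurentPolynomial
open scoped Groth.Agent.Takeuchi
open Groth.Agent.Takeuchi (Pt push push_mul push_inv push_one)

noncomputable section

namespace Groth.Agent.Chev.CentTorus

variable {k : Type u} [Field k] {A : Type u} [CommRing A] [HopfAlgebra k A] {M : Type u} [CommGroup M]
  (t : A →ₐc[k] MonoidAlgebra k M) {R S : Type u} [CommRing R] [Algebra k R] [CommRing S] [Algebra k S]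

/-- The conjugate of a point by the value of the torus at a point. -/
def conj (ι : R →ₐ[k] S) (η : MonoidAlgebra k M →ₐ[k] S) (g : Pt k A R) : Pt k A S :=
  push η (toConv (t : A →ₐ[k] MonoidAlgebra k M)) * push ι g *
    (push η (toConv (t : A →ₐ[k] MonoidAlgebra k M)))⁻¹

/-- The conjugate of the universal point by the universal torus point. -/
def coact : A →ₐ[k] A ⊗[k] MonoidAlgebra k M :=
  (conj t Algebra.TensorProduct.includeLeft Algebra.TensorProduct.includeRight (toConv (AlgHom.id k A))).ofConv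

theorem conj_eq (ι : R →ₐ[k] S) (η : MonoidAlgebra k M →ₐ[k] S) (g : Pt k A R) :
    (conj t ι η g).ofConv = (Algebra.TensorProduct.lift (ι.comp g.ofConv) η (fun _ _ => Commute.all _ _)).comp (coact t) := by
  have h : conj t ι η g = push (Algebra.TensorProduct.lift (ι.comp g.ofConv) η (fun _ _ => Commute.all _ _))
      (toConv (coact t)) := by
    rw [coact, toConv_ofConv, conj, conj, push_mul, push_mul, push_inv]
    have e1 : ∀ x : Pt k A (MonoidAlgebra k M),
        push (Algebra.TensorProduct.lift (ι.comp g.ofConv) η (fun _ _ => Commute.all _ _))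
          (push Algebra.TensorProduct.includeRight x) = push η x := fun x =>
      WithConv.ext (AlgHom.ext fun a => by simp [push])
    have e2 : push (Algebra.TensorProduct.lift (ι.comp g.ofConv) η (fun _ _ => Commute.all _ _))
          (push Algebra.TensorProduct.includeLeft (toConv (AlgHom.id k A))) = push ι g :=
      WithConv.ext (AlgHom.ext fun a => by simp [push])
    rw [e1, e2]
  exact congrArg WithConv.ofConv h

/-- The elements of weight `m`. -/
def IsWeight (m : M) (x : A) : Prop := coact t x = x ⊗ₜ[k] MonoidAlgebra.single m 1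

theorem conj_apply {m : M} {x : A} (hx : IsWeight t m x) (ι : R →ₐ[k] S) (η : MonoidAlgebra k M →ₐ[k] S)
    (g : Pt k A R) : (conj t ι η g).ofConv x = ι (g.ofConv x) * η (MonoidAlgebra.single m 1) := by
  rw [conj_eq, AlgHom.comp_apply, hx, Algebra.TensorProduct.lift_tmul]
  rfl

theorem coact_assoc (a : A) :
    Algebra.TensorProduct.map (coact t) (AlgHom.id k (MonoidAlgebra k M)) (coact t a) =
      Algebra.TensorProduct.lift
        ((Algebra.TensorProduct.includeLeft : A ⊗[k] MonoidAlgebra k M →ₐ[k] (A ⊗[k] MonoidAlgebra k M) ⊗[k] MonoidAlgebra k M).comp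
          Algebra.TensorProduct.includeLeft)
        ((Algebra.TensorProduct.lift
          (Algebra.TensorProduct.includeRight : MonoidAlgebra k M →ₐ[k] (A ⊗[k] MonoidAlgebra k M) ⊗[k] MonoidAlgebra k M)
          ((Algebra.TensorProduct.includeLeft : A ⊗[k] MonoidAlgebra k M →ₐ[k] (A ⊗[k] MonoidAlgebra k M) ⊗[k] MonoidAlgebra k M).comp
            Algebra.TensorProduct.includeRight) (fun _ _ => Commute.all (S := (A ⊗[k] MonoidAlgebra k M) ⊗[k] MonoidAlgebra k M) _ _)).comp
          (Bialgebra.comulAlgHom k (MonoidAlgebra k M)))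
        (fun _ _ => Commute.all (S := (A ⊗[k] MonoidAlgebra k M) ⊗[k] MonoidAlgebra k M) _ _) (coact t a) := by
  let i₁ : A ⊗[k] MonoidAlgebra k M →ₐ[k] ((A ⊗[k] MonoidAlgebra k M) ⊗[k] MonoidAlgebra k M) := Algebra.TensorProduct.includeLeft
  let j₂ : MonoidAlgebra k M →ₐ[k] ((A ⊗[k] MonoidAlgebra k M) ⊗[k] MonoidAlgebra k M) := Algebra.TensorProduct.includeRight
  let j₁ : MonoidAlgebra k M →ₐ[k] ((A ⊗[k] MonoidAlgebra k M) ⊗[k] MonoidAlgebra k M) := i₁.comp Algebra.TensorProduct.includeRight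
  let ι₀ : A →ₐ[k] ((A ⊗[k] MonoidAlgebra k M) ⊗[k] MonoidAlgebra k M) := i₁.comp Algebra.TensorProduct.includeLeft
  let D : MonoidAlgebra k M →ₐ[k] ((A ⊗[k] MonoidAlgebra k M) ⊗[k] MonoidAlgebra k M) :=
    (Algebra.TensorProduct.lift j₂ j₁ (fun _ _ => Commute.all (S := (A ⊗[k] MonoidAlgebra k M) ⊗[k] MonoidAlgebra k M) _ _)).comp (Bialgebra.comulAlgHom k (MonoidAlgebra k M))
  let T : Pt k A (MonoidAlgebra k M) := toConv (t : A →ₐ[k] MonoidAlgebra k M)
  have hD : push (R' := ((A ⊗[k] MonoidAlgebra k M) ⊗[k] MonoidAlgebra k M)) D T = push (R' := ((A ⊗[k] MonoidAlgebra k M) ⊗[k] MonoidAlgebra k M)) j₂ T * push (R' := ((A ⊗[k] MonoidAlgebra k M) ⊗[k] MonoidAlgebra k M)) j₁ T := WithConv.ext (AlgHom.ext fun a => by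
    refine Eq.trans ?_ (Takeuchi.mul_apply _ _ a).symm
    show D (t a) = _
    simp only [D, AlgHom.comp_apply, Bialgebra.comulAlgHom_apply, ← CoalgHomClass.map_comp_comul_apply t a]
    generalize Coalgebra.comul (R := k) a = z
    induction z using TensorProduct.induction_on with
    | zero => simp
    | tmul x y => simp [push, T]
    | add x y hx hy => simp only [map_add, hx, hy])
  have h : conj (S := ((A ⊗[k] MonoidAlgebra k M) ⊗[k] MonoidAlgebra k M)) t i₁ j₂ (toConv (coact t)) = conj (S := ((A ⊗[k] MonoidAlgebra k M) ⊗[k] MonoidAlgebra k M)) t ι₀ D (toConv (AlgHom.id k A)) := by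
    rw [coact, toConv_ofConv, conj, conj, conj, push_mul, push_mul, push_inv]
    rw [show push (R' := ((A ⊗[k] MonoidAlgebra k M) ⊗[k] MonoidAlgebra k M)) i₁ (push Algebra.TensorProduct.includeRight T) = push (R' := ((A ⊗[k] MonoidAlgebra k M) ⊗[k] MonoidAlgebra k M)) j₁ T from rfl,
      show push (R' := ((A ⊗[k] MonoidAlgebra k M) ⊗[k] MonoidAlgebra k M)) i₁ (push Algebra.TensorProduct.includeLeft (toConv (AlgHom.id k A))) = push (R' := ((A ⊗[k] MonoidAlgebra k M) ⊗[k] MonoidAlgebra k M)) ι₀ (toConv (AlgHom.id k A)) from rfl,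
      hD]
    group
    rfl
  have h' := congrArg (fun z => z a) (congrArg WithConv.ofConv h)
  rw [conj_eq, conj_eq] at h'
  simp only [AlgHom.comp_apply, AlgHom.comp_id] at h'
  refine Eq.trans ?_ h'
  generalize coact t a = z
  induction z using TensorProduct.induction_on with
  | zero => simp
  | tmul x y => simp [i₁, j₂]
  | add x y hx hy => simp only [map_add, hx, hy]

/-- Every element is a sum of weight vectors. -/
theorem exists_weights (a : A) : ∃ (s : Finset M) (f : M → A), (∀ m ∈ s, IsWeight t m (f m)) ∧ a = ∑ m ∈ s, f m := by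
  classical
  let c := TensorProduct.equivFinsuppOfBasisRight (MonoidAlgebra.basis M k) (M := A)
  let x := c (coact t a)
  have hx : coact t a = x.sum fun m v => v ⊗ₜ[k] MonoidAlgebra.single m (1 : k) := by
    conv_lhs => rw [← c.symm_apply_apply (coact t a)]
    rw [TensorProduct.equivFinsuppOfBasisRight_symm_apply]
    simp [x, c]
  refine ⟨x.support, fun m => x m, fun m hm => ?_, ?_⟩
  · have h := coact_assoc t a
    rw [hx] at h
    simp only [Finsupp.sum, map_sum, Algebra.TensorProduct.map_tmul, AlgHom.id_apply, Algebra.TensorProduct.lift_tmul,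
      AlgHom.comp_apply, Bialgebra.comulAlgHom_apply, MonoidAlgebra.comul_single] at h
    let p := TensorProduct.equivFinsuppOfBasisRight (MonoidAlgebra.basis M k) (M := A ⊗[k] MonoidAlgebra k M)
    have h2 := congrArg (fun z => p z m) h
    simp [p, map_sum, MonoidAlgebra.basis, Finsupp.single_apply] at h2
    simpa [IsWeight, Finsupp.mem_support_iff.1 hm] using h2
  · have hone : conj t (AlgHom.id k A) ((Algebra.ofId k A).comp (Bialgebra.counitAlgHom k (MonoidAlgebra k M)))
        (toConv (AlgHom.id k A)) = toConv (AlgHom.id k A) := by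
      have : push ((Algebra.ofId k A).comp (Bialgebra.counitAlgHom k (MonoidAlgebra k M)))
          (toConv (t : A →ₐ[k] MonoidAlgebra k M)) = 1 :=
        WithConv.ext (AlgHom.ext fun b => by
          rw [AlgHom.convOne_apply]
          exact congrArg (algebraMap k A) (CoalgHomClass.counit_comp_apply t b))
      rw [conj, this, inv_one, _root_.mul_one, _root_.one_mul]
      rfl
    have h := congrArg (fun z => z a) (congrArg WithConv.ofConv hone)
    rw [conj_eq, AlgHom.comp_apply, hx] at h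
    refine Eq.trans h.symm ?_
    simp [Finsupp.sum, map_sum]

/-- Finitely many weight vectors generate. -/
theorem exists_generators [Algebra.FiniteType k A] :
    ∃ s : Finset (M × A), (∀ p ∈ s, IsWeight t p.1 p.2) ∧ Algebra.adjoin k ((fun p : M × A => p.2) '' ↑s) = ⊤ := by
  classical
  obtain ⟨g, hg⟩ := (inferInstance : Algebra.FiniteType k A).out
  choose s f hf hsum using exists_weights t
  refine ⟨g.biUnion fun a => (s a).image fun m => (m, f a m), fun p hp => ?_, ?_⟩
  · obtain ⟨a, -, hp⟩ := Finset.mem_biUnion.1 hp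
    obtain ⟨m, hm, rfl⟩ := Finset.mem_image.1 hp
    exact hf a m hm
  · rw [eq_top_iff, ← hg, Algebra.adjoin_le_iff]
    intro a ha
    rw [hsum a]
    refine Subalgebra.sum_mem _ fun m hm => Algebra.subset_adjoin ⟨(m, f a m), ?_, rfl⟩
    exact Finset.mem_coe.2 (Finset.mem_biUnion.2 ⟨a, ha, Finset.mem_image_of_mem _ hm⟩)

/-- A point killing the moving generators is fixed, and conversely if the values separate. -/
theorem conj_eq_iff {s : Finset (M × A)} (hs : ∀ p ∈ s, IsWeight t p.1 p.2)
    (htop : Algebra.adjoin k ((fun p : M × A => p.2) '' ↑s) = ⊤) (ι : R →ₐ[k] S) (η : MonoidAlgebra k M →ₐ[k] S)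
    (hsep : ∀ p ∈ s, p.1 ≠ 1 → ∀ x : R, ι x * (η (MonoidAlgebra.single p.1 1) - 1) = 0 → x = 0) (g : Pt k A R) :
    conj t ι η g = push ι g ↔ ∀ p ∈ s, p.1 ≠ 1 → g.ofConv p.2 = 0 := by
  refine ⟨fun h p hp hne => hsep p hp hne _ ?_, fun h => ?_⟩
  · have := congrArg (fun z : Pt k A S => z.ofConv p.2) h
    rw [conj_apply t (hs p hp)] at this
    rw [mul_sub, this, _root_.mul_one]
    exact sub_self _
  · refine WithConv.ext (AlgHom.ext_of_adjoin_eq_top htop ?_)
    rintro _ ⟨p, hp, rfl⟩
    rw [conj_apply t (hs p (Finset.mem_coe.1 hp))]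
    show _ = ι (g.ofConv p.2)
    by_cases hne : p.1 = 1
    · rw [hne, ← MonoidAlgebra.one_def, map_one, _root_.mul_one]
    · rw [h p (Finset.mem_coe.1 hp) hne, map_zero, zero_mul]

/-- Commuting with the universal point. -/
def Commutes (g : Pt k A R) : Prop :=
  conj t (Algebra.TensorProduct.includeLeft : R →ₐ[k] R ⊗[k] MonoidAlgebra k M) Algebra.TensorProduct.includeRight g =
    push Algebra.TensorProduct.includeLeft g

theorem commutes_iff {s : Finset (M × A)} (hs : ∀ p ∈ s, IsWeight t p.1 p.2)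
    (htop : Algebra.adjoin k ((fun p : M × A => p.2) '' ↑s) = ⊤) (g : Pt k A R) :
    Commutes t g ↔ ∀ p ∈ s, p.1 ≠ 1 → g.ofConv p.2 = 0 := by
  classical
  refine conj_eq_iff t hs htop _ _ (fun p _ hne x hx => ?_) g
  have h := congrArg (fun z => TensorProduct.equivFinsuppOfBasisRight (MonoidAlgebra.basis M k) (M := R) z 1) hx
  simpa [mul_sub, MonoidAlgebra.one_def, MonoidAlgebra.basis, Finsupp.single_apply, hne] using h

/-- The conjugate of a commuting point by any value of the torus. -/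
theorem commutes_conj {g : Pt k A R} (h : Commutes t g) (ι : R →ₐ[k] S) (η : MonoidAlgebra k M →ₐ[k] S) :
    conj t ι η g = push ι g := by
  have h' := congrArg (push (Algebra.TensorProduct.lift ι η (fun _ _ => Commute.all _ _))) h
  rw [conj, push_mul, push_mul, push_inv] at h'
  have e1 : ∀ x : Pt k A (MonoidAlgebra k M), push (Algebra.TensorProduct.lift ι η (fun _ _ => Commute.all _ _))
      (push Algebra.TensorProduct.includeRight x) = push η x := fun x => WithConv.ext (AlgHom.ext fun a => by simp [push])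
  have e2 : push (Algebra.TensorProduct.lift ι η (fun _ _ => Commute.all _ _))
      (push Algebra.TensorProduct.includeLeft g) = push ι g := WithConv.ext (AlgHom.ext fun a => by simp [push])
  rw [e1, e2] at h'
  exact h'

/-- The map to Laurent polynomials of a character. -/
def toLaurent (θ : M →* Multiplicative ℤ) : MonoidAlgebra k M →ₐc[k] k[T;T⁻¹] :=
  .ofAlgHom (MonoidAlgebra.lift k k[T;T⁻¹] M
    { toFun := fun m => T (Multiplicative.toAdd (θ m))
      map_one' := by simp
      map_mul' := fun a b => by rw [map_mul, toAdd_mul, T_add] })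
    (by ext; simp) (by ext; simp)

theorem toLaurent_single (θ : M →* Multiplicative ℤ) (m : M) :
    toLaurent (k := k) θ (MonoidAlgebra.single m 1) = T (Multiplicative.toAdd (θ m)) := by
  show MonoidAlgebra.lift k k[T;T⁻¹] M _ (MonoidAlgebra.single m 1) = _
  simp

theorem conjOrbit_eq (θ : M →* Multiplicative ℤ) (g : Pt k A R) :
    Dyn.conjOrbit k A ((toLaurent (k := k) θ).comp t) R g.ofConv =
      (conj t (IsScalarTower.toAlgHom k R R[T;T⁻¹])
        ((AddMonoidAlgebra.mapAlgHom ℤ (Algebra.ofId k R)).comp ((toLaurent (k := k) θ : MonoidAlgebra k M →ₐc[k] k[T;T⁻¹]) : MonoidAlgebra k M →ₐ[k] k[T;T⁻¹])) g).ofConv := by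
  rw [Dyn.conjOrbit, Takeuchi.conv3_eq]
  rfl

/-- The centralizer of a split torus: smooth and connected, cut out by a Hopf ideal, and equal to the
centralizer of a suitable rational point of the torus. -/
theorem exists_centralizer [Infinite k] [Algebra.FiniteType k A]
    (hsep : ∀ s : Finset M, (∀ m ∈ s, m ≠ 1) → ∃ θ : M →* Multiplicative ℤ, ∀ m ∈ s, θ m ≠ 1) :
    ∃ (J : Ideal A) (_ : J.IsHopfIdeal k) (χ : MonoidAlgebra k M →ₐ[k] k),
      (∀ (R : Type u) [CommRing R] [Algebra k R] (g : Pt k A R), (∀ a ∈ J, g.ofConv a = 0) ↔ Commutes t g) ∧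
      (∀ (R : Type u) [CommRing R] [Algebra k R] (g : Pt k A R),
        conj t (AlgHom.id k R) ((Algebra.ofId k R).comp χ) g = g → Commutes t g) ∧
      (Algebra.FinitePresentation k A → Algebra.Smooth k A → Algebra.Smooth k (A ⧸ J)) ∧
      ((∀ e : A, IsIdempotentElem e → e = 0 ∨ e = 1) → ∀ e : A ⧸ J, IsIdempotentElem e → e = 0 ∨ e = 1) := by
  classical
  obtain ⟨s, hs, htop⟩ := exists_generators t
  obtain ⟨θ, hθ⟩ := hsep ((s.image Prod.fst).filter (· ≠ 1)) fun m hm => (Finset.mem_filter.1 hm).2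
  have hθ' : ∀ p ∈ s, p.1 ≠ 1 → Multiplicative.toAdd (θ p.1) ≠ 0 := fun p hp hne h =>
    hθ p.1 (Finset.mem_filter.2 ⟨Finset.mem_image_of_mem _ hp, hne⟩) (Multiplicative.toAdd.injective h)
  let lam := (toLaurent (k := k) θ).comp t
  let lamNeg := (toLaurent (k := k) θ⁻¹).comp t
  have hneg : (lamNeg : A →ₐ[k] k[T;T⁻¹]) = Dyn.negParam k A lam := by
    have e : ((toLaurent (k := k) θ⁻¹ : MonoidAlgebra k M →ₐc[k] k[T;T⁻¹]) : MonoidAlgebra k M →ₐ[k] k[T;T⁻¹]) =
        ((LaurentPolynomial.invert (R := k)).toAlgHom).comp ((toLaurent (k := k) θ : MonoidAlgebra k M →ₐc[k] k[T;T⁻¹]) : MonoidAlgebra k M →ₐ[k] k[T;T⁻¹]) := by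
      refine MonoidAlgebra.algHom_ext (fun m => ?_) (by ext)
      show toLaurent (k := k) θ⁻¹ (MonoidAlgebra.single m 1) = invert (toLaurent (k := k) θ (MonoidAlgebra.single m 1))
      rw [toLaurent_single, toLaurent_single, invert_T]
      rfl
    exact AlgHom.ext fun a => DFunLike.congr_fun e (t a)
  obtain ⟨Jp, hJp, hp⟩ := Groth.Agent.S3302.result k A lam
  obtain ⟨Jp', hJp', hp'⟩ := Groth.Agent.S3302.result k A lamNeg
  obtain ⟨Ju, hJu, hu⟩ := Groth.Agent.S3303.result k A lam
  obtain ⟨Jm, hJm, hm⟩ := Groth.Agent.S3303.result k A lamNeg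
  haveI := hJp; haveI := hJp'; haveI := hJu; haveI := hJm
  have hz := Groth.Agent.S3309.result k A lam lamNeg hneg Jp Jp' hp hp'
  have horb : ∀ (R : Type u) [CommRing R] [Algebra k R] (g : Pt k A R),
      Dyn.conjOrbit k A lam R g.ofConv = (IsScalarTower.toAlgHom k R R[T;T⁻¹]).comp g.ofConv ↔ Commutes t g := by
    intro R _ _ g
    rw [conjOrbit_eq, commutes_iff t hs htop]
    refine Iff.trans ⟨fun h => WithConv.ext h, fun h => congrArg WithConv.ofConv h⟩
      (conj_eq_iff t hs htop _ _ (fun p hp hne x hx => ?_) g)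
    have h := congrArg (fun z : R[T;T⁻¹] => z.coeff (0 : ℤ)) hx
    rw [show (((AddMonoidAlgebra.mapAlgHom ℤ (Algebra.ofId k R)).comp ((toLaurent (k := k) θ : MonoidAlgebra k M →ₐc[k] k[T;T⁻¹]) : MonoidAlgebra k M →ₐ[k] k[T;T⁻¹]))
      (MonoidAlgebra.single p.1 1)) = (T (Multiplicative.toAdd (θ p.1)) : R[T;T⁻¹]) by
        rw [AlgHom.comp_apply]
        show AddMonoidAlgebra.mapAlgHom ℤ (Algebra.ofId k R) (toLaurent (k := k) θ (MonoidAlgebra.single p.1 1)) = _
        rw [toLaurent_single]
        rw [T, AddMonoidAlgebra.mapAlgHom_single, map_one]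
        rfl] at h
    simpa [mul_sub, T, IsScalarTower.coe_toAlgHom', LaurentPolynomial.algebraMap_apply, -single_eq_C_mul_T, Finsupp.single_apply, hθ' p hp hne] using h
  have hJ : ∀ (R : Type u) [CommRing R] [Algebra k R] (g : Pt k A R),
      (∀ a ∈ Jp ⊔ Jp', g.ofConv a = 0) ↔ Commutes t g := fun R _ _ g => (hz R g.ofConv).trans (horb R g)
  haveI hJz : (Jp ⊔ Jp').IsHopfIdeal k :=
    { counit_eq_zero := fun a ha => by
        obtain ⟨x, hx, y, hy, rfl⟩ := Submodule.mem_sup.1 ha
        rw [map_add, (inferInstance : (Jp.restrictScalars k).IsCoideal).counit_eq_zero hx,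
          (inferInstance : (Jp'.restrictScalars k).IsCoideal).counit_eq_zero hy, add_zero]
      map_mkQ_comul_eq_zero := fun a ha => by
        obtain ⟨x, hx, y, hy, rfl⟩ := Submodule.mem_sup.1 ha
        have key : ∀ (J : Ideal A) [J.IsHopfIdeal k], J ≤ Jp ⊔ Jp' → ∀ x ∈ J,
            TensorProduct.map ((Jp ⊔ Jp').restrictScalars k).mkQ ((Jp ⊔ Jp').restrictScalars k).mkQ
              (Coalgebra.comul (R := k) x) = 0 := by
          intro J _ hle x hx
          let q : (A ⧸ J.restrictScalars k) →ₗ[k] A ⧸ (Jp ⊔ Jp').restrictScalars k :=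
            Submodule.mapQ _ _ LinearMap.id hle
          have e : q ∘ₗ (J.restrictScalars k).mkQ = ((Jp ⊔ Jp').restrictScalars k).mkQ := rfl
          rw [← e, TensorProduct.map_comp, LinearMap.comp_apply,
            (inferInstance : (J.restrictScalars k).IsCoideal).map_mkQ_comul_eq_zero hx, map_zero]
        rw [map_add, map_add, key Jp le_sup_left x hx, key Jp' le_sup_right y hy, add_zero]
      antipode_mem := fun a ha => by
        obtain ⟨x, hx, y, hy, rfl⟩ := Submodule.mem_sup.1 ha
        rw [map_add]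
        exact Submodule.add_mem_sup (Ideal.IsHopfIdeal.antipode_mem hx) (Ideal.IsHopfIdeal.antipode_mem hy) }
  -- the retraction of the limit group onto the centralizer
  let gP : A →ₐ[k] A ⧸ Jp := Ideal.Quotient.mkₐ k Jp
  obtain ⟨⟨z, w⟩, ⟨hz1, hz2, hz3⟩, -⟩ := Groth.Agent.S3310.result k A lam (A ⧸ Jp) gP
    ((hp (A ⧸ Jp) gP).1 fun a ha => Ideal.Quotient.eq_zero_iff_mem.2 ha)
  have hzJ : ∀ a ∈ Jp ⊔ Jp', z a = 0 := (hz (A ⧸ Jp) z).2 hz1
  let l : (A ⧸ (Jp ⊔ Jp')) →ₐ[k] A ⧸ Jp := Ideal.Quotient.liftₐ _ z hzJ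
  let q : (A ⧸ Jp) →ₐ[k] A ⧸ (Jp ⊔ Jp') := Ideal.Quotient.factorₐ k le_sup_left
  have hql : q.comp l = AlgHom.id k _ := by
    let gZ : A →ₐ[k] A ⧸ (Jp ⊔ Jp') := Ideal.Quotient.mkₐ k (Jp ⊔ Jp')
    have hgZ := (hz _ gZ).1 fun a ha => Ideal.Quotient.eq_zero_iff_mem.2 ha
    have hgZp : Dyn.LimExists k A lam _ gZ := (hp _ gZ).1 fun a ha =>
      Ideal.Quotient.eq_zero_iff_mem.2 (Submodule.mem_sup_left ha)
    obtain ⟨zu, -, huniq⟩ := Groth.Agent.S3310.result k A lam _ gZ hgZp
    have hqz : (∀ a ∈ Jp ⊔ Jp', q (z a) = 0) := fun a ha => by rw [hzJ a ha, map_zero]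
    have hqw : ∀ a ∈ Ju, q (w a) = 0 := fun a ha => by rw [(hu _ w).2 hz2 a ha, map_zero]
    have h1 := huniq (q.comp z, q.comp w) ⟨(hz _ _).1 hqz, (hu _ _).1 hqw, by
      have e : q.comp gP = gZ := AlgHom.ext fun _ => rfl
      rw [← e, ← hz3, Takeuchi.conv3_eq, Takeuchi.conv3_eq]
      change _ = (push q (toConv z * toConv w * toConv ((Algebra.ofId k (A ⧸ Jp)).comp (Bialgebra.counitAlgHom k A)))).ofConv
      rw [push_mul, push_mul]
      congr 1⟩
    have h2 := huniq (gZ, (Algebra.ofId k _).comp (Bialgebra.counitAlgHom k A)) ⟨hgZ, (hu _ _).1 (fun a ha => by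
      show algebraMap k _ (Coalgebra.counit (R := k) a) = 0
      rw [(inferInstance : (Ju.restrictScalars k).IsCoideal).counit_eq_zero ha, map_zero]), by
      rw [Takeuchi.conv3_eq]
      have e : (toConv ((Algebra.ofId k (A ⧸ (Jp ⊔ Jp'))).comp (Bialgebra.counitAlgHom k A)) :
          Pt k A (A ⧸ (Jp ⊔ Jp'))) = 1 := WithConv.ext (AlgHom.ext fun a => by simp [AlgHom.convOne_apply])
      rw [e, _root_.mul_one, _root_.mul_one]⟩
    refine Ideal.Quotient.algHom_ext k ?_
    exact congrArg Prod.fst (h1.trans h2.symm)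
  have hql' : ∀ x, q (l x) = x := DFunLike.congr_fun hql
  -- a point of the torus with the same centralizer
  obtain ⟨c, hc⟩ : ∃ c : kˣ, ∀ p ∈ s, p.1 ≠ 1 → ((c ^ Multiplicative.toAdd (θ p.1) : kˣ) : k) ≠ 1 := by
    let P : Polynomial k := Polynomial.X *
      ∏ p ∈ s.filter (fun p => p.1 ≠ 1), (Polynomial.X ^ (Multiplicative.toAdd (θ p.1)).natAbs - 1)
    have hP : P ≠ 0 := mul_ne_zero Polynomial.X_ne_zero (Finset.prod_ne_zero_iff.2 fun p hp => by
      obtain ⟨hp, hne⟩ := Finset.mem_filter.1 hp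
      exact (Polynomial.monic_X_pow_sub_C (1 : k) (Int.natAbs_ne_zero.2 (hθ' p hp hne))).ne_zero)
    obtain ⟨x, hx⟩ : ∃ x, P.eval x ≠ 0 := by
      by_contra! h
      exact hP (Polynomial.funext fun x => by simpa using h x)
    simp only [P, Polynomial.eval_mul, Polynomial.eval_X, mul_ne_zero_iff, Polynomial.eval_prod,
      Finset.prod_ne_zero_iff, Polynomial.eval_sub, Polynomial.eval_pow, Polynomial.eval_one, sub_ne_zero] at hx
    refine ⟨Units.mk0 x hx.1, fun p hp hne h => hx.2 p (Finset.mem_filter.2 ⟨hp, hne⟩) ?_⟩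
    have h' : (Units.mk0 x hx.1) ^ Multiplicative.toAdd (θ p.1) = 1 := Units.ext h
    have h'' : (Units.mk0 x hx.1) ^ (Multiplicative.toAdd (θ p.1)).natAbs = 1 := by
      rcases Int.natAbs_eq (Multiplicative.toAdd (θ p.1)) with e | e
      · rw [e, zpow_natCast] at h'; exact h'
      · rw [e, zpow_neg, zpow_natCast, inv_eq_one] at h'; exact h'
    simpa using congrArg Units.val h''
  let χ₀ : M →* k :=
    (Units.coeHom k).comp ((zpowersHom kˣ c).comp θ)
  refine ⟨Jp ⊔ Jp', hJz, MonoidAlgebra.lift k k M χ₀, hJ, fun R _ _ g hg => ?_, fun hfp hsm => ?_, fun hconn e he => ?_⟩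
  · rw [commutes_iff t hs htop]
    have e : push (AlgHom.id k R) g = g := WithConv.ext (AlgHom.id_comp _)
    refine (conj_eq_iff t hs htop _ _ (fun p hp hne x hx => ?_) g).1 (hg.trans e.symm)
    have hv : ((Algebra.ofId k R).comp (MonoidAlgebra.lift k k M χ₀)) (MonoidAlgebra.single p.1 1) =
        algebraMap k R ((c ^ Multiplicative.toAdd (θ p.1) : kˣ) : k) := by
      simp [χ₀, Algebra.ofId_apply]
    rw [hv, AlgHom.id_apply, ← map_one (algebraMap k R), ← map_sub, ← Algebra.commutes, ← Algebra.smul_def,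
      smul_eq_zero] at hx
    exact hx.resolve_left (sub_ne_zero.2 (hc p hp hne))
  · obtain ⟨hsmP, -, -⟩ := Groth.Agent.S3306.result k A lam lamNeg hneg Jp Ju Jm hp hu hm
    haveI := hsmP
    haveI : Algebra.FormallySmooth k (A ⧸ (Jp ⊔ Jp')) := by
      rw [Algebra.FormallySmooth.iff_comp_surjective]
      intro B _ _ I hI f
      obtain ⟨f', hf'⟩ := Algebra.FormallySmooth.comp_surjective k (A ⧸ Jp) I hI (f.comp q)
      exact ⟨f'.comp l, by rw [← AlgHom.comp_assoc, hf', AlgHom.comp_assoc, hql, AlgHom.comp_id]⟩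
    exact ⟨inferInstance, Algebra.FinitePresentation.of_finiteType.1 inferInstance⟩
  · rcases (Groth.Agent.S3307.result k A lam Jp Ju hp hu).2 hconn (l e) (he.map l) with h | h
    · exact Or.inl (by rw [← hql' e, h, map_zero])
    · exact Or.inr (by rw [← hql' e, h, map_one])

end Groth.Agent.Chev.CentTorus
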