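import Groth.Agent.Chev.Curve
import Mathlib.CategoryTheory.Monoidal.Cartesian.CommMon_
import Mathlib.FieldTheory.IsAlgClosed.Basic

/-!
# The embedding of rational functions by a translated curve, and its centres
-/

set_option autoImplicit false
set_option backward.isDefEq.respectTransparency false

universe u

open CategoryTheory CategoryTheory.Limits MonoidalCategory CartesianMonoidalCategory MonObj GrpObj AlgebraicGeometry
open Polynomial

noncomputable section

namespace Groth.Agent.Chev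

variable {k : Type u} [Field k] [IsAlgClosed k] {H : Over (Spec (CommRingCat.of k))} [GrpObj H] [IsCommMonObj H]

theorem pt_comm {T : Over (Spec (CommRingCat.of k))} (a b : T ⟶ H) : a * b = b * a :=
  letI := Hom.commMonoid (M := H) (X := T)
  _root_.mul_comm a b

variable [IsIntegral H.left] (c : RatCurve H)

namespace RatCurve

theorem exists_good : ∃ s : k, c.g.eval s ≠ 0 := by
  classical
  obtain ⟨s, hs⟩ := Infinite.exists_notMem_finset c.g.roots.toFinset
  exact ⟨s, fun h => hs (Multiset.mem_toFinset.2 ((mem_roots c.g_ne_zero).2 h))⟩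

theorem img_sL : img c.sL = genericPoint H.left := by
  obtain ⟨s, hs⟩ := c.exists_good
  have h : img c.sL ⤳ img (c.sQ (genericPoint H.left) (Qv _ s) (c.avoids_Qv hs)) := by
    rw [img, ← c.ptMap_sQ (genericPoint H.left) (Qv _ s) (c.avoids_Qv hs)]
    exact (IsLocalRing.specializes_closedPoint ((VecGrp.ptMap (locInc _ _)).left (IsLocalRing.closedPoint _))).map
      (c.sQ _ _ (c.avoids_Qv hs)).left.continuous
  rw [c.img_sQ_Qv hs, sh_generic] at h
  exact (h.antisymm (genericPoint_specializes' _)).eq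

/-- Pull back of rational functions along `(x, t) ↦ x · u(t)`. -/
def tau : KF H →ₐ[k] RatFunc (KF H) := fmap c.sL c.img_sL

theorem fit_sL (a : KF H) : Fit c.sL a (c.tau a) := Fit.fmap _ _ a

theorem fit_sQ_locInc {y : H.left} {Q : Ideal (H.left.presheaf.stalk y)[X]} [Q.IsPrime] (hQ : c.Avoids y Q)
    {a : KF H} {b : Localization.AtPrime Q} (h : Fit (c.sQ y Q hQ) a b) : locInc y Q b = c.tau a := by
  have h2 := h.map (locInc y Q)
  rw [c.ptMap_sQ] at h2
  exact h2.unique (c.fit_sL a)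

/-- `f` is a quotient of two polynomials outside `Q`. -/
def UAt (y : H.left) (Q : Ideal (H.left.presheaf.stalk y)[X]) (f : RatFunc (KF H)) : Prop :=
  ∃ p q, p ∉ Q ∧ q ∉ Q ∧ inc y p = f * inc y q

theorem UAt.one {y : H.left} {Q : Ideal (H.left.presheaf.stalk y)[X]} [hQ : Q.IsPrime] :
    UAt y Q (1 : RatFunc (KF H)) :=
  ⟨1, 1, Q.ne_top_iff_one.1 hQ.ne_top, Q.ne_top_iff_one.1 hQ.ne_top, by simp⟩

theorem UAt.mul {y : H.left} {Q : Ideal (H.left.presheaf.stalk y)[X]} [hQ : Q.IsPrime] {f f' : RatFunc (KF H)}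
    (h : UAt y Q f) (h' : UAt y Q f') : UAt y Q (f * f') := by
  obtain ⟨p, q, hp, hq, e⟩ := h
  obtain ⟨p', q', hp', hq', e'⟩ := h'
  exact ⟨p * p', q * q', hQ.mul_notMem hp hp', hQ.mul_notMem hq hq',
    by rw [map_mul, map_mul, e, e', _root_.mul_mul_mul_comm]⟩

theorem UAt.ne_zero {y : H.left} {Q : Ideal (H.left.presheaf.stalk y)[X]} {f : RatFunc (KF H)}
    (h : UAt y Q f) : f ≠ 0 := by
  obtain ⟨p, q, hp, -, e⟩ := h
  intro hf
  rw [hf, zero_mul] at e
  exact inc_ne_zero y (fun e0 => hp (by rw [e0]; exact Q.zero_mem)) e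

theorem UAt.inv {y : H.left} {Q : Ideal (H.left.presheaf.stalk y)[X]} {f : RatFunc (KF H)}
    (h : UAt y Q f) : UAt y Q f⁻¹ := by
  have hf := h.ne_zero
  obtain ⟨p, q, hp, hq, e⟩ := h
  exact ⟨q, p, hq, hp, by rw [e, inv_mul_cancel_left₀ hf]⟩

theorem UAt.div {y : H.left} {Q : Ideal (H.left.presheaf.stalk y)[X]} [Q.IsPrime] {f f' : RatFunc (KF H)}
    (h : UAt y Q f) (h' : UAt y Q f') : UAt y Q (f / f') := by rw [div_eq_mul_inv]; exact h.mul h'.inv

theorem uAt_of_un {y : H.left} {Q : Ideal (H.left.presheaf.stalk y)[X]} [Q.IsPrime] (hQ : c.Avoids y Q)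
    {a : KF H} (h : Un (img (c.sQ y Q hQ)) a) : UAt y Q (c.tau a) := by
  obtain ⟨b, hb⟩ := exists_fit _ h.mem
  have hu : IsUnit b := hb.isUnit_iff.2 h
  obtain ⟨p, q, rfl⟩ := IsLocalization.exists_mk'_eq Q.primeCompl b
  rw [IsLocalization.AtPrime.isUnit_mk'_iff _ Q] at hu
  refine ⟨p, q, hu, q.2, ?_⟩
  rw [← c.fit_sQ_locInc hQ hb, locInc_mk', div_mul_cancel₀ _ (inc_ne_zero y fun e => q.2 (by rw [e]; exact Q.zero_mem))]

theorem exists_quot {y : H.left} {Q : Ideal (H.left.presheaf.stalk y)[X]} [Q.IsPrime] (hQ : c.Avoids y Q)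
    {a : KF H} (h : Mem (img (c.sQ y Q hQ)) a) : ∃ p q, q ∉ Q ∧ inc y p = c.tau a * inc y q := by
  obtain ⟨b, hb⟩ := exists_fit _ h
  obtain ⟨p, q, rfl⟩ := IsLocalization.exists_mk'_eq Q.primeCompl b
  refine ⟨p, q, q.2, ?_⟩
  rw [← c.fit_sQ_locInc hQ hb, locInc_mk', div_mul_cancel₀ _ (inc_ne_zero y fun e => q.2 (by rw [e]; exact Q.zero_mem))]

/-- Specialization of the parameter computes translation. -/
theorem exists_quot_eval {y : H.left} {s : k} (hs : c.g.eval s ≠ 0) {a : KF H}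
    (h : Mem (sh y (c.uv s)) a) :
    ∃ (p q : (H.left.presheaf.stalk y)[X]), IsUnit (q.eval (algebraMap k _ s)) ∧
      inc y p = c.tau a * inc y q ∧
      toKF y (p.eval (algebraMap k _ s)) = tK (c.uv s) a * toKF y (q.eval (algebraMap k _ s)) := by
  have hQ := c.avoids_Qv (y := y) hs
  obtain ⟨b, hb⟩ := exists_fit (a := a) (c.sQ y (Qv y s) hQ) (by rwa [c.img_sQ_Qv hs])
  obtain ⟨p, q, rfl⟩ := IsLocalization.exists_mk'_eq (Qv y s).primeCompl b
  refine ⟨p, q, notMem_Qv.1 q.2, ?_, ?_⟩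
  · rw [← c.fit_sQ_locInc hQ hb, locInc_mk', div_mul_cancel₀ _ (inc_ne_zero y fun e => q.2 (by rw [e]; exact Ideal.zero_mem _))]
  · have h2 := (hb.map (epsAt y s))
    rw [c.ptMap_epsAt hs] at h2
    have h3 := h2.map (toKF y)
    rw [MonObj.comp_mul, ptMap_toKF, ptMap_rat] at h3
    have e := h3.unique (Fit.fmap (gen H * rat (c.uv s)) (by rw [img_mul_rat, gen, img, spt_apply, sh_generic]) a)
    show toKF y _ = tK (c.uv s) a * _
    rw [tK, ← e, ← epsAt_algebraMap (y := y) s p, ← epsAt_algebraMap (y := y) s (q : (H.left.presheaf.stalk y)[X]),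
      ← map_mul, ← map_mul, IsLocalization.mk'_spec]

/-- Coefficientwise translation. -/
def tL (d : RP H) : RatFunc (KF H) →ₐ[k] RatFunc (KF H) :=
  RatFunc.mapAlgHom (Polynomial.mapAlgHom (tK d)) fun p hp => by
    simp only [Submonoid.mem_comap, mem_nonZeroDivisors_iff_ne_zero] at hp ⊢
    exact (Polynomial.map_ne_zero_iff (tK d).toRingHom.injective).2 hp

theorem tL_algebraMap (d : RP H) (p : (KF H)[X]) :
    tL d (algebraMap _ _ p) = algebraMap _ _ (p.map (tK d).toRingHom) := by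
  have h := RatFunc.map_apply_div_ne_zero (Polynomial.mapAlgHom (tK d)) (fun p hp => by
    simp only [Submonoid.mem_comap, mem_nonZeroDivisors_iff_ne_zero] at hp ⊢
    exact (Polynomial.map_ne_zero_iff (tK d).toRingHom.injective).2 hp) p 1 one_ne_zero
  simp only [map_one, div_one] at h
  exact h

theorem tL_tau (d : RP H) (a : KF H) : tL d (c.tau a) = c.tau (tK d a) := by
  have h1 := (c.fit_sL a).map (tL d)
  have h2 : Fit (gen H * rat d) a (tK d a) := Fit.fmap _ _ a
  have h3 := h2.map c.tau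
  have e : VecGrp.ptMap (tL d) ≫ c.sL = VecGrp.ptMap c.tau ≫ (gen H * rat d) := by
    have hsL : c.sL = (VecGrp.ptMap (IsScalarTower.toAlgHom k (KF H) (RatFunc (KF H))) ≫ gen H) *
        c.pu RatFunc.X c.isUnit_X := rfl
    rw [MonObj.comp_mul, tau, ptMap_fmap, ptMap_rat, hsL, MonObj.comp_mul, ← Category.assoc, ← ptMap_comp,
      ptMap_pu]
    have e1 : (tL d).comp (IsScalarTower.toAlgHom k (KF H) (RatFunc (KF H))) =
        (IsScalarTower.toAlgHom k (KF H) (RatFunc (KF H))).comp (tK d) := AlgHom.ext fun r => by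
      show tL d (algebraMap (KF H) _ r) = algebraMap (KF H) _ (tK d r)
      rw [IsScalarTower.algebraMap_apply (KF H) (KF H)[X], IsScalarTower.algebraMap_apply (KF H) (KF H)[X],
        tL_algebraMap]
      simp
    rw [e1, ptMap_comp, Category.assoc, ptMap_tK, MonObj.comp_mul, ptMap_rat, _root_.mul_assoc,
      _root_.mul_assoc, pt_comm (rat d)]
    congr 2
    exact c.pu_congr (by rw [← RatFunc.algebraMap_X, tL_algebraMap, map_X]) _ _
  rw [e] at h1
  exact h1.unique h3

end RatCurve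

end Groth.Agent.Chev
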