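import Groth.Agent.HomDiag.DualConst
import Groth.Agent.HomDiag.Const

/-!
# The constant group ℤ over a field

The disjoint union of copies of the base indexed by ℤ is a commutative group scheme, free on one point.
-/

set_option autoImplicit false

universe u

open CategoryTheory Limits MonoidalCategory CartesianMonoidalCategory MonObj GrpObj AlgebraicGeometry
open AlgGrp
open scoped CategoryTheory.Obj

noncomputable section

namespace Groth.Agent.Chev

open Groth.Agent.HomDiag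

variable {S : Scheme.{u}}

set_option backward.isDefEq.respectTransparency false in
theorem eq_of_pieces' {I : Type u} {G : Over S} {X : Over S} (g : X ⟶ TwC.const S I) (a b : X ⟶ G)
    (h : ∀ (m : I) (W : Over S) (w : W ⟶ X), w ≫ g = toUnit W ≫ TwC.pt S I m → w ≫ a = w ≫ b) : a = b := by
  apply Over.OverMorphism.ext
  refine Scheme.Cover.hom_ext ((sigmaOpenCover (fun _ : I => S)).pullback₁ g.left) _ _ fun m => ?_
  let W : Over S := Over.mk (pullback.fst g.left (Sigma.ι (fun _ : I => S) m) ≫ X.hom)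
  let w : W ⟶ X := Over.homMk (pullback.fst g.left (Sigma.ι (fun _ : I => S) m)) rfl
  have hw : w ≫ g = toUnit W ≫ TwC.pt S I m := by
    apply Over.OverMorphism.ext
    show pullback.fst g.left (Sigma.ι (fun _ : I => S) m) ≫ g.left = (toUnit W).left ≫ Sigma.ι (fun _ : I => S) m
    rw [pullback.condition]
    congr 1
    have h2 : pullback.snd g.left (Sigma.ι (fun _ : I => S) m) =
        pullback.fst g.left (Sigma.ι (fun _ : I => S) m) ≫ X.hom := by
      rw [← Over.w g, ← Category.assoc, pullback.condition, Category.assoc]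
      show _ = _ ≫ Sigma.ι (fun _ : I => S) m ≫ Sigma.desc (fun _ => 𝟙 S)
      rw [Sigma.ι_desc, Category.comp_id]
    exact h2
  exact congrArg CommaMorphism.left (h m W w hw)

set_option backward.isDefEq.respectTransparency false in
set_option maxHeartbeats 1000000 in
/-- **The constant group `ℤ`**: a commutative group free on one point. -/
theorem exists_constZ (S : Scheme.{u}) :
    ∃ (C : Over S) (_ : GrpObj C) (_ : IsCommMonObj C) (c : 𝟙_ (Over S) ⟶ C),
      LocallyOfFiniteType C.hom ∧ IsOpenImmersion η[C].left ∧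
      ∀ (A : Over S) [GrpObj A] [IsCommMonObj A] (a : 𝟙_ (Over S) ⟶ A),
        ∃ ψ : C ⟶ A, IsMonHom ψ ∧ c ≫ ψ = a := by
  let I := ULift.{u} (ℤ →+ ℤ)
  obtain ⟨υ, hυ, hpt⟩ := exists_representsHom_DS (S := S) (M := ℤ) (N := ℤ)
  obtain ⟨g, hg⟩ := HomDiag.exists_grpObj hυ
  letI := g
  let C := TwC.const S I
  have hext : ∀ {T : Over S} (a b : T ⟶ C), (Red.Gm S ◁ a) ≫ υ = (Red.Gm S ◁ b) ≫ υ → a = b := fun {T} a b h =>
    (hυ.2 T _ (isHomFamily_res (Red.Gm S) (Red.Gm S) hυ.1 b)).unique h rfl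
  haveI : IsCommMonObj C := ⟨by
    rw [show μ[C] = fst C C * snd C C from Eq.symm (by rw [Hom.mul_def, lift_fst_snd, Category.id_comp]),
      MonObj.comp_mul, braiding_hom_fst, braiding_hom_snd]
    refine hext _ _ ?_
    rw [show (Red.Gm S ◁ (snd C C * fst C C)) = lift (fst _ _) ((snd _ _ ≫ snd C C) * (snd _ _ ≫ fst C C)) from by
        apply CartesianMonoidalCategory.hom_ext <;> simp [MonObj.comp_mul],
      show (Red.Gm S ◁ (fst C C * snd C C)) = lift (fst _ _) ((snd _ _ ≫ fst C C) * (snd _ _ ≫ snd C C)) from by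
        apply CartesianMonoidalCategory.hom_ext <;> simp [MonObj.comp_mul], hg, hg]
    exact ch_ext fun m => by rw [ch_mul, ch_mul, mul_comm]⟩
  have hadd : ∀ θ θ' : ℤ →+ ℤ, TwC.pt S I ⟨θ⟩ * TwC.pt S I ⟨θ'⟩ = TwC.pt S I ⟨θ + θ'⟩ := fun θ θ' => by
    refine hext _ _ ?_
    rw [show (Red.Gm S ◁ (TwC.pt S I ⟨θ⟩ * TwC.pt S I ⟨θ'⟩)) =
        lift (fst _ _) ((snd _ _ ≫ TwC.pt S I ⟨θ⟩) * (snd _ _ ≫ TwC.pt S I ⟨θ'⟩)) from by
        apply CartesianMonoidalCategory.hom_ext <;> simp [MonObj.comp_mul], hg, hpt,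
      show lift (fst _ _) (snd _ _ ≫ TwC.pt S I ⟨θ⟩) = Red.Gm S ◁ TwC.pt S I ⟨θ⟩ from by
        apply CartesianMonoidalCategory.hom_ext <;> simp,
      show lift (fst _ _) (snd _ _ ≫ TwC.pt S I ⟨θ'⟩) = Red.Gm S ◁ TwC.pt S I ⟨θ'⟩ from by
        apply CartesianMonoidalCategory.hom_ext <;> simp, hpt, hpt]
    exact ch_ext fun m => by
      rw [ch_mul, ch_DSmap, ch_DSmap, ch_DSmap, ← map_mul, ← ofAdd_add]
      rfl
  have hzero : (1 : 𝟙_ (Over S) ⟶ C) = TwC.pt S I ⟨0⟩ := by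
    have h := hadd 0 0
    rw [add_zero] at h
    exact (mul_eq_left.1 h).symm
  refine ⟨C, g, inferInstance, TwC.pt S I ⟨AddMonoidHom.id ℤ⟩, ?_, ?_, fun A _ _ a => ?_⟩
  · refine (IsZariskiLocalAtSource.iff_of_openCover (P := @LocallyOfFiniteType) (sigmaOpenCover (fun _ : I => S))).2
      fun i => ?_
    show LocallyOfFiniteType (Sigma.ι (fun _ : I => S) i ≫ Sigma.desc fun _ => 𝟙 S)
    rw [Sigma.ι_desc]; infer_instance
  · rw [show η[C] = TwC.pt S I ⟨0⟩ from by rw [← hzero, Hom.one_def, toUnit_unit, Category.id_comp]]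
    show IsOpenImmersion (Sigma.ι (fun _ : I => S) ⟨0⟩)
    infer_instance
  · let ψ : C ⟶ A := Over.homMk (Sigma.desc fun θ : I => (a ^ (θ.down 1)).left) (Sigma.hom_ext _ _ fun θ => by
      show Sigma.ι (fun _ : I => S) θ ≫ Sigma.desc _ ≫ A.hom = Sigma.ι (fun _ : I => S) θ ≫ Sigma.desc _
      rw [Sigma.ι_desc_assoc, Sigma.ι_desc]
      exact Over.w (a ^ (θ.down 1)))
    have hψ : ∀ θ : I, TwC.pt S I θ ≫ ψ = a ^ (θ.down 1) := fun θ => Over.OverMorphism.ext (Sigma.ι_desc _ _)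
    refine ⟨ψ, HomDiag.isMonHom_of_mul ψ fun X g₁ g₂ => ?_, by rw [hψ]; exact zpow_one a⟩
    refine eq_of_pieces' g₁ _ _ fun θ W w hw => ?_
    refine eq_of_pieces' (w ≫ g₂) _ _ fun θ' V v hv => ?_
    rw [← Category.assoc v w, ← Category.assoc v w, MonObj.comp_mul, ← Category.assoc _ (g₁ * g₂),
      MonObj.comp_mul, ← Category.assoc _ g₁, ← Category.assoc _ g₂]
    have e₁ : (v ≫ w) ≫ g₁ = toUnit V ≫ TwC.pt S I θ := by
      rw [Category.assoc, hw, ← Category.assoc, toUnit_unique (v ≫ toUnit W) (toUnit V)]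
    have e₂ : (v ≫ w) ≫ g₂ = toUnit V ≫ TwC.pt S I θ' := by rw [Category.assoc, hv]
    obtain ⟨θ⟩ := θ
    obtain ⟨θ'⟩ := θ'
    rw [e₁, e₂, ← MonObj.comp_mul, hadd, Category.assoc, Category.assoc, Category.assoc, hψ, hψ, hψ,
      ← MonObj.comp_mul, ← zpow_add]
    rfl

end Groth.Agent.Chev
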