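import Mathlib

/-!
# Factoring through proper morphisms with trivial direct image of the structure sheaf

Let `f : X ⟶ Y` be closed and surjective, and bijective on sections over the members of a basis of opens
of `Y`. Then `f` is an epimorphism and every morphism out of `X` constant on the fibres factors through `f`.
-/

set_option autoImplicit false

universe u

open CategoryTheory CategoryTheory.Limits AlgebraicGeometry TopologicalSpace

namespace Groth.Agent.Contract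

variable {X Y : Scheme.{u}}

/-- The members of a family of opens on which sections are bijective form a basis. -/
def HasGoodBasis (f : X ⟶ Y) : Prop :=
  ∀ (y : Y) (U : Y.Opens), y ∈ U → ∃ W : Y.Opens, y ∈ W ∧ W ≤ U ∧ Function.Bijective (f.app W)

theorem bijective_appTop_restrict (f : X ⟶ Y) (W : Y.Opens) (h : Function.Bijective (f.app W)) :
    Function.Bijective (f ∣_ W).appTop := by
  have h2 : W.ι ''ᵁ ⊤ = W := W.ι_image_top
  have h1 : IsIso (f.app W) := (ConcreteCategory.isIso_iff_bijective _).2 h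
  have h3 : IsIso (f.app (W.ι ''ᵁ ⊤)) := by rw [h2]; exact h1
  have : IsIso ((f ∣_ W).appTop) := by
    rw [Scheme.Hom.appTop, morphismRestrict_app]
    refine @IsIso.comp_isIso _ _ _ _ _ _ _ h3 ?_
    exact Functor.map_isIso X.presheaf _
  exact ConcreteCategory.bijective_of_isIso _

variable (f : X ⟶ Y) [Surjective f] (hb : HasGoodBasis f)

include hb

/-- Uniqueness on opens. -/
theorem hom_ext_opens {Z : Scheme.{u}} (U : Y.Opens) (a b : (U : Scheme.{u}) ⟶ Z)
    (h : (f ∣_ U) ≫ a = (f ∣_ U) ≫ b) : a = b := by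
  have hpt : ∀ z, a z = b z := fun z => by
    haveI : Surjective (f ∣_ U) :=
      MorphismProperty.of_isPullback (P := @Surjective) (isPullback_morphismRestrict f U).flip ‹_›
    obtain ⟨x, hx⟩ := (f ∣_ U).surjective z
    rw [← hx, ← Scheme.Hom.comp_apply, h, Scheme.Hom.comp_apply]
  have hloc : ∀ z : (U : Scheme.{u}), ∃ (W : Y.Opens) (hWU : W ≤ U), z.1 ∈ W ∧
      Y.homOfLE hWU ≫ a = Y.homOfLE hWU ≫ b := by
    intro z
    obtain ⟨V, hV, hzV, -⟩ := exists_isAffineOpen_mem_and_subset (show a z ∈ (⊤ : Z.Opens) from trivial)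
    have hz : z.1 ∈ U.ι ''ᵁ (a ⁻¹ᵁ V) := ⟨z, hzV, rfl⟩
    obtain ⟨W, hzW, hWle, hW⟩ := hb z.1 (U.ι ''ᵁ (a ⁻¹ᵁ V)) hz
    have hWU : W ≤ U := hWle.trans (by
      rintro y ⟨t, -, rfl⟩
      exact t.2)
    refine ⟨W, hWU, hzW, ?_⟩
    have hra : Set.range (Y.homOfLE hWU ≫ a) ⊆ Set.range V.ι := by
      rintro y ⟨w, rfl⟩
      obtain ⟨t, ht, hte⟩ := hWle w.2
      have : Y.homOfLE hWU w = t := Subtype.ext (by
        rw [show ((Y.homOfLE hWU) w).1 = w.1 from Scheme.homOfLE_apply hWU w]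
        exact hte.symm)
      rw [Scheme.Hom.comp_apply, this, Scheme.Opens.range_ι]
      exact ht
    have hrb : Set.range (Y.homOfLE hWU ≫ b) ⊆ Set.range V.ι := by
      rintro y ⟨w, rfl⟩
      rw [Scheme.Hom.comp_apply, ← hpt, ← Scheme.Hom.comp_apply]
      exact hra ⟨w, rfl⟩
    haveI : IsAffine (V : Scheme.{u}) := hV
    have e : IsOpenImmersion.lift V.ι _ hra = IsOpenImmersion.lift V.ι _ hrb := by
      have hf : (f ∣_ W) ≫ Y.homOfLE hWU = X.homOfLE (f.preimage_mono hWU) ≫ (f ∣_ U) := by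
        rw [← cancel_mono U.ι]
        simp
      have e' : (f ∣_ W) ≫ IsOpenImmersion.lift V.ι _ hra = (f ∣_ W) ≫ IsOpenImmersion.lift V.ι _ hrb := by
        rw [← cancel_mono V.ι, Category.assoc, Category.assoc, IsOpenImmersion.lift_fac,
          IsOpenImmersion.lift_fac, reassoc_of% hf, reassoc_of% hf, h]
      refine ext_of_isAffine ?_
      have e'' := congrArg Scheme.Hom.appTop e'
      rw [Scheme.Hom.comp_appTop, Scheme.Hom.comp_appTop] at e''
      exact CommRingCat.hom_ext (RingHom.ext fun s =>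
        (bijective_appTop_restrict f W hW).1 (congrArg (fun t => t.hom s) e''))
    rw [← IsOpenImmersion.lift_fac V.ι _ hra, e, IsOpenImmersion.lift_fac]
  choose W hWU hzW hW using hloc
  let 𝒰 : (U : Scheme.{u}).OpenCover := (U : Scheme.{u}).openCoverOfIsOpenCover (fun z => U.ι ⁻¹ᵁ W z) (by
    rw [TopologicalSpace.IsOpenCover, eq_top_iff]
    exact fun z _ => Opens.mem_iSup.2 ⟨z, hzW z⟩)
  refine 𝒰.hom_ext _ _ fun z => ?_
  show (U.ι ⁻¹ᵁ W z).ι ≫ a = (U.ι ⁻¹ᵁ W z).ι ≫ b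
  have hfac : (U.ι ⁻¹ᵁ W z).ι = (U.ι ∣_ W z) ≫ Y.homOfLE (hWU z) := by
    rw [← cancel_mono U.ι]
    simp
  rw [hfac, Category.assoc, Category.assoc, hW z]

/-- Uniqueness. -/
theorem hom_ext {Z : Scheme.{u}} (a b : Y ⟶ Z) (h : f ≫ a = f ≫ b) : a = b := by
  have := hom_ext_opens f hb ⊤ ((⊤ : Y.Opens).ι ≫ a) ((⊤ : Y.Opens).ι ≫ b) (by
    rw [morphismRestrict_ι_assoc, morphismRestrict_ι_assoc, h])
  rw [← cancel_epi (Y.topIso.hom)]
  exact this

/-- Existence. -/
theorem exists_desc (hcl : IsClosedMap f) {Z : Scheme.{u}} (h : X ⟶ Z)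
    (hconst : ∀ p q : X, f p = f q → h p = h q) : ∃ k : Y ⟶ Z, f ≫ k = h := by
  choose s hs using fun y => f.surjective y
  have hks : ∀ p, h (s (f p)) = h p := fun p => hconst _ _ (hs (f p))
  have hk : Continuous fun y => h (s y) :=
    (Topology.IsQuotientMap.continuous_iff
      (IsClosedMap.isQuotientMap hcl f.continuous f.surjective)).2
      (h.continuous.congr fun p => (hks p).symm)
  have hloc : ∀ y : Y, ∃ (W : Y.Opens) (k : (W : Scheme.{u}) ⟶ Z), y ∈ W ∧ (f ∣_ W) ≫ k = (f ⁻¹ᵁ W).ι ≫ h := by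
    intro y
    obtain ⟨V, hV, hyV, -⟩ := exists_isAffineOpen_mem_and_subset (show h (s y) ∈ (⊤ : Z.Opens) from trivial)
    obtain ⟨W, hyW, hWle, hW⟩ := hb y ⟨(fun y => h (s y)) ⁻¹' (V : Set Z), V.2.preimage hk⟩ hyV
    have hr : Set.range ((f ⁻¹ᵁ W).ι ≫ h) ⊆ Set.range V.ι := by
      rintro z ⟨w, rfl⟩
      rw [Scheme.Opens.range_ι]
      show h w.1 ∈ V
      rw [← hks]
      exact hWle w.2
    haveI : IsAffine (V : Scheme.{u}) := hV
    let l := IsOpenImmersion.lift V.ι _ hr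
    haveI : IsIso (f ∣_ W).appTop := (ConcreteCategory.isIso_iff_bijective _).2 (bijective_appTop_restrict f W hW)
    let φ : Γ((V : Scheme.{u}), ⊤) ⟶ Γ((W : Scheme.{u}), ⊤) := l.appTop ≫ inv (f ∣_ W).appTop
    refine ⟨W, (W : Scheme.{u}).toSpecΓ ≫ Spec.map φ ≫ inv (V : Scheme.{u}).toSpecΓ ≫ V.ι, hyW, ?_⟩
    have e : (f ∣_ W) ≫ (W : Scheme.{u}).toSpecΓ ≫ Spec.map φ ≫ inv (V : Scheme.{u}).toSpecΓ = l := by
      rw [← cancel_mono (V : Scheme.{u}).toSpecΓ]
      simp only [Category.assoc, IsIso.inv_hom_id, Category.comp_id]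
      rw [Scheme.toSpecΓ_naturality_assoc, ← Spec.map_comp, Scheme.toSpecΓ_naturality]
      simp [φ]
    rw [show (f ⁻¹ᵁ W).ι ≫ h = l ≫ V.ι from (IsOpenImmersion.lift_fac _ _ _).symm, ← e]
    simp only [Category.assoc]
  choose W k hyW hk' using hloc
  let 𝒰 : Y.OpenCover := Y.openCoverOfIsOpenCover W (by
    rw [TopologicalSpace.IsOpenCover, eq_top_iff]
    exact fun y _ => Opens.mem_iSup.2 ⟨y, hyW y⟩)
  have hglue : ∀ i j : Y, pullback.fst (W i).ι (W j).ι ≫ k i = pullback.snd (W i).ι (W j).ι ≫ k j := by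
    intro i j
    let q := pullback.fst (W i).ι (W j).ι ≫ (W i).ι
    haveI : IsOpenImmersion q := inferInstance
    let e := q.isoOpensRange
    rw [← cancel_epi e.inv]
    refine hom_ext_opens f hb q.opensRange _ _ ?_
    have hi : (f ∣_ q.opensRange) ≫ e.inv ≫ pullback.fst (W i).ι (W j).ι ≫ (W i).ι =
        (f ⁻¹ᵁ q.opensRange).ι ≫ f := by
      show _ ≫ e.inv ≫ q = _
      rw [Scheme.Hom.isoOpensRange_inv_comp, morphismRestrict_ι]
    have key : ∀ (t : Y) (a : (f ⁻¹ᵁ q.opensRange : X.Opens).toScheme ⟶ (W t : Scheme.{u})),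
        a ≫ (W t).ι = (f ⁻¹ᵁ q.opensRange).ι ≫ f → a ≫ k t = (f ⁻¹ᵁ q.opensRange).ι ≫ h := by
      intro t a ha
      have hle : f ⁻¹ᵁ q.opensRange ≤ f ⁻¹ᵁ W t := by
        intro x hx
        show f x ∈ W t
        have := congrArg (fun g => g (⟨x, hx⟩ : (f ⁻¹ᵁ q.opensRange : X.Opens).toScheme)) ha
        simp only [Scheme.Hom.comp_apply, Scheme.Opens.ι_apply] at this
        rw [← this]
        exact Subtype.coe_prop _
      have : a = X.homOfLE hle ≫ (f ∣_ W t) := by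
        rw [← cancel_mono (W t).ι, ha]
        simp
      rw [this, Category.assoc, hk', Scheme.homOfLE_ι_assoc]
    rw [← Category.assoc (f ∣_ q.opensRange), ← Category.assoc _ _ (k i),
      ← Category.assoc (f ∣_ q.opensRange) e.inv, ← Category.assoc _ _ (k j),
      key i _ (by rw [Category.assoc, Category.assoc]; exact hi),
      key j _ (by
        rw [Category.assoc, Category.assoc, ← hi]
        congr 2
        exact pullback.condition.symm)]
  refine ⟨𝒰.glueMorphisms k hglue, ?_⟩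
  refine (X.openCoverOfIsOpenCover (fun y => f ⁻¹ᵁ W y) (by
    rw [TopologicalSpace.IsOpenCover, eq_top_iff]
    exact fun x _ => Opens.mem_iSup.2 ⟨f x, hyW (f x)⟩)).hom_ext _ _ fun y => ?_
  show (f ⁻¹ᵁ W y).ι ≫ f ≫ 𝒰.glueMorphisms k hglue = (f ⁻¹ᵁ W y).ι ≫ h
  rw [← morphismRestrict_ι_assoc]
  exact (congrArg ((f ∣_ W y) ≫ ·) (𝒰.ι_glueMorphisms k hglue y)).trans (hk' y)

end Groth.Agent.Contract

namespace Groth.Agent.Contract

/-- A proper morphism bijective on all sections is surjective. -/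
theorem surjective_of_bijective_app {X Y : Scheme.{u}} (f : X ⟶ Y) [UniversallyClosed f]
    (hf : ∀ V : Y.Opens, IsIso (f.app V)) : Surjective f := by
  refine ⟨fun y => ?_⟩
  by_contra hy
  let V : Y.Opens := ⟨(Set.range f.base)ᶜ, (Scheme.Hom.isClosedMap f).isClosed_range.isOpen_compl⟩
  have hbot : f ⁻¹ᵁ V = ⊥ := eq_bot_iff.2 fun x hx => hx ⟨x, rfl⟩
  haveI := hf V
  have hsub : Subsingleton Γ(X, f ⁻¹ᵁ V) := by
    rw [hbot]
    exact CommRingCat.subsingleton_of_isTerminal X.sheaf.isTerminalOfEmpty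
  haveI : Subsingleton Γ(Y, V) := (ConcreteCategory.bijective_of_isIso (f.app V)).1.subsingleton
  haveI := (Y.presheaf.germ V y hy).hom.domain_nontrivial
  exact false_of_nontrivial_of_subsingleton Γ(Y, V)

/-- Bijectivity on sections over a basis is preserved by flat base change. -/
theorem hasGoodBasis_of_isPullback {X Y X' Y' : Scheme.{u}} {f : X ⟶ Y} {f' : X' ⟶ Y'} {g : X' ⟶ X}
    {π : Y' ⟶ Y} (H : IsPullback g f' f π) [Flat π] [QuasiCompact f] [QuasiSeparated f]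
    (hf : ∀ U : Y.Opens, IsAffineOpen U → IsIso (f.app U)) : HasGoodBasis f' := by
  intro y O hy
  obtain ⟨U, hU, hyU, -⟩ := exists_isAffineOpen_mem_and_subset (show π y ∈ (⊤ : Y.Opens) from trivial)
  obtain ⟨V, hV, hyV, hVle⟩ := exists_isAffineOpen_mem_and_subset (show y ∈ O ⊓ π ⁻¹ᵁ U from ⟨hy, hyU⟩)
  refine ⟨V, hyV, fun z hz => (hVle hz).1, ?_⟩
  have hVU : V ≤ π ⁻¹ᵁ U := fun z hz => (hVle hz).2
  have hUY : f' ⁻¹ᵁ V = g ⁻¹ᵁ f ⁻¹ᵁ U ⊓ f' ⁻¹ᵁ V := by
    refine (inf_eq_right.2 ?_).symm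
    rw [← Scheme.Hom.comp_preimage, H.w, Scheme.Hom.comp_preimage]
    exact f'.preimage_mono hVU
  haveI := hf U hU
  have h := isIso_pushoutSection_of_isQuasiSeparated_of_flat_right H (US := U) (UT := V) (UX := f ⁻¹ᵁ U)
    (UY := f' ⁻¹ᵁ V) hVU le_rfl hUY hU hV (f.isCompact_preimage hU.isCompact)
    (f.isQuasiSeparated_preimage hU.isQuasiSeparated)
  rw [isIso_pushoutSection_iff] at h
  haveI : IsIso (f.appLE U (f ⁻¹ᵁ U) le_rfl) := by rw [← Scheme.Hom.app_eq_appLE]; infer_instance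
  have h2 := h.isIso_inr_of_isIso
  rw [Scheme.Hom.app_eq_appLE]
  exact ConcreteCategory.bijective_of_isIso _

end Groth.Agent.Contract
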