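import Groth.Agent.Chev.Trans
import Mathlib.RingTheory.Localization.AtPrime.Basic
import Mathlib.RingTheory.Polynomial.GaussLemma
import Mathlib.FieldTheory.RatFunc.AsPolynomial

/-!
# A rational curve in an integral group and its translates

For a curve `u : Spec k[X]_g ⟶ H` and a point `y` of `H` with local ring `R`, the translated curve
`X ↦ y · u(X)` gives points with values in the localizations of `R[X]`.
-/

set_option autoImplicit false
set_option backward.isDefEq.respectTransparency false

universe u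

open CategoryTheory CategoryTheory.Limits MonoidalCategory CartesianMonoidalCategory MonObj GrpObj AlgebraicGeometry
open Polynomial

noncomputable section

namespace Groth.Agent.Chev

variable {k : Type u} [Field k]

/-- A curve parametrized by an open subset of the line. -/
structure RatCurve (H : Over (Spec (CommRingCat.of k))) where
  /-- the polynomial cutting out the missing points -/
  g : k[X]
  g_ne_zero : g ≠ 0
  /-- the morphism -/
  map : VecGrp.pt k (Localization.Away g) ⟶ H

variable {H : Over (Spec (CommRingCat.of k))}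

namespace RatCurve

variable (c : RatCurve H)

/-- Evaluation of the parameter. -/
def evalAlg {A : Type u} [CommRing A] [Algebra k A] (t : A) (ht : IsUnit (aeval t c.g)) :
    Localization.Away c.g →ₐ[k] A :=
  IsLocalization.liftAlgHom (M := Submonoid.powers c.g) (f := aeval t) fun y => by
    obtain ⟨n, hn⟩ := y.2
    rw [← hn]
    simpa using ht.pow n

theorem evalAlg_algebraMap {A : Type u} [CommRing A] [Algebra k A] (t : A) (ht : IsUnit (aeval t c.g))
    (p : k[X]) : c.evalAlg t ht (algebraMap _ _ p) = aeval t p :=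
  IsLocalization.lift_eq _ p

/-- The value of the curve at a parameter. -/
def pu {A : Type u} [CommRing A] [Algebra k A] (t : A) (ht : IsUnit (aeval t c.g)) : VecGrp.pt k A ⟶ H :=
  VecGrp.ptMap (c.evalAlg t ht) ≫ c.map

theorem map_isUnit {A B : Type u} [CommRing A] [Algebra k A] [CommRing B] [Algebra k B] (φ : A →ₐ[k] B)
    {t : A} (ht : IsUnit (aeval t c.g)) : IsUnit (aeval (φ t) c.g) := by
  rw [aeval_algHom_apply]; exact ht.map φ

theorem ptMap_pu {A B : Type u} [CommRing A] [Algebra k A] [CommRing B] [Algebra k B] (φ : A →ₐ[k] B)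
    {t : A} (ht : IsUnit (aeval t c.g)) :
    VecGrp.ptMap φ ≫ c.pu t ht = c.pu (φ t) (c.map_isUnit φ ht) := by
  rw [pu, pu, ← Category.assoc, ← ptMap_comp]
  congr 2
  refine IsLocalization.algHom_ext (Submonoid.powers c.g) ?_
  refine Polynomial.algHom_ext ?_
  show φ (c.evalAlg t ht (algebraMap _ _ X)) = c.evalAlg (φ t) (c.map_isUnit φ ht) (algebraMap _ _ X)
  rw [evalAlg_algebraMap, evalAlg_algebraMap, aeval_X, aeval_X]

theorem pu_congr {A : Type u} [CommRing A] [Algebra k A] {t t' : A} (e : t = t') (ht : IsUnit (aeval t c.g))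
    (ht' : IsUnit (aeval t' c.g)) : c.pu t ht = c.pu t' ht' := by subst e; rfl

theorem isUnit_const {A : Type u} [CommRing A] [Algebra k A] {s : k} (hs : c.g.eval s ≠ 0) :
    IsUnit (aeval (algebraMap k A s) c.g) := by
  rw [aeval_algebraMap_apply]
  exact (Ne.isUnit hs).map (algebraMap k A)

variable [GrpObj H]

/-- The test object of the ground field. -/
def ptK : 𝟙_ (Over (Spec (CommRingCat.of k))) ≅ VecGrp.pt k k :=
  Over.isoMk (Iso.refl _) (by
    show 𝟙 _ ≫ Spec.map (CommRingCat.ofHom (algebraMap k k)) = 𝟙 _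
    rw [Algebra.algebraMap_self, CommRingCat.ofHom_id, Spec.map_id, Category.comp_id])

open Classical in
/-- The rational points of the curve. -/
def uv (s : k) : RP H :=
  if hs : c.g.eval s ≠ 0 then ptK.hom ≫ c.pu (A := k) (algebraMap k k s) (c.isUnit_const hs) else 1

theorem rat_uv {A : Type u} [CommRing A] [Algebra k A] {s : k} (hs : c.g.eval s ≠ 0) :
    rat (A := A) (c.uv s) = c.pu (algebraMap k A s) (c.isUnit_const hs) := by
  have h0 : rat (A := k) (c.uv s) = c.pu (algebraMap k k s) (c.isUnit_const hs) := by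
    rw [rat, uv, dif_pos hs, ← Category.assoc, toUnit_unique (toUnit (VecGrp.pt k k)) ptK.inv,
      Iso.inv_hom_id, Category.id_comp]
  have h1 := congrArg (fun x => VecGrp.ptMap (Algebra.ofId k A) ≫ x) h0
  simp only [ptMap_rat, ptMap_pu] at h1
  rw [h1]
  exact c.pu_congr rfl _ _

section Int

variable [IsIntegral H.left]

/-- Polynomials over the local ring at `y`, as rational functions of the parameter. -/
def inc (y : H.left) : (H.left.presheaf.stalk y)[X] →ₐ[k] RatFunc (KF H) :=
  (IsScalarTower.toAlgHom k (KF H)[X] (RatFunc (KF H))).comp (Polynomial.mapAlgHom (toKF y))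

theorem inc_apply (y : H.left) (p : (H.left.presheaf.stalk y)[X]) :
    inc y p = algebraMap (KF H)[X] (RatFunc (KF H)) (p.map (toKF y).toRingHom) := rfl

theorem inc_ne_zero (y : H.left) {p : (H.left.presheaf.stalk y)[X]} (hp : p ≠ 0) : inc y p ≠ 0 := by
  rw [inc_apply]
  exact RatFunc.algebraMap_ne_zero ((Polynomial.map_ne_zero_iff (toKF_injective y)).2 hp)

/-- Constants of the local ring, as polynomials. -/
def cst (y : H.left) : H.left.presheaf.stalk y →ₐ[k] (H.left.presheaf.stalk y)[X] :=
  IsScalarTower.toAlgHom k _ _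

/-- A prime of `R[X]` avoiding the missing points. -/
def Avoids (y : H.left) (Q : Ideal (H.left.presheaf.stalk y)[X]) : Prop := aeval X c.g ∉ Q

variable (y : H.left) (Q : Ideal (H.left.presheaf.stalk y)[X]) [Q.IsPrime] (hQ : c.Avoids y Q)

theorem isUnit_at (hQ : c.Avoids y Q) :
    IsUnit (aeval (algebraMap (H.left.presheaf.stalk y)[X] (Localization.AtPrime Q) X) c.g) := by
  rw [aeval_algebraMap_apply]
  exact IsLocalization.map_units _ (⟨_, hQ⟩ : Q.primeCompl)

/-- The point `y · u(X)` with values in the localization at `Q`. -/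
def sQ : VecGrp.pt k (Localization.AtPrime Q) ⟶ H :=
  (VecGrp.ptMap ((IsScalarTower.toAlgHom k (H.left.presheaf.stalk y)[X] (Localization.AtPrime Q)).comp (cst y))
      ≫ spt y) *
    c.pu _ (c.isUnit_at y Q hQ)

/-- The embedding of the localization. -/
def locInc : Localization.AtPrime Q →ₐ[k] RatFunc (KF H) :=
  IsLocalization.liftAlgHom (M := Q.primeCompl) (f := inc y) fun r =>
    (inc_ne_zero y fun e => r.2 (by rw [e]; exact Q.zero_mem)).isUnit

theorem locInc_algebraMap (p : (H.left.presheaf.stalk y)[X]) : locInc y Q (algebraMap _ _ p) = inc y p :=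
  IsLocalization.lift_eq _ p

theorem locInc_mk' (p : (H.left.presheaf.stalk y)[X]) (q : Q.primeCompl) :
    locInc y Q (IsLocalization.mk' _ p q) = inc y p / inc y q := by
  rw [eq_div_iff (inc_ne_zero y fun e => q.2 (by rw [e]; exact Q.zero_mem)), ← locInc_algebraMap y Q,
    ← locInc_algebraMap y Q, ← map_mul, IsLocalization.mk'_spec]

theorem isUnit_X : IsUnit (aeval (RatFunc.X : RatFunc (KF H)) c.g) := by
  refine Ne.isUnit ?_
  rw [show (RatFunc.X : RatFunc (KF H)) = algebraMap (KF H)[X] _ X from RatFunc.algebraMap_X.symm,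
    aeval_algebraMap_apply, aeval_X_left_eq_map]
  exact RatFunc.algebraMap_ne_zero
    ((Polynomial.map_ne_zero_iff (algebraMap k (KF H)).injective).2 c.g_ne_zero)

/-- The generic point of the translated curve. -/
def sL : VecGrp.pt k (RatFunc (KF H)) ⟶ H :=
  (VecGrp.ptMap (IsScalarTower.toAlgHom k (KF H) (RatFunc (KF H))) ≫ gen H) * c.pu RatFunc.X c.isUnit_X

theorem ptMap_sQ : VecGrp.ptMap (locInc y Q) ≫ c.sQ y Q hQ = c.sL := by
  rw [sQ, sL, MonObj.comp_mul, ← Category.assoc, ← ptMap_comp, ptMap_pu]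
  congr 1
  · rw [← ptMap_toKF y, ← Category.assoc, ← ptMap_comp]
    congr 2
    refine AlgHom.ext fun r => ?_
    show locInc y Q (algebraMap _ _ (Polynomial.C r)) = algebraMap (KF H) (RatFunc (KF H)) (toKF y r)
    rw [locInc_algebraMap, inc_apply, map_C, IsScalarTower.algebraMap_apply (KF H) (KF H)[X] (RatFunc (KF H))]
    rfl
  · refine c.pu_congr ?_ _ _
    rw [locInc_algebraMap, inc_apply, map_X, RatFunc.algebraMap_X]

variable {y Q}

/-- Comparison of two primes. -/
theorem exists_map {y' : H.left} (hyy : y' ⤳ y) {Q' : Ideal (H.left.presheaf.stalk y')[X]} [Q'.IsPrime]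
    (hQ' : c.Avoids y' Q') (hle : ∀ p ∈ Q.primeCompl, p.map (specAlg hyy).toRingHom ∉ Q') :
    ∃ χ : Localization.AtPrime Q →ₐ[k] Localization.AtPrime Q',
      VecGrp.ptMap χ ≫ c.sQ y Q hQ = c.sQ y' Q' hQ' ∧ (locInc y' Q').comp χ = locInc y Q := by
  let f : (H.left.presheaf.stalk y)[X] →ₐ[k] Localization.AtPrime Q' :=
    (IsScalarTower.toAlgHom k _ _).comp (Polynomial.mapAlgHom (specAlg hyy))
  let χ : Localization.AtPrime Q →ₐ[k] Localization.AtPrime Q' :=
    IsLocalization.liftAlgHom (M := Q.primeCompl) (f := f) fun r =>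
      IsLocalization.map_units _ (⟨_, hle r.1 r.2⟩ : Q'.primeCompl)
  have hχ : ∀ p : (H.left.presheaf.stalk y)[X], χ (algebraMap _ _ p) = algebraMap _ _ (p.map (specAlg hyy).toRingHom) :=
    fun p => IsLocalization.lift_eq _ p
  refine ⟨χ, ?_, ?_⟩
  · rw [sQ, sQ, MonObj.comp_mul, ← Category.assoc, ← ptMap_comp, ptMap_pu]
    congr 1
    · rw [← ptMap_specAlg_spt hyy, ← Category.assoc, ← ptMap_comp]
      congr 2
      refine AlgHom.ext fun r => ?_
      show χ (algebraMap _ _ (Polynomial.C r)) = algebraMap _ _ (Polynomial.C (specAlg hyy r))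
      rw [hχ, map_C]; rfl
    · exact c.pu_congr (by rw [hχ, map_X]) _ _
  · refine IsLocalization.algHom_ext Q.primeCompl (AlgHom.ext fun p => ?_)
    show locInc y' Q' (χ (algebraMap _ _ p)) = locInc y Q (algebraMap _ _ p)
    rw [hχ, locInc_algebraMap, locInc_algebraMap, inc_apply, inc_apply, Polynomial.map_map]
    congr 2
    exact RingHom.ext fun r => toKF_specAlg hyy r

theorem specializes_img {y' : H.left} (hyy : y' ⤳ y) {Q' : Ideal (H.left.presheaf.stalk y')[X]} [Q'.IsPrime]
    (hQ' : c.Avoids y' Q') (hle : ∀ p ∈ Q.primeCompl, p.map (specAlg hyy).toRingHom ∉ Q') :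
    img (c.sQ y' Q' hQ') ⤳ img (c.sQ y Q hQ) := by
  obtain ⟨χ, hχ, -⟩ := c.exists_map hQ hyy hQ' hle
  rw [img, ← hχ]
  exact (IsLocalRing.specializes_closedPoint ((VecGrp.ptMap χ).left (IsLocalRing.closedPoint _))).map
    (c.sQ y Q hQ).left.continuous

variable (y) in
/-- Evaluation at a parameter, followed by reduction. -/
def redAt (s : k) : (H.left.presheaf.stalk y)[X] →+* IsLocalRing.ResidueField (H.left.presheaf.stalk y) :=
  (IsLocalRing.residue _).comp (evalRingHom (algebraMap k _ s))

variable (y) in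
/-- The prime of the point `y · u(s)`. -/
def Qv (s : k) : Ideal (H.left.presheaf.stalk y)[X] := RingHom.ker (redAt y s)

instance (s : k) : (Qv y s).IsPrime := RingHom.ker_isPrime _

theorem notMem_Qv {s : k} {p : (H.left.presheaf.stalk y)[X]} :
    p ∉ Qv y s ↔ IsUnit (p.eval (algebraMap k _ s)) := by
  rw [Qv, RingHom.mem_ker, redAt, RingHom.comp_apply, coe_evalRingHom,
    IsLocalRing.residue_eq_zero_iff, IsLocalRing.notMem_maximalIdeal]

theorem eval_aeval_X (s : k) :
    (aeval X c.g : (H.left.presheaf.stalk y)[X]).eval (algebraMap k _ s) = algebraMap k _ (c.g.eval s) := by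
  rw [aeval_X_left_eq_map, eval_map_algebraMap, aeval_algebraMap_apply]
  rfl

theorem avoids_Qv {s : k} (hs : c.g.eval s ≠ 0) : c.Avoids y (Qv y s) := by
  rw [Avoids, notMem_Qv, eval_aeval_X]
  exact (Ne.isUnit hs).map _

/-- Specialization of the parameter. -/
def epsAt (y : H.left) (s : k) : Localization.AtPrime (Qv y s) →ₐ[k] H.left.presheaf.stalk y :=
  IsLocalization.liftAlgHom (M := (Qv y s).primeCompl)
    (f := (aeval (algebraMap k (H.left.presheaf.stalk y) s)).restrictScalars k) fun r => by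
    rw [AlgHom.restrictScalars_apply, coe_aeval_eq_eval]
    exact notMem_Qv.1 r.2

theorem epsAt_algebraMap (s : k) (p : (H.left.presheaf.stalk y)[X]) :
    epsAt y s (algebraMap _ _ p) = p.eval (algebraMap k _ s) :=
  (IsLocalization.lift_eq _ p).trans (by rw [← coe_aeval_eq_eval]; rfl)

theorem ptMap_epsAt {s : k} (hs : c.g.eval s ≠ 0) :
    VecGrp.ptMap (epsAt y s) ≫ c.sQ y (Qv y s) (c.avoids_Qv hs) = spt y * rat (c.uv s) := by
  rw [sQ, MonObj.comp_mul, ← Category.assoc, ← ptMap_comp, ptMap_pu, c.rat_uv hs]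
  congr 1
  · conv_rhs => rw [← Category.id_comp (spt y), ← ptMap_id]
    congr 2
    refine AlgHom.ext fun r => ?_
    show epsAt y s (algebraMap _ _ (Polynomial.C r)) = r
    rw [epsAt_algebraMap, eval_C]
  · exact c.pu_congr (by rw [epsAt_algebraMap, eval_X]) _ _

theorem epsAt_isLocalHom (s : k) : IsLocalHom (epsAt y s).toRingHom := ⟨fun a ha => by
  obtain ⟨p, q, rfl⟩ := IsLocalization.exists_mk'_eq (Qv y s).primeCompl a
  rw [IsLocalization.AtPrime.isUnit_mk'_iff _ (Qv y s)]
  show p ∉ Qv y s
  rw [notMem_Qv, ← epsAt_algebraMap]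
  rw [← IsLocalization.mk'_spec _ p q, map_mul]
  exact IsUnit.mul ha ((IsLocalization.map_units _ q).map _)⟩

theorem img_sQ_Qv {s : k} (hs : c.g.eval s ≠ 0) :
    img (c.sQ y (Qv y s) (c.avoids_Qv hs)) = sh y (c.uv s) := by
  have h := congrArg (fun x => img x) (c.ptMap_epsAt (y := y) hs)
  rw [img_mul_rat, img, img, spt_apply] at h
  rw [← h]
  haveI := epsAt_isLocalHom (y := y) s
  show _ = (c.sQ y (Qv y s) (c.avoids_Qv hs)).left ((VecGrp.ptMap (epsAt y s)).left (IsLocalRing.closedPoint _))
  exact congrArg (c.sQ y (Qv y s) (c.avoids_Qv hs)).left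
    (IsLocalRing.comap_closedPoint (epsAt y s).toRingHom).symm

end Int

end RatCurve

end Groth.Agent.Chev
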