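import Groth.Agent.Chev.Trans
import Groth.Agent.CDivNormal.Primes
import Groth.Agent.UFDLib.Regular
import Groth.Agent.SmLocalST.SmoothField

/-!
# Local equations of the complement of an affine open in a smooth variety
-/

set_option autoImplicit false
set_option backward.isDefEq.respectTransparency false

universe u

open CategoryTheory CategoryTheory.Limits MonoidalCategory CartesianMonoidalCategory MonObj GrpObj AlgebraicGeometry
open IsLocalRing (closedPoint)

noncomputable section

namespace Groth.Agent.Chev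

variable {k : Type u} [Field k] {X : Over (Spec (CommRingCat.of k))} [IsIntegral X.left] [Smooth X.hom]

theorem ufd_stalk (y : X.left) : UniqueFactorizationMonoid (X.left.presheaf.stalk y) := by
  haveI := SmLocalST.isRegularLocalRing_stalk_of_smooth_field X.hom y
  exact UFDLib.ufd_of_isRegularLocalRing _

theorem isNormal : Pi1.IsNormalScheme X.left := fun y => by
  haveI := ufd_stalk y
  exact ⟨inferInstance, inferInstance⟩

theorem un_iff_mem_stalkUnits (a : KF X) (ha : a ≠ 0) (y : X.left) :
    Un y a ↔ Units.mk0 a ha ∈ CDiv.stalkUnits X.left y := by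
  constructor
  · rintro ⟨r, hu, hr⟩
    exact ⟨hu.unit, Units.ext hr⟩
  · rintro ⟨w, hw⟩
    exact ⟨w, w.isUnit, congrArg Units.val hw⟩

/-- A rational function regular on an open affine set is regular wherever it is regular in codimension one. -/
theorem mem_affine_of_no_boundary [IsSeparated X.hom] {W : X.left.Opens} (hW : IsAffineOpen W)
    (hne : Nonempty W) (y : X.left)
    (h : ∀ ξ : X.left, ξ ⤳ y → Order.coheight ξ = 1 → ξ ∈ W) : y ∈ W := by
  haveI : IsLocallyNoetherian X.left := LocallyOfFiniteType.isLocallyNoetherian X.hom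
  haveI : X.left.IsSeparated := (Scheme.isSeparated_iff _).2 (by
    rw [show terminal.from X.left = X.hom ≫ terminal.from _ from terminal.hom_ext _ _]; infer_instance)
  let ψ : Γ(X.left, W) →+* KF X := (X.left.germToFunctionField W).hom
  have hrange : ∀ a, ∃ r, toKF y r = ψ a := fun a => by
    refine CDivNormal.mem_range_of_codim_one isNormal (ψ a) y fun ξ hξ hξ1 => ?_
    exact ⟨X.left.presheaf.germ W ξ (h ξ hξ hξ1) a, X.left.algebraMap_germ_eq_germToFunctionField _ _⟩
  let R : Subring (KF X) := (toKF y).toRingHom.range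
  let e : X.left.presheaf.stalk y ≃+* R := RingEquiv.ofBijective (toKF y).toRingHom.rangeRestrict
    ⟨fun a b hab => toKF_injective y (congrArg Subtype.val hab), RingHom.rangeRestrict_surjective _⟩
  let θ : Γ(X.left, W) →+* X.left.presheaf.stalk y :=
    e.symm.toRingHom.comp (ψ.codRestrict R hrange)
  have hθ : ∀ a, toKF y (θ a) = ψ a := fun a => by
    have := congrArg Subtype.val (e.apply_symm_apply ⟨ψ a, hrange a⟩)
    exact this
  have key : Spec.map (CommRingCat.ofHom θ) ≫ hW.fromSpec = X.left.fromSpecStalk y := by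
    let d : Spec (CommRingCat.of (KF X)) ⟶ Spec (X.left.presheaf.stalk y) :=
      Spec.map (CommRingCat.ofHom (toKF y).toRingHom)
    haveI : IsDominant d := by
      refine ⟨?_⟩
      show DenseRange (PrimeSpectrum.comap (toKF y).toRingHom)
      rw [PrimeSpectrum.denseRange_comap_iff_ker_le_nilRadical]
      exact le_of_eq_of_le ((RingHom.injective_iff_ker_eq_bot _).1 (toKF_injective y)) bot_le
    refine ext_of_isDominant d ?_
    have hη : genericPoint X.left ∈ W := by
      obtain ⟨⟨w, hw⟩⟩ := hne
      exact (genericPoint_specializes' w).mem_open W.2 hw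
    have h1 : d ≫ X.left.fromSpecStalk y = X.left.fromSpecStalk (genericPoint X.left) :=
      Scheme.SpecMap_stalkSpecializes_fromSpecStalk (genericPoint_specializes' y)
    rw [h1, ← hW.fromSpecStalk_eq_fromSpecStalk hη, IsAffineOpen.fromSpecStalk, ← Category.assoc, ← Spec.map_comp]
    congr 2
    ext a
    exact hθ a
  have hy : X.left.fromSpecStalk y (closedPoint _) ∈ Set.range hW.fromSpec := by
    rw [← key]; exact ⟨_, rfl⟩
  rwa [hW.range_fromSpec, Scheme.fromSpecStalk_closedPoint] at hy

/-- A system of local equations of the complement of `W`. -/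
structure Equations (X : Over (Spec (CommRingCat.of k))) [IsIntegral X.left] (W : X.left.Opens) where
  /-- the equation at a point -/
  d : X.left → KF X
  ne_zero : ∀ y, d y ≠ 0
  un_div : ∀ {z y : X.left}, z ⤳ y → Un z (d y / d z)
  eq_one : ∀ y, y ∈ W → d y = 1
  mem : ∀ y, Mem y (d y)
  mem_of_un : ∀ y, Un y (d y) → y ∈ W

theorem exists_equations [IsSeparated X.hom] [QuasiCompact X.hom] {W : X.left.Opens} (hW : IsAffineOpen W)
    (hne : Nonempty W) : Nonempty (Equations X W) := by
  classical
  haveI : IsLocallyNoetherian X.left := LocallyOfFiniteType.isLocallyNoetherian X.hom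
  haveI : CompactSpace X.left := QuasiCompact.compactSpace_of_compactSpace X.hom
  haveI : IsNoetherian X.left := { }
  have hη : genericPoint X.left ∈ W := by
    obtain ⟨⟨w, hw⟩⟩ := hne
    exact (genericPoint_specializes' w).mem_open W.2 hw
  let D : Set X.left := {ξ | ξ ∈ (W : Set X.left)ᶜ ∧ Order.coheight ξ = 1}
  have hD : D.Finite := DivOrd.finite_coheight_one _ _ W.2.isClosed_compl le_rfl (fun hc => hc hη)
  have hf : ∀ (y ξ : X.left), ξ ⤳ y → Order.coheight ξ = 1 → ∃ f : CDiv.KUnits X.left,
      Scheme.ord (f : X.left.functionField) ξ = 1 ∧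
      ∀ x : X.left, x ⤳ y → x ≠ ξ → Order.coheight x = 1 → Scheme.ord (f : X.left.functionField) x = 0 :=
    fun y ξ h1 h2 => by
      haveI := ufd_stalk y
      exact CDivNormal.exists_fn_ord_delta isNormal h1 h2
  choose f hf1 hf0 using hf
  let S : X.left → Finset X.left := fun y => hD.toFinset.filter fun ξ => ξ ⤳ y
  have hS : ∀ {y ξ}, ξ ∈ S y → ξ ⤳ y ∧ ξ ∈ D := fun h => by
    simp only [S, Finset.mem_filter, Set.Finite.mem_toFinset] at h
    exact ⟨h.2, h.1⟩
  let dU : X.left → CDiv.KUnits X.left := fun y =>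
    ∏ ξ ∈ (S y).attach, f y ξ.1 (hS ξ.2).1 (hS ξ.2).2.2
  have hord : ∀ (y x : X.left), x ⤳ y → Order.coheight x = 1 →
      Scheme.ord (dU y : X.left.functionField) x = if x ∈ W then 0 else 1 := by
    intro y x hx hx1
    let φ : CDiv.KUnits X.left → ℤ := fun g => Scheme.ord (g : X.left.functionField) x
    have hφ : ∀ g g', φ (g * g') = φ g + φ g' := fun g g' => by
      simp only [φ, Units.val_mul]
      exact Scheme.ord_mul g.ne_zero g'.ne_zero
    let Φ : Additive (CDiv.KUnits X.left) →+ ℤ := AddMonoidHom.mk' (fun g => φ g.toMul) fun g g' => hφ _ _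
    have hsum : φ (dU y) = ∑ ξ ∈ (S y).attach, φ (f y ξ.1 (hS ξ.2).1 (hS ξ.2).2.2) := by
      have := map_sum Φ (fun ξ : {ξ // ξ ∈ S y} => Additive.ofMul (f y ξ.1 (hS ξ.2).1 (hS ξ.2).2.2)) (S y).attach
      rw [← ofMul_prod] at this
      exact this
    show φ (dU y) = _
    rw [hsum]
    by_cases hxW : x ∈ W
    · rw [if_pos hxW]
      refine Finset.sum_eq_zero fun ξ _ => hf0 _ _ _ _ x hx (fun e => ?_) hx1
      exact (hS ξ.2).2.1 (e ▸ hxW)
    · rw [if_neg hxW]
      have hxS : x ∈ S y := by
        simp only [S, Finset.mem_filter, Set.Finite.mem_toFinset]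
        exact ⟨⟨hxW, hx1⟩, hx⟩
      rw [Finset.sum_eq_single ⟨x, hxS⟩]
      · exact hf1 y x (hS hxS).1 (hS hxS).2.2
      · exact fun ξ _ hne' => hf0 _ _ _ _ x hx (fun e => hne' (Subtype.ext e.symm)) hx1
      · exact fun h => absurd (Finset.mem_attach _ _) h
  have heq1 : ∀ y, y ∈ W → dU y = 1 := fun y hy => by
    have : S y = ∅ := Finset.eq_empty_of_forall_notMem fun ξ hξ =>
      (hS hξ).2.1 ((hS hξ).1.mem_open W.2 hy)
    refine Finset.prod_eq_one fun ξ _ => ?_
    exact absurd (this ▸ ξ.2 : (ξ : X.left) ∈ (∅ : Finset X.left)) (Finset.notMem_empty _)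
  refine ⟨⟨fun y => (dU y : X.left.functionField), fun y => (dU y).ne_zero, fun {z y} hzy => ?_,
    fun y hy => by simp only [heq1 y hy, Units.val_one], fun y => ?_, fun y hy => ?_⟩⟩
  · have hmem : dU y * (dU z)⁻¹ ∈ CDiv.stalkUnits X.left z := by
      refine CDivNormal.mem_stalkUnits_of_codim_one isNormal _ z fun x hxz hx1 => ?_
      rw [Units.val_mul, Scheme.ord_mul (dU y).ne_zero ((dU z)⁻¹).ne_zero, CDivNormal.ord_inv,
        hord y x (hxz.trans hzy) hx1, hord z x hxz hx1]
      omega
    rw [div_eq_mul_inv, ← Units.val_inv_eq_inv_val, ← Units.val_mul]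
    obtain ⟨w, hw⟩ := hmem
    exact ⟨w, w.isUnit, congrArg Units.val hw⟩
  · refine CDivNormal.mem_range_of_codim_one isNormal _ y fun x hxy hx1 => ?_
    refine (CDivNormal.ord_nonneg_iff isNormal (dU y) x hx1).1 ?_
    rw [hord y x hxy hx1]
    split_ifs <;> omega
  · refine mem_affine_of_no_boundary hW hne y fun ξ hξ hξ1 => ?_
    by_contra hξW
    have h0 := (CDivNormal.ord_eq_zero_iff isNormal (dU y) ξ hξ1).2
      (by
        obtain ⟨r, hu, hr⟩ := hy.of_specializes hξ
        exact ⟨hu.unit, Units.ext hr⟩)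
    rw [hord y ξ hξ hξ1, if_neg hξW] at h0
    exact one_ne_zero h0

end Groth.Agent.Chev
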