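import Groth.Agent.Chev.Step

/-!
# Translates of the boundary divisor differ by principal divisors
-/

set_option autoImplicit false
set_option backward.isDefEq.respectTransparency false

universe u

open CategoryTheory CategoryTheory.Limits MonoidalCategory CartesianMonoidalCategory MonObj GrpObj AlgebraicGeometry
open Polynomial

noncomputable section

namespace Groth.Agent.Chev.RatCurve

variable {k : Type u} [Field k] [IsAlgClosed k] {H : Over (Spec (CommRingCat.of k))} [GrpObj H] [IsCommMonObj H]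
  [IsIntegral H.left] [Smooth H.hom] (c : RatCurve H)

/-- Polynomials vanishing modulo the maximal ideal. -/
def Qc (y : H.left) : Ideal (H.left.presheaf.stalk y)[X] :=
  RingHom.ker (mapRingHom (IsLocalRing.residue (H.left.presheaf.stalk y)))

instance (y : H.left) : (Qc y).IsPrime := RingHom.ker_isPrime _

theorem avoids_Qc (y : H.left) : c.Avoids y (Qc y) := by
  rw [Avoids, Qc, RingHom.mem_ker, coe_mapRingHom, aeval_X_left_eq_map, Polynomial.map_map]
  exact (Polynomial.map_ne_zero_iff (RingHom.injective _)).2 c.g_ne_zero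

theorem notMem_Qc_of_notMem_Qv {y : H.left} {s : k} {p : (H.left.presheaf.stalk y)[X]} (h : p ∉ Qv y s) :
    p ∉ Qc y := fun hm => h (by
  rw [Qc, RingHom.mem_ker, coe_mapRingHom] at hm
  rw [Qv, RingHom.mem_ker, redAt, RingHom.comp_apply, coe_evalRingHom, ← eval₂_at_apply, ← Polynomial.eval_map,
    hm, eval_zero])

theorem uAt_mono {y : H.left} {s : k} {f : RatFunc (KF H)} (h : UAt y (Qv y s) f) : UAt y (Qc y) f := by
  obtain ⟨p, q, hp, hq, e⟩ := h
  exact ⟨p, q, notMem_Qc_of_notMem_Qv hp, notMem_Qc_of_notMem_Qv hq, e⟩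

theorem mem_of_uAt_const {y : H.left} {κ : KF H} (h : UAt y (Qc y) (algebraMap (KF H) (RatFunc (KF H)) κ)) :
    Mem y κ := by
  obtain ⟨p, q, -, hq, e⟩ := h
  rw [Qc, RingHom.mem_ker, coe_mapRingHom] at hq
  obtain ⟨i, hi⟩ : ∃ i, IsUnit (q.coeff i) := by
    by_contra hc
    push Not at hc
    refine hq (Polynomial.ext fun n => ?_)
    rw [coeff_map, coeff_zero, IsLocalRing.residue_eq_zero_iff]
    exact hc n
  have e' : p.map (toKF y).toRingHom = C κ * q.map (toKF y).toRingHom := by
    apply RatFunc.algebraMap_injective (KF H)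
    rw [← inc_apply, e, map_mul, IsScalarTower.algebraMap_apply (KF H) (KF H)[X] (RatFunc (KF H)), inc_apply]
    rfl
  have h2 := congrArg (fun r => Polynomial.coeff r i) e'
  simp only [coeff_map, coeff_C_mul] at h2
  refine ⟨p.coeff i * ↑hi.unit⁻¹, ?_⟩
  rw [map_mul]
  change (toKF y).toRingHom _ * _ = _
  rw [h2, _root_.mul_assoc]
  show κ * (toKF y (q.coeff i) * toKF y _) = κ
  rw [← map_mul, IsUnit.mul_val_inv, map_one, _root_.mul_one]

theorem un_of_uAt_const {y : H.left} {κ : KF H} (h : UAt y (Qc y) (algebraMap (KF H) (RatFunc (KF H)) κ)) :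
    Un y κ := by
  have hne : κ ≠ 0 := fun e => h.ne_zero (by rw [e, map_zero])
  have h' := h.inv
  rw [← map_inv₀] at h'
  obtain ⟨r, hr⟩ := mem_of_uAt_const h
  obtain ⟨r', hr'⟩ := mem_of_uAt_const h'
  refine ⟨r, IsUnit.of_mul_eq_one r' (toKF_injective y ?_), hr⟩
  rw [map_mul, hr, hr', map_one, mul_inv_cancel₀ hne]

/-- The divisors `D` translated by `u(s)` and by `u(s')` differ by the divisor of `F(s) / F(s')`. -/
theorem un_ratio {W : H.left.Opens} (E : Equations H W) (F : (KF H)[X]) (hF : F.Monic)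
    (hFund : ∀ (Q : Ideal (KF H)[X]) [Q.IsPrime] (_ : Q ≠ ⊥) (hQ : c.Avoids (genericPoint H.left) Q),
      UAt (genericPoint H.left) Q
        (algebraMap _ (RatFunc (KF H)) F / c.tau (E.d (img (c.sQ (genericPoint H.left) Q hQ)))))
    (y : H.left) {s s' : k} (hs : c.g.eval s ≠ 0) (hs' : c.g.eval s' ≠ 0) :
    Un y (F.eval (algebraMap k _ s) / F.eval (algebraMap k _ s') *
      (tK (c.uv s') (E.d (sh y (c.uv s'))) / tK (c.uv s) (E.d (sh y (c.uv s))))) := by
  obtain ⟨κ, hκ, h1, h2⟩ := c.exists_local E F hF hFund y hs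
  obtain ⟨κ', hκ', h1', h2'⟩ := c.exists_local E F hF hFund y hs'
  have hQc := c.avoids_Qc y
  have hle : ∀ t : k, ∀ q ∈ (Qv y t).primeCompl, q.map (specAlg (X := H) (specializes_refl y)).toRingHom ∉ Qc y := by
    intro t q hq
    have e : (specAlg (X := H) (specializes_refl y)).toRingHom = RingHom.id _ := RingHom.ext fun r => by
      show (H.left.presheaf.stalkSpecializes _).hom r = r
      rw [TopCat.Presheaf.stalkSpecializes_refl]; rfl
    rw [e, Polynomial.map_id]
    exact notMem_Qc_of_notMem_Qv hq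
  have hz := c.specializes_img (c.avoids_Qv hs) (specializes_refl y) hQc (hle s)
  have hz' := c.specializes_img (c.avoids_Qv hs') (specializes_refl y) hQc (hle s')
  rw [c.img_sQ_Qv hs] at hz
  rw [c.img_sQ_Qv hs'] at hz'
  have h3 : UAt y (Qc y) (c.tau (E.d (sh y (c.uv s)) / E.d (sh y (c.uv s')))) := by
    refine c.uAt_of_un hQc ?_
    have := (E.un_div hz).mul (E.un_div hz').inv
    rwa [inv_div, div_mul_div_cancel₀ (E.ne_zero _)] at this
  have htd : c.tau (E.d (sh y (c.uv s))) ≠ 0 := (map_ne_zero_iff c.tau c.tau.toRingHom.injective).2 (E.ne_zero _)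
  have htd' : c.tau (E.d (sh y (c.uv s'))) ≠ 0 := (map_ne_zero_iff c.tau c.tau.toRingHom.injective).2 (E.ne_zero _)
  have hF0 : algebraMap (KF H)[X] (RatFunc (KF H)) F ≠ 0 := RatFunc.algebraMap_ne_zero hF.ne_zero
  have nk : algebraMap (KF H) (RatFunc (KF H)) κ ≠ 0 := (_root_.map_ne_zero _).2 hκ
  have nk' : algebraMap (KF H) (RatFunc (KF H)) κ' ≠ 0 := (_root_.map_ne_zero _).2 hκ'
  have hk : Un y (κ / κ') := by
    refine un_of_uAt_const ?_
    have e : algebraMap (KF H) (RatFunc (KF H)) (κ / κ') =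
        algebraMap _ (RatFunc (KF H)) F / (algebraMap (KF H) (RatFunc (KF H)) κ' * c.tau (E.d (sh y (c.uv s')))) /
          (algebraMap _ (RatFunc (KF H)) F / (algebraMap (KF H) (RatFunc (KF H)) κ * c.tau (E.d (sh y (c.uv s))))) /
          c.tau (E.d (sh y (c.uv s)) / E.d (sh y (c.uv s'))) := by
      rw [map_div₀, map_div₀]
      field_simp
    rw [e]
    exact ((uAt_mono h1').div (uAt_mono h1)).div h3
  have hn : ∀ t : k, tK (c.uv t) (E.d (sh y (c.uv t))) ≠ 0 := fun t =>
    (map_ne_zero_iff _ (tK (c.uv t)).toRingHom.injective).2 (E.ne_zero _)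
  have hFs : F.eval (algebraMap k _ s) ≠ 0 := fun e => h2.ne_zero (by rw [e, zero_div])
  have hFs' : F.eval (algebraMap k _ s') ≠ 0 := fun e => h2'.ne_zero (by rw [e, zero_div])
  have hn1 := hn s
  have hn2 := hn s'
  have e : F.eval (algebraMap k _ s) / F.eval (algebraMap k _ s') *
      (tK (c.uv s') (E.d (sh y (c.uv s'))) / tK (c.uv s) (E.d (sh y (c.uv s)))) =
      F.eval (algebraMap k _ s) / (κ * tK (c.uv s) (E.d (sh y (c.uv s)))) *
        (F.eval (algebraMap k _ s') / (κ' * tK (c.uv s') (E.d (sh y (c.uv s')))))⁻¹ * (κ / κ') := by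
    field_simp
  rw [e]
  exact (h2.mul h2'.inv).mul hk

end Groth.Agent.Chev.RatCurve
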