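import Groth.Agent.Chev.Descent
import Mathlib.AlgebraicGeometry.IdealSheaf.Functorial

/-!
# Closed subschemes are defined over finite subextensions
-/

set_option autoImplicit false
set_option backward.isDefEq.respectTransparency false

universe u

open CategoryTheory CategoryTheory.Limits AlgebraicGeometry TopologicalSpace

noncomputable section

namespace Groth.Agent.Chev

open AVDeg (bcK specMap)

theorem appLE_appLE {X Y Z : Scheme.{u}} (f : X ⟶ Y) (g : Y ⟶ Z) (h : X ⟶ Z) (e : f ≫ g = h) (U : Z.Opens)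
    (V : Y.Opens) (W : X.Opens) (e₁ : V ≤ g ⁻¹ᵁ U) (e₂ : W ≤ f ⁻¹ᵁ V) (e₃ : W ≤ h ⁻¹ᵁ U) (x : Γ(Z, U)) :
    (f.appLE V W e₂).hom ((g.appLE U V e₁).hom x) = (h.appLE U W e₃).hom x := by
  subst e
  exact congrArg (fun φ => φ.hom x) (Scheme.Hom.appLE_comp_appLE f g U V W e₁ e₂)

variable {k : Type u} [Field k] (Ω : Type u) [Field Ω] [Algebra k Ω]

/-- The projection to the level of an intermediate field. -/
def toLevel (E : IntermediateField k Ω) (X : Over (Spec (CommRingCat.of k))) :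
    (bcK k Ω X).left ⟶ (bcK k E X).left :=
  pullback.lift (pullback.fst X.hom (specMap k Ω)) (pullback.snd X.hom (specMap k Ω) ≫ specMap E Ω) (by
    rw [pullback.condition, Category.assoc, ← Spec.map_comp, ← CommRingCat.ofHom_comp,
      ← IsScalarTower.algebraMap_eq])

@[reassoc]
theorem toLevel_fst (E : IntermediateField k Ω) (X : Over (Spec (CommRingCat.of k))) :
    toLevel Ω E X ≫ pullback.fst X.hom (specMap k E) = pullback.fst X.hom (specMap k Ω) :=
  pullback.lift_fst _ _ _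

@[reassoc]
theorem toLevel_snd (E : IntermediateField k Ω) (X : Over (Spec (CommRingCat.of k))) :
    toLevel Ω E X ≫ pullback.snd X.hom (specMap k E) = pullback.snd X.hom (specMap k Ω) ≫ specMap E Ω :=
  pullback.lift_snd _ _ _

theorem isPullback_toLevel (E : IntermediateField k Ω) (X : Over (Spec (CommRingCat.of k))) :
    IsPullback (toLevel Ω E X) (pullback.snd X.hom (specMap k Ω)) (pullback.snd X.hom (specMap k E)) (specMap E Ω) := by
  refine IsPullback.of_right ?_ (toLevel_snd Ω E X) (IsPullback.of_hasPullback X.hom (specMap k E))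
  rw [toLevel_fst, ← Spec.map_comp, ← CommRingCat.ofHom_comp, ← IsScalarTower.algebraMap_eq]
  exact IsPullback.of_hasPullback X.hom (specMap k Ω)

instance isAffineHom_toLevel (E : IntermediateField k Ω) (X : Over (Spec (CommRingCat.of k))) :
    IsAffineHom (toLevel Ω E X) :=
  MorphismProperty.of_isPullback (P := @IsAffineHom) (isPullback_toLevel Ω E X).flip inferInstance

/-- Sections which come from a finite level. -/
def finiteLevelSections (X : Over (Spec (CommRingCat.of k))) (U : X.left.Opens) :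
    Subring Γ((bcK k Ω X).left, pullback.fst X.hom (specMap k Ω) ⁻¹ᵁ U) where
  carrier := {s | ∃ S : Finset Ω, ∀ E : IntermediateField k Ω, (↑S : Set Ω) ⊆ E → ∃ t,
    ((toLevel Ω E X).appLE (pullback.fst X.hom (specMap k E) ⁻¹ᵁ U) (pullback.fst X.hom (specMap k Ω) ⁻¹ᵁ U)
      (by rw [← Scheme.Hom.comp_preimage, toLevel_fst])).hom t = s}
  mul_mem' := by
    classical
    rintro a b ⟨S, hS⟩ ⟨T, hT⟩
    refine ⟨S ∪ T, fun E hE => ?_⟩
    rw [Finset.coe_union, Set.union_subset_iff] at hE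
    obtain ⟨x, rfl⟩ := hS E hE.1
    obtain ⟨y, rfl⟩ := hT E hE.2
    exact ⟨x * y, map_mul _ _ _⟩
  one_mem' := ⟨∅, fun _ _ => ⟨1, map_one _⟩⟩
  add_mem' := by
    classical
    rintro a b ⟨S, hS⟩ ⟨T, hT⟩
    refine ⟨S ∪ T, fun E hE => ?_⟩
    rw [Finset.coe_union, Set.union_subset_iff] at hE
    obtain ⟨x, rfl⟩ := hS E hE.1
    obtain ⟨y, rfl⟩ := hT E hE.2
    exact ⟨x + y, map_add _ _ _⟩
  zero_mem' := ⟨∅, fun _ _ => ⟨0, map_zero _⟩⟩
  neg_mem' := by
    rintro a ⟨S, hS⟩
    refine ⟨S, fun E hE => ?_⟩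
    obtain ⟨x, rfl⟩ := hS E hE
    exact ⟨-x, map_neg _ _⟩

theorem finiteLevelSections_eq_top (X : Over (Spec (CommRingCat.of k))) {U : X.left.Opens} (hU : IsAffineOpen U) :
    finiteLevelSections Ω X U = ⊤ := by
  set π := pullback.fst X.hom (specMap k Ω)
  set σ := pullback.snd X.hom (specMap k Ω)
  set T := finiteLevelSections Ω X U
  have hUT : (⊤ : (Spec (CommRingCat.of Ω)).Opens) ≤ specMap k Ω ⁻¹ᵁ ⊤ := le_top
  have hUX : U ≤ X.hom ⁻¹ᵁ ⊤ := le_top
  have hUY : π ⁻¹ᵁ U = π ⁻¹ᵁ U ⊓ σ ⁻¹ᵁ ⊤ := by simp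
  have H : IsPullback π σ X.hom (specMap k Ω) := IsPullback.of_hasPullback X.hom (specMap k Ω)
  haveI := isIso_pushoutSection_of_isAffineOpen H hUT hUX hUY (isAffineOpen_top _) (isAffineOpen_top _) hU
  have hpo := (isIso_pushoutSection_iff H hUT hUX hUY).1 inferInstance
  have hA : ∀ a, (π.appLE U (π ⁻¹ᵁ U) le_rfl).hom a ∈ T := fun a => ⟨∅, fun E _ =>
    ⟨((pullback.fst X.hom (specMap k E)).appLE U _ le_rfl).hom a,
      appLE_appLE (toLevel Ω E X) (pullback.fst X.hom (specMap k E)) π (toLevel_fst Ω E X) _ _ _ _ _ _ a⟩⟩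
  have hB : ∀ c, (σ.appLE ⊤ (π ⁻¹ᵁ U) le_top).hom c ∈ T := fun c => by
    obtain ⟨c, rfl⟩ := (Scheme.ΓSpecIso (CommRingCat.of Ω)).commRingCatIsoToRingEquiv.symm.surjective c
    refine ⟨{c}, fun E hE => ?_⟩
    have hc : c ∈ E := hE (Finset.mem_coe.2 (Finset.mem_singleton_self c))
    refine ⟨((pullback.snd X.hom (specMap k E)).appLE ⊤ _ le_top).hom
      ((Scheme.ΓSpecIso (CommRingCat.of E)).inv ⟨c, hc⟩), ?_⟩
    refine (appLE_appLE (toLevel Ω E X) (pullback.snd X.hom (specMap k E)) (σ ≫ specMap E Ω) (toLevel_snd Ω E X)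
      ⊤ _ _ _ _ le_top _).trans ?_
    refine (appLE_appLE σ (specMap E Ω) _ rfl ⊤ ⊤ _ le_top le_top le_top _).symm.trans ?_
    congr 1
    show ((specMap E Ω).appLE ⊤ (specMap E Ω ⁻¹ᵁ ⊤) le_rfl).hom _ = _
    rw [Scheme.Hom.appLE_eq_app]
    exact congrArg (fun φ => φ.hom ⟨c, hc⟩)
      (Scheme.ΓSpecIso_inv_naturality (CommRingCat.ofHom (algebraMap E Ω))).symm
  let dA : Γ(X.left, U) ⟶ CommRingCat.of T := CommRingCat.ofHom ((π.appLE U (π ⁻¹ᵁ U) le_rfl).hom.codRestrict T hA)
  let dB : Γ(Spec (CommRingCat.of Ω), ⊤) ⟶ CommRingCat.of T :=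
    CommRingCat.ofHom ((σ.appLE ⊤ (π ⁻¹ᵁ U) le_top).hom.codRestrict T hB)
  let incl : CommRingCat.of T ⟶ Γ((bcK k Ω X).left, π ⁻¹ᵁ U) := CommRingCat.ofHom T.subtype
  haveI : Mono incl := ConcreteCategory.mono_of_injective _ Subtype.val_injective
  have hw : X.hom.appLE ⊤ U hUX ≫ dA = (specMap k Ω).appLE ⊤ ⊤ hUT ≫ dB := by
    rw [← cancel_mono incl, Category.assoc, Category.assoc]
    exact hpo.w
  have hd : hpo.desc dA dB hw ≫ incl = 𝟙 _ := by
    refine hpo.hom_ext ?_ ?_
    · rw [hpo.inl_desc_assoc, Category.comp_id]; rfl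
    · rw [hpo.inr_desc_assoc, Category.comp_id]; rfl
  refine eq_top_iff.2 fun s _ => ?_
  have := congrArg (fun φ => φ.hom s) hd
  exact (show ((hpo.desc dA dB hw).hom s : Γ((bcK k Ω X).left, π ⁻¹ᵁ U)) = s from this) ▸
    ((hpo.desc dA dB hw).hom s).2

/-- Finitely many closed subschemes are defined over a finite subextension. -/
theorem exists_finite_level [Algebra.IsAlgebraic k Ω] (X : Over (Spec (CommRingCat.of k)))
    [LocallyOfFiniteType X.hom] [QuasiCompact X.hom] {ι : Type} [Finite ι]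
    (I : ι → (bcK k Ω X).left.IdealSheafData) :
    ∃ E : IntermediateField k Ω, FiniteDimensional k E ∧
      ∀ i, ((I i).map (toLevel Ω E X)).comap (toLevel Ω E X) = I i := by
  classical
  haveI : LocallyOfFiniteType (bcK k Ω X).hom :=
    inferInstanceAs (LocallyOfFiniteType (pullback.snd X.hom (specMap k Ω)))
  haveI : IsLocallyNoetherian (bcK k Ω X).left := LocallyOfFiniteType.isLocallyNoetherian (bcK k Ω X).hom
  haveI : CompactSpace X.left := QuasiCompact.compactSpace_of_compactSpace X.hom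
  set π := pullback.fst X.hom (specMap k Ω)
  have hex : ∀ x : X.left, ∃ U : X.left.Opens, IsAffineOpen U ∧ x ∈ U := fun x => by
    obtain ⟨U, hU, hxU, -⟩ := exists_isAffineOpen_mem_and_subset (x := x) (U := ⊤) trivial
    exact ⟨U, hU, hxU⟩
  choose U hU hxU using hex
  obtain ⟨s, hs⟩ := CompactSpace.elim_nhds_subcover (fun x : X.left => (U x : Set X.left))
    fun x => (U x).2.mem_nhds (hxU x)
  haveI : IsAffineHom π := MorphismProperty.pullback_fst _ _ inferInstance
  let V : (↥s) → (bcK k Ω X).left.affineOpens := fun x => ⟨π ⁻¹ᵁ U x, (hU x).preimage π⟩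
  have hV : ⨆ x, (V x : (bcK k Ω X).left.Opens) = ⊤ := by
    ext z
    simp only [TopologicalSpace.Opens.coe_iSup, Set.mem_iUnion, TopologicalSpace.Opens.coe_top, Set.mem_univ,
      iff_true]
    have hz : π z ∈ (⊤ : Set X.left) := trivial
    rw [← hs] at hz
    obtain ⟨x, hx, hzx⟩ := Set.mem_iUnion₂.1 hz
    exact ⟨⟨x, hx⟩, hzx⟩
  have hgen : ∀ (i : ι) (x : ↥s), ∃ S : Finset Ω, ∀ E : IntermediateField k Ω, (↑S : Set Ω) ⊆ E →
      (I i).ideal (V x) ≤ (((I i).map (toLevel Ω E X)).comap (toLevel Ω E X)).ideal (V x) := by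
    intro i x
    haveI : IsNoetherianRing Γ((bcK k Ω X).left, V x) := IsLocallyNoetherian.component_noetherian (V x)
    obtain ⟨G, hG⟩ := IsNoetherian.noetherian ((I i).ideal (V x))
    have hmem : ∀ g, g ∈ finiteLevelSections Ω X (U x) := fun g => by
      rw [finiteLevelSections_eq_top Ω X (hU x)]; trivial
    choose S hS using fun g : G => hmem g.1
    refine ⟨Finset.univ.biUnion S, fun E hE => ?_⟩
    conv_lhs => rw [← hG]
    refine Ideal.span_le.2 fun g hg => ?_
    obtain ⟨t, ht⟩ := hS ⟨g, hg⟩ E (subset_trans (Finset.coe_subset.2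
      (Finset.subset_biUnion_of_mem S (Finset.mem_univ _))) hE)
    haveI : IsAffineHom (pullback.fst X.hom (specMap k E)) := MorphismProperty.pullback_fst _ _ inferInstance
    let W : (bcK k E X).left.affineOpens :=
      ⟨pullback.fst X.hom (specMap k E) ⁻¹ᵁ U x, (hU x).preimage _⟩
    have hW : toLevel Ω E X ⁻¹ᵁ W.1 = π ⁻¹ᵁ U x := by
      show toLevel Ω E X ⁻¹ᵁ (pullback.fst X.hom (specMap k E) ⁻¹ᵁ U x) = _
      rw [← Scheme.Hom.comp_preimage, toLevel_fst]
    have key : ∀ (J : (bcK k Ω X).left.IdealSheafData) (V' : (bcK k Ω X).left.affineOpens)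
        (h : V'.1 = toLevel Ω E X ⁻¹ᵁ W.1),
        (J.map (toLevel Ω E X)).ideal W = (J.ideal V').comap ((toLevel Ω E X).appLE W.1 V'.1 h.le).hom := by
      rintro J ⟨V'', h'⟩ h
      change V'' = _ at h
      subst h
      rw [Scheme.IdealSheafData.ideal_map_of_isAffineHom, Scheme.Hom.appLE_eq_app]
    have hle : (I i).map (toLevel Ω E X) ≤
        (((I i).map (toLevel Ω E X)).comap (toLevel Ω E X)).map (toLevel Ω E X) :=
      Scheme.IdealSheafData.le_map_comap _ _
    have h1 : t ∈ ((I i).map (toLevel Ω E X)).ideal W := by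
      rw [key (I i) (V x) hW.symm, Ideal.mem_comap]
      exact ht.symm ▸ (hG ▸ Ideal.subset_span hg)
    have h2 := hle W h1
    rw [key _ (V x) hW.symm, Ideal.mem_comap] at h2
    change _ ∈ _ at h2
    exact (congrArg (fun z => z ∈ (((I i).map (toLevel Ω E X)).comap (toLevel Ω E X)).ideal (V x)) ht).mp h2
  choose S hS using hgen
  haveI := Fintype.ofFinite ι
  let S' : Finset Ω := Finset.univ.biUnion fun i : ι => Finset.univ.biUnion fun x => S i x
  refine ⟨IntermediateField.adjoin k ↑S', ?_, fun i => ?_⟩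
  · exact IntermediateField.finiteDimensional_adjoin fun x _ => (Algebra.IsAlgebraic.isAlgebraic x).isIntegral
  · refine le_antisymm (Scheme.IdealSheafData.comap_map_le _ _) ?_
    refine Scheme.IdealSheafData.le_of_iSup_eq_top V hV fun x => hS i x _ ?_
    refine subset_trans (Finset.coe_subset.2 ?_) (IntermediateField.subset_adjoin k _)
    exact subset_trans (Finset.subset_biUnion_of_mem (S i) (Finset.mem_univ x))
      (Finset.subset_biUnion_of_mem (fun i : ι => Finset.univ.biUnion fun x => S i x) (Finset.mem_univ i))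

end Groth.Agent.Chev
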