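import Groth.Agent.Chev.AntiCharP
import Groth.Agent.AVDeg.RiemannHyp
import Groth.Agent.AVDeg.PointCount
import Groth.Agent.MTBridge.MonoTori
import Groth.Agent.MTBridge.Charts
import Groth.Agent.S2969
import Groth.Agent.S5254
import Groth.Agent.AVAmple.Square

/-!
# Anti-affine groups over finite fields are proper
-/

set_option autoImplicit false
set_option linter.style.haveILetI false
set_option backward.isDefEq.respectTransparency false
set_option maxHeartbeats 1000000
set_option synthInstance.maxHeartbeats 400000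
universe u

open CategoryTheory Limits MonoidalCategory CartesianMonoidalCategory MonObj GrpObj AlgebraicGeometry
open AlgGrp TensorProduct
open scoped CategoryTheory.Obj

noncomputable section

namespace Groth.Agent.Chev

open AVDeg (bcK specMap frobOver frobOver_comp)
open MTBridge (specGrp)

variable {k : Type u} [Field k] [Finite k] {p e : ℕ} [Fact p.Prime] [CharP k p] (hq : Nat.card k = p ^ e)

/-- On a diagonalisable group over the field with `q` elements the Frobenius is the `q`-th power map. -/
theorem frobOver_eq_pow_of_diag (T : Over (Spec (CommRingCat.of k))) [GrpObj T] {M : Type u} [CommGroup M]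
    (x : Grp.mk T ≅ specGrp k (MonoidAlgebra k M)) : frobOver p e hq T = 𝟙 T ^ (p ^ e) := by
  let B := MonoidAlgebra k M
  let D := (specGrp k B).X
  let f : T ⟶ D := x.hom.hom.hom
  haveI : IsMonHom f := inferInstanceAs (IsMonHom x.hom.hom.hom)
  haveI : IsIso f := inferInstanceAs (IsIso ((Grp.forget _).map x.hom))
  haveI : FrobSch.IsCharP D.left p := FrobSch.IsCharP.of_hom D.hom p
  haveI : ExpChar k p := ExpChar.prime Fact.out
  haveI : ExpChar B p := expChar_of_injective_algebraMap (algebraMap k B).injective p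
  haveI := Fintype.ofFinite k
  haveI : FrobSch.IsCharP (Spec (CommRingCat.of B)) p := inferInstanceAs (FrobSch.IsCharP D.left p)
  have hD : frobOver p e hq D = 𝟙 D ^ (p ^ e) := by
    let E := Spec.mapMulEquiv (R := k) (S := B) (T := B)
    have hid : E (WithConv.toConv (AlgHom.id k B)) = 𝟙 _ := by
      ext1
      exact Spec.map_id (CommRingCat.of B)
    have h2 : (E (WithConv.toConv (AlgHom.id k B) ^ (p ^ e))).left =
        Spec.map (CommRingCat.ofHom (SGA3b.powConv k B (p ^ e)).toRingHom) := rfl
    rw [map_pow, hid] at h2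
    ext1
    refine (?_ : WeilLib.frobPow p (Spec (CommRingCat.of B)) e = _).trans h2.symm
    rw [WeilLib.frobPow_Spec p B]
    congr 2
    refine MonoidAlgebra.ringHom_ext (fun r => ?_) (fun m => ?_)
    · show iterateFrobenius B p e (MonoidAlgebra.single 1 r) = SGA3b.powConv k B (p ^ e) (algebraMap k B r)
      rw [AlgHom.commutes, iterateFrobenius_def, MonoidAlgebra.single_pow, one_pow, ← hq,
        Nat.card_eq_fintype_card, FiniteField.pow_card]
      rfl
    · show iterateFrobenius B p e (MonoidAlgebra.single m 1) = SGA3b.powConv k B (p ^ e) (MonoidAlgebra.single m 1)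
      rw [S5254.powConv_single, iterateFrobenius_def, MonoidAlgebra.single_pow, one_pow]
  rw [← cancel_mono f, frobOver_comp hq, hD, MonObj.comp_pow, Category.comp_id, MonObj.pow_comp, Category.id_comp]

/-- `F - q` is surjective on an abelian variety over the field with `q` elements. -/
theorem surjective_frob_sub (A : Over (Spec (CommRingCat.of k))) [GrpObj A] [IsProper A.hom]
    [GeometricallyIntegral A.hom] [IsCommMonObj A] :
    Surjective (frobOver p e hq A / (𝟙 A ^ (p ^ e))).left := by
  let Ω := AlgebraicClosure k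
  haveI := AVDeg.isMonHom_frobOver hq (A := A)
  let F := frobOver p e hq A
  haveI : Nonempty A.left := ⟨η[A].left (IsLocalRing.closedPoint k)⟩
  obtain ⟨r, hA⟩ := AVDeg.exists_dim A
  let φ : EndAV.End A := EndAV.End.of F - ((p ^ e : ℕ) : EndAV.End A)
  have hφ : φ.toHom = F / (𝟙 A ^ (p ^ e)) := by
    rw [EndAV.End.toHom_sub, EndAV.End.toHom_natCast]; rfl
  haveI : IsIntegral A.left := AVDeg.isIntegral_av A
  have hfin : IsFinite φ.toHom.left := by
    by_contra hnf
    obtain ⟨P, hP, hPd, hPv⟩ := AVDeg.exists_charpoly ((AVDeg.topologicalKrullDim_bcK Ω).trans hA)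
      (AVDeg.endBC Ω (EndAV.End.of F))
    have h0 : P.eval ((p ^ e : ℕ) : ℤ) = 0 := by
      rw [hPv, Int.cast_natCast, ← map_natCast (AVDeg.endBC Ω : EndAV.End A →+* _), ← map_sub, AVDeg.toHom_endBC,
        AVDeg.deg_bcMap Ω hA, AVDeg.deg_eq_zero_of_not_isFinite hnf, Nat.cast_zero]
    have hroot : ((p ^ e : ℕ) : ℂ) ∈ (P.map (Int.castRingHom ℂ)).roots := by
      rw [Polynomial.mem_roots (hP.map (Int.castRingHom ℂ)).ne_zero, Polynomial.IsRoot,
        show ((p ^ e : ℕ) : ℂ) = Int.castRingHom ℂ ((p ^ e : ℕ) : ℤ) by simp, Polynomial.eval_map,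
        Polynomial.eval₂_at_apply, h0, map_zero]
    have hn := AVDeg.riemann_hypothesis Ω F (AVDeg.frobOver_base hq A) (AVDeg.le_frobOver hq A)
      (AVDeg.frobOver_app hq A) hA hP hPd hPv _ hroot
    rw [hq, Complex.norm_natCast] at hn
    have hsq : ((p ^ e : ℕ) : ℝ) * ((p ^ e : ℕ) : ℝ) = ((p ^ e : ℕ) : ℝ) := by
      nth_rewrite 1 [hn]
      nth_rewrite 2 [hn]
      exact Real.mul_self_sqrt (Nat.cast_nonneg _)
    have h1 : (p ^ e) * (p ^ e) = p ^ e := by exact_mod_cast hsq
    have h2 : 1 < p ^ e := hq ▸ Finite.one_lt_card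
    nlinarith
  haveI := hfin
  rw [← hφ]
  exact GrpField.surjective_of_isFinite φ.toHom rfl

/-- An anti-affine extension of a proper group by a group on which Frobenius is the power map is proper. -/
theorem isProper_of_anti_frob {T G A : Over (Spec (CommRingCat.of k))} [GrpObj T] [GrpObj G] [GrpObj A]
    [LocallyOfFiniteType G.hom] [QuasiCompact G.hom] (hG : IsAnti G) [IsAffine T.left] (i : T ⟶ G) [IsMonHom i]
    [IsClosedImmersion i.left]
    [IsProper A.hom] [Smooth A.hom] [ConnectedSpace A.left] (π : G ⟶ A) [IsMonHom π] [Surjective π.left] [Flat π.left]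
    (hk : AlgGrp.IsKernel i π) (hT : frobOver p e hq T = 𝟙 T ^ (p ^ e)) : IsProper G.hom := by
  haveI := smooth_of_anti G hG
  obtain ⟨hGc, hGcomm⟩ := S3293.result k G hG
  haveI := hGc; haveI := hGcomm
  haveI : IsSeparated G.hom := GrpField.isSeparated_hom G
  haveI : GeometricallyConnected A.hom :=
    Rigid.geometricallyConnected_of_section A.hom η[A].left (Over.w η[A])
  haveI : GeometricallyIntegral A.hom := ClosedRep.GeomIntegral.geometricallyIntegral_of_smooth A.hom
  haveI : IsCommMonObj A := isCommMonObj_of_isProper_of_geometricallyIntegral _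
  haveI : QuasiCompact π.left := by
    haveI : QuasiCompact (π.left ≫ A.hom) := by rw [Over.w]; infer_instance
    exact QuasiCompact.of_comp _ A.hom
  haveI := AVDeg.isMonHom_frobOver hq (A := G)
  haveI := isMonHom_pow G (p ^ e)
  let φ : G ⟶ G := (EndAV.End.of (frobOver p e hq G) - EndAV.End.of (𝟙 G ^ (p ^ e))).toHom
  have hφ : φ = frobOver p e hq G / (𝟙 G ^ (p ^ e)) := rfl
  haveI : IsMonHom φ := inferInstance
  obtain ⟨ψ, hψ⟩ := AdjRep.exists_desc i π hk φ (by
    rw [hφ, GrpObj.comp_div, ← frobOver_comp hq, hT, MonObj.pow_comp, Category.id_comp, MonObj.comp_pow,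
      Category.comp_id, div_self'])
  haveI : IsMonHom (π ≫ ψ) := by rw [hψ]; infer_instance
  haveI : LocallyOfFinitePresentation π.left := by
    haveI : LocallyOfFiniteType (π.left ≫ A.hom) := by rw [Over.w]; infer_instance
    haveI : LocallyOfFiniteType π.left := locallyOfFiniteType_of_comp π.left A.hom
    haveI : IsLocallyNoetherian A.left := LocallyOfFiniteType.isLocallyNoetherian A.hom
    infer_instance
  haveI : IsMonHom ψ := isMonHom_desc π ψ
  haveI : Surjective (ψ ≫ π).left := by
    haveI := surjective_frob_sub hq A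
    have h : π ≫ ψ ≫ π = π ≫ (frobOver p e hq A / (𝟙 A ^ (p ^ e))) := by
      rw [← Category.assoc, hψ, hφ, GrpObj.div_comp, GrpObj.comp_div, frobOver_comp hq, MonObj.pow_comp,
        Category.id_comp, MonObj.comp_pow, Category.comp_id]
    haveI : Surjective (π.left ≫ (ψ ≫ π).left) := by
      rw [← Over.comp_left, h, Over.comp_left]; infer_instance
    exact Surjective.of_comp π.left _
  haveI : QuasiCompact ψ.left := by
    haveI : QuasiCompact (ψ.left ≫ G.hom) := by rw [Over.w]; infer_instance
    exact QuasiCompact.of_comp _ G.hom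
  obtain ⟨B, hB, iB, g, hiB, hg, hgi, hicl, -, -, hgs⟩ := GrpField.SchImg.exists_image ψ
  haveI := hiB; haveI := hicl; haveI := hgs
  haveI : Surjective (iB ≫ π).left := by
    haveI : Surjective (g.left ≫ (iB ≫ π).left) := by
      rw [← Over.comp_left, reassoc_of% hgi]; infer_instance
    exact Surjective.of_comp g.left _
  haveI hgen : Surjective ((i ⊗ₘ iB) ≫ μ[G]).left := surjective_mul_of_surjective_comp i π hk iB
  haveI : UniversallyClosed B.hom := by
    haveI : UniversallyClosed (g.left ≫ B.hom) := by rw [Over.w]; infer_instance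
    exact UniversallyClosed.of_comp_surjective g.left B.hom
  obtain ⟨Q, hQ, r, hrm, hrf, hrs, hrk, hrsep, hQsm, hQq, hQc, -⟩ := exists_quotient_group' iB
    (fun X a x => ⟨x, by rw [_root_.mul_comm a, _root_.mul_assoc, mul_inv_cancel, _root_.mul_one]⟩)
  haveI := hrm; haveI := hrs; haveI := hrsep; haveI := hQsm; haveI := hQq
  haveI hir : Surjective (i ≫ r).left := by
    have h : ((i ⊗ₘ iB) ≫ μ[G]) ≫ r = fst T B ≫ (i ≫ r) := by
      rw [Category.assoc, IsMonHom.mul_hom, MonoidalCategory.tensorHom_comp_tensorHom_assoc, hrk.w]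
      rw [← Hom.one_def, show ((i ≫ r) ⊗ₘ (1 : B ⟶ Q)) ≫ μ[Q] = (fst T B ≫ (i ≫ r)) * (snd T B ≫ (1 : B ⟶ Q)) by
        rw [Hom.mul_def]; congr 1, MonObj.comp_one, _root_.mul_one]
    haveI : Surjective ((fst T B).left ≫ (i ≫ r).left) := by
      rw [← Over.comp_left, ← h, Over.comp_left]; infer_instance
    exact Surjective.of_comp (fst T B).left _
  haveI : IsMonHom (i ≫ r) := inferInstance
  haveI : LocallyOfFiniteType T.hom := by rw [← Over.w i]; infer_instance
  haveI : QuasiCompact T.hom := haveI := isAffineHom_of_isAffine T.hom; inferInstance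
  haveI : QuasiCompact (i ≫ r).left := by
    haveI : QuasiCompact ((i ≫ r).left ≫ Q.hom) := by rw [Over.w]; infer_instance
    exact QuasiCompact.of_comp _ Q.hom
  haveI : IsReduced Q.left := isReduced_of_smooth' Q
  haveI : Flat (i ≫ r).left := GrpField.flat_of_surjective_reduced (i ≫ r)
  haveI : IsAffine Q.left := (S7983.result k T Q (i ≫ r)).1 inferInstance
  have hr1 : r = 1 := eq_one_of_anti hG r
  haveI : Surjective iB.left := ⟨fun x => by
    refine ⟨(hrk.lift (𝟙 G) (toUnit G) (by rw [Category.id_comp, hr1, Hom.one_def])).left x, ?_⟩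
    rw [← Scheme.Hom.comp_apply, ← Over.comp_left, hrk.lift_fst]
    rfl⟩
  haveI : UniversallyClosed G.hom := by
    haveI : UniversallyClosed (iB.left ≫ G.hom) := by rw [Over.w]; infer_instance
    exact UniversallyClosed.of_comp_surjective iB.left G.hom
  exact {}

omit p e hq in
/-- **An anti-affine group over a finite field is proper.** -/
theorem isProper_of_anti_finite (k : Type u) [Field k] [Finite k]
    (G : Over (Spec (CommRingCat.of k))) [GrpObj G] [LocallyOfFiniteType G.hom] [QuasiCompact G.hom]
    (hG : IsAnti G) : IsProper G.hom := by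
  obtain ⟨p, hchar⟩ := CharP.exists k
  haveI := hchar
  haveI : Fact p.Prime := ⟨CharP.char_is_prime k p⟩
  obtain ⟨T, hT, i, A, hA, π, him, hic, htor, hqm, hqs, hqf, hker, hAp, hAs, hAc⟩ := isSA_of_anti p G hG
  haveI := him; haveI := hic; haveI := hqm; haveI := hqs; haveI := hqf; haveI := hAp; haveI := hAs; haveI := hAc
  obtain ⟨R, _, _, hRm, hRft, ⟨x⟩⟩ := MTBridge.exists_hopf T (MTBridge.isMultTypeFT_of_isTorus T htor)
  obtain ⟨K, _, _, hfin, -, M, _, -, ⟨y⟩⟩ := S2969.result k R hRft hRm
  haveI := hfin
  haveI : Finite K := Module.finite_of_finite k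
  haveI : CharP K p := charP_of_injective_algebraMap (algebraMap k K).injective p
  haveI := Fintype.ofFinite K
  obtain ⟨⟨e, he⟩, -⟩ : (∃ e : ℕ, Nat.card K = p ^ e) ∧ True := by
    obtain ⟨n, -, hn⟩ := FiniteField.card K p
    exact ⟨⟨n, Nat.card_eq_fintype_card.trans hn⟩, trivial⟩
  let w := specMap k K
  let F := Over.pullback w
  haveI : Mono i := GrpField.SchImg.mono_of_isClosedImmersion i
  haveI : GeometricallyConnected A.hom :=
    Rigid.geometricallyConnected_of_section A.hom η[A].left (Over.w η[A])
  haveI : ConnectedSpace (F.obj A).left :=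
    GeometricallyConnected.geometrically_connectedSpace _ _ _ (IsPullback.of_hasPullback A.hom w)
  haveI : IsProper (F.obj A).hom := inferInstanceAs (IsProper (pullback.snd A.hom w))
  haveI : Smooth (F.obj A).hom := inferInstanceAs (Smooth (pullback.snd A.hom w))
  haveI : LocallyOfFiniteType (F.obj G).hom := inferInstanceAs (LocallyOfFiniteType (pullback.snd G.hom w))
  haveI : QuasiCompact (F.obj G).hom := inferInstanceAs (QuasiCompact (pullback.snd G.hom w))
  haveI : Surjective (F.map π).left := MorphismProperty.baseChange_map (P := @Surjective) w π hqs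
  haveI : Flat (F.map π).left := MorphismProperty.baseChange_map (P := @Flat) w π hqf
  obtain ⟨z₁⟩ := MTBridge.nonempty_bc_specGrp k K R
  obtain ⟨z₂⟩ := MTBridge.nonempty_specGrp_iso y.symm
  let z : Grp.mk (F.obj T) ≅ specGrp K (MonoidAlgebra K M) := MTBridge.bcMapIso w x ≪≫ z₁ ≪≫ z₂
  haveI : IsAffine (F.obj T).left :=
    haveI : IsIso z.hom.hom.hom.left := inferInstanceAs (IsIso ((Over.forget _).map ((Grp.forget _).map z.hom)))
    haveI : IsAffine (specGrp K (MonoidAlgebra K M)).X.left :=
      inferInstanceAs (IsAffine (Spec (CommRingCat.of (MonoidAlgebra K M))))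
    .of_isIso z.hom.hom.hom.left
  haveI : IsClosedImmersion (F.map i).left := MorphismProperty.baseChange_map (P := @IsClosedImmersion) w i hic
  have hprop : IsProper (F.obj G).hom := isProper_of_anti_frob he ((S19702.result k K G).1 hG) (F.map i)
    (F.map π) (isKernel_bc w i π hker) (frobOver_eq_pow_of_diag he (F.obj T) z)
  haveI : IsProper (pullback.snd G.hom w) := hprop
  haveI : IsFinite w := (IsFinite.SpecMap_iff _).2 (RingHom.finite_algebraMap.2 hfin)
  haveI : Surjective w := ⟨fun _ => ⟨IsLocalRing.closedPoint _, Subsingleton.elim (α := PrimeSpectrum k) _ _⟩⟩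
  haveI : Surjective (pullback.fst G.hom w) := MorphismProperty.pullback_fst _ _ ‹_›
  haveI : IsSeparated G.hom := GrpField.isSeparated_hom G
  haveI : UniversallyClosed (pullback.fst G.hom w ≫ G.hom) := by rw [pullback.condition]; infer_instance
  haveI : UniversallyClosed G.hom := UniversallyClosed.of_comp_surjective (pullback.fst G.hom w) G.hom
  exact {}

end Groth.Agent.Chev
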