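import Groth.Prelude.Def_VecGrp
import Groth.Prelude.Def_AlgGrp
import Mathlib.AlgebraicGeometry.Stalk
import Mathlib.AlgebraicGeometry.FunctionField

/-!
# Values of rational functions at points with values in a ring

For a point `x : Spec R ⟶ X` over a field, `Fit x a b` says that the rational function `a` is regular where
`x` lives and takes the value `b` at `x`.
-/

set_option autoImplicit false
set_option backward.isDefEq.respectTransparency false

universe u

open CategoryTheory CategoryTheory.Limits MonoidalCategory CartesianMonoidalCategory MonObj GrpObj AlgebraicGeometry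
open IsLocalRing (closedPoint)

noncomputable section

namespace Groth.Agent.Chev

variable {k : Type u} [Field k] {X : Over (Spec (CommRingCat.of k))}

instance stalkAlgebra (y : X.left) : Algebra k (X.left.presheaf.stalk y) :=
  (Spec.preimage (X.left.fromSpecStalk y ≫ X.hom)).hom.toAlgebra

theorem spec_algebraMap_stalk (y : X.left) :
    Spec.map (CommRingCat.ofHom (algebraMap k (X.left.presheaf.stalk y))) = X.left.fromSpecStalk y ≫ X.hom :=
  Spec.map_preimage _

/-- The tautological point with values in a local ring. -/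
def spt (y : X.left) : VecGrp.pt k (X.left.presheaf.stalk y) ⟶ X :=
  Over.homMk (X.left.fromSpecStalk y) (spec_algebraMap_stalk y).symm

/-- Base change of the constants along specializations. -/
theorem stalkSpecializes_algebraMap {y z : X.left} (h : z ⤳ y) (c : k) :
    (X.left.presheaf.stalkSpecializes h).hom (algebraMap k _ c) = algebraMap k _ c := by
  have e : CommRingCat.ofHom (algebraMap k (X.left.presheaf.stalk y)) ≫ X.left.presheaf.stalkSpecializes h =
      CommRingCat.ofHom (algebraMap k (X.left.presheaf.stalk z)) := by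
    apply Spec.map_injective
    rw [Spec.map_comp, spec_algebraMap_stalk, spec_algebraMap_stalk,
      Scheme.SpecMap_stalkSpecializes_fromSpecStalk_assoc]
  exact congr($(e) c)

/-- Specialization as a map of algebras. -/
def specAlg {y z : X.left} (h : z ⤳ y) : X.left.presheaf.stalk y →ₐ[k] X.left.presheaf.stalk z :=
  { toRingHom := (X.left.presheaf.stalkSpecializes h).hom
    commutes' := stalkSpecializes_algebraMap h }

theorem ptMap_specAlg_spt {y z : X.left} (h : z ⤳ y) : VecGrp.ptMap (specAlg h) ≫ spt y = spt z :=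
  Over.OverMorphism.ext (Scheme.SpecMap_stalkSpecializes_fromSpecStalk (X := X.left) h)

theorem spt_apply (y : X.left) : (spt y).left (closedPoint _) = y :=
  Scheme.fromSpecStalk_closedPoint

/-- The point of the underlying space below a point with values in a local ring. -/
abbrev img {R : Type u} [CommRing R] [Algebra k R] [IsLocalRing R] (x : VecGrp.pt k R ⟶ X) : X.left :=
  x.left (closedPoint R)

/-- The local homomorphism of a point with values in a local ring. -/
def stc {R : Type u} [CommRing R] [Algebra k R] [IsLocalRing R] (x : VecGrp.pt k R ⟶ X) :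
    X.left.presheaf.stalk (img x) →ₐ[k] R :=
  { toRingHom := (Scheme.stalkClosedPointTo (R := CommRingCat.of R) x.left).hom
    commutes' := fun c => by
      have e : CommRingCat.ofHom (algebraMap k (X.left.presheaf.stalk (img x))) ≫
          Scheme.stalkClosedPointTo (R := CommRingCat.of R) x.left = CommRingCat.ofHom (algebraMap k R) := by
        apply Spec.map_injective
        rw [Spec.map_comp, spec_algebraMap_stalk]
        exact (Scheme.Spec_stalkClosedPointTo_fromSpecStalk_assoc (R := CommRingCat.of R) x.left X.hom).trans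
          (Over.w x)
      exact congr($(e) c) }

theorem isUnit_stc_iff {R : Type u} [CommRing R] [Algebra k R] [IsLocalRing R] (x : VecGrp.pt k R ⟶ X)
    (r : X.left.presheaf.stalk (img x)) : IsUnit (stc x r) ↔ IsUnit r :=
  ⟨fun h => (Scheme.isLocalHom_stalkClosedPointTo (R := CommRingCat.of R) x.left).map_nonunit r h,
    fun h => h.map _⟩

theorem ptMap_stc {R : Type u} [CommRing R] [Algebra k R] [IsLocalRing R] (x : VecGrp.pt k R ⟶ X) :
    VecGrp.ptMap (stc x) ≫ spt (img x) = x :=
  Over.OverMorphism.ext (Scheme.Spec_stalkClosedPointTo_fromSpecStalk (R := CommRingCat.of R) x.left)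

theorem ptMap_comp {R R' R'' : Type u} [CommRing R] [Algebra k R] [CommRing R'] [Algebra k R']
    [CommRing R''] [Algebra k R''] (φ : R →ₐ[k] R') (ψ : R' →ₐ[k] R'') :
    (VecGrp.ptMap (ψ.comp φ) : VecGrp.pt k R'' ⟶ VecGrp.pt k R) = VecGrp.ptMap ψ ≫ VecGrp.ptMap φ :=
  Over.OverMorphism.ext (Spec.map_comp (CommRingCat.ofHom φ.toRingHom) (CommRingCat.ofHom ψ.toRingHom))

theorem ptMap_id {R : Type u} [CommRing R] [Algebra k R] :
    (VecGrp.ptMap (AlgHom.id k R) : VecGrp.pt k R ⟶ VecGrp.pt k R) = 𝟙 _ :=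
  Over.OverMorphism.ext (Spec.map_id _)

/-- A factorization through the spectrum of a stalk is the standard one. -/
theorem eq_of_factor {R : Type u} [CommRing R] [Algebra k R] [IsLocalRing R] (x : VecGrp.pt k R ⟶ X)
    {y : X.left} (φ : X.left.presheaf.stalk y →ₐ[k] R) (hφ : VecGrp.ptMap φ ≫ spt y = x) :
    ∃ h : img x ⤳ y, φ = (stc x).comp (specAlg h) := by
  have hmem : img x ∈ Set.range (X.left.fromSpecStalk y) := by
    refine ⟨(VecGrp.ptMap φ).left (closedPoint R), ?_⟩
    rw [img, ← hφ]; rfl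
  rw [Scheme.range_fromSpecStalk] at hmem
  refine ⟨hmem, ?_⟩
  have e : CommRingCat.ofHom φ.toRingHom =
      CommRingCat.ofHom ((stc x).comp (specAlg hmem)).toRingHom := by
    apply Spec.map_injective
    rw [← cancel_mono (X.left.fromSpecStalk y)]
    have h2 : VecGrp.ptMap ((stc x).comp (specAlg hmem)) ≫ spt y = x := by
      rw [ptMap_comp, Category.assoc, ptMap_specAlg_spt, ptMap_stc]
    exact (congrArg CommaMorphism.left hφ).trans (congrArg CommaMorphism.left h2).symm
  exact AlgHom.ext fun r => congr($(e) r)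

section Int

variable [IsIntegral X.left]

/-- The field of rational functions. -/
abbrev KF (X : Over (Spec (CommRingCat.of k))) [IsIntegral X.left] : Type u :=
  X.left.presheaf.stalk (genericPoint X.left)

theorem genericPoint_specializes' (y : X.left) : genericPoint X.left ⤳ y :=
  (genericPoint_spec X.left).specializes trivial

/-- The inclusion of a local ring into the rational functions. -/
def toKF (y : X.left) : X.left.presheaf.stalk y →ₐ[k] KF X := specAlg (genericPoint_specializes' y)

theorem toKF_injective (y : X.left) : Function.Injective (toKF y) :=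
  IsFractionRing.injective (X.left.presheaf.stalk y) X.left.functionField

theorem toKF_specAlg {y z : X.left} (h : z ⤳ y) (r : X.left.presheaf.stalk y) :
    toKF z (specAlg h r) = toKF y r := by
  show (X.left.presheaf.stalkSpecializes _).hom ((X.left.presheaf.stalkSpecializes h).hom r) =
    (X.left.presheaf.stalkSpecializes _).hom r
  rw [← CommRingCat.comp_apply, TopCat.Presheaf.stalkSpecializes_comp]

/-- `a` is regular where `x` lives and its value at `x` is `b`. -/
def Fit {R : Type u} [CommRing R] [Algebra k R] (x : VecGrp.pt k R ⟶ X) (a : KF X) (b : R) : Prop :=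
  ∃ (y : X.left) (φ : X.left.presheaf.stalk y →ₐ[k] R) (r : X.left.presheaf.stalk y),
    VecGrp.ptMap φ ≫ spt y = x ∧ toKF y r = a ∧ φ r = b

theorem Fit.map {R R' : Type u} [CommRing R] [Algebra k R] [CommRing R'] [Algebra k R']
    {x : VecGrp.pt k R ⟶ X} {a : KF X} {b : R} (h : Fit x a b) (ψ : R →ₐ[k] R') :
    Fit (VecGrp.ptMap ψ ≫ x) a (ψ b) := by
  obtain ⟨y, φ, r, hx, ha, hb⟩ := h
  exact ⟨y, ψ.comp φ, r, by rw [ptMap_comp, Category.assoc, hx], ha, congrArg ψ hb⟩

theorem Fit.spt (y : X.left) (r : X.left.presheaf.stalk y) : Fit (spt y) (toKF y r) r :=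
  ⟨y, AlgHom.id k _, r, by rw [ptMap_id, Category.id_comp], rfl, rfl⟩

theorem Fit.iff {R : Type u} [CommRing R] [Algebra k R] [IsLocalRing R] (x : VecGrp.pt k R ⟶ X)
    (a : KF X) (b : R) : Fit x a b ↔ ∃ r, toKF (img x) r = a ∧ stc x r = b := by
  constructor
  · rintro ⟨y, φ, r, hx, ha, hb⟩
    obtain ⟨h, rfl⟩ := eq_of_factor x φ hx
    exact ⟨specAlg h r, (toKF_specAlg h r).trans ha, hb⟩
  · rintro ⟨r, ha, hb⟩
    exact ⟨img x, stc x, r, ptMap_stc x, ha, hb⟩

variable {R : Type u} [CommRing R] [Algebra k R] [IsLocalRing R] {x : VecGrp.pt k R ⟶ X} {a a' : KF X} {b b' : R}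

theorem Fit.unique (h : Fit x a b) (h' : Fit x a b') : b = b' := by
  rw [Fit.iff] at h h'
  obtain ⟨r, hr, rfl⟩ := h
  obtain ⟨r', hr', rfl⟩ := h'
  rw [toKF_injective _ (hr.trans hr'.symm)]

theorem Fit.add (h : Fit x a b) (h' : Fit x a' b') : Fit x (a + a') (b + b') := by
  rw [Fit.iff] at *
  obtain ⟨r, hr, hb⟩ := h
  obtain ⟨r', hr', hb'⟩ := h'
  exact ⟨r + r', by rw [map_add, hr, hr'], by rw [map_add, hb, hb']⟩

theorem Fit.mul (h : Fit x a b) (h' : Fit x a' b') : Fit x (a * a') (b * b') := by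
  rw [Fit.iff] at *
  obtain ⟨r, hr, hb⟩ := h
  obtain ⟨r', hr', hb'⟩ := h'
  exact ⟨r * r', by rw [map_mul, hr, hr'], by rw [map_mul, hb, hb']⟩

theorem Fit.const (x : VecGrp.pt k R ⟶ X) (c : k) : Fit x (algebraMap k _ c) (algebraMap k R c) :=
  (Fit.iff x _ _).2 ⟨algebraMap k _ c, (toKF _).commutes c, (stc x).commutes c⟩

theorem Fit.zero (x : VecGrp.pt k R ⟶ X) : Fit x 0 0 := by simpa using Fit.const x (0 : k)

theorem Fit.one (x : VecGrp.pt k R ⟶ X) : Fit x 1 1 := by simpa using Fit.const x (1 : k)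

theorem Fit.neg (h : Fit x a b) : Fit x (-a) (-b) := by
  simpa using (Fit.const x (-1 : k)).mul h

theorem Fit.sum {ι' : Type*} (s : Finset ι') {f : ι' → KF X} {g : ι' → R} (h : ∀ i ∈ s, Fit x (f i) (g i)) :
    Fit x (∑ i ∈ s, f i) (∑ i ∈ s, g i) := by
  classical
  induction s using Finset.induction_on with
  | empty => simpa using Fit.zero x
  | insert i s hi ih =>
    rw [Finset.sum_insert hi, Finset.sum_insert hi]
    exact (h i (Finset.mem_insert_self i s)).add (ih fun j hj => h j (Finset.mem_insert_of_mem hj))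

/-- `a` is regular at `y`. -/
def Mem (y : X.left) (a : KF X) : Prop := ∃ r, toKF y r = a

/-- `a` is a unit at `y`. -/
def Un (y : X.left) (a : KF X) : Prop := ∃ r, IsUnit r ∧ toKF y r = a

theorem Un.mem {y : X.left} {a : KF X} (h : Un y a) : Mem y a := h.imp fun _ h => h.2

theorem exists_fit (x : VecGrp.pt k R ⟶ X) (h : Mem (img x) a) : ∃ b, Fit x a b := by
  obtain ⟨r, hr⟩ := h
  exact ⟨_, (Fit.iff x _ _).2 ⟨r, hr, rfl⟩⟩

theorem Fit.memImg (h : Fit x a b) : Mem (img x) a := by
  obtain ⟨r, hr, -⟩ := (Fit.iff x a b).1 h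
  exact ⟨r, hr⟩

theorem Fit.isUnit_iff (h : Fit x a b) : IsUnit b ↔ Un (img x) a := by
  obtain ⟨r, hr, rfl⟩ := (Fit.iff x a b).1 h
  rw [isUnit_stc_iff]
  exact ⟨fun hu => ⟨r, hu, hr⟩, fun ⟨r', hu, hr'⟩ => toKF_injective _ (hr.trans hr'.symm) ▸ hu⟩

theorem Mem.add {y : X.left} {a a' : KF X} (h : Mem y a) (h' : Mem y a') : Mem y (a + a') := by
  obtain ⟨r, rfl⟩ := h; obtain ⟨r', rfl⟩ := h'; exact ⟨r + r', map_add _ _ _⟩

theorem Mem.mul {y : X.left} {a a' : KF X} (h : Mem y a) (h' : Mem y a') : Mem y (a * a') := by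
  obtain ⟨r, rfl⟩ := h; obtain ⟨r', rfl⟩ := h'; exact ⟨r * r', map_mul _ _ _⟩

theorem Mem.const (y : X.left) (c : k) : Mem y (algebraMap k (KF X) c) := ⟨_, (toKF y).commutes c⟩

theorem Un.one (y : X.left) : Un y (1 : KF X) := ⟨1, isUnit_one, map_one _⟩

theorem Un.mul {y : X.left} {a a' : KF X} (h : Un y a) (h' : Un y a') : Un y (a * a') := by
  obtain ⟨r, hu, rfl⟩ := h; obtain ⟨r', hu', rfl⟩ := h'; exact ⟨r * r', hu.mul hu', map_mul _ _ _⟩

theorem Un.inv {y : X.left} {a : KF X} (h : Un y a) : Un y a⁻¹ := by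
  obtain ⟨r, hu, rfl⟩ := h
  refine ⟨↑hu.unit⁻¹, Units.isUnit _, eq_inv_of_mul_eq_one_left ?_⟩
  rw [← map_mul, IsUnit.val_inv_mul, map_one]

theorem Un.ne_zero {y : X.left} {a : KF X} (h : Un y a) : a ≠ 0 := by
  obtain ⟨r, hu, rfl⟩ := h
  exact (hu.map (toKF y)).ne_zero

theorem Un.of_specializes {y z : X.left} (hz : z ⤳ y) {a : KF X} (h : Un y a) : Un z a := by
  obtain ⟨r, hu, rfl⟩ := h
  exact ⟨specAlg hz r, hu.map _, toKF_specAlg hz r⟩

theorem Mem.of_specializes {y z : X.left} (hz : z ⤳ y) {a : KF X} (h : Mem y a) : Mem z a := by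
  obtain ⟨r, rfl⟩ := h
  exact ⟨specAlg hz r, toKF_specAlg hz r⟩

/-- The generic point. -/
def gen (X : Over (Spec (CommRingCat.of k))) [IsIntegral X.left] : VecGrp.pt k (KF X) ⟶ X :=
  spt (genericPoint X.left)

theorem ptMap_toKF (y : X.left) : VecGrp.ptMap (toKF y) ≫ spt y = gen X := ptMap_specAlg_spt _

theorem toKF_generic (r : KF X) : toKF (genericPoint X.left) r = r := by
  show (X.left.presheaf.stalkSpecializes _).hom r = r
  rw [TopCat.Presheaf.stalkSpecializes_refl]
  rfl

theorem Fit.gen (a : KF X) : Fit (gen X) a a :=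
  ⟨genericPoint X.left, AlgHom.id k _, a, by rw [ptMap_id, Category.id_comp]; rfl, toKF_generic a, rfl⟩

/-- A dominant point gives an embedding of the rational functions. -/
def fmap {L : Type u} [CommRing L] [IsLocalRing L] [Algebra k L] (y : VecGrp.pt k L ⟶ X)
    (hy : img y = genericPoint X.left) : KF X →ₐ[k] L :=
  (stc y).comp (specAlg (X := X) (y := genericPoint X.left) (z := img y) (hy ▸ specializes_rfl))

theorem ptMap_fmap {L : Type u} [CommRing L] [IsLocalRing L] [Algebra k L] (y : VecGrp.pt k L ⟶ X)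
    (hy : img y = genericPoint X.left) : VecGrp.ptMap (fmap y hy) ≫ Chev.gen X = y := by
  rw [fmap, ptMap_comp, Category.assoc, Chev.gen, ptMap_specAlg_spt, ptMap_stc]

theorem Fit.fmap {L : Type u} [CommRing L] [IsLocalRing L] [Algebra k L] (y : VecGrp.pt k L ⟶ X)
    (hy : img y = genericPoint X.left) (a : KF X) : Fit y a (Chev.fmap y hy a) := by
  have h := (Fit.gen a).map (Chev.fmap y hy)
  rwa [ptMap_fmap] at h

end Int

end Groth.Agent.Chev
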