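import Groth.Agent.Chev.Center
import Groth.Agent.Chev.Divisor
import Mathlib.RingTheory.Polynomial.UniqueFactorization
import Mathlib.RingTheory.Localization.Integral
import Mathlib.RingTheory.Polynomial.Content

/-!
# Translates of a divisor along a rational curve are linearly equivalent

The polynomial `F` below cuts out, on the line over the field of rational functions, the pull back of the
divisor `D = H ∖ W` by `t ↦ x · u(t)`. Its specializations then realize the linear equivalence between the
translates of `D`.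
-/

set_option autoImplicit false
set_option backward.isDefEq.respectTransparency false

universe u

open CategoryTheory CategoryTheory.Limits MonoidalCategory CartesianMonoidalCategory MonObj GrpObj AlgebraicGeometry
open Polynomial

noncomputable section

namespace Groth.Agent.Chev

theorem exists_C_mul {R : Type u} [CommRing R] [IsDomain R] [UniqueFactorizationMonoid R] (s : R) (f : R[X])
    (hf : f ≠ 0) (h : ∀ p : R[X], Prime p → p ∣ f → p.natDegree ≠ 0 → IsUnit (p.eval s)) :
    ∃ (α : R) (w : R[X]), f = C α * w ∧ IsUnit (w.eval s) := by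
  induction f using UniqueFactorizationMonoid.induction_on_prime with
  | h₁ => exact absurd rfl hf
  | h₂ x hx => exact ⟨1, x, by rw [map_one, _root_.one_mul], hx.map (evalRingHom s)⟩
  | h₃ a p ha hp ih =>
    obtain ⟨α, w, hw, hu⟩ := ih ha fun q hq hqa => h q hq (hqa.trans (dvd_mul_left a p))
    by_cases hd : p.natDegree = 0
    · obtain ⟨r, hr⟩ := natDegree_eq_zero.1 hd
      exact ⟨r * α, w, by rw [hw, ← hr, map_mul, _root_.mul_assoc], hu⟩
    · exact ⟨α, p * w, by rw [hw]; ring, by rw [eval_mul]; exact (h p hp (dvd_mul_right p a) hd).mul hu⟩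

variable {k : Type u} [Field k] [IsAlgClosed k] {H : Over (Spec (CommRingCat.of k))} [GrpObj H] [IsCommMonObj H]
  [IsIntegral H.left] (c : RatCurve H)

namespace RatCurve

theorem inc_generic (p : (KF H)[X]) : inc (genericPoint H.left) p = algebraMap (KF H)[X] (RatFunc (KF H)) p := by
  rw [inc_apply]
  congr 1
  rw [show (toKF (genericPoint H.left)).toRingHom = RingHom.id (KF H) from RingHom.ext toKF_generic, Polynomial.map_id]

/-- Away from finitely many irreducible polynomials the centre of the translated curve lies in `W`. -/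
theorem exists_bad (W : H.left.Opens) (hW : genericPoint H.left ∈ W) :
    ∃ p : (KF H)[X], p ≠ 0 ∧ ∀ (Q : Ideal (KF H)[X]) [Q.IsPrime] (hQ : c.Avoids (genericPoint H.left) Q),
      p ∉ Q → img (c.sQ (genericPoint H.left) Q hQ) ∈ W := by
  let gK : (KF H)[X] := aeval X c.g
  have hgK : gK ≠ 0 := by
    simp only [gK, aeval_X_left_eq_map]
    exact (Polynomial.map_ne_zero_iff (algebraMap k (KF H)).injective).2 c.g_ne_zero
  let A : Type u := Localization.Away gK
  let toA : (KF H)[X] →ₐ[k] A := IsScalarTower.toAlgHom k _ _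
  have hu : IsUnit (aeval (toA X) c.g) := by
    rw [aeval_algHom_apply]
    exact IsLocalization.map_units (M := Submonoid.powers gK) A ⟨gK, Submonoid.mem_powers gK⟩
  let sU : VecGrp.pt k A ⟶ H := (VecGrp.ptMap (toA.comp (cst (genericPoint H.left))) ≫ gen H) * c.pu (toA X) hu
  have key : ∀ {B : Type u} [CommRing B] [Algebra k B] (χ : A →ₐ[k] B),
      VecGrp.ptMap χ ≫ sU = (VecGrp.ptMap ((χ.comp toA).comp (cst (genericPoint H.left))) ≫ gen H) *
        c.pu (χ (toA X)) (c.map_isUnit χ hu) := by
    intro B _ _ χ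
    simp only [sU]
    rw [MonObj.comp_mul, ← Category.assoc, ← ptMap_comp, ptMap_pu]
    rfl
  let χL : A →ₐ[k] RatFunc (KF H) := IsLocalization.liftAlgHom (M := Submonoid.powers gK)
    (f := IsScalarTower.toAlgHom k (KF H)[X] (RatFunc (KF H))) fun r => by
      obtain ⟨n, hn⟩ := r.2
      refine Ne.isUnit (RatFunc.algebraMap_ne_zero ?_)
      rw [← hn]
      exact pow_ne_zero _ hgK
  have hχL : ∀ p, χL (toA p) = algebraMap _ _ p := fun p => IsLocalization.lift_eq _ p
  have hsL : VecGrp.ptMap χL ≫ sU = c.sL := by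
    rw [key]
    refine congrArg₂ (· * ·) ?_ (c.pu_congr (by rw [hχL, RatFunc.algebraMap_X]) _ _)
    congr 2
    refine AlgHom.ext fun r => ?_
    exact (hχL (Polynomial.C r)).trans (IsScalarTower.algebraMap_apply (KF H) (KF H)[X] _ r).symm
  let pL : PrimeSpectrum A := PrimeSpectrum.comap χL.toRingHom (IsLocalRing.closedPoint (RatFunc (KF H)))
  have hpL : sU.left pL = genericPoint H.left :=
    (congrArg (fun x : VecGrp.pt k (RatFunc (KF H)) ⟶ H => img x) hsL).trans c.img_sL
  obtain ⟨_, ⟨f, rfl⟩, hfmem, hfsub⟩ := PrimeSpectrum.isTopologicalBasis_basic_opens.exists_subset_of_mem_open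
    (u := sU.left ⁻¹' (W : Set H.left)) (a := pL) (by rw [Set.mem_preimage, hpL]; exact hW)
    (W.2.preimage sU.left.continuous)
  obtain ⟨p, q, rfl⟩ := IsLocalization.exists_mk'_eq (Submonoid.powers gK) f
  have hmk : IsLocalization.mk' A p q * toA q = toA p := IsLocalization.mk'_spec _ p q
  refine ⟨p, fun hp0 => hfmem ?_, fun Q _ hQ hpQ => ?_⟩
  · show IsLocalization.mk' A p q ∈ pL.asIdeal
    rw [hp0, IsLocalization.mk'_zero]
    exact pL.asIdeal.zero_mem
  · let χ : A →ₐ[k] Localization.AtPrime Q := IsLocalization.liftAlgHom (M := Submonoid.powers gK)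
      (f := IsScalarTower.toAlgHom k (KF H)[X] (Localization.AtPrime Q)) fun r => by
        obtain ⟨n, hn⟩ := r.2
        rw [← hn]
        show IsUnit (algebraMap (KF H)[X] (Localization.AtPrime Q) (gK ^ n))
        rw [map_pow]
        exact (IsLocalization.map_units _ (⟨gK, hQ⟩ : Q.primeCompl)).pow n
    have hχ : ∀ r, χ (toA r) = algebraMap _ _ r := fun r => IsLocalization.lift_eq _ r
    have hs : VecGrp.ptMap χ ≫ sU = c.sQ (genericPoint H.left) Q hQ := by
      rw [key, sQ]
      refine congrArg₂ (· * ·) ?_ (c.pu_congr (hχ X) _ _)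
      congr 2
      exact AlgHom.ext fun r => hχ _
    rw [img, ← hs]
    refine hfsub (show IsLocalization.mk' A p q ∉ (PrimeSpectrum.comap χ.toRingHom
      (IsLocalRing.closedPoint (Localization.AtPrime Q))).asIdeal from ?_)
    show χ (IsLocalization.mk' A p q) ∉ IsLocalRing.maximalIdeal _
    rw [IsLocalRing.notMem_maximalIdeal]
    have h := congrArg χ hmk
    rw [map_mul, hχ, hχ] at h
    exact isUnit_of_mul_isUnit_left (h ▸ IsLocalization.map_units _ (⟨p, hpQ⟩ : Q.primeCompl))

open Classical in
/-- The polynomial with the divisor of the pull back of `D` by the translated curve. -/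
theorem exists_fund {W : H.left.Opens} (E : Equations H W) (hW : genericPoint H.left ∈ W) :
    ∃ F : (KF H)[X], F.Monic ∧ ∀ (Q : Ideal (KF H)[X]) [Q.IsPrime] (_ : Q ≠ ⊥)
      (hQ : c.Avoids (genericPoint H.left) Q),
      UAt (genericPoint H.left) Q
        (algebraMap _ (RatFunc (KF H)) F / c.tau (E.d (img (c.sQ (genericPoint H.left) Q hQ)))) := by
  obtain ⟨p₀, hp₀, hgood⟩ := c.exists_bad W hW
  let S := (UniqueFactorizationMonoid.normalizedFactors p₀).toFinset
  have hS : ∀ P ∈ S, Irreducible P ∧ P.Monic := fun P hP => by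
    have hP' := Multiset.mem_toFinset.1 hP
    refine ⟨UniqueFactorizationMonoid.irreducible_of_normalized_factor P hP', ?_⟩
    rw [← UniqueFactorizationMonoid.normalize_normalized_factor P hP']
    exact monic_normalize (UniqueFactorizationMonoid.irreducible_of_normalized_factor P hP').ne_zero
  have hex : ∀ P : (KF H)[X], ∃ e : ℕ, ∀ [(Ideal.span {P}).IsPrime] (_ : P ≠ 0)
      (hQ : c.Avoids (genericPoint H.left) (Ideal.span {P})),
      UAt (genericPoint H.left) (Ideal.span {P}) (algebraMap _ (RatFunc (KF H)) (P ^ e) /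
        c.tau (E.d (img (c.sQ (genericPoint H.left) (Ideal.span {P}) hQ)))) := by
    intro P
    by_cases hP : (Ideal.span {P}).IsPrime ∧ P ≠ 0 ∧ c.Avoids (genericPoint H.left) (Ideal.span {P})
    · obtain ⟨hP1, hP0, hP2⟩ := hP
      haveI := hP1
      have hPp : Prime P := (Ideal.span_singleton_prime hP0).1 hP1
      let z := img (c.sQ (genericPoint H.left) (Ideal.span {P}) hP2)
      obtain ⟨p, q, hq, hpq⟩ := c.exists_quot hP2 (E.mem z)
      have hp : p ≠ 0 := by
        intro e
        rw [e, map_zero, zero_eq_mul] at hpq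
        exact hpq.elim (fun h => E.ne_zero z (c.tau.toRingHom.injective (h.trans (map_zero _).symm)))
          (inc_ne_zero _ fun e' => hq (by rw [e']; exact Ideal.zero_mem _))
      obtain ⟨e, p', hp', rfl⟩ := WfDvdMonoid.max_power_factor hp hPp.irreducible
      refine ⟨e, fun _ _ => ⟨q, p', hq, fun h => hp' (Ideal.mem_span_singleton.1 h), ?_⟩⟩
      rw [div_mul_eq_mul_div, eq_div_iff ((map_ne_zero_iff c.tau c.tau.toRingHom.injective).2 (E.ne_zero _))]
      rw [inc_generic, inc_generic] at hpq
      rw [inc_generic, inc_generic, ← map_mul, hpq, _root_.mul_comm]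
    · exact ⟨0, fun h0 hQ => absurd ⟨by assumption, h0, hQ⟩ hP⟩
  choose e he using hex
  refine ⟨∏ P ∈ S, P ^ e P, monic_prod_of_monic _ _ fun P hP => (hS P hP).2.pow _, fun Q hQp hQb hQ => ?_⟩
  haveI := hQp
  obtain ⟨P₀, rfl⟩ := (IsPrincipalIdealRing.principal Q).principal
  change c.Avoids (genericPoint H.left) (Ideal.span {P₀}) at hQ
  have hP₀ : P₀ ≠ 0 := fun h => hQb (by rw [h]; exact Ideal.span_singleton_eq_bot.2 rfl)
  have hPp : Prime P₀ := (Ideal.span_singleton_prime hP₀).1 hQp
  by_cases hmem : normalize P₀ ∈ S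
  · have hQeq : Ideal.span {normalize P₀} = Ideal.span {P₀} :=
      Ideal.span_singleton_eq_span_singleton.2 (normalize_associated P₀)
    have hne : normalize P₀ ≠ 0 := (hS _ hmem).1.ne_zero
    have main : ∀ (Q' : Ideal (KF H)[X]) (hQp' : Q'.IsPrime), Ideal.span {normalize P₀} = Q' →
        ∀ hQ' : c.Avoids (genericPoint H.left) Q', UAt (genericPoint H.left) Q'
          (algebraMap _ (RatFunc (KF H)) (∏ P ∈ S, P ^ e P) /
            c.tau (E.d (img (c.sQ (genericPoint H.left) Q' hQ')))) := by
      rintro Q' hQp' rfl hQ'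
      have h1 := he (normalize P₀) hne hQ'
      rw [← Finset.mul_prod_erase S _ hmem, map_mul, mul_div_right_comm]
      refine h1.mul ?_
      refine ⟨∏ P ∈ S.erase (normalize P₀), P ^ e P, 1, ?_, Ideal.IsPrime.ne_top hQp' ∘ (Ideal.eq_top_iff_one _).2, ?_⟩
      · rw [Ideal.mem_span_singleton, ((Ideal.span_singleton_prime hne).1 hQp').dvd_finsetProd_iff]
        rintro ⟨P, hP, hdvd⟩
        obtain ⟨hPne, hPS⟩ := Finset.mem_erase.1 hP
        have h2 := ((Ideal.span_singleton_prime hne).1 hQp').dvd_of_dvd_pow hdvd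
        have h3 := ((hS _ hmem).1.associated_of_dvd (hS P hPS).1 h2)
        exact hPne (eq_of_monic_of_associated (hS P hPS).2 (hS _ hmem).2 h3.symm)
      · rw [inc_generic, inc_generic, map_one, _root_.mul_one]
    exact main _ hQp hQeq hQ
  · have hnp : p₀ ∉ Ideal.span {P₀} := fun h => by
      obtain ⟨P, hP, hass⟩ := UniqueFactorizationMonoid.exists_mem_normalizedFactors_of_dvd hp₀ hPp.irreducible
        (Ideal.mem_span_singleton.1 h)
      apply hmem
      rw [normalize_eq_normalize hass.dvd hass.symm.dvd, UniqueFactorizationMonoid.normalize_normalized_factor P hP]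
      exact Multiset.mem_toFinset.2 hP
    rw [E.eq_one _ (hgood (Ideal.span {P₀}) hQ hnp), map_one, div_one]
    refine ⟨∏ P ∈ S, P ^ e P, 1, ?_, Ideal.IsPrime.ne_top hQp ∘ (Ideal.eq_top_iff_one _).2, ?_⟩
    · change ¬ (∏ P ∈ S, P ^ e P) ∈ Ideal.span {P₀}
      rw [Ideal.mem_span_singleton, hPp.dvd_finsetProd_iff]
      rintro ⟨P, hP, hdvd⟩
      have h3 := hPp.irreducible.associated_of_dvd (hS P hP).1 (hPp.dvd_of_dvd_pow hdvd)
      apply hmem
      have h4 : normalize P₀ = P :=
        eq_of_monic_of_associated (monic_normalize hP₀) (hS P hP).2 ((normalize_associated P₀).trans h3)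
      rwa [h4]
    · rw [inc_generic, inc_generic, map_one, _root_.mul_one]

end RatCurve

end Groth.Agent.Chev
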