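import Groth.Agent.GaTorsorZar.Main
import Groth.Agent.BGaNotS.GaPts
import Groth.Prelude.Def_AlgGrp
import Mathlib.AlgebraicGeometry.Sites.Fpqc

/-!
# Homomorphisms with additive kernel over an affine target have sections
-/

set_option autoImplicit false
set_option maxSynthPendingDepth 3
set_option backward.isDefEq.respectTransparency false
universe u

noncomputable section

open CategoryTheory CategoryTheory.Limits MonoidalCategory CartesianMonoidalCategory MonObj AlgebraicGeometry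
open scoped TensorProduct

namespace Groth.Agent.Chev.GaSection

variable {k : Type u} [Field k]

local notation "Sk" => Spec (CommRingCat.of k)

/-- A flat surjective homomorphism with additive kernel to an affine scheme has a section. -/
theorem exists_section {E Q : Over Sk} [GrpObj E] [GrpObj Q] [IsAffine Q.left] [CompactSpace E.left]
    (π : E ⟶ Q) [IsMonHom π] [Flat π.left] [Surjective π.left]
    (i : Red.Ga Sk ⟶ E) [IsMonHom i] (hker : AlgGrp.IsKernel i π) :
    ∃ s : Q ⟶ E, s ≫ π = 𝟙 Q := by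
  let 𝒰 := E.left.affineCover.finiteSubcover
  haveI : ∀ j, IsAffine (𝒰.X j) := fun j => by
    dsimp [𝒰, Scheme.OpenCover.finiteSubcover]
    infer_instance
  let U : Scheme.{u} := ∐ 𝒰.X
  haveI : IsAffine U := inferInstanceAs (IsAffine (∐ 𝒰.X))
  let e : U ⟶ E.left := Sigma.desc 𝒰.f
  haveI : Flat e := IsZariskiLocalAtSource.sigmaDesc fun j => inferInstance
  haveI : Surjective e := Surjective.sigmaDesc_of_union_range_eq_univ 𝒰.iUnion_range
  let f : U ⟶ Q.left := e ≫ π.left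
  let A := Γ(Q.left, ⊤)
  let B := Γ(U, ⊤)
  let φ₀ : A ⟶ B := f.appTop
  letI : Algebra A B := φ₀.hom.toAlgebra
  let qA : Spec A ⟶ Q.left := Q.left.isoSpec.inv
  let qB : Spec B ⟶ E.left := U.isoSpec.inv ≫ e
  let q : Spec B ⟶ Spec A := Spec.map φ₀
  have hnatS : U.isoSpec.hom ≫ q = f ≫ Q.left.isoSpec.hom := Scheme.isoSpec_hom_naturality f
  have hq : q = U.isoSpec.inv ≫ f ≫ Q.left.isoSpec.hom := by rw [← hnatS, Iso.inv_hom_id_assoc]
  have hτ : qB ≫ π.left = q ≫ qA := by
    rw [hq]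
    simp only [qB, qA, f, Category.assoc, Iso.hom_inv_id, Category.comp_id]
  haveI hqf : Flat q := by rw [hq]; infer_instance
  haveI hqs : Surjective q := by rw [hq]; infer_instance
  haveI : Module.Flat A B := Flat.SpecMap_iff.1 hqf
  haveI : Module.FaithfullyFlat A B := Module.FaithfullyFlat.of_comap_surjective fun P => q.surjective P
  let T : ∀ (R : Type u) [CommRing R] [Algebra A R], Over Sk :=
    fun R _ _ => Over.mk (Spec.map (CommRingCat.ofHom (algebraMap A R)) ≫ qA ≫ Q.hom)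
  let base : ∀ (R : Type u) [CommRing R] [Algebra A R], T R ⟶ Q := fun R _ _ =>
    Over.homMk (Spec.map (CommRingCat.ofHom (algebraMap A R)) ≫ qA) (Category.assoc _ _ _)
  have hcomp : ∀ (R : Type u) [CommRing R] [Algebra A R] (φ : B →ₐ[A] R),
      (Spec.map (CommRingCat.ofHom φ.toRingHom) ≫ qB) ≫ π.left =
        Spec.map (CommRingCat.ofHom (algebraMap A R)) ≫ qA := fun R _ _ φ => by
    rw [Category.assoc, hτ, ← Spec.map_comp_assoc]
    congr 2
    ext z
    exact φ.commutes z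
  let pt : ∀ (R : Type u) [CommRing R] [Algebra A R], (B →ₐ[A] R) → (T R ⟶ E) := fun R _ _ φ =>
    Over.homMk (Spec.map (CommRingCat.ofHom φ.toRingHom) ≫ qB) (by
      show _ ≫ E.hom = Spec.map _ ≫ qA ≫ Q.hom
      rw [← Over.w π, ← Category.assoc, hcomp, Category.assoc])
  have hptπ : ∀ (R : Type u) [CommRing R] [Algebra A R] (φ : B →ₐ[A] R), pt R φ ≫ π = base R :=
    fun R _ _ φ => Over.OverMorphism.ext (hcomp R φ)
  have hz : ∀ (R : Type u) [CommRing R] [Algebra A R] (φ ψ : B →ₐ[A] R),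
      ∃ w : T R ⟶ Red.Ga Sk, pt R φ * (w ≫ i) = pt R ψ := fun R _ _ φ ψ => by
    refine ⟨hker.lift ((pt R φ)⁻¹ * pt R ψ) (toUnit _) ?_, ?_⟩
    · rw [MonObj.mul_comp, GrpObj.inv_comp, hptπ, hptπ, inv_mul_cancel, Hom.one_def]
    · rw [hker.lift_fst, mul_inv_cancel_left]
  haveI hi : Mono i := ⟨fun a b hab => hker.hom_ext hab (toUnit_unique _ _)⟩
  have huniq : ∀ (R : Type u) [CommRing R] [Algebra A R] (φ ψ : B →ₐ[A] R) (w w' : T R ⟶ Red.Ga Sk),
      pt R φ * (w ≫ i) = pt R ψ → pt R φ * (w' ≫ i) = pt R ψ → w = w' := fun R _ _ φ ψ w w' h h' =>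
    (cancel_mono i).1 (mul_left_cancel (h.trans h'.symm))
  let ε : ∀ (R : Type u) [CommRing R], Γ(Spec (CommRingCat.of R), ⊤) →+* R := fun R _ =>
    (Scheme.ΓSpecIso (CommRingCat.of R)).hom.hom
  let vR : ∀ (R : Type u) [CommRing R] [Algebra A R], (T R ⟶ Red.Ga Sk) → R :=
    fun R _ _ x => ε R (Red.gaFn x)
  have hvmul : ∀ (R : Type u) [CommRing R] [Algebra A R] (x y : T R ⟶ Red.Ga Sk),
      vR R (x * y) = vR R x + vR R y := fun R _ _ x y => by
    simp only [vR, BGaNotS.gaFn_mul]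
    exact map_add _ _ _
  have hvinj : ∀ (R : Type u) [CommRing R] [Algebra A R], Function.Injective (vR R) := fun R _ _ x y h =>
    BGaNotS.gaPt_ext ((Scheme.ΓSpecIso (CommRingCat.of R)).commRingCatIsoToRingEquiv.injective h)
  let W : ∀ (R : Type u) [CommRing R] [Algebra A R] [Module.Flat A R], (B →ₐ[A] R) → (B →ₐ[A] R) →
      R := fun R _ _ _ φ ψ => vR R (hz R φ ψ).choose
  have hW : ∀ (R : Type u) [CommRing R] [Algebra A R] [Module.Flat A R] (φ ψ : B →ₐ[A] R)
      (w : T R ⟶ Red.Ga Sk), pt R φ * (w ≫ i) = pt R ψ → W R φ ψ = vR R w :=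
    fun R _ _ _ φ ψ w h => congrArg (vR R) (huniq R φ ψ _ _ (hz R φ ψ).choose_spec h)
  let mkT : ∀ (R R' : Type u) [CommRing R] [Algebra A R] [CommRing R'] [Algebra A R'],
      (R →ₐ[A] R') → (T R' ⟶ T R) := fun R R' _ _ _ _ g =>
    Over.homMk (Spec.map (CommRingCat.ofHom g.toRingHom)) (by
      show _ ≫ _ ≫ _ = Spec.map _ ≫ qA ≫ Q.hom
      rw [← Spec.map_comp_assoc]
      congr 2
      ext z
      exact g.commutes z)
  have hmkT : ∀ (R R' : Type u) [CommRing R] [Algebra A R] [CommRing R'] [Algebra A R'] (g : R →ₐ[A] R')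
      (φ : B →ₐ[A] R), mkT R R' g ≫ pt R φ = pt R' (g.comp φ) := fun R R' _ _ _ _ g φ => by
    refine Over.OverMorphism.ext ?_
    show Spec.map (CommRingCat.ofHom g.toRingHom) ≫ Spec.map (CommRingCat.ofHom φ.toRingHom) ≫ qB =
      Spec.map (CommRingCat.ofHom (g.comp φ).toRingHom) ≫ qB
    rw [← Spec.map_comp_assoc]
    rfl
  have hvnat : ∀ (R R' : Type u) [CommRing R] [Algebra A R] [CommRing R'] [Algebra A R'] (g : R →ₐ[A] R')
      (x : T R ⟶ Red.Ga Sk), vR R' (mkT R R' g ≫ x) = g (vR R x) :=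
    fun R R' _ _ _ _ g x => by
      simp only [vR, BGaNotS.gaFn_comp]
      exact RingHom.congr_fun (congrArg CommRingCat.Hom.hom
        (Scheme.ΓSpecIso_naturality (CommRingCat.ofHom g.toRingHom))) _
  obtain ⟨b, hb⟩ := GaTorsorZar.exists_primitive W
    (fun R R' _ _ _ _ _ _ g φ ψ => by
      rw [hW R' (g.comp φ) (g.comp ψ) (mkT R R' g ≫ (hz R φ ψ).choose) (by
        rw [← hmkT, ← hmkT, Category.assoc, ← MonObj.comp_mul, (hz R φ ψ).choose_spec]), hvnat])
    (fun R _ _ _ φ ψ χ => by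
      rw [hW R φ χ ((hz R φ ψ).choose * (hz R ψ χ).choose) (by
        rw [MonObj.mul_comp, ← _root_.mul_assoc, (hz R φ ψ).choose_spec, (hz R ψ χ).choose_spec]), hvmul])
  let w₀ : T B ⟶ Red.Ga Sk := BGaNotS.gaPt ((Scheme.ΓSpecIso (CommRingCat.of B)).inv.hom (-b))
  have hw₀ : vR B w₀ = -b := by
    simp only [vR, w₀, BGaNotS.gaFn_gaPt]
    exact (Scheme.ΓSpecIso (CommRingCat.of B)).commRingCatIsoToRingEquiv.apply_symm_apply _
  let x₀ : T B ⟶ E := pt B (AlgHom.id A B) * (w₀ ≫ i)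
  let R2 := B ⊗[A] B
  let l : B →ₐ[A] R2 := Algebra.TensorProduct.includeLeft
  let r : B →ₐ[A] R2 := Algebra.TensorProduct.includeRight
  have hkey : mkT B R2 l ≫ x₀ = mkT B R2 r ≫ x₀ := by
    simp only [x₀, MonObj.comp_mul, hmkT, AlgHom.comp_id]
    rw [← (hz R2 l r).choose_spec, _root_.mul_assoc]
    congr 1
    rw [← Category.assoc, ← Category.assoc, ← MonObj.mul_comp]
    congr 1
    apply hvinj R2
    rw [hvmul, hvnat, hvnat, hw₀, map_neg, map_neg, show vR R2 (hz R2 l r).choose = W R2 l r from rfl]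
    erw [hb]
    show -(b ⊗ₜ[A] (1 : B)) = ((1 : B) ⊗ₜ[A] b - b ⊗ₜ[A] (1 : B)) + -((1 : B) ⊗ₜ[A] b)
    abel
  have hkey' : Spec.map (CommRingCat.ofHom (Algebra.TensorProduct.includeLeftRingHom : B →+* R2)) ≫ x₀.left =
      Spec.map (CommRingCat.ofHom (Algebra.TensorProduct.includeRight : B →ₐ[A] R2).toRingHom) ≫ x₀.left :=
    congrArg CommaMorphism.left hkey
  haveI : EffectiveEpi q := inferInstance
  have hdesc : ∀ {Z : Scheme.{u}} (y z : Z ⟶ Spec B), y ≫ q = z ≫ q → y ≫ x₀.left = z ≫ x₀.left := by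
    intro Z y z e'
    have h1 : (pullback.lift y z e' ≫ (pullbackSpecIso A B B).hom) ≫
        Spec.map (CommRingCat.ofHom (Algebra.TensorProduct.includeLeftRingHom : B →+* R2)) = y := by
      rw [Category.assoc]
      erw [pullbackSpecIso_hom_fst]
      exact pullback.lift_fst _ _ _
    have h2 : (pullback.lift y z e' ≫ (pullbackSpecIso A B B).hom) ≫
        Spec.map (CommRingCat.ofHom (Algebra.TensorProduct.includeRight : B →ₐ[A] R2).toRingHom) = z := by
      rw [Category.assoc]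
      erw [pullbackSpecIso_hom_snd]
      exact pullback.lift_snd _ _ _
    exact (congrArg (· ≫ x₀.left) h1).symm.trans ((Category.assoc _ _ _).trans
      ((congrArg _ hkey').trans ((Category.assoc _ _ _).symm.trans (congrArg (· ≫ x₀.left) h2))))
  let D : Spec A ⟶ E.left := EffectiveEpi.desc q x₀.left hdesc
  have hxπ : x₀ ≫ π = base B := by
    simp only [x₀, MonObj.mul_comp, hptπ, Category.assoc]
    rw [hker.w, ← Category.assoc, toUnit_unique (w₀ ≫ toUnit _) (toUnit _), ← Hom.one_def, _root_.mul_one]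
  have hD : D ≫ π.left = qA := by
    rw [← cancel_epi q, ← Category.assoc, EffectiveEpi.fac]
    exact congrArg CommaMorphism.left hxπ
  refine ⟨Over.homMk (Q.left.isoSpec.hom ≫ D) ?_, Over.OverMorphism.ext ?_⟩
  · rw [← Over.w π, Category.assoc, reassoc_of% hD, Iso.hom_inv_id_assoc]
  · show (Q.left.isoSpec.hom ≫ D) ≫ π.left = 𝟙 _
    rw [Category.assoc, hD, Iso.hom_inv_id]

end Groth.Agent.Chev.GaSection
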