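import Groth.Agent.CMFlat.BaseField
import Groth.Agent.PtsDense.Basic
import Groth.Agent.BGaNotS.GaPts
import Groth.Agent.Assoc.Kernel
import Groth.Agent.GrpField.SurjSmooth
import Groth.Prelude.Def_GmPts
import Mathlib.FieldTheory.Galois.Infinite
import Mathlib.FieldTheory.Normal.Closure
import Mathlib.RepresentationTheory.Homological.GroupCohomology.Hilbert90
import Mathlib.RingTheory.Trace.Basic

/-!
# Torsors under split solvable commutative groups over a field are trivial

The first cohomology of the Galois group of a separable closure vanishes with values in the points of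
the additive and multiplicative groups, hence (by dévissage) of their iterated commutative
extensions; a point of a torsor fixed by the Galois group is rational.
-/

set_option autoImplicit false
set_option linter.style.haveILetI false
set_option backward.isDefEq.respectTransparency false

universe u

open CategoryTheory MonoidalCategory CartesianMonoidalCategory MonObj GrpObj AlgebraicGeometry

noncomputable section

namespace Groth.Agent.Chev.GalTorsor

variable {K : Type u} [Field K] {Ks : Type u} [Field Ks] [Algebra K Ks]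

variable (K Ks) in
/-- The geometric point. -/
abbrev pt : Over (Spec (CommRingCat.of K)) := Over.mk (Spec.map (CommRingCat.ofHom (algebraMap K Ks)))

/-- An automorphism of the extension acting on the geometric point. -/
def hat (σ : Ks ≃ₐ[K] Ks) : pt K Ks ⟶ pt K Ks :=
  Over.homMk (Spec.map (CommRingCat.ofHom σ.toAlgHom.toRingHom)) (by
    show Spec.map _ ≫ Spec.map _ = Spec.map _
    rw [← Spec.map_comp]
    congr 1
    exact CommRingCat.hom_ext σ.toAlgHom.comp_algebraMap)

theorem hat_mul (σ τ : Ks ≃ₐ[K] Ks) : hat (σ * τ) = hat σ ≫ hat τ := by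
  ext1
  show Spec.map _ = Spec.map _ ≫ Spec.map _
  rw [← Spec.map_comp]
  rfl

theorem hat_appTop (σ : Ks ≃ₐ[K] Ks) (a : Ks) :
    (hat σ).left.appTop.hom ((Scheme.ΓSpecIso (CommRingCat.of Ks)).inv.hom a) =
      (Scheme.ΓSpecIso (CommRingCat.of Ks)).inv.hom (σ a) :=
  (RingHom.congr_fun (congrArg CommRingCat.Hom.hom
    (Scheme.ΓSpecIso_inv_naturality (CommRingCat.ofHom σ.toAlgHom.toRingHom))) a).symm

/-- `c` is constant on the classes modulo the automorphisms fixing `L`. -/
def ConstOn {α : Type*} (L : IntermediateField K Ks) (c : (Ks ≃ₐ[K] Ks) → α) : Prop :=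
  ∀ σ σ' : Ks ≃ₐ[K] Ks, (∀ x ∈ L, σ x = σ' x) → c σ = c σ'

theorem ConstOn.mono {α : Type*} {L L' : IntermediateField K Ks} {c : (Ks ≃ₐ[K] Ks) → α}
    (h : ConstOn L c) (hle : L ≤ L') : ConstOn L' c := fun σ σ' e => h σ σ' fun x hx => e x (hle hx)

theorem apply_mem {L : IntermediateField K Ks} [Normal K L] (σ : Ks ≃ₐ[K] Ks) {x : Ks} (hx : x ∈ L) :
    σ x ∈ L := by
  have h := σ.restrictNormal_commutes L ⟨x, hx⟩
  have h2 : (σ.restrictNormal L ⟨x, hx⟩).1 = σ x := h
  rw [← h2]
  exact (σ.restrictNormal L ⟨x, hx⟩).2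

theorem comm_cocycle {M : Type*} [CommGroup M] (A c z C D : M) :
    A * c * (C * z⁻¹)⁻¹ = (A * (C * D⁻¹)⁻¹) * (c * (D * z⁻¹)⁻¹) := by
  apply Additive.ofMul.injective
  simp only [ofMul_mul, ofMul_inv]
  abel

theorem comm_cob {M : Type*} [CommGroup M] (c W w Z z : M) (h : c * (Z * z⁻¹)⁻¹ = W * w⁻¹) :
    c = W * Z * (w * z)⁻¹ := by
  rw [mul_inv_eq_iff_eq_mul.1 h]
  apply Additive.ofMul.injective
  simp only [ofMul_mul, ofMul_inv]
  abel

section Values

variable [IsGalois K Ks]

/-- A cocycle with values in the multiplicative group of `Ks`. -/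
theorem exists_cob_units (c : (Ks ≃ₐ[K] Ks) → Ksˣ) (L : IntermediateField K Ks) [FiniteDimensional K L]
    [Normal K L] (hL : ConstOn L c)
    (hc : ∀ σ τ, c (σ * τ) = Units.map σ.toAlgHom.toRingHom.toMonoidHom (c τ) * c σ) :
    ∃ z : Ksˣ, ∀ σ, c σ = Units.map σ.toAlgHom.toRingHom.toMonoidHom z * z⁻¹ := by
  have h1 : c 1 = 1 := by
    have h := hc 1 1
    rw [_root_.one_mul, show Units.map (1 : Ks ≃ₐ[K] Ks).toAlgHom.toRingHom.toMonoidHom (c 1) = c 1 from
      Units.ext rfl] at h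
    exact right_eq_mul.1 h
  have hval : ∀ σ, (c σ : Ks) ∈ L := by
    intro σ
    rw [← InfiniteGalois.fixedField_fixingSubgroup L, IntermediateField.mem_fixedField_iff]
    intro h hh
    rw [IntermediateField.mem_fixingSubgroup_iff] at hh
    have e1 : c (h * σ) = c σ := hL _ _ fun x hx => by
      rw [AlgEquiv.mul_apply]; exact hh _ (apply_mem σ hx)
    have e2 : c h = 1 := (hL h 1 fun x hx => hh x hx).trans h1
    rw [hc, e2, _root_.mul_one] at e1
    exact congrArg Units.val e1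
  let f : (L ≃ₐ[K] L) → Lˣ := fun τ => Units.mk0 ⟨c (τ.liftNormal Ks), hval _⟩ fun h =>
    (c (τ.liftNormal Ks)).ne_zero (congrArg Subtype.val h)
  have hf : groupCohomology.IsMulCocycle₁ f := by
    intro g g'
    refine Units.ext (Subtype.ext ?_)
    show (c ((g * g').liftNormal Ks) : Ks) = ((g (f g' : L) : L) : Ks) * c (g.liftNormal Ks)
    rw [show c ((g * g').liftNormal Ks) = c (g.liftNormal Ks * g'.liftNormal Ks) from hL _ _ fun x hx => by
      rw [AlgEquiv.mul_apply]
      have e1 := (g * g').liftNormal_commutes Ks ⟨x, hx⟩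
      have e2 := g'.liftNormal_commutes Ks ⟨x, hx⟩
      have e3 := g.liftNormal_commutes Ks (g' ⟨x, hx⟩)
      exact e1.trans ((congrArg (g.liftNormal Ks) e2).trans e3).symm, hc, Units.val_mul]
    congr 1
    exact g.liftNormal_commutes Ks (f g' : L)
  obtain ⟨β, hβ⟩ := groupCohomology.isMulCoboundary₁_of_isMulCocycle₁_of_aut_to_units f hf
  refine ⟨Units.map L.val.toRingHom.toMonoidHom β, fun σ => ?_⟩
  let τ := σ.restrictNormal L
  have hστ : c σ = c (τ.liftNormal Ks) := hL _ _ fun x hx => by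
    exact ((τ.liftNormal_commutes Ks ⟨x, hx⟩).trans (σ.restrictNormal_commutes L ⟨x, hx⟩)).symm
  have h := congrArg (Units.map L.val.toRingHom.toMonoidHom) (hβ τ)
  rw [map_div] at h
  rw [hστ, show c (τ.liftNormal Ks) = Units.map L.val.toRingHom.toMonoidHom (f τ) from Units.ext rfl, ← h,
    div_eq_mul_inv]
  congr 1
  exact Units.ext (σ.restrictNormal_commutes L (β : L))

/-- A cocycle with values in the additive group of `Ks`. -/
theorem exists_cob_add (c : (Ks ≃ₐ[K] Ks) → Ks) (L : IntermediateField K Ks) [FiniteDimensional K L]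
    [Normal K L] (hL : ConstOn L c) (hc : ∀ σ τ, c (σ * τ) = σ (c τ) + c σ) :
    ∃ z : Ks, ∀ σ, c σ = σ z - z := by
  classical
  haveI : IsGalois K L := ⟨⟩
  have hval : ∀ σ, c σ ∈ L := by
    intro σ
    rw [← InfiniteGalois.fixedField_fixingSubgroup L, IntermediateField.mem_fixedField_iff]
    intro h hh
    rw [IntermediateField.mem_fixingSubgroup_iff] at hh
    have e1 : c (h * σ) = c σ := hL _ _ fun x hx => by
      rw [AlgEquiv.mul_apply]; exact hh _ (apply_mem σ hx)
    have h1 : c 1 = 0 := by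
      have h := hc 1 1
      rw [_root_.one_mul, AlgEquiv.one_apply] at h
      exact right_eq_add.1 h
    have e2 : c h = 0 := (hL h 1 fun x hx => hh x hx).trans h1
    rw [hc, e2, add_zero] at e1
    exact e1
  obtain ⟨a, ha⟩ := Algebra.trace_surjective K L 1
  let b : Ks := ∑ τ : L ≃ₐ[K] L, c (τ.liftNormal Ks) * (τ a : L)
  refine ⟨-b, fun σ => ?_⟩
  let g := σ.restrictNormal L
  have hσ : ∀ y : L, σ (y : Ks) = (g y : L) := fun y => (σ.restrictNormal_commutes L y).symm
  have hstep : ∀ τ : L ≃ₐ[K] L, σ (c (τ.liftNormal Ks) * (τ a : L)) =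
      c ((g * τ).liftNormal Ks) * ((g * τ) a : L) - c σ * ((g * τ) a : L) := by
    intro τ
    have e : c ((g * τ).liftNormal Ks) = c (σ * τ.liftNormal Ks) := hL _ _ fun x hx => by
      rw [AlgEquiv.mul_apply]
      have e1 := (g * τ).liftNormal_commutes Ks ⟨x, hx⟩
      have e2 := τ.liftNormal_commutes Ks ⟨x, hx⟩
      exact e1.trans ((congrArg σ e2).trans (hσ (τ ⟨x, hx⟩))).symm
    rw [e, hc, map_mul, hσ (τ a), AlgEquiv.mul_apply]
    ring
  have hsum : ∑ τ : L ≃ₐ[K] L, (((g * τ) a : L) : Ks) = 1 := by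
    rw [Fintype.sum_equiv (Equiv.mulLeft g) (fun τ => (((g * τ) a : L) : Ks)) (fun τ => ((τ a : L) : Ks)) fun τ => rfl]
    have h := trace_eq_sum_automorphisms (K := K) (L := L) a
    rw [ha, map_one] at h
    calc ∑ τ : L ≃ₐ[K] L, ((τ a : L) : Ks) = ((∑ τ : L ≃ₐ[K] L, τ a : L) : Ks) := by
          rw [← IntermediateField.coe_val, map_sum]
      _ = 1 := by rw [← h]; rfl
  have hb : σ b = b - c σ := by
    rw [map_sum, Finset.sum_congr rfl fun τ _ => hstep τ, Finset.sum_sub_distrib, ← Finset.mul_sum, hsum,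
      _root_.mul_one]
    congr 1
    exact Fintype.sum_equiv (Equiv.mulLeft g) _ (fun τ => c (τ.liftNormal Ks) * ((τ a : L) : Ks)) fun τ => rfl
  rw [map_neg, hb]
  ring

end Values

variable (K Ks) in
/-- Continuous cocycles of the Galois group in the points of `G` are coboundaries. -/
def GoodH1 (G : Over (Spec (CommRingCat.of K))) [GrpObj G] : Prop :=
  ∀ (c : (Ks ≃ₐ[K] Ks) → (pt K Ks ⟶ G)) (L : IntermediateField K Ks), FiniteDimensional K L → Normal K L →
    ConstOn L c → (∀ σ τ, c (σ * τ) = (hat σ ≫ c τ) * c σ) → ∃ z, ∀ σ, c σ = (hat σ ≫ z) * z⁻¹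

theorem goodH1_of_iso {G H : Over (Spec (CommRingCat.of K))} [GrpObj G] [GrpObj H]
    (e : Grp.mk G ≅ Grp.mk H) (h : GoodH1 K Ks H) : GoodH1 K Ks G := by
  let eO : G ≅ H := (Grp.forget _).mapIso e
  haveI : IsMonHom eO.hom := inferInstanceAs (IsMonHom e.hom.hom.hom)
  haveI : IsMonHom eO.inv := inferInstanceAs (IsMonHom e.inv.hom.hom)
  intro c L hLf hLn hL hc
  obtain ⟨z, hz⟩ := h (fun σ => c σ ≫ eO.hom) L hLf hLn
    (fun σ σ' h => congrArg (fun x => x ≫ eO.hom) (hL σ σ' h))
    (fun σ τ => by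
      show c (σ * τ) ≫ eO.hom = (hat σ ≫ c τ ≫ eO.hom) * (c σ ≫ eO.hom)
      rw [hc, MonObj.mul_comp, Category.assoc])
  refine ⟨z ≫ eO.inv, fun σ => ?_⟩
  have h := congrArg (fun x => x ≫ eO.inv) (hz σ)
  simp only [Category.assoc, eO.hom_inv_id, Category.comp_id, MonObj.mul_comp, GrpObj.inv_comp] at h
  exact h

theorem goodH1_Gm [IsGalois K Ks] : GoodH1 K Ks (Red.Gm (Spec (CommRingCat.of K))) := by
  intro c L hLf hLn hL hc
  let I := Scheme.ΓSpecIso (CommRingCat.of Ks)
  let toK : (Γ((pt K Ks).left, ⊤))ˣ ≃* Ksˣ := Units.mapEquiv I.commRingCatIsoToRingEquiv.toMulEquiv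
  let e : (pt K Ks ⟶ Red.Gm (Spec (CommRingCat.of K))) → Ksˣ := fun x => toK (GmPts.unitOfPt x)
  have he : ∀ σ x, e (hat σ ≫ x) = Units.map σ.toAlgHom.toRingHom.toMonoidHom (e x) := by
    intro σ x
    refine Units.ext ?_
    show I.hom.hom ((GmPts.unitOfPt (hat σ ≫ x) : (Γ((pt K Ks).left, ⊤))ˣ) : Γ((pt K Ks).left, ⊤)) =
      σ (I.hom.hom _)
    rw [GmPts.val_unitOfPt, GmPts.gmFn_comp]
    let a : Ks := I.hom.hom (Red.gmFn x)
    have ha : Red.gmFn x = I.inv.hom a := (congrArg (fun t => t.hom (Red.gmFn x)) I.hom_inv_id).symm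
    refine (congrArg (fun t => I.hom.hom ((hat σ).left.appTop.hom t)) ha).trans ?_
    rw [hat_appTop]
    exact congrArg (fun t => t.hom (σ a)) I.inv_hom_id
  haveI := hLf; haveI := hLn
  obtain ⟨z, hz⟩ := exists_cob_units (fun σ => e (c σ)) L (fun σ σ' h => congrArg e (hL σ σ' h))
    (fun σ τ => by
      show e (c (σ * τ)) = _
      rw [hc, ← he]
      simp only [e, GmPts.unitOfPt_mul, map_mul])
  refine ⟨GmPts.ptOfUnit (toK.symm z), fun σ => ?_⟩
  have hz' : e (GmPts.ptOfUnit (toK.symm z)) = z := by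
    show toK (GmPts.unitOfPt _) = z
    rw [GmPts.unitOfPt_ptOfUnit, MulEquiv.apply_symm_apply]
  have hinj : Function.Injective e := fun x y h => by
    rw [← GmPts.ptOfUnit_unitOfPt x, toK.injective h, GmPts.ptOfUnit_unitOfPt]
  apply hinj
  have h := he σ (GmPts.ptOfUnit (toK.symm z))
  rw [hz'] at h
  show _ = toK (GmPts.unitOfPt _)
  rw [GmPts.unitOfPt_mul, GmPts.unitOfPt_inv, map_mul, map_inv]
  show _ = e _ * (e (GmPts.ptOfUnit (toK.symm z)))⁻¹
  rw [h, hz']
  exact hz σ

theorem goodH1_Ga [IsGalois K Ks] : GoodH1 K Ks (Red.Ga (Spec (CommRingCat.of K))) := by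
  intro c L hLf hLn hL hc
  let I := Scheme.ΓSpecIso (CommRingCat.of Ks)
  let e : (pt K Ks ⟶ Red.Ga (Spec (CommRingCat.of K))) → Ks := fun x => I.hom.hom (Red.gaFn x)
  have he : ∀ σ x, e (hat σ ≫ x) = σ (e x) := by
    intro σ x
    show I.hom.hom (Red.gaFn (hat σ ≫ x)) = _
    rw [BGaNotS.gaFn_comp]
    have ha : Red.gaFn x = I.inv.hom (e x) := (congrArg (fun t => t.hom (Red.gaFn x)) I.hom_inv_id).symm
    refine (congrArg (fun t => I.hom.hom ((hat σ).left.appTop.hom t)) ha).trans ?_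
    rw [hat_appTop]
    exact congrArg (fun t => t.hom (σ (e x))) I.inv_hom_id
  have hadd : ∀ x y, e (x * y) = e x + e y := fun x y => by
    show I.hom.hom (Red.gaFn (x * y)) = _
    rw [BGaNotS.gaFn_mul]
    exact map_add _ _ _
  have hinj : Function.Injective e := fun x y h =>
    BGaNotS.gaPt_ext (I.commRingCatIsoToRingEquiv.injective h)
  haveI := hLf; haveI := hLn
  obtain ⟨z, hz⟩ := exists_cob_add (fun σ => e (c σ)) L (fun σ σ' h => congrArg e (hL σ σ' h))
    (fun σ τ => by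
      show e (c (σ * τ)) = _
      rw [hc, hadd, he])
  let z' := BGaNotS.gaPt (W := pt K Ks) (S := Spec (CommRingCat.of K)) (I.inv.hom z)
  have hz' : e z' = z := by
    show I.hom.hom (Red.gaFn z') = z
    rw [BGaNotS.gaFn_gaPt]
    exact congrArg (fun t => t.hom z) I.inv_hom_id
  have hneg : ∀ x, e x⁻¹ = - e x := fun x => by
    have h0 : e (1 : pt K Ks ⟶ Red.Ga (Spec (CommRingCat.of K))) = 0 := by
      show I.hom.hom (Red.gaFn (1 : pt K Ks ⟶ Red.Ga (Spec (CommRingCat.of K)))) = 0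
      rw [BGaNotS.gaFn_one]
      exact map_zero _
    exact eq_neg_of_add_eq_zero_left (by rw [← hadd, inv_mul_cancel, h0])
  refine ⟨z', fun σ => hinj ?_⟩
  rw [hadd, hneg, he, hz', ← sub_eq_add_neg]
  exact hz σ

/-- A point of a scheme locally of finite type with values in `Ks` is fixed by an open subgroup. -/
theorem exists_normal_const [IsGalois K Ks] {X : Over (Spec (CommRingCat.of K))} [LocallyOfFiniteType X.hom]
    (x : pt K Ks ⟶ X) :
    ∃ L : IntermediateField K Ks, FiniteDimensional K L ∧ Normal K L ∧ ConstOn L (fun σ => hat σ ≫ x) := by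
  classical
  letI : X.left.Over (Spec (CommRingCat.of K)) := ⟨X.hom⟩
  haveI : LocallyOfFiniteType (X.left ↘ Spec (CommRingCat.of K)) := ‹LocallyOfFiniteType X.hom›
  let xl : Spec (CommRingCat.of Ks) ⟶ X.left := x.left
  let p := xl (IsLocalRing.closedPoint Ks)
  let ρ := CMFlat.resHom K X.left p
  let χ := X.left.descResidueField (Scheme.stalkClosedPointTo xl)
  have hχ : Spec.map χ ≫ X.left.fromSpecResidueField p = xl :=
    Scheme.descResidueField_stalkClosedPointTo_fromSpecResidueField Ks X.left xl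
  have hρχ : ρ ≫ χ = CommRingCat.ofHom (algebraMap K Ks) := by
    apply Spec.map_injective
    rw [Spec.map_comp, show Spec.map ρ = X.left.fromSpecResidueField p ≫ X.hom from Spec.map_preimage _,
      ← Category.assoc, hχ]
    exact Over.w x
  letI : Algebra K (X.left.residueField p) := ρ.hom.toAlgebra
  haveI : Algebra.EssFiniteType K (X.left.residueField p) := CMFlat.essFiniteType_resHom K X.left p
  let χa : X.left.residueField p →ₐ[K] Ks :=
    { χ.hom with commutes' := fun c => congrArg (fun t => t.hom c) hρχ }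
  let s := Algebra.EssFiniteType.finset K (X.left.residueField p)
  let L₀ := IntermediateField.adjoin K ((s.image χa : Finset Ks) : Set Ks)
  haveI : FiniteDimensional K L₀ :=
    IntermediateField.finiteDimensional_adjoin fun y _ => (Algebra.IsIntegral.isIntegral y)
  let L := IntermediateField.normalClosure K L₀ Ks
  refine ⟨L, inferInstance, inferInstance, fun σ σ' hσ => ?_⟩
  have h1 : σ.toAlgHom.comp χa = σ'.toAlgHom.comp χa := by
    refine Algebra.EssFiniteType.algHom_ext Ks _ _ fun y hy => ?_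
    exact hσ _ ((IntermediateField.le_normalClosure L₀) (IntermediateField.subset_adjoin K _
      (Finset.mem_coe.2 (Finset.mem_image_of_mem _ hy))))
  apply Over.OverMorphism.ext
  show Spec.map (CommRingCat.ofHom σ.toAlgHom.toRingHom) ≫ xl = Spec.map (CommRingCat.ofHom σ'.toAlgHom.toRingHom) ≫ xl
  rw [← hχ, ← Spec.map_comp_assoc, ← Spec.map_comp_assoc]
  congr 2
  exact CommRingCat.hom_ext (congrArg AlgHom.toRingHom h1)

/-- A point fixed by the Galois group is rational. -/
theorem exists_rational_of_fixed [IsGalois K Ks] {X : Over (Spec (CommRingCat.of K))}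
    (x : pt K Ks ⟶ X) (hx : ∀ σ, hat σ ≫ x = x) : Nonempty (𝟙_ (Over (Spec (CommRingCat.of K))) ⟶ X) := by
  letI : X.left.Over (Spec (CommRingCat.of K)) := ⟨X.hom⟩
  let xl : Spec (CommRingCat.of Ks) ⟶ X.left := x.left
  let p := xl (IsLocalRing.closedPoint Ks)
  let ρ := CMFlat.resHom K X.left p
  let χ := X.left.descResidueField (Scheme.stalkClosedPointTo xl)
  have hχ : Spec.map χ ≫ X.left.fromSpecResidueField p = xl :=
    Scheme.descResidueField_stalkClosedPointTo_fromSpecResidueField Ks X.left xl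
  have hρw : Spec.map ρ = X.left.fromSpecResidueField p ≫ X.hom := Spec.map_preimage _
  have hρχ : ρ ≫ χ = CommRingCat.ofHom (algebraMap K Ks) := by
    apply Spec.map_injective
    rw [Spec.map_comp, hρw, ← Category.assoc, hχ]
    exact Over.w x
  have hsurj : Function.Surjective ρ.hom := by
    intro y
    have hy : ∀ σ : Ks ≃ₐ[K] Ks, σ (χ.hom y) = χ.hom y := by
      intro σ
      have h2 : χ ≫ CommRingCat.ofHom σ.toAlgHom.toRingHom = χ := by
        apply Spec.map_injective
        rw [← cancel_mono (X.left.fromSpecResidueField p), Spec.map_comp, Category.assoc, hχ]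
        exact congrArg CommaMorphism.left (hx σ)
      exact congrArg (fun t => t.hom y) h2
    obtain ⟨c, hc⟩ := IntermediateField.mem_bot.1 ((InfiniteGalois.mem_bot_iff_fixed (χ.hom y)).2 hy)
    exact ⟨c, χ.hom.injective ((congrArg (fun t => t.hom c) hρχ).trans hc)⟩
  let e : K ≃+* X.left.residueField p := RingEquiv.ofBijective ρ.hom ⟨ρ.hom.injective, hsurj⟩
  refine ⟨Over.homMk (Spec.map (CommRingCat.ofHom e.symm.toRingHom) ≫ X.left.fromSpecResidueField p) ?_⟩
  show (Spec.map _ ≫ _) ≫ X.hom = 𝟙 _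
  rw [Category.assoc, ← hρw, ← Spec.map_comp, ← Spec.map_id]
  congr 1
  exact CommRingCat.hom_ext (RingHom.ext fun c => e.symm_apply_apply c)

/-- Points in a separably closed field lift along smooth surjective morphisms. -/
theorem exists_lift_pt [IsSepClosed Ks] {X Y : Over (Spec (CommRingCat.of K))} (q : X ⟶ Y) [Smooth q.left]
    [Surjective q.left] (y : pt K Ks ⟶ Y) : ∃ x : pt K Ks ⟶ X, x ≫ q = y := by
  let yl : Spec (CommRingCat.of Ks) ⟶ Y.left := y.left
  haveI : Smooth (Limits.pullback.snd q.left yl) := MorphismProperty.pullback_snd _ _ ‹_›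
  haveI : Surjective (Limits.pullback.snd q.left yl) := MorphismProperty.pullback_snd _ _ ‹_›
  obtain ⟨w, -⟩ := (Limits.pullback.snd q.left yl).surjective (IsLocalRing.closedPoint Ks)
  obtain ⟨-, -, s, hs, -⟩ := (PtsDense.dense_rational Ks (Limits.pullback.snd q.left yl)).inter_open_nonempty
    Set.univ isOpen_univ ⟨w, trivial⟩
  have h : (s ≫ Limits.pullback.fst q.left yl) ≫ q.left = yl := by
    rw [Category.assoc, Limits.pullback.condition, reassoc_of% hs]
  refine ⟨Over.homMk (s ≫ Limits.pullback.fst q.left yl) ?_, Over.OverMorphism.ext h⟩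
  rw [← Over.w q, ← Category.assoc, h]
  exact Over.w y

/-- Dévissage. -/
theorem goodH1_of_extension [IsGalois K Ks] [IsSepClosed Ks] {N B Q : Over (Spec (CommRingCat.of K))}
    [GrpObj N] [GrpObj B] [GrpObj Q] [IsCommMonObj B] [LocallyOfFiniteType B.hom] (i : N ⟶ B) [IsMonHom i]
    (q : B ⟶ Q) [IsMonHom q] [Smooth q.left] [Surjective q.left] (hk : AlgGrp.IsKernel i q)
    (hN : GoodH1 K Ks N) (hQ : GoodH1 K Ks Q) : GoodH1 K Ks B := by
  have hk' : Limits.IsLimit _ := (show IsPullback i (toUnit N) q η[Q] from hk).isLimit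
  have hker : IsPullback i (toUnit N) q η[Q] := hk
  haveI : Mono i := ⟨fun {X} a b h => hker.hom_ext h (toUnit_unique _ _)⟩
  intro c L hLf hLn hL hc
  obtain ⟨y, hy⟩ := hQ (fun σ => c σ ≫ q) L hLf hLn (fun σ σ' h => congrArg (fun x => x ≫ q) (hL σ σ' h))
    (fun σ τ => by
      show c (σ * τ) ≫ q = (hat σ ≫ c τ ≫ q) * (c σ ≫ q)
      rw [hc, MonObj.mul_comp, Category.assoc])
  obtain ⟨z, hz⟩ := exists_lift_pt q y
  obtain ⟨L₁, hL₁f, hL₁n, hL₁⟩ := exists_normal_const z
  haveI := hLf; haveI := hLn; haveI := hL₁f; haveI := hL₁n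
  let d : (Ks ≃ₐ[K] Ks) → (pt K Ks ⟶ B) := fun σ => c σ * ((hat σ ≫ z) * z⁻¹)⁻¹
  have hd : ∀ σ, d σ ≫ q = toUnit _ ≫ η[Q] := by
    intro σ
    show (c σ * ((hat σ ≫ z) * z⁻¹)⁻¹) ≫ q = _
    rw [MonObj.mul_comp, GrpObj.inv_comp, MonObj.mul_comp, GrpObj.inv_comp, Category.assoc, hz, ← hy σ,
      mul_inv_cancel, Hom.one_def]
  let n : (Ks ≃ₐ[K] Ks) → (pt K Ks ⟶ N) := fun σ => hker.lift (d σ) (toUnit _) (hd σ)
  have hn : ∀ σ, n σ ≫ i = d σ := fun σ => hker.lift_fst _ _ _
  obtain ⟨w, hw⟩ := hN n (L ⊔ L₁) inferInstance inferInstance (fun σ σ' h => by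
      rw [← cancel_mono i, hn, hn]
      show c σ * _ = c σ' * _
      rw [hL.mono le_sup_left σ σ' h, show hat σ ≫ z = hat σ' ≫ z from hL₁.mono le_sup_right σ σ' h])
    (fun σ τ => by
      rw [← cancel_mono i, MonObj.mul_comp, Category.assoc, hn, hn, hn]
      simp only [d]
      rw [hc, hat_mul, Category.assoc, MonObj.comp_mul, GrpObj.comp_inv, MonObj.comp_mul, GrpObj.comp_inv]
      letI : CommGroup (pt K Ks ⟶ B) := Hom.commGroup
      exact comm_cocycle (hat σ ≫ c τ) (c σ) z (hat σ ≫ hat τ ≫ z) (hat σ ≫ z))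
  refine ⟨(w ≫ i) * z, fun σ => ?_⟩
  have h : d σ = (hat σ ≫ w ≫ i) * (w ≫ i)⁻¹ := by
    rw [← hn, hw, MonObj.mul_comp, GrpObj.inv_comp, Category.assoc]
  rw [MonObj.comp_mul]
  letI : CommGroup (pt K Ks ⟶ B) := Hom.commGroup
  exact comm_cob (c σ) (hat σ ≫ w ≫ i) (w ≫ i) (hat σ ≫ z) z h

/-- **Torsors under groups with vanishing cohomology have rational points.** -/
theorem exists_point [IsGalois K Ks] {G P : Over (Spec (CommRingCat.of K))} [GrpObj G]
    [LocallyOfFiniteType P.hom] (hG : GoodH1 K Ks G) (a : AlgGrp.Action G P)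
    (hfree : IsIso (lift a.act (snd G P))) (x : pt K Ks ⟶ P) :
    Nonempty (𝟙_ (Over (Spec (CommRingCat.of K))) ⟶ P) := by
  obtain ⟨L, hLf, hLn, hL⟩ := exists_normal_const x
  haveI := hfree
  let sh := lift a.act (snd G P)
  let c : (Ks ≃ₐ[K] Ks) → (pt K Ks ⟶ G) := fun σ => lift (hat σ ≫ x) x ≫ inv sh ≫ fst G P
  have huniq : ∀ (g g' : pt K Ks ⟶ G) (y : pt K Ks ⟶ P), lift g y ≫ a.act = lift g' y ≫ a.act → g = g' := by
    intro g g' y h
    have h2 : lift g y ≫ sh = lift g' y ≫ sh := by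
      rw [comp_lift, comp_lift, h, lift_snd, lift_snd]
    have h3 := congrArg (fun t => t ≫ fst G P) ((cancel_mono sh).1 h2)
    simpa using h3
  have hcσ : ∀ σ, lift (c σ) x ≫ a.act = hat σ ≫ x := by
    intro σ
    have h1 : lift (hat σ ≫ x) x ≫ inv sh ≫ snd G P = x := by
      rw [show inv sh ≫ snd G P = snd P P from by rw [IsIso.inv_comp_eq, lift_snd], lift_snd]
    have h2 : lift (hat σ ≫ x) x ≫ inv sh = lift (c σ) x :=
      CartesianMonoidalCategory.hom_ext _ _ (by simp [c]) (by rw [Category.assoc, h1, lift_snd])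
    rw [← h2, Category.assoc, show inv sh ≫ a.act = fst P P from by rw [IsIso.inv_comp_eq, lift_fst], lift_fst]
  have hact : ∀ (g g' : pt K Ks ⟶ G) (y : pt K Ks ⟶ P),
      lift (g * g') y ≫ a.act = lift g (lift g' y ≫ a.act) ≫ a.act := by
    intro g g' y
    have h1 : lift (g * g') y = lift (lift g g') y ≫ μ[G] ▷ P := by
      rw [lift_whiskerRight, Hom.mul_def]
    rw [h1, Category.assoc, a.mul_act, lift_lift_associator_hom_assoc, lift_whiskerLeft_assoc]
  obtain ⟨z, hz⟩ := hG c L hLf hLn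
    (fun σ σ' h => by
      show lift (hat σ ≫ x) x ≫ _ = lift (hat σ' ≫ x) x ≫ _
      rw [show hat σ ≫ x = hat σ' ≫ x from hL σ σ' h])
    (fun σ τ => by
      refine huniq _ _ x ?_
      rw [hact, hcσ, hcσ, ← comp_lift_assoc, hcσ, hat_mul, Category.assoc])
  refine exists_rational_of_fixed (Ks := Ks) (lift z⁻¹ x ≫ a.act) fun σ => ?_
  rw [comp_lift_assoc, GrpObj.comp_inv, ← hcσ σ, ← hact, hz σ]
  rw [← _root_.mul_assoc, inv_mul_cancel, _root_.one_mul]

end Groth.Agent.Chev.GalTorsor
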