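import Groth.Agent.MaxAb.Main

/-!
# The subgroup receiving all proper subvarieties through the unit

A group scheme of finite type over a field has a closed subgroup scheme which is proper and geometrically
integral and through which every morphism from a proper geometrically integral scheme meeting the unit factors.
-/

set_option autoImplicit false
set_option backward.isDefEq.respectTransparency false

universe u

open CategoryTheory CategoryTheory.Limits MonoidalCategory CartesianMonoidalCategory MonObj GrpObj AlgebraicGeometry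

namespace Groth.Agent.Chev

variable {k : Type u} [Field k]

/-- A product of geometrically integral schemes over a field is geometrically integral. -/
theorem geometricallyIntegral_tensor (X Y : Over (Spec (CommRingCat.of k)))
    [GeometricallyIntegral X.hom] [GeometricallyIntegral Y.hom] :
    GeometricallyIntegral (X ⊗ Y).hom := by
  show GeometricallyIntegral (pullback.fst X.hom Y.hom ≫ X.hom)
  haveI : GeometricallyReduced (pullback.fst X.hom Y.hom ≫ X.hom) :=
    GeomRedPull.geometricallyReduced_pullback X.hom Y.hom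
  haveI : GeometricallyIrreducible (pullback.fst X.hom Y.hom ≫ X.hom) :=
    GeometricallyIrreducible.comp _ _
  exact GeometricallyIntegral.of_geometricallyReduced_of_geometricallyIrreducible _

/-- The image of a proper geometrically integral scheme in a separated scheme over a field. -/
theorem exists_image_proper {X G : Over (Spec (CommRingCat.of k))} [IsProper X.hom] [GeometricallyIntegral X.hom]
    [IsSeparated G.hom] [LocallyOfFiniteType G.hom] (φ : X ⟶ G) :
    ∃ (M : Over (Spec (CommRingCat.of k))) (i : M ⟶ G) (g : X ⟶ M), g ≫ i = φ ∧ IsClosedImmersion i.left ∧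
      IsProper M.hom ∧ GeometricallyIntegral M.hom ∧ Surjective g.left := by
  haveI : IsProper (φ.left ≫ G.hom) := by rw [Over.w]; infer_instance
  haveI : IsProper φ.left := IsProper.of_comp φ.left G.hom
  let M : Over (Spec (CommRingCat.of k)) := Over.mk (φ.left.imageι ≫ G.hom)
  let i : M ⟶ G := Over.homMk φ.left.imageι
  let g : X ⟶ M := Over.homMk φ.left.toImage (by
    change φ.left.toImage ≫ φ.left.imageι ≫ G.hom = X.hom
    rw [Scheme.Hom.toImage_imageι_assoc, Over.w])
  have hgi : g ≫ i = φ := by ext1; exact φ.left.toImage_imageι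
  haveI : IsClosedImmersion i.left := inferInstanceAs (IsClosedImmersion φ.left.imageι)
  haveI : IsSchemeTheoreticallyDominant g.left := GrpField.SchImg.schDom_toImage φ.left
  haveI : IsProper (g.left ≫ i.left) := by rw [← Over.comp_left, hgi]; infer_instance
  haveI : IsProper g.left := IsProper.of_comp g.left i.left
  haveI : IsDominant g.left := inferInstance
  haveI : Surjective g.left := ⟨fun y => by
    have := g.left.denseRange y
    rwa [g.left.isClosedMap.isClosed_range.closure_eq] at this⟩
  haveI : LocallyOfFiniteType M.hom := by rw [← Over.w i]; infer_instance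
  haveI : IsSeparated M.hom := by rw [← Over.w i]; infer_instance
  haveI : UniversallyClosed (g.left ≫ M.hom) := by rw [Over.w]; infer_instance
  haveI : UniversallyClosed M.hom := UniversallyClosed.of_comp_surjective g.left M.hom
  haveI : IsProper M.hom := ⟨⟩
  refine ⟨M, i, g, hgi, ‹_›, ‹_›, ⟨fun K _ y Z p₁ p₂ h => ?_⟩, ‹_›⟩
  haveI : Flat p₁ := MorphismProperty.of_isPullback h.flip (inferInstance : Flat y)
  have big : IsPullback (pullback.fst g.left p₁) (pullback.snd g.left p₁ ≫ p₂) X.hom y := by
    rw [← Over.w g]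
    exact (IsPullback.of_hasPullback g.left p₁).paste_vert h
  haveI : IsIntegral (pullback g.left p₁) :=
    GeometricallyIntegral.geometrically_isIntegral _ _ _ big
  haveI : IsReduced Z := IsSchemeTheoreticallyDominant.isReduced (pullback.snd g.left p₁)
  haveI : IrreducibleSpace Z := by
    rw [irreducibleSpace_def, Set.top_eq_univ, ← Set.range_eq_univ.2 (pullback.snd g.left p₁).surjective,
      ← Set.image_univ]
    exact (IrreducibleSpace.isIrreducible_univ _).image _
      (pullback.snd g.left p₁).continuous.continuousOn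
  exact isIntegral_of_irreducibleSpace_of_isReduced _

variable (G : Over (Spec (CommRingCat.of k))) [GrpObj G] [LocallyOfFiniteType G.hom]

/-- The unit lifts to a closed subscheme containing the unit point. -/
theorem exists_unit_lift {M : Over (Spec (CommRingCat.of k))} (i : M ⟶ G) [IsClosedImmersion i.left]
    (h : η[G].left (IsLocalRing.closedPoint k) ∈ Set.range i.left) :
    ∃ e : 𝟙_ (Over (Spec (CommRingCat.of k))) ⟶ M, e ≫ i = η[G] := by
  let one : Scheme.{u} := (𝟙_ (Over (Spec (CommRingCat.of k)))).left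
  haveI : IsClosedImmersion (pullback.fst η[G].left i.left) := inferInstance
  haveI : Subsingleton one := inferInstanceAs (Subsingleton (PrimeSpectrum k))
  obtain ⟨m, hm⟩ := h
  obtain ⟨p, hp, -⟩ := Scheme.Pullback.exists_preimage_pullback (f := η[G].left) (g := i.left)
    (IsLocalRing.closedPoint k) m hm.symm
  haveI : Surjective (pullback.fst η[G].left i.left) := ⟨fun z => ⟨p, Subsingleton.elim (α := one) _ _⟩⟩
  haveI : IsReduced (𝟙_ (Over (Spec (CommRingCat.of k)))).left :=
    inferInstanceAs (IsReduced (Spec (CommRingCat.of k)))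
  haveI : IsIso (pullback.fst η[G].left i.left) := isIso_of_isClosedImmersion_of_surjective _
  refine ⟨Over.homMk (inv (pullback.fst η[G].left i.left) ≫ pullback.snd η[G].left i.left) ?_, ?_⟩
  · rw [Category.assoc, IsIso.inv_comp_eq, ← Over.w i, ← pullback.condition_assoc, Over.w η[G]]
  · ext1
    show (inv (pullback.fst η[G].left i.left) ≫ pullback.snd η[G].left i.left) ≫ i.left = η[G].left
    rw [Category.assoc, IsIso.inv_comp_eq, pullback.condition]

/-- `n` is the dimension of a proper geometrically integral closed subscheme through the unit. -/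
def IsSubDim (n : ℕ) : Prop :=
  ∃ (M : Over (Spec (CommRingCat.of k))) (i : M ⟶ G), IsClosedImmersion i.left ∧ IsProper M.hom ∧
    GeometricallyIntegral M.hom ∧ (∃ e : 𝟙_ (Over (Spec (CommRingCat.of k))) ⟶ M, e ≫ i = η[G]) ∧
      ∃ ξ : M.left, closure ({ξ} : Set M.left) = Set.univ ∧ WeilCoh.pdim G.left (i.left ξ) = n

theorem exists_isSubDim : ∃ n, IsSubDim G n := by
  obtain ⟨n, M, _, i, hi, hic, hMp, hMi, ξ, hξ, hn⟩ := MaxAb.exists_isDim G
  exact ⟨n, M, i, hic, hMp, hMi, ⟨η[M], hi.one_hom⟩, ξ, hξ, hn⟩

theorem exists_subDim_bound : ∃ N, ∀ n, IsSubDim G n → n ≤ N := by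
  have : IsLocallyNoetherian G.left := LocallyOfFiniteType.isLocallyNoetherian G.hom
  obtain ⟨z⟩ : Nonempty (Spec (CommRingCat.of k)) := inferInstance
  let e : G.left := (η[G] : 𝟙_ (Over (Spec (CommRingCat.of k))) ⟶ G).left z
  obtain ⟨U, hU, heU, -⟩ := exists_isAffineOpen_mem_and_subset (show e ∈ (⊤ : G.left.Opens) from trivial)
  have : IsNoetherianRing Γ(G.left, U) := IsLocallyNoetherian.component_noetherian ⟨U, hU⟩
  have : TopologicalSpace.NoetherianSpace ↥(U : Scheme.{u}) := noetherianSpace_of_isAffineOpen U hU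
  have hfin : {w : (U : Scheme.{u}) | closure {w} ∈ irreducibleComponents (U : Scheme.{u})}.Finite :=
    TopologicalSpace.NoetherianSpace.finite_irreducibleComponents.preimage
      (fun a _ b _ (h : closure {a} = closure {b}) =>
        ((isGenericPoint_closure (x := a)).eq (h ▸ isGenericPoint_closure (x := b))))
  refine ⟨hfin.toFinset.sup fun w => WeilCoh.pdim G.left (U.ι w), ?_⟩
  rintro n ⟨M, i, _, _, _, ⟨e', he'⟩, ξ, hξ, rfl⟩
  have h1 : i.left ξ ⤳ e := by
    rw [show e = i.left (e'.left z) from (congr($(congrArg CommaMorphism.left he') z)).symm]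
    exact (specializes_iff_mem_closure.2 (hξ ▸ trivial)).map i.left.continuous
  obtain ⟨wU, hη, hspec⟩ := DomLib.exists_max (X := (U : Scheme.{u})) ⟨_, h1.mem_open U.2 heU⟩
  refine le_trans ?_ (Finset.le_sup (f := fun w => WeilCoh.pdim G.left (U.ι w))
    (hfin.mem_toFinset.2 hη))
  exact WeilLib.pdim_le G.hom (hspec.map U.ι.continuous)

/-- The proper geometrically integral subgroup receiving every morphism from a proper geometrically
integral scheme whose image contains the unit. -/
theorem exists_proper_subgroup [QuasiCompact G.hom] :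
    ∃ (M : Over (Spec (CommRingCat.of k))) (_ : GrpObj M) (i : M ⟶ G), IsMonHom i ∧ IsClosedImmersion i.left ∧
      IsProper M.hom ∧ GeometricallyIntegral M.hom ∧
      ∀ (X : Over (Spec (CommRingCat.of k))) [IsProper X.hom] [GeometricallyIntegral X.hom] (φ : X ⟶ G),
        η[G].left (IsLocalRing.closedPoint k) ∈ Set.range φ.left → ∃ ψ : X ⟶ M, ψ ≫ i = φ := by
  classical
  haveI : IsSeparated G.hom := ClosedRep.isSeparated_of_field k G
  obtain ⟨N, hN⟩ := exists_subDim_bound G
  obtain ⟨n₀, hn₀⟩ := exists_isSubDim G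
  have hn := Nat.findGreatest_spec (hN n₀ hn₀) hn₀
  obtain ⟨M, i, hic, hMp, hMi, ⟨e, he⟩, ξ, hξ, hdim⟩ := hn
  haveI : Mono i := GrpField.SchImg.mono_of_isClosedImmersion i
  have key : ∀ (X : Over (Spec (CommRingCat.of k))) [IsProper X.hom] [GeometricallyIntegral X.hom] (φ : X ⟶ G),
      η[G].left (IsLocalRing.closedPoint k) ∈ Set.range φ.left → ∃ ψ : X ⟶ M, ψ ≫ i = φ := by
    intro X _ _ φ hφ
    obtain ⟨X₁, i₁, g₁, hg₁, hi₁, hX₁p, hX₁i, -⟩ := exists_image_proper φ
    obtain ⟨e₁, he₁⟩ := exists_unit_lift G i₁ (by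
      obtain ⟨x, hx⟩ := hφ
      exact ⟨g₁.left x, by rw [← Scheme.Hom.comp_apply, ← Over.comp_left, hg₁]; exact hx⟩)
    haveI : IsProper (M ⊗ X₁).hom := inferInstanceAs (IsProper (pullback.fst M.hom X₁.hom ≫ M.hom))
    haveI := geometricallyIntegral_tensor M X₁
    let φ' : M ⊗ X₁ ⟶ G := (fst M X₁ ≫ i) * (snd M X₁ ≫ i₁)
    obtain ⟨M', i', g, hgi, hi'c, hM'p, hM'i, hgs⟩ := exists_image_proper φ'
    haveI := hgs
    have hb : lift (toUnit M ≫ e) (toUnit M ≫ e₁) ≫ φ' = toUnit M ≫ η[G] := by
      simp only [φ', MonObj.comp_mul, lift_fst_assoc, lift_snd_assoc, Category.assoc, he, he₁]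
      rw [← Hom.one_def, _root_.one_mul]
    have he' : ∃ e' : 𝟙_ (Over (Spec (CommRingCat.of k))) ⟶ M', e' ≫ i' = η[G] :=
      ⟨lift e e₁ ≫ g, by
        rw [Category.assoc, hgi]
        simp only [φ', MonObj.comp_mul, lift_fst_assoc, lift_snd_assoc, he, he₁]
        rw [show (η[G] : 𝟙_ (Over (Spec (CommRingCat.of k))) ⟶ G) = 1 by
          rw [Hom.one_def, toUnit_unique (toUnit _) (𝟙 _), Category.id_comp], _root_.one_mul]⟩
    haveI : IsIntegral M'.left := GeometricallyIntegral.isIntegral_of_subsingleton M'.hom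
    let r : M ⟶ M' := lift (𝟙 M) (toUnit M ≫ e₁) ≫ g
    have hr : r ≫ i' = i := by
      simp only [r, Category.assoc, hgi, φ', MonObj.comp_mul, lift_fst_assoc, lift_snd_assoc,
        Category.id_comp, he₁, ← Hom.one_def, _root_.mul_one]
    have hr' : r.left ≫ i'.left = i.left := congr(($hr).left)
    haveI : IsClosedImmersion (r.left ≫ i'.left) := by rw [hr']; infer_instance
    haveI : IsClosedImmersion r.left := IsClosedImmersion.of_comp r.left i'.left
    have hdim' : IsSubDim G (WeilCoh.pdim G.left (i'.left (genericPoint M'.left))) :=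
      ⟨M', i', hi'c, hM'p, hM'i, he', _, genericPoint_spec _, rfl⟩
    have hle := Nat.le_findGreatest (P := IsSubDim G) (hN _ hdim') hdim'
    rw [← hdim] at hle
    have hgen : r.left ξ = genericPoint M'.left := by
      apply i'.left.isClosedEmbedding.injective
      by_contra hne
      have := WeilLib.pdim_lt G.hom ((genericPoint_specializes (r.left ξ)).map i'.left.continuous) hne
      rw [← Scheme.Hom.comp_apply, hr'] at this
      omega
    haveI : Surjective r.left := ⟨fun y => r.left.isClosedEmbedding.isClosed_range.stableUnderSpecialization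
      (hgen ▸ genericPoint_specializes y) ⟨ξ, rfl⟩⟩
    haveI : IsIso r.left := isIso_of_isClosedImmersion_of_surjective r.left
    haveI : IsIso r := by
      have : IsIso ((Over.forget _).map r) := ‹IsIso r.left›
      exact isIso_of_reflects_iso r (Over.forget _)
    refine ⟨g₁ ≫ (lift (toUnit X₁ ≫ e) (𝟙 X₁) ≫ g) ≫ inv r, ?_⟩
    have hinv : inv r ≫ i = i' := by rw [IsIso.inv_comp_eq, hr]
    rw [Category.assoc, Category.assoc, hinv, Category.assoc, hgi]
    simp only [φ', MonObj.comp_mul, lift_fst_assoc, lift_snd_assoc, Category.id_comp, Category.assoc, he]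
    rw [show g₁ ≫ toUnit X₁ ≫ η[G] = 1 by rw [← Category.assoc, Hom.one_def, toUnit_unique (g₁ ≫ toUnit X₁) (toUnit X)],
      _root_.one_mul, hg₁]
  haveI : IsProper (M ⊗ M).hom := inferInstanceAs (IsProper (pullback.fst M.hom M.hom ≫ M.hom))
  haveI := geometricallyIntegral_tensor M M
  obtain ⟨d, hd⟩ := key (M ⊗ M) ((fst M M ≫ i)⁻¹ * (snd M M ≫ i))
    ⟨(lift e e).left (IsLocalRing.closedPoint k), by
      rw [← Scheme.Hom.comp_apply, ← Over.comp_left, MonObj.comp_mul, GrpObj.comp_inv, lift_fst_assoc,
        lift_snd_assoc, he, inv_mul_cancel, Hom.one_def, toUnit_unique (toUnit _) (𝟙 _), Category.id_comp]⟩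
  obtain ⟨hM, hi⟩ := GrpField.SchImg.exists_grpObj_of_div i ⟨e, he⟩ fun T k₁ k₂ =>
    ⟨lift k₁ k₂ ≫ d, by rw [Category.assoc, hd, MonObj.comp_mul, GrpObj.comp_inv, lift_fst_assoc, lift_snd_assoc]⟩
  exact ⟨M, hM, i, hi, hic, hMp, hMi, key⟩

end Groth.Agent.Chev
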