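import Groth.Agent.Chev.AVActSol
import Mathlib.Algebra.TrivSqZeroExt.Basic
import Mathlib.RingTheory.Kaehler.Basic
import Mathlib.RingTheory.Noetherian.Nilpotent
import Mathlib.FieldTheory.PurelyInseparable.PerfectClosure
import Mathlib.RingTheory.TensorProduct.Finite
import Mathlib.Algebra.CharP.Lemmas

/-!
# A power of a point over an algebraic closure descends

Points of a group infinitely near the unit are killed by a power of the characteristic, so a point of a group
with values in an algebraic closure which is fixed by the Galois group has a positive power defined over the field.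
-/

set_option autoImplicit false
set_option backward.isDefEq.respectTransparency false

universe u

open CategoryTheory CategoryTheory.Limits MonoidalCategory CartesianMonoidalCategory MonObj GrpObj AlgebraicGeometry
open TensorProduct

noncomputable section

namespace Groth.Agent.Chev.Insep

open AVAct

variable {k : Type u} [Field k] {X A : Over (Spec (CommRingCat.of k))}

/-- A point with values in a ring with one prime factors through an affine open around its image. -/
theorem exists_factor_one_point {V : X.left.Opens} (hV : IsAffineOpen V) {R : Type u} [CommRing R] [Algebra k R]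
    [Subsingleton (PrimeSpectrum R)] (x : VecGrp.pt k R ⟶ X) (hx : ∀ z, x.left z ∈ V) :
    ∃ χ : Γ(X.left, V) →ₐ[k] R, VecGrp.ptMap χ ≫ opPt hV = x := by
  have hr : Set.range x.left ⊆ Set.range hV.fromSpec := by
    rintro _ ⟨z, rfl⟩
    rw [IsAffineOpen.range_fromSpec]
    exact hx z
  let χ₀ := Spec.preimage (IsOpenImmersion.lift hV.fromSpec x.left hr)
  have hχ₀ : Spec.map χ₀ ≫ hV.fromSpec = x.left := by
    rw [Spec.map_preimage, IsOpenImmersion.lift_fac]
  have hk : CommRingCat.ofHom (algebraMap k Γ(X.left, V)) ≫ χ₀ = CommRingCat.ofHom (algebraMap k R) := by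
    apply Spec.map_injective
    rw [Spec.map_comp, spec_opHom hV, reassoc_of% hχ₀]
    exact Over.w x
  exact ⟨{ toRingHom := χ₀.hom, commutes' := fun c => congr($hk c) }, Over.OverMorphism.ext hχ₀⟩

/-- The single point in a quotient by a nilpotent ideal. -/
theorem apply_eq_of_ptMap {R R' : Type u} [CommRing R] [Algebra k R] [Subsingleton (PrimeSpectrum R)]
    [CommRing R'] [Algebra k R'] [Nontrivial R'] (f : R →ₐ[k] R') (x y : VecGrp.pt k R ⟶ X)
    (h : VecGrp.ptMap f ≫ x = VecGrp.ptMap f ≫ y) (z : (VecGrp.pt k R).left) : x.left z = y.left z := by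
  obtain ⟨P⟩ : Nonempty (PrimeSpectrum R') := inferInstance
  have h' : ((VecGrp.ptMap f ≫ x).left) (P : (VecGrp.pt k R').left) = (VecGrp.ptMap f ≫ y).left P := by rw [h]
  simp only [Over.comp_left, Scheme.Hom.comp_apply] at h'
  rwa [@Subsingleton.elim _ (inferInstanceAs (Subsingleton (PrimeSpectrum R))) ((VecGrp.ptMap f).left P) z] at h'

/-- Two points agreeing after jointly injective maps agree. -/
theorem eq_of_jointly_injective {R R₁ R₂ : Type u} [CommRing R] [Algebra k R] [Subsingleton (PrimeSpectrum R)]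
    [CommRing R₁] [Algebra k R₁] [Nontrivial R₁] [CommRing R₂] [Algebra k R₂] (f₁ : R →ₐ[k] R₁) (f₂ : R →ₐ[k] R₂)
    (hinj : ∀ r s, f₁ r = f₁ s → f₂ r = f₂ s → r = s) (x y : VecGrp.pt k R ⟶ X)
    (h₁ : VecGrp.ptMap f₁ ≫ x = VecGrp.ptMap f₁ ≫ y) (h₂ : VecGrp.ptMap f₂ ≫ x = VecGrp.ptMap f₂ ≫ y) :
    x = y := by
  obtain ⟨P₁⟩ : Nonempty (PrimeSpectrum R₁) := inferInstance
  let z₀ : (VecGrp.pt k R).left := (VecGrp.ptMap f₁).left (P₁ : (VecGrp.pt k R₁).left)
  obtain ⟨V, hV, hxV, -⟩ := exists_isAffineOpen_mem_and_subset (X := X.left) (x := x.left z₀) (U := ⊤) trivial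
  have hall : ∀ z, x.left z ∈ V := fun z => by
    rwa [@Subsingleton.elim _ (inferInstanceAs (Subsingleton (PrimeSpectrum R))) z z₀]
  obtain ⟨χ, hχ⟩ := exists_factor_one_point hV x hall
  obtain ⟨χ', hχ'⟩ := exists_factor_one_point hV y fun z => apply_eq_of_ptMap f₁ x y h₁ z ▸ hall z
  rw [← hχ, ← hχ', ← Category.assoc, ← Category.assoc, ← ptMap_comp, ← ptMap_comp] at h₁ h₂
  rw [← hχ, ← hχ']
  congr 2
  exact AlgHom.ext fun c => hinj _ _ congr($(opPt_cancel hV h₁) c) congr($(opPt_cancel hV h₂) c)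

section Tsze

open TrivSqZeroExt

variable (M : Type u) [AddCommGroup M] [Module k M] [Module kᵐᵒᵖ M] [IsCentralScalar k M]

instance subsingleton_tsze : Subsingleton (PrimeSpectrum (TrivSqZeroExt k M)) := by
  refine ⟨fun P Q => PrimeSpectrum.ext ?_⟩
  suffices H : ∀ P : PrimeSpectrum (TrivSqZeroExt k M), ∀ x, x ∈ P.asIdeal ↔ fst x = 0 from
    Ideal.ext fun x => by rw [H, H]
  intro P x
  refine ⟨fun hx => by_contra fun h => P.2.ne_top (Ideal.eq_top_of_isUnit_mem _ hx (isUnit_iff_isUnit_fst.2 (IsUnit.mk0 _ h))), fun h => ?_⟩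
  refine P.2.mem_of_pow_mem 2 ?_
  have hx : x = inr (snd x) := TrivSqZeroExt.ext (by simpa using h) (by simp)
  rw [hx, pow_two, inr_mul_inr]
  exact zero_mem _

variable [GrpObj A] {M}

/-- Powers of a point infinitely near the unit. -/
theorem pow_eq_map (g : VecGrp.pt k (TrivSqZeroExt k M) ⟶ A) (hg : VecGrp.ptMap (fstHom k k M) ≫ g = 1) (n : ℕ) :
    VecGrp.ptMap (TrivSqZeroExt.map ((n : k) • LinearMap.id)) ≫ g = g ^ n := by
  induction n with
  | zero =>
    have e : TrivSqZeroExt.map (((0 : ℕ) : k) • (LinearMap.id : M →ₗ[k] M)) = (inlAlgHom k k M).comp (fstHom k k M) :=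
      AlgHom.ext fun x => TrivSqZeroExt.ext (by simp) (by simp)
    rw [e, ptMap_comp, Category.assoc, hg, MonObj.comp_one, pow_zero]
  | succ n ih =>
    let P := VecGrp.ptMap (TrivSqZeroExt.map (((n : k) • LinearMap.id : M →ₗ[k] M).prod LinearMap.id)) ≫ g
    let Q := (VecGrp.ptMap (TrivSqZeroExt.map (LinearMap.inl k M M)) ≫ g ^ n) *
      (VecGrp.ptMap (TrivSqZeroExt.map (LinearMap.inr k M M)) ≫ g)
    have hmap : ∀ {N N' N'' : Type u} [AddCommGroup N] [Module k N] [Module kᵐᵒᵖ N] [IsCentralScalar k N]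
        [AddCommGroup N'] [Module k N'] [Module kᵐᵒᵖ N'] [IsCentralScalar k N']
        [AddCommGroup N''] [Module k N''] [Module kᵐᵒᵖ N''] [IsCentralScalar k N''] (l : N →ₗ[k] N') (l' : N' →ₗ[k] N''),
        VecGrp.ptMap (TrivSqZeroExt.map l') ≫ VecGrp.ptMap (TrivSqZeroExt.map l) =
          (VecGrp.ptMap (TrivSqZeroExt.map (l'.comp l)) :
            VecGrp.pt k (TrivSqZeroExt k N'') ⟶ VecGrp.pt k (TrivSqZeroExt k N)) := by
      intro N N' N'' _ _ _ _ _ _ _ _ _ _ _ _ l l'
      rw [TrivSqZeroExt.map_comp_map, ptMap_comp]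
    have hzero : VecGrp.ptMap (TrivSqZeroExt.map (0 : M →ₗ[k] M)) ≫ g = 1 := by
      have e : TrivSqZeroExt.map (0 : M →ₗ[k] M) = (inlAlgHom k k M).comp (fstHom k k M) :=
        AlgHom.ext fun x => TrivSqZeroExt.ext (by simp) (by simp)
      rw [e, ptMap_comp, Category.assoc, hg, MonObj.comp_one]
    have hid : VecGrp.ptMap (TrivSqZeroExt.map (LinearMap.id : M →ₗ[k] M)) ≫ g = g := by
      rw [TrivSqZeroExt.map_id, ptMap_id, Category.id_comp]
    have hPQ : P = Q := by
      refine eq_of_jointly_injective (TrivSqZeroExt.map (LinearMap.fst k M M))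
        (TrivSqZeroExt.map (LinearMap.snd k M M)) (fun r s h h' => TrivSqZeroExt.ext ?_ ?_) P Q ?_ ?_
      · simpa using congrArg fst h
      · exact Prod.ext (by simpa using congrArg snd h) (by simpa using congrArg snd h')
      · simp only [P, Q, MonObj.comp_mul]
        simp only [← Category.assoc, hmap, LinearMap.fst_prod, LinearMap.fst_comp_inl, LinearMap.fst_comp_inr]
        rw [hzero, _root_.mul_one, ih, TrivSqZeroExt.map_id, ptMap_id, Category.id_comp]
      · simp only [P, Q, MonObj.comp_mul]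
        simp only [← Category.assoc, hmap, LinearMap.snd_prod, LinearMap.snd_comp_inl, LinearMap.snd_comp_inr]
        rw [hid, MonObj.comp_pow, hzero, one_pow, _root_.one_mul]
    have h := congrArg (fun q => VecGrp.ptMap (TrivSqZeroExt.map (LinearMap.coprod LinearMap.id LinearMap.id :
      M × M →ₗ[k] M)) ≫ q) hPQ
    simp only [P, Q, MonObj.comp_mul] at h
    simp only [← Category.assoc, hmap, LinearMap.coprod_inl, LinearMap.coprod_inr] at h
    rw [hid, TrivSqZeroExt.map_id, ptMap_id, Category.id_comp, ← pow_succ] at h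
    rw [← h]
    congr 3
    ext m
    simp [add_smul]

end Tsze

section Nilpotent

variable [GrpObj A] (p : ℕ) [CharP k p]

/-- In characteristic `p` a point congruent to the unit modulo a square zero ideal is killed by `p`. -/
theorem pow_eq_one_of_sq_zero {R : Type u} [CommRing R] [Algebra k R] [Subsingleton (PrimeSpectrum R)]
    (J : Ideal R) (hJ : J * J = ⊥) (hJtop : J ≠ ⊤) (g : VecGrp.pt k R ⟶ A)
    (hg : VecGrp.ptMap (Ideal.Quotient.mkₐ k J) ≫ g = 1) : g ^ p = 1 := by
  classical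
  obtain ⟨P₀⟩ : Nonempty (PrimeSpectrum k) := inferInstance
  let e₀ : A.left := (1 : VecGrp.pt k k ⟶ A).left (P₀ : (VecGrp.pt k k).left)
  obtain ⟨V, hV, heV, -⟩ := exists_isAffineOpen_mem_and_subset (X := A.left) (x := e₀) (U := ⊤) trivial
  haveI : Subsingleton (PrimeSpectrum k) := inferInstance
  obtain ⟨ε, hε⟩ := exists_factor_one_point hV (1 : VecGrp.pt k k ⟶ A) fun z => by
    rwa [@Subsingleton.elim _ (inferInstanceAs (Subsingleton (PrimeSpectrum k))) z P₀]
  haveI : Nontrivial (R ⧸ J) := Ideal.Quotient.nontrivial_iff.2 hJtop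
  have h1 : ∀ (T : Type u) [CommRing T] [Algebra k T], VecGrp.ptMap (Algebra.ofId k T) ≫ (1 : VecGrp.pt k k ⟶ A) =
      (1 : VecGrp.pt k T ⟶ A) := fun T _ _ => MonObj.comp_one _
  have hgV : ∀ z, g.left z ∈ V := fun z => by
    rw [apply_eq_of_ptMap (Ideal.Quotient.mkₐ k J) g 1 (hg.trans (MonObj.comp_one _).symm) z, ← h1 R,
      Over.comp_left, Scheme.Hom.comp_apply,
      @Subsingleton.elim _ (inferInstanceAs (Subsingleton (PrimeSpectrum k))) ((VecGrp.ptMap (Algebra.ofId k R)).left z) P₀]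
    exact heV
  obtain ⟨φ, hφ⟩ := exists_factor_one_point hV g hgV
  have hφJ : ∀ c, φ c - algebraMap k R (ε c) ∈ J := by
    intro c
    rw [← Ideal.Quotient.eq_zero_iff_mem, map_sub, sub_eq_zero, ← Ideal.Quotient.mkₐ_eq_mk k, AlgHom.commutes]
    have h : VecGrp.ptMap ((Ideal.Quotient.mkₐ k J).comp φ) ≫ opPt hV =
        VecGrp.ptMap ((Algebra.ofId k (R ⧸ J)).comp ε) ≫ opPt hV := by
      rw [ptMap_comp, Category.assoc, hφ, hg, ptMap_comp, Category.assoc, hε, h1]
    exact congr($(opPt_cancel hV h) c)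
  let M : Submodule k R := J.restrictScalars k
  have hMsq : ∀ a b : M, (a : R) * b = 0 := fun a b =>
    (Submodule.eq_bot_iff _).1 hJ _ (Ideal.mul_mem_mul a.2 b.2)
  letI : Module kᵐᵒᵖ M := Module.compHom M ((RingHom.id k).fromOpposite mul_comm)
  haveI : IsCentralScalar k M := ⟨fun _ _ => rfl⟩
  let q : TrivSqZeroExt k M →ₐ[k] R := TrivSqZeroExt.liftEquivOfComm ⟨M.subtype, hMsq⟩
  have hq : ∀ x : TrivSqZeroExt k M, q x = algebraMap k R x.fst + (x.snd : R) := fun x => by
    simp [q, TrivSqZeroExt.lift_def, Algebra.ofId_apply]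
  let D : Γ(A.left, V) → M := fun c => ⟨φ c - algebraMap k R (ε c), hφJ c⟩
  let φ' : Γ(A.left, V) →ₐ[k] TrivSqZeroExt k M :=
    { toFun := fun c => TrivSqZeroExt.inl (ε c) + TrivSqZeroExt.inr (D c)
      map_one' := TrivSqZeroExt.ext (by simp) (Subtype.ext (by simp [D]))
      map_mul' := fun a b => TrivSqZeroExt.ext (by simp) (Subtype.ext (by
        simp only [TrivSqZeroExt.snd_add, TrivSqZeroExt.snd_inl, TrivSqZeroExt.snd_inr, zero_add,
          TrivSqZeroExt.snd_mul, TrivSqZeroExt.fst_add, TrivSqZeroExt.fst_inl, TrivSqZeroExt.fst_inr, add_zero,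
          op_smul_eq_smul, Submodule.coe_add, SetLike.val_smul, D, map_mul, Algebra.smul_def]
        have h0 := hMsq (D a) (D b)
        simp only [D] at h0
        linear_combination h0))
      map_zero' := TrivSqZeroExt.ext (by simp) (Subtype.ext (by simp [D]))
      map_add' := fun a b => TrivSqZeroExt.ext (by simp) (Subtype.ext (by simp [D]; ring))
      commutes' := fun c => TrivSqZeroExt.ext (by simp [TrivSqZeroExt.algebraMap_eq_inl])
        (Subtype.ext (by simp [D, TrivSqZeroExt.algebraMap_eq_inl])) }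
  let g' : VecGrp.pt k (TrivSqZeroExt k M) ⟶ A := VecGrp.ptMap φ' ≫ opPt hV
  have hg' : VecGrp.ptMap (TrivSqZeroExt.fstHom k k M) ≫ g' = 1 := by
    rw [← Category.assoc, ← ptMap_comp]
    conv_rhs => rw [← hε]
    congr 2
    exact AlgHom.ext fun c => by simp [φ']
  have hgg' : VecGrp.ptMap q ≫ g' = g := by
    rw [← Category.assoc, ← ptMap_comp]
    conv_rhs => rw [← hφ]
    congr 2
    exact AlgHom.ext fun c => by simp [φ', hq, D]
  rw [← hgg', ← MonObj.comp_pow, ← pow_eq_map g' hg' p, CharP.cast_eq_zero, zero_smul]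
  have e : TrivSqZeroExt.map (0 : M →ₗ[k] M) = (TrivSqZeroExt.inlAlgHom k k M).comp (TrivSqZeroExt.fstHom k k M) :=
    AlgHom.ext fun x => TrivSqZeroExt.ext (by simp) (by simp)
  rw [e, ptMap_comp, Category.assoc, hg', MonObj.comp_one, MonObj.comp_one]

/-- In positive characteristic a point congruent to the unit modulo a nilpotent ideal is torsion. -/
theorem exists_pow_eq_one (hp : 0 < p) {R : Type u} [CommRing R] [Algebra k R] [Subsingleton (PrimeSpectrum R)]
    [Nontrivial R] (I : Ideal R) (hI : IsNilpotent I) (g : VecGrp.pt k R ⟶ A)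
    (hg : VecGrp.ptMap (Ideal.Quotient.mkₐ k I) ≫ g = 1) : ∃ n, 0 < n ∧ g ^ n = 1 := by
  have hItop : I ≠ ⊤ := by
    rintro rfl
    obtain ⟨N, hN⟩ := hI
    rw [Ideal.top_pow, Ideal.zero_eq_bot] at hN
    exact bot_ne_top hN.symm
  have key : ∀ j, 1 ≤ j → ∃ n, 0 < n ∧ VecGrp.ptMap (Ideal.Quotient.mkₐ k (I ^ j)) ≫ g ^ n = 1 := by
    intro j hj
    induction j, hj using Nat.le_induction with
    | base => exact ⟨1, one_pos, by rw [pow_one, pow_one]; exact hg⟩
    | succ j hj ih =>
      obtain ⟨n, hn, hgn⟩ := ih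
      refine ⟨n * p, Nat.mul_pos hn hp, ?_⟩
      let π := Ideal.Quotient.mkₐ k (I ^ (j + 1))
      let J := (I ^ j).map (π : R →+* R ⧸ I ^ (j + 1))
      haveI : Subsingleton (PrimeSpectrum (R ⧸ I ^ (j + 1))) :=
        (PrimeSpectrum.comap_injective_of_surjective _ (Ideal.Quotient.mk_surjective (I := I ^ (j + 1)))).subsingleton
      have hJ : J * J = ⊥ := by
        rw [← Ideal.map_mul, ← pow_add, Ideal.map_eq_bot_iff_le_ker]
        show I ^ (j + j) ≤ RingHom.ker (Ideal.Quotient.mk (I ^ (j + 1)))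
        rw [Ideal.mk_ker]
        exact Ideal.pow_le_pow_right (by omega)
      have hle : I ^ (j + 1) ≤ I ^ j := Ideal.pow_le_pow_right (by omega)
      have hJtop : J ≠ ⊤ := by
        intro h
        apply hItop
        have h2 := congrArg (Ideal.comap (Ideal.Quotient.mk (I ^ (j + 1)))) h
        rw [Ideal.comap_top] at h2
        change Ideal.comap (Ideal.Quotient.mk _) ((I ^ j).map (Ideal.Quotient.mk (I ^ (j + 1)))) = ⊤ at h2
        rw [Ideal.comap_map_of_surjective _ Ideal.Quotient.mk_surjective, ← RingHom.ker_eq_comap_bot,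
          Ideal.mk_ker, sup_eq_left.2 hle] at h2
        exact top_le_iff.1 (h2 ▸ Ideal.pow_le_self (by omega))
      rw [pow_mul, MonObj.comp_pow]
      apply pow_eq_one_of_sq_zero p J hJ hJtop
      let f : R ⧸ I ^ j →ₐ[k] (R ⧸ I ^ (j + 1)) ⧸ J :=
        Ideal.Quotient.liftₐ (I ^ j) ((Ideal.Quotient.mkₐ k J).comp π) fun x hx =>
          Ideal.Quotient.eq_zero_iff_mem.2 (Ideal.mem_map_of_mem _ hx)
      have e : (Ideal.Quotient.mkₐ k J).comp π = f.comp (Ideal.Quotient.mkₐ k (I ^ j)) := AlgHom.ext fun x => rfl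
      rw [← Category.assoc, ← ptMap_comp, e, ptMap_comp, Category.assoc, hgn, MonObj.comp_one]
  obtain ⟨N, hN⟩ := hI
  obtain ⟨n, hn, hgn⟩ := key (N + 1) (by omega)
  refine ⟨n, hn, ?_⟩
  have hbot : I ^ (N + 1) = ⊥ := by rw [pow_succ, hN, Ideal.zero_eq_bot, Ideal.bot_mul]
  let e : (R ⧸ I ^ (N + 1)) →ₐ[k] R := Ideal.Quotient.liftₐ _ (AlgHom.id k R) fun x hx => by
    rw [hbot, Ideal.mem_bot] at hx; simpa using hx
  have h := congrArg (fun q => VecGrp.ptMap e ≫ q) hgn
  simp only [← Category.assoc, ← ptMap_comp] at h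
  rwa [show e.comp (Ideal.Quotient.mkₐ k (I ^ (N + 1))) = AlgHom.id k R from AlgHom.ext fun x => rfl,
    ptMap_id, Category.id_comp, MonObj.comp_one] at h

end Nilpotent

variable [GrpObj A] [IsCommMonObj A] {K L : Type u} [Field K] [Field L] [Algebra k K] [Algebra k L]
  [Algebra K L] [IsScalarTower k K L]

/-- A positive power of a point over a finite purely inseparable extension descends. -/
theorem exists_pow_descent [FiniteDimensional K L] [IsPurelyInseparable K L] (b : VecGrp.pt k L ⟶ A) :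
    ∃ (n : ℕ) (y : VecGrp.pt k K ⟶ A), 0 < n ∧
      VecGrp.ptMap (IsScalarTower.toAlgHom k K L) ≫ y = b ^ n := by
  obtain ⟨p, _⟩ := CharP.exists k
  haveI : CharP K p := charP_of_injective_algebraMap (algebraMap k K).injective p
  rcases CharP.char_is_prime_or_zero K p with hp | rfl
  swap
  · haveI : CharZero K := CharP.charP_to_charZero K
    have hb : Function.Bijective (algebraMap K L) :=
      ⟨(algebraMap K L).injective, IsPurelyInseparable.surjective_algebraMap_of_isSeparable K L⟩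
    let e := (AlgEquiv.ofBijective (IsScalarTower.toAlgHom k K L) hb)
    refine ⟨1, VecGrp.ptMap e.symm.toAlgHom ≫ b, one_pos, ?_⟩
    rw [pow_one, ← Category.assoc, ← ptMap_comp, show (IsScalarTower.toAlgHom k K L).comp e.symm.toAlgHom =
      AlgHom.id k L from AlgHom.ext fun x => e.apply_symm_apply x, ptMap_id, Category.id_comp]
  haveI : Fact p.Prime := ⟨hp⟩
  haveI : ExpChar K p := ExpChar.prime hp
  let T := L ⊗[K] L
  haveI : CharP T p := charP_of_injective_algebraMap (algebraMap K T).injective p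
  haveI : ExpChar T p := ExpChar.prime hp
  let i₁ : L →ₐ[k] T := (Algebra.TensorProduct.includeLeft : L →ₐ[K] T).restrictScalars k
  let i₂ : L →ₐ[k] T := (Algebra.TensorProduct.includeRight : L →ₐ[K] T).restrictScalars k
  let mlt : T →ₐ[K] L := Algebra.TensorProduct.lmul' K
  let I : Ideal T := RingHom.ker mlt
  have hnilmem : I ≤ nilradical T := by
    show KaehlerDifferential.ideal K L ≤ _
    rw [← KaehlerDifferential.span_range_eq_ideal, Ideal.span_le]
    rintro _ ⟨x, rfl⟩
    obtain ⟨n, y, hy⟩ := IsPurelyInseparable.pow_mem K p x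
    refine ⟨p ^ n, ?_⟩
    show ((1 : L) ⊗ₜ[K] x - x ⊗ₜ[K] (1 : L)) ^ p ^ n = 0
    rw [sub_pow_expChar_pow, Algebra.TensorProduct.tmul_pow, Algebra.TensorProduct.tmul_pow, one_pow, ← hy,
      Algebra.algebraMap_eq_smul_one, tmul_smul, smul_tmul', sub_self]
  haveI : Module.Finite K T := inferInstance
  haveI : IsNoetherianRing T := isNoetherian_of_tower K inferInstance
  have hnil : IsNilpotent I := (Ideal.FG.isNilpotent_iff_le_nilradical (IsNoetherian.noetherian I)).2 hnilmem
  haveI : Subsingleton (PrimeSpectrum T) := ⟨fun P Q => PrimeSpectrum.ext (by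
    haveI : I.IsMaximal := RingHom.ker_isMaximal_of_surjective mlt.toRingHom
      fun x => ⟨x ⊗ₜ[K] (1 : L), (Algebra.TensorProduct.lmul'_apply_tmul x 1).trans (_root_.mul_one x)⟩
    have h : ∀ R : PrimeSpectrum T, R.asIdeal = I := fun R =>
      (Ideal.IsMaximal.eq_of_le ‹_› R.2.ne_top (hnilmem.trans (nilradical_le_prime R.asIdeal))).symm
    rw [h, h])⟩
  haveI : Nontrivial T := Algebra.TensorProduct.nontrivial_of_algebraMap_injective_of_isDomain K L L
    (algebraMap K L).injective (algebraMap K L).injective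
  let δ := (VecGrp.ptMap i₁ ≫ b) * (VecGrp.ptMap i₂ ≫ b)⁻¹
  have hδ : VecGrp.ptMap (Ideal.Quotient.mkₐ k I) ≫ δ = 1 := by
    have e : (Ideal.Quotient.mkₐ k I).comp i₁ = (Ideal.Quotient.mkₐ k I).comp i₂ := by
      refine AlgHom.ext fun x => (Ideal.Quotient.eq).2 ?_
      show mlt (x ⊗ₜ 1 - 1 ⊗ₜ x) = 0
      rw [map_sub]
      show (Algebra.TensorProduct.lmul' K (x ⊗ₜ[K] (1 : L)) : L) - Algebra.TensorProduct.lmul' K ((1 : L) ⊗ₜ[K] x) = 0
      erw [Algebra.TensorProduct.lmul'_apply_tmul, Algebra.TensorProduct.lmul'_apply_tmul]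
      rw [_root_.mul_one, _root_.one_mul, sub_self]
    simp only [δ, MonObj.comp_mul, GrpObj.comp_inv]
    rw [← Category.assoc, ← ptMap_comp, ← Category.assoc, ← ptMap_comp, e, mul_inv_cancel]
  obtain ⟨n, hn, hδn⟩ := exists_pow_eq_one p hp.pos I hnil δ hδ
  haveI : IsCommMonObj A := ‹_›
  rw [mul_pow, inv_pow, mul_inv_eq_one, ← MonObj.comp_pow, ← MonObj.comp_pow] at hδn
  -- descend `b ^ n`
  let c := b ^ n
  obtain ⟨V, hV, hcV, -⟩ := exists_isAffineOpen_mem_and_subset (X := A.left) (x := img c) (U := ⊤) trivial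
  obtain ⟨χ, hχ⟩ := exists_opPt_factor hV c hcV
  have heq : i₁.comp χ = i₂.comp χ := by
    apply opPt_cancel hV
    rw [ptMap_comp, ptMap_comp, Category.assoc, Category.assoc, hχ, hδn]
  obtain ⟨l, hl⟩ := Module.Projective.exists_dual_eq_one K (one_ne_zero : (1 : L) ≠ 0)
  have hmem : ∀ f, χ f ∈ (IsScalarTower.toAlgHom k K L).range := by
    intro f
    refine ⟨l (χ f), ?_⟩
    have h := congr(TensorProduct.rid K L (TensorProduct.map LinearMap.id l ($heq f)))
    change TensorProduct.rid K L (TensorProduct.map LinearMap.id l (χ f ⊗ₜ[K] (1 : L))) =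
      TensorProduct.rid K L (TensorProduct.map LinearMap.id l ((1 : L) ⊗ₜ[K] χ f)) at h
    simp only [TensorProduct.map_tmul, LinearMap.id_coe, id_eq, TensorProduct.rid_tmul, hl, one_smul] at h
    show algebraMap K L (l (χ f)) = χ f
    rw [Algebra.algebraMap_eq_smul_one]
    exact h.symm
  let χ₀ : Γ(A.left, V) →ₐ[k] K :=
    (AlgEquiv.ofInjective (IsScalarTower.toAlgHom k K L) (algebraMap K L).injective).symm.toAlgHom.comp
      (χ.codRestrict _ hmem)
  have hχ₀ : (IsScalarTower.toAlgHom k K L).comp χ₀ = χ := AlgHom.ext fun f => congrArg Subtype.val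
    ((AlgEquiv.ofInjective (IsScalarTower.toAlgHom k K L) (algebraMap K L).injective).apply_symm_apply ⟨χ f, hmem f⟩)
  exact ⟨n, VecGrp.ptMap χ₀ ≫ opPt hV, hn, by rw [← Category.assoc, ← ptMap_comp, hχ₀, hχ]⟩

/-- A Galois invariant point over an algebraic closure has a positive power defined over the field. -/
theorem exists_pow_descent_algClosure [LocallyOfFiniteType A.hom] {Ω : Type u} [Field Ω] [Algebra k Ω]
    [Algebra K Ω] [IsScalarTower k K Ω] [IsAlgClosure K Ω] (b : VecGrp.pt k Ω ⟶ A)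
    (hb : ∀ τ : Ω ≃ₐ[K] Ω, VecGrp.ptMap (τ.toAlgHom.restrictScalars k) ≫ b = b) :
    ∃ (n : ℕ) (y : VecGrp.pt k K ⟶ A), 0 < n ∧
      VecGrp.ptMap (IsScalarTower.toAlgHom k K Ω) ≫ y = b ^ n := by
  classical
  haveI : IsAlgClosed Ω := IsAlgClosure.isAlgClosed K
  haveI : Algebra.IsAlgebraic K Ω := IsAlgClosure.isAlgebraic
  haveI : Normal K Ω := IsAlgClosure.normal K Ω
  let P := perfectClosure K Ω
  haveI : IsScalarTower k P Ω := IsScalarTower.of_algebraMap_eq fun c => rfl
  haveI : Algebra.IsAlgebraic P Ω := Algebra.IsAlgebraic.tower_top (K := K) P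
  haveI : Algebra.IsSeparable P Ω := Algebra.IsAlgebraic.isSeparable_of_perfectField
  haveI : Normal P Ω := Normal.tower_top_of_normal K P Ω
  haveI : IsGalois P Ω := ⟨⟩
  obtain ⟨b₁, hb₁⟩ := exists_descent_inf (F := P) b fun τ => by
    have := hb (τ.restrictScalars K)
    exact this
  obtain ⟨V, hV, hbV, -⟩ := exists_isAffineOpen_mem_and_subset (X := A.left) (x := img b₁) (U := ⊤) trivial
  obtain ⟨χ, hχ⟩ := exists_opPt_factor hV b₁ hbV
  haveI : Algebra.FiniteType k Γ(A.left, V) := by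
    show (AVAct.opHom A V).hom.FiniteType
    rw [AVAct.opHom, CommRingCat.hom_comp]
    exact (A.hom.finiteType_appLE (isAffineOpen_top _) hV le_top).comp
      (RingHom.FiniteType.of_surjective _ (ConcreteCategory.bijective_of_isIso (Scheme.ΓSpecIso (CommRingCat.of k)).inv).2)
  obtain ⟨s, hs⟩ := (Algebra.FiniteType.out (R := k) (A := Γ(A.left, V)))
  let S : Set Ω := (fun c => (χ c : Ω)) '' (s : Set Γ(A.left, V))
  let L := IntermediateField.adjoin K S
  have hLP : L ≤ P := IntermediateField.adjoin_le_iff.2 (by rintro _ ⟨c, -, rfl⟩; exact (χ c).2)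
  haveI : IsPurelyInseparable K L := (le_perfectClosure_iff K Ω L).1 hLP
  haveI : Finite S := (s.finite_toSet.image _).to_subtype
  haveI : FiniteDimensional K L := IntermediateField.finiteDimensional_adjoin
    fun x _ => Algebra.IsIntegral.isIntegral x
  haveI : IsScalarTower k L Ω := IsScalarTower.of_algebraMap_eq fun c => rfl
  let incP : P →ₐ[k] Ω := IsScalarTower.toAlgHom k P Ω
  let incL : L →ₐ[k] Ω := IsScalarTower.toAlgHom k L Ω
  have hmem : ∀ c, (incP.comp χ) c ∈ incL.range := by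
    have hle : (⊤ : Subalgebra k Γ(A.left, V)) ≤ incL.range.comap (incP.comp χ) := by
      rw [← hs, Algebra.adjoin_le_iff]
      intro c hc
      exact ⟨⟨_, IntermediateField.subset_adjoin K S ⟨c, hc, rfl⟩⟩, rfl⟩
    exact fun c => hle (Algebra.mem_top (x := c))
  let χL : Γ(A.left, V) →ₐ[k] L :=
    (AlgEquiv.ofInjective incL incL.toRingHom.injective).symm.toAlgHom.comp ((incP.comp χ).codRestrict _ hmem)
  have hχL : incL.comp χL = incP.comp χ := AlgHom.ext fun f => congrArg Subtype.val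
    ((AlgEquiv.ofInjective incL incL.toRingHom.injective).apply_symm_apply ⟨(incP.comp χ) f, hmem f⟩)
  obtain ⟨n, y, hn, hy⟩ := exists_pow_descent (K := K) (VecGrp.ptMap χL ≫ opPt hV)
  refine ⟨n, y, hn, ?_⟩
  have hbb : VecGrp.ptMap incL ≫ VecGrp.ptMap χL ≫ opPt hV = b := by
    rw [← Category.assoc, ← ptMap_comp, hχL, ptMap_comp, Category.assoc, hχ, hb₁]
  rw [show IsScalarTower.toAlgHom k K Ω = incL.comp (IsScalarTower.toAlgHom k K L) from
    AlgHom.ext fun c => rfl, ptMap_comp, Category.assoc, hy, MonObj.comp_pow, hbb]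

end Groth.Agent.Chev.Insep
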