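import Mathlib.RingTheory.SimpleModule.Basic
import Mathlib.LinearAlgebra.Trace
import Mathlib.LinearAlgebra.Eigenspace.Triangularizable
import Mathlib.GroupTheory.Commutator.Basic

/-!
# Unipotent linear groups with small centralizers are finite

Kolchin: a group of unipotent operators fixes a vector. Consequently, if such a group has finite centre and all
centralizers of non-central elements are finite, it is finite.
-/

set_option autoImplicit false

universe u v w

noncomputable section

namespace Groth.Agent.Chev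

variable {k : Type u} [Field k] [IsAlgClosed k] {Γ : Type w} [Group Γ]

/-- A simple group of unipotent operators is trivial. -/
theorem eq_one_of_unipotent_of_simple {V : Type v} [AddCommGroup V] [Module k V] [FiniteDimensional k V]
    [Nontrivial V] (ρ : Γ →* Module.End k V) (hρ : ∀ g, IsNilpotent (ρ g - 1))
    (hs : ∀ U : Submodule k V, (∀ g, ∀ x ∈ U, ρ g x ∈ U) → U = ⊥ ∨ U = ⊤) (g : Γ) : ρ g = 1 := by
  classical
  let A := Algebra.adjoin k (Set.range ρ)
  have hA : ∀ (g : Γ), ρ g ∈ A := fun g => Algebra.subset_adjoin ⟨g, rfl⟩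
  haveI : IsSimpleModule A V := (isSimpleModule_iff A V).2
    { exists_pair_ne := ⟨⊥, ⊤, by exact bot_ne_top⟩
      eq_bot_or_eq_top := fun U => by
        rcases hs (U.restrictScalars k) (fun g x hx => U.smul_mem ⟨ρ g, hA g⟩ hx) with h | h
        · exact Or.inl ((Submodule.eq_bot_iff U).2 fun x hx => (Submodule.eq_bot_iff _).1 h x hx)
        · exact Or.inr (Submodule.eq_top_iff'.2 fun x => (Submodule.eq_top_iff'.1 h x : _)) }
  have hschur : ∀ e : Module.End A V, ∃ c : k, ∀ x, e x = c • x := fun e => by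
    let e' : Module.End k V := e.restrictScalars k
    obtain ⟨c, hc⟩ := Module.End.exists_eigenvalue e'
    refine ⟨c, fun x => ?_⟩
    have hinv : ∀ g, ∀ x ∈ e'.eigenspace c, ρ g x ∈ e'.eigenspace c := fun g x hx => by
      rw [Module.End.mem_eigenspace_iff] at hx ⊢
      show e (ρ g x) = c • ρ g x
      rw [show e (ρ g x) = ρ g (e x) from e.map_smul ⟨ρ g, hA g⟩ x, ← map_smul, ← hx]
      rfl
    rcases hs (e'.eigenspace c) hinv with h | h
    · exact absurd h hc
    · exact Module.End.mem_eigenspace_iff.1 (h ▸ Submodule.mem_top : x ∈ e'.eigenspace c)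
  have hfull : ∀ T : Module.End k V, T ∈ A := by
    intro T
    let f : Module.End (Module.End A V) V :=
      { toFun := T
        map_add' := T.map_add
        map_smul' := fun e x => by
          obtain ⟨c, hc⟩ := hschur e
          show T (e x) = e (T x)
          rw [hc, hc, map_smul] }
    let b := Module.finBasis k V
    obtain ⟨a, ha⟩ := jacobson_density (R := A) f (Finset.univ.image b)
    have : T = a.1 := b.ext fun i => ha (b i) (Finset.mem_image_of_mem _ (Finset.mem_univ i))
    rw [this]; exact a.2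
  have htr1 : ∀ h : Γ, LinearMap.trace k V (ρ h) = LinearMap.trace k V 1 := fun h => by
    have h0 : LinearMap.trace k V (ρ h - 1) = 0 :=
      isNilpotent_iff_eq_zero.1 (LinearMap.isNilpotent_trace_of_isNilpotent (hρ h))
    rwa [map_sub, sub_eq_zero] at h0
  have hzero : ∀ T : Module.End k V, LinearMap.trace k V ((ρ g - 1) * T) = 0 := by
    intro T
    have hT : T ∈ Submodule.span k (Set.range ρ) := by
      have h : T ∈ Subalgebra.toSubmodule A := hfull T
      rwa [Algebra.adjoin_eq_span_of_subset] at h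
      refine fun x hx => Submodule.subset_span ?_
      have : Submonoid.closure (Set.range ρ) ≤ MonoidHom.mrange ρ :=
        Submonoid.closure_le.2 fun y hy => hy
      exact this hx
    induction hT using Submodule.span_induction with
    | mem x hx =>
      obtain ⟨h, rfl⟩ := hx
      rw [sub_mul, one_mul, ← map_mul, map_sub, htr1, htr1, sub_self]
    | zero => simp
    | add x y _ _ hx hy => rw [mul_add, map_add, hx, hy, add_zero]
    | smul c x _ hx => rw [mul_smul_comm, map_smul, hx, smul_zero]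
  refine LinearMap.ext fun v => ?_
  rw [← sub_eq_zero]
  refine (Module.forall_dual_apply_eq_zero_iff k _).1 fun φ => ?_
  have h := hzero (φ.smulRight v)
  rw [show (ρ g - 1) * φ.smulRight v = φ.smulRight ((ρ g - 1) v) from LinearMap.ext fun x => by
    simp [map_smul, smul_sub]] at h
  simpa [LinearMap.trace_smulRight] using h

/-- Kolchin: unipotent groups fix vectors. -/
theorem exists_fixed_of_unipotent : ∀ (d : ℕ) (V : Type v) [AddCommGroup V] [Module k V] [FiniteDimensional k V]
    [Nontrivial V], Module.finrank k V ≤ d → ∀ (ρ : Γ →* Module.End k V), (∀ g, IsNilpotent (ρ g - 1)) →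
      ∃ v : V, v ≠ 0 ∧ ∀ g, ρ g v = v := by
  intro d
  induction d with
  | zero =>
    intro V _ _ _ _ hd
    exact absurd hd (Module.finrank_pos (R := k) (M := V)).not_ge
  | succ d ih =>
    intro V _ _ _ _ hd ρ hρ
    by_cases hs : ∀ U : Submodule k V, (∀ g, ∀ x ∈ U, ρ g x ∈ U) → U = ⊥ ∨ U = ⊤
    · obtain ⟨v, hv⟩ := exists_ne (0 : V)
      exact ⟨v, hv, fun g => by rw [eq_one_of_unipotent_of_simple ρ hρ hs g]; rfl⟩
    push Not at hs
    obtain ⟨U, hst, hU0, hU1⟩ := hs
    haveI : Nontrivial U := Submodule.nontrivial_iff_ne_bot.2 hU0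
    let ρU : Γ →* Module.End k U :=
      { toFun := fun g => (ρ g).restrict (hst g)
        map_one' := LinearMap.ext fun x => Subtype.ext (by simp)
        map_mul' := fun a b => LinearMap.ext fun x => Subtype.ext (by simp) }
    obtain ⟨v, hv, hfix⟩ := ih U (by have := Submodule.finrank_lt hU1; omega) ρU fun g => by
      obtain ⟨n, hn⟩ := hρ g
      refine ⟨n, ?_⟩
      have hmem : ∀ x ∈ U, (ρ g - 1) x ∈ U := fun x hx => U.sub_mem (hst g x hx) hx
      rw [show ρU g - 1 = (ρ g - 1).restrict hmem from LinearMap.ext fun x => Subtype.ext (by simp [ρU]),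
        Module.End.pow_restrict n]
      exact LinearMap.ext fun x => Subtype.ext (by simp [hn])
    exact ⟨v, fun e => hv (Subtype.ext e), fun g => congrArg Subtype.val (hfix g)⟩

variable {V : Type v} [AddCommGroup V] [Module k V] [FiniteDimensional k V] (ρ : Γ →* Module.End k V)

/-- The fixed flag. -/
def fixFlag : ℕ → Submodule k V
  | 0 => ⊥
  | i + 1 => ⨅ g, (fixFlag i).comap (ρ g - 1)

theorem mem_fixFlag_succ {i : ℕ} {v : V} : v ∈ fixFlag ρ (i + 1) ↔ ∀ g, ρ g v - v ∈ fixFlag ρ i := by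
  simp [fixFlag]

theorem fixFlag_mono : ∀ i, fixFlag ρ i ≤ fixFlag ρ (i + 1)
  | 0 => bot_le
  | i + 1 => fun v hv => (mem_fixFlag_succ ρ).2 fun g => fixFlag_mono i ((mem_fixFlag_succ ρ).1 hv g)

theorem fixFlag_stable (i : ℕ) (g : Γ) {v : V} (hv : v ∈ fixFlag ρ i) : ρ g v ∈ fixFlag ρ i := by
  cases i with
  | zero => simp [fixFlag] at hv ⊢; rw [hv, map_zero]
  | succ i =>
    rw [← sub_add_cancel (ρ g v) v]
    exact add_mem (fixFlag_mono ρ i ((mem_fixFlag_succ ρ).1 hv g)) hv

theorem fixFlag_eq_top (hρ : ∀ g, IsNilpotent (ρ g - 1)) : ∃ N, fixFlag ρ N = ⊤ := by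
  obtain ⟨N, hN⟩ := WellFoundedGT.monotone_chain_condition
    ⟨fixFlag ρ, monotone_nat_of_le_succ (fixFlag_mono ρ)⟩
  refine ⟨N, ?_⟩
  by_contra hne
  haveI : Nontrivial (V ⧸ fixFlag ρ N) := Submodule.Quotient.nontrivial_iff.2 hne
  have hst : ∀ g, fixFlag ρ N ≤ (fixFlag ρ N).comap (ρ g) := fun g v hv => fixFlag_stable ρ N g hv
  let ρQ : Γ →* Module.End k (V ⧸ fixFlag ρ N) :=
    { toFun := fun g => (fixFlag ρ N).mapQ (fixFlag ρ N) (ρ g) (hst g)
      map_one' := Submodule.linearMap_qext _ (LinearMap.ext fun x => by simp)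
      map_mul' := fun a b => Submodule.linearMap_qext _ (LinearMap.ext fun x => by simp) }
  obtain ⟨w, hw, hfix⟩ := exists_fixed_of_unipotent (k := k) _ (V ⧸ fixFlag ρ N) le_rfl ρQ fun g => by
    obtain ⟨n, hn⟩ := hρ g
    refine ⟨n, Submodule.linearMap_qext _ (LinearMap.ext fun x => ?_)⟩
    have hcomm : ∀ (m : ℕ) (x : V), ((ρQ g - 1) ^ m) (Submodule.Quotient.mk x) =
        Submodule.Quotient.mk (((ρ g - 1) ^ m) x) := by
      intro m
      induction m with
      | zero => simp
      | succ m ihm => intro x; rw [pow_succ, pow_succ, Module.End.mul_apply, Module.End.mul_apply, ← ihm]; simp [ρQ]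
    show ((ρQ g - 1) ^ n) (Submodule.Quotient.mk x) = 0
    rw [hcomm, hn]; simp
  obtain ⟨v, rfl⟩ := Submodule.Quotient.mk_surjective _ w
  refine hw ((Submodule.Quotient.mk_eq_zero _).2 ?_)
  have hv : v ∈ fixFlag ρ (N + 1) := (mem_fixFlag_succ ρ).2 fun g => by
    rw [← Submodule.Quotient.mk_eq_zero, Submodule.Quotient.mk_sub, sub_eq_zero]
    exact hfix g
  rwa [show fixFlag ρ N = fixFlag ρ (N + 1) from hN (N + 1) (Nat.le_succ N)]

/-- A unipotent linear group with finite centre and finite centralizers outside it is finite. -/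
theorem finite_of_unipotent (hinj : Function.Injective ρ) (hρ : ∀ g, IsNilpotent (ρ g - 1))
    (hZ : (Subgroup.center Γ : Set Γ).Finite)
    (hC : ∀ x : Γ, x ∉ Subgroup.center Γ → {y : Γ | y * x = x * y}.Finite) : Finite Γ := by
  classical
  obtain ⟨N, hN⟩ := fixFlag_eq_top ρ hρ
  let G : ℕ → Set Γ := fun j => {x | ∀ i, ∀ v ∈ fixFlag ρ (i + j), ρ x v - v ∈ fixFlag ρ i}
  have hG1 : ∀ x, x ∈ G 1 := fun x i v hv => (mem_fixFlag_succ ρ).1 hv x
  have hGN : ∀ x ∈ G N, x ∈ Subgroup.center Γ := fun x hx => by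
    have : ρ x = ρ 1 := LinearMap.ext fun v => by
      have h := hx 0 v (by rw [Nat.zero_add, hN]; trivial)
      rw [map_one, Module.End.one_apply, ← sub_eq_zero]
      simpa [fixFlag] using h
    rw [hinj this]; exact Subgroup.one_mem _
  have hcomm : ∀ (j : ℕ) (s x : Γ), x ∈ G j → s * x * s⁻¹ * x⁻¹ ∈ G (j + 1) := by
    intro j s x hx i v hv
    let w := ρ (s⁻¹ * x⁻¹) v
    have hw : w ∈ fixFlag ρ (i + j + 1) := fixFlag_stable ρ _ _ hv
    have e1 : ρ (s * x * s⁻¹ * x⁻¹) v = ρ s (ρ x w) := by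
      rw [show s * x * s⁻¹ * x⁻¹ = s * (x * (s⁻¹ * x⁻¹)) by group, map_mul, map_mul]
      rfl
    have e2 : v = ρ x (ρ s w) := by
      simp only [w, ← Module.End.mul_apply, ← map_mul]
      rw [show x * (s * (s⁻¹ * x⁻¹)) = 1 by group, map_one, Module.End.one_apply]
    have key : ρ s (ρ x w) - ρ x (ρ s w) =
        (ρ s (ρ x w - w) - (ρ x w - w)) - (ρ x (ρ s w - w) - (ρ s w - w)) := by
      simp only [map_sub]; abel
    rw [e1, show ρ s (ρ x w) - v = ρ s (ρ x w) - ρ x (ρ s w) by rw [← e2], key]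
    refine sub_mem ((mem_fixFlag_succ ρ).1 (hx (i + 1) w ?_) s) (hx i _ ((mem_fixFlag_succ ρ).1 hw s))
    rwa [Nat.add_right_comm]
  by_contra hinf
  rw [not_finite_iff_infinite] at hinf
  have hP : ∃ m, ∀ x ∈ G (m + 1), x ∈ Subgroup.center Γ := by
    rcases Nat.eq_zero_or_pos N with h | h
    · refine ⟨0, fun x _ => ?_⟩
      have : ρ x = ρ 1 := LinearMap.ext fun v => by
        have hv : v ∈ fixFlag ρ N := hN ▸ Submodule.mem_top
        rw [h] at hv
        simp only [fixFlag, Submodule.mem_bot] at hv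
        rw [hv, map_zero, map_zero]
      rw [hinj this]; exact Subgroup.one_mem _
    · exact ⟨N - 1, by rw [Nat.sub_add_cancel h]; exact hGN⟩
  rcases Nat.eq_zero_or_pos (Nat.find hP) with h0 | hpos
  · have hall : Set.univ ⊆ (Subgroup.center Γ : Set Γ) := fun x _ => by
      have := Nat.find_spec hP
      rw [h0] at this
      exact this x (hG1 x)
    exact Set.infinite_univ (hZ.subset hall)
  obtain ⟨x, hx, hxZ⟩ : ∃ x ∈ G (Nat.find hP), x ∉ Subgroup.center Γ := by
    have := Nat.find_min hP (m := Nat.find hP - 1) (by omega)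
    rw [Nat.sub_add_cancel hpos] at this
    push Not at this
    exact this
  refine Set.infinite_univ (α := Γ) ?_
  have hfib : ∀ z ∈ (Subgroup.center Γ : Set Γ), {g : Γ | g * x * g⁻¹ * x⁻¹ = z}.Finite := by
    intro z _
    rcases Set.eq_empty_or_nonempty {g : Γ | g * x * g⁻¹ * x⁻¹ = z} with h | ⟨g₀, hg₀⟩
    · rw [h]; exact Set.finite_empty
    refine ((hC x hxZ).image (fun y => g₀ * y)).subset fun g hg => ⟨g₀⁻¹ * g, ?_, by simp⟩
    show g₀⁻¹ * g * x = x * (g₀⁻¹ * g)
    have e : g * x * g⁻¹ = g₀ * x * g₀⁻¹ := mul_right_cancel (hg.trans hg₀.symm)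
    calc g₀⁻¹ * g * x = g₀⁻¹ * (g * x * g⁻¹) * g := by group
      _ = g₀⁻¹ * (g₀ * x * g₀⁻¹) * g := by rw [e]
      _ = x * (g₀⁻¹ * g) := by group
  refine (hZ.biUnion hfib).subset fun g _ => Set.mem_iUnion₂.2
    ⟨_, Nat.find_spec hP _ (hcomm _ g x hx), rfl⟩

end Groth.Agent.Chev
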