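import Groth.Agent.Chev.SplitComm
import Groth.Agent.Chev.GaSection
import Groth.Agent.Chev.TorusExt
import Groth.Agent.Chev.FrobTwist
import Groth.Agent.Chev.TorusImage
import Groth.Agent.RelHull.Field
import Groth.Agent.AdjRep.ToGL
import Groth.Agent.AdjRep.KerObj
import Groth.Agent.CommMult.Over
import Groth.Agent.RedR1.GaSpace
import Groth.Agent.UnipZero.Poly
import Groth.Agent.Grpd.FlatComp
import Groth.Agent.S3273
import Groth.Prelude.Def_WittGrp

/-!
# Extensions by connected commutative linear groups over affine bases have sections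
-/

set_option autoImplicit false
set_option linter.style.haveILetI false
set_option backward.isDefEq.respectTransparency false
set_option synthInstance.maxHeartbeats 400000
set_option maxHeartbeats 1000000

universe u

open CategoryTheory Limits MonoidalCategory CartesianMonoidalCategory MonObj GrpObj AlgebraicGeometry
open scoped CategoryTheory.Obj TensorProduct

noncomputable section

namespace Groth.Agent.Chev.LinSection

open MTBridge (specGrp)

variable {k : Type u} [Field k] [IsAlgClosed k]

omit [IsAlgClosed k] in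
/-- A quotient map is faithfully flat of finite presentation and quasi-compact. -/
theorem quotient_props {G Q : Over (Spec (CommRingCat.of k))} [GrpObj Q] [LocallyOfFiniteType G.hom]
    [QuasiCompact G.hom] [LocallyOfFiniteType Q.hom] (q : G ⟶ Q) :
    QuasiCompact q.left ∧ LocallyOfFinitePresentation q.left := by
  haveI : IsLocallyNoetherian Q.left := LocallyOfFiniteType.isLocallyNoetherian Q.hom
  haveI : LocallyOfFiniteType q.left := by
    haveI : LocallyOfFiniteType (q.left ≫ Q.hom) := by rw [Over.w]; infer_instance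
    exact locallyOfFiniteType_of_comp q.left Q.hom
  exact ⟨SplitH1.quasiCompact_left q, inferInstance⟩

/-- A connected smooth group of dimension zero is trivial. -/
theorem isIso_hom_of_dim_zero (T : Over (Spec (CommRingCat.of k))) [GrpObj T] [Smooth T.hom]
    [ConnectedSpace T.left] (h : ¬ 0 < topologicalKrullDim T.left) : IsIso T.hom := by
  haveI : IrreducibleSpace T.left := GrpField.irreducibleSpace_of_nhds (GrpField.exists_irreducible_nhd T)
  haveI : IsSeparated T.hom := GrpField.isSeparated_hom T
  haveI := GrpField.isClosedImmersion_eta T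
  haveI : Surjective η[T].left := ⟨fun y => ⟨IsLocalRing.closedPoint k, Chev.eq_of_dim_nonpos h _ _⟩⟩
  haveI : IsReduced T.left := Chev.isReduced_of_smooth' T
  haveI : IsIso η[T].left := isIso_of_isClosedImmersion_of_surjective η[T].left
  have he : η[T].left ≫ T.hom = 𝟙 _ := Over.w η[T]
  rw [show T.hom = inv η[T].left by rw [← cancel_epi η[T].left, he, IsIso.hom_inv_id]]
  infer_instance

/-- A subtorus of a commutative affine group is a direct factor. -/
theorem exists_retraction {C T : Over (Spec (CommRingCat.of k))} [GrpObj C] [GrpObj T] [IsCommMonObj C]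
    [IsAffine C.left] [LocallyOfFiniteType C.hom] (hT : Red.IsTorus T) (j : T ⟶ C) [IsMonHom j]
    [IsClosedImmersion j.left] : ∃ r : C ⟶ T, IsMonHom r ∧ j ≫ r = 𝟙 T := by
  classical
  obtain ⟨Y, _, _, hY, hft, ⟨eT⟩⟩ := MTBridge.exists_hopf T (MTBridge.isMultTypeFT_of_isTorus T hT)
  haveI := hft
  haveI := Chev.smooth_of_isTorus hT
  haveI := Chev.connectedSpace_of_isTorus hT
  haveI := Chev.isDomain_of_specGrp_iso eT.symm
  haveI := MultT.isCocomm hY
  have hspan := (Groth.Agent.S3273.result k Y).2 (MTBridge.primitive_eq_zero hY)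
  obtain ⟨n, ⟨c⟩⟩ := Chev.exists_lattice_of_span hspan
  have hdiag : SGA3b.IsDiag k Y := MultT.isDiag_of_span hspan
  obtain ⟨X, _, d, hd⟩ := Groth.Agent.FinHopf.exists_hopf C
  haveI := hd
  haveI : Coalgebra.IsCocomm k X := WittUnip.isCocomm_of_iso d
  let eC : specGrp k X ≅ Grp.mk C := Grp.mkIso' d
  let jg : Grp.mk T ⟶ Grp.mk C := Grp.homMk'' j
  obtain ⟨φ, hφ⟩ := Chev.exists_bialgHom (eT.inv ≫ jg ≫ eC.inv)
  have hφs : Function.Surjective φ := by
    haveI : IsIso eT.inv.hom.hom.left :=
      inferInstanceAs (IsIso ((Over.forget _).map ((Grp.forget _).map eT.inv)))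
    haveI : IsIso eC.inv.hom.hom.left :=
      inferInstanceAs (IsIso ((Over.forget _).map ((Grp.forget _).map eC.inv)))
    have hcl : IsClosedImmersion (Spec.map (CommRingCat.ofHom (φ : X →ₐ[k] Y).toRingHom)) := by
      rw [← hφ]
      show IsClosedImmersion (eT.inv.hom.hom.left ≫ j.left ≫ eC.inv.hom.hom.left)
      infer_instance
    haveI := hcl
    obtain ⟨-, h⟩ := IsClosedImmersion.isAffine_surjective_of_isAffine
      (Spec.map (CommRingCat.ofHom (φ : X →ₐ[k] Y).toRingHom))
    intro y
    obtain ⟨x, hx⟩ := h ((Scheme.ΓSpecIso (CommRingCat.of Y)).inv y)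
    refine ⟨(Scheme.ΓSpecIso (CommRingCat.of X)).hom x, ?_⟩
    refine (RingHom.congr_fun (congrArg CommRingCat.Hom.hom
      (Scheme.ΓSpecIso_naturality (CommRingCat.ofHom (φ : X →ₐ[k] Y).toRingHom))) x).symm.trans ?_
    show (Scheme.ΓSpecIso (CommRingCat.of Y)).hom ((Spec.map _).appTop x) = y
    rw [hx]
    exact (Scheme.ΓSpecIso (CommRingCat.of Y)).commRingCatIsoToRingEquiv.apply_symm_apply y
  let gam : Fin n → Y := fun a => c.symm (MonoidAlgebra.single (Multiplicative.ofAdd (Pi.single a 1)) 1)
  have hgam : ∀ a, IsGroupLikeElem k (gam a) := fun a =>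
    ((MonoidAlgebra.isGroupLikeElem_single_one (R := k) _).map c.symm)
  choose g hg hgq using fun a => CommMult.exists_groupLike_lift φ hφs hdiag (hgam a)
  let M := Multiplicative (Fin n → ℤ)
  let Z : M →* GroupLike k X :=
    { toFun := fun m => ∏ a, (⟨g a, hg a⟩ : GroupLike k X) ^ (Multiplicative.toAdd m a)
      map_one' := by simp
      map_mul' := fun a b => by
        rw [← Finset.prod_mul_distrib]
        exact Finset.prod_congr rfl fun i _ => by rw [toAdd_mul, Pi.add_apply, zpow_add] }
  let ψ : Y →ₐc[k] X := (MonoidAlgebra.liftGroupLikeBialgHom.comp (MonoidAlgebra.mapDomainBialgHom k Z)).comp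
    (c : Y →ₐc[k] MonoidAlgebra k M)
  have hψ : ∀ y, φ (ψ y) = y := by
    let G : M →* GroupLike k Y :=
      { toFun := fun m => ⟨c.symm (MonoidAlgebra.single m 1), (MonoidAlgebra.isGroupLikeElem_single_one (R := k) m).map c.symm⟩
        map_one' := GroupLike.ext (by
          show c.symm (MonoidAlgebra.single 1 1) = 1
          rw [← MonoidAlgebra.one_def, map_one])
        map_mul' := fun a b => GroupLike.ext (by
          show c.symm (MonoidAlgebra.single (a * b) 1) = c.symm (MonoidAlgebra.single a 1) * c.symm (MonoidAlgebra.single b 1)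
          rw [← map_mul, MonoidAlgebra.single_mul_single, _root_.mul_one]) }
    let G' : M →* GroupLike k Y :=
      { toFun := fun m => ⟨φ (Z m).val, (Z m).isGroupLikeElem_val.map φ⟩
        map_one' := GroupLike.ext (by show φ (Z 1).val = 1; rw [map_one]; exact map_one φ)
        map_mul' := fun a b => GroupLike.ext (by
          show φ (Z (a * b)).val = φ (Z a).val * φ (Z b).val
          rw [map_mul, ← map_mul φ]; rfl) }
    have hGG : ∀ m : M, G' m = G m := by
      intro m
      have hdec : m = ∏ a, (Multiplicative.ofAdd (Pi.single a 1) : M) ^ (Multiplicative.toAdd m a) := by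
        apply Multiplicative.toAdd.injective
        rw [toAdd_prod]
        ext j'
        have hz : ∀ (x : M) (i : ℤ), Multiplicative.toAdd (x ^ i) = i • Multiplicative.toAdd x := fun x i => rfl
        simp only [hz, Finset.sum_apply, Pi.smul_apply, toAdd_ofAdd, Pi.single_apply, smul_eq_mul, mul_ite,
          _root_.mul_one, mul_zero, Finset.sum_ite_eq, Finset.mem_univ, if_true]
      rw [hdec, map_prod, map_prod]
      refine Finset.prod_congr rfl fun a _ => ?_
      rw [map_zpow, map_zpow]
      congr 1
      apply GroupLike.ext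
      show φ (Z (Multiplicative.ofAdd (Pi.single a 1))).val = gam a
      rw [show Z (Multiplicative.ofAdd (Pi.single a 1)) = ⟨g a, hg a⟩ from by
        show ∏ b, (⟨g b, hg b⟩ : GroupLike k X) ^ ((Pi.single a (1 : ℤ) : Fin n → ℤ) b) = _
        rw [Finset.prod_eq_single a (fun b _ hb => by simp [hb]) (by simp)]
        simp]
      exact hgq a
    have key : ∀ w : MonoidAlgebra k M, φ (ψ (c.symm w)) = c.symm w := by
      intro w
      induction w using MonoidAlgebra.induction_linear with
      | zero => simp only [map_zero]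
      | add a b ha hb => simp only [map_add, ha, hb]
      | single m r =>
        have h1 : φ (ψ (c.symm (MonoidAlgebra.single m 1))) = c.symm (MonoidAlgebra.single m 1) := by
          have e1 : ψ (c.symm (MonoidAlgebra.single m 1)) = (Z m).val := by
            show MonoidAlgebra.liftGroupLikeBialgHom (MonoidAlgebra.mapDomainBialgHom k Z
              (c (c.symm (MonoidAlgebra.single m 1)))) = _
            rw [show c (c.symm (MonoidAlgebra.single m (1 : k))) = MonoidAlgebra.single m 1 from c.apply_symm_apply _,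
              MonoidAlgebra.mapDomainBialgHom_single]
            simp
          rw [e1]
          exact congrArg GroupLike.val (hGG m)
        rw [show (MonoidAlgebra.single m r : MonoidAlgebra k M) = r • MonoidAlgebra.single m 1 by
          rw [MonoidAlgebra.smul_single, smul_eq_mul, _root_.mul_one], map_smul, map_smul, map_smul, h1]
    intro y
    rw [← show c.symm (c y) = y from c.symm_apply_apply y]
    exact key (c y)
  let rg : specGrp k X ⟶ specGrp k Y :=
    (hopfSpec (CommRingCat.of k)).map (CommHopfAlgCat.ofHom (R := k) ψ).op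
  let R : Grp.mk C ⟶ Grp.mk T := eC.inv ≫ rg ≫ eT.inv
  refine ⟨R.hom.hom, R.hom.isMonHom_hom, ?_⟩
  have h1 : (eT.inv ≫ jg ≫ eC.inv) ≫ rg = 𝟙 _ := by
    have h2 : ((eT.inv ≫ jg ≫ eC.inv) ≫ rg).hom.hom.left = 𝟙 _ := by
      show (eT.inv ≫ jg ≫ eC.inv).hom.hom.left ≫ rg.hom.hom.left = _
      rw [hφ]
      show Spec.map _ ≫ Spec.map (CommRingCat.ofHom (ψ : Y →ₐ[k] X).toRingHom) = 𝟙 (Spec (CommRingCat.of Y))
      rw [← Spec.map_comp, ← Spec.map_id]
      congr 1
      exact CommRingCat.hom_ext (RingHom.ext hψ)
    ext1; ext1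
    exact h2
  have h3 : jg ≫ R = 𝟙 _ := by
    show jg ≫ eC.inv ≫ rg ≫ eT.inv = _
    rw [← cancel_epi eT.inv, ← Category.assoc, ← Category.assoc, Category.assoc eT.inv jg, ← Category.assoc,
      h1, Category.id_comp, Category.comp_id]
  exact congrArg (fun w => w.hom.hom) h3

/-- The quotient by a subtorus of a commutative affine group has a section. -/
theorem exists_section_torus {C T Q : Over (Spec (CommRingCat.of k))} [GrpObj C] [GrpObj T] [GrpObj Q]
    [IsCommMonObj C] [IsAffine C.left] [LocallyOfFiniteType C.hom] [QuasiCompact C.hom]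
    [LocallyOfFiniteType Q.hom] (hT : Red.IsTorus T) (j : T ⟶ C) [IsMonHom j] [IsClosedImmersion j.left]
    (q : C ⟶ Q) [IsMonHom q] [Flat q.left] [Surjective q.left] (hk : AlgGrp.IsKernel j q) :
    ∃ s : Q ⟶ C, s ≫ q = 𝟙 Q := by
  obtain ⟨r, hr, hjr⟩ := exists_retraction hT j
  haveI := hr
  obtain ⟨hqc, hfp⟩ := quotient_props q
  haveI := hqc; haveI := hfp
  let f : C ⟶ C := 𝟙 C * (r ≫ j)⁻¹
  haveI : IsMonHom f := WittGrp.isMonHom_of_comp_mul f
    (by rw [MonObj.comp_mul, GrpObj.comp_inv, Category.comp_id, MonObj.one_comp, inv_one, _root_.mul_one])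
    fun T' a b => by
      letI : CommGroup (T' ⟶ C) := Hom.commGroup
      show (a * b) ≫ (𝟙 C * (r ≫ j)⁻¹) = (a ≫ (𝟙 C * (r ≫ j)⁻¹)) * (b ≫ (𝟙 C * (r ≫ j)⁻¹))
      simp only [MonObj.comp_mul, GrpObj.comp_inv, Category.comp_id]
      rw [MonObj.mul_comp a b (r ≫ j), _root_.mul_inv]
      exact mul_mul_mul_comm a b _ _
  obtain ⟨d, hd⟩ := AdjRep.exists_desc j q hk f (by
    rw [MonObj.comp_mul, GrpObj.comp_inv, Category.comp_id, ← Category.assoc, hjr, Category.id_comp,
      mul_inv_cancel])
  haveI : Epi q := AVQuot.epi_of_covering q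
  refine ⟨d, ?_⟩
  rw [← cancel_epi q, ← Category.assoc, hd, MonObj.mul_comp, GrpObj.inv_comp, Category.id_comp, Category.comp_id,
    Category.assoc, show j ≫ q = toUnit T ≫ η[Q] from hk.w, ← Category.assoc, toUnit_unique (r ≫ toUnit T) (toUnit C),
    ← Hom.one_def, inv_one, _root_.mul_one]

omit [IsAlgClosed k] in
/-- The additive group has positive dimension. -/
theorem not_isIso_ga : ¬ IsIso (Red.Ga (Spec (CommRingCat.of k))).hom := by
  intro h
  haveI := h
  let W := 𝟙_ (Over (Spec (CommRingCat.of k)))
  have he : BGaNotS.gaPt (S := Spec (CommRingCat.of k)) (W := W) 0 = BGaNotS.gaPt 1 :=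
    Over.OverMorphism.ext ((cancel_mono (Red.Ga (Spec (CommRingCat.of k))).hom).1 (by rw [Over.w, Over.w]))
  have h2 := congrArg Red.gaFn he
  rw [BGaNotS.gaFn_gaPt, BGaNotS.gaFn_gaPt] at h2
  have h3 := congrArg (Scheme.ΓSpecIso (CommRingCat.of k)).hom.hom h2
  exact zero_ne_one ((map_zero _).symm.trans (h3.trans (map_one _)))

section Ga

attribute [-instance] ULift.smulLeft ULift.module

/-- A nontrivial connected commutative group without subtori contains the additive group. -/
theorem exists_ga_sub (U : Over (Spec (CommRingCat.of k))) [GrpObj U] [IsCommMonObj U] [Smooth U.hom]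
    [ConnectedSpace U.left] [IsAffine U.left] (hU : Red.HasNoSubtorus k U) (hne : ¬ IsIso U.hom) :
    ∃ i : Red.Ga (Spec (CommRingCat.of k)) ⟶ U, IsMonHom i ∧ IsClosedImmersion i.left := by
  obtain ⟨p, hp⟩ := CharP.exists k
  rcases CharP.char_is_prime_or_zero k p with hpr | rfl
  · haveI := Fact.mk hpr
    obtain ⟨N, hN⟩ := WittUnip.exists_ug_of_noSubtorus (p := p) U hU
    let G := WittUnip.UG.of U ⟨N, hN⟩
    have h1 : 1 ≤ G.dm := by
      by_contra h0
      refine hne (isIso_hom_of_dim_zero U ?_)
      rw [show topologicalKrullDim U.left = topologicalKrullDim G.X.left from rfl, G.topologicalKrullDim_eq,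
        show G.dm = 0 by omega]
      simp
    obtain ⟨i, hi, hic⟩ := WittUnip.exists_bottom G h1
    haveI := hi; haveI := hic
    obtain ⟨e, he, -⟩ := Groth.Agent.S12181.result p (Spec (CommRingCat.of k))
    haveI := he
    haveI : IsIso e.inv.left := inferInstanceAs (IsIso ((Over.forget _).map e.inv))
    exact ⟨e.inv ≫ i, inferInstance, inferInstanceAs (IsClosedImmersion (e.inv.left ≫ i.left))⟩
  · haveI := CharP.charP_to_charZero k
    obtain ⟨A, _, _, e, he, _, _, _, _⟩ := WittUnip.exists_coordHopf U
    haveI := he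
    obtain ⟨n, x, hind, hgen, hprim⟩ := UnipZero.exists_generators (WittUnip.isConil_of_noSubtorus hU e)
    have hbij : Function.Bijective (MvPolynomial.aeval (R := k) x) := ⟨hind, fun a => by
      have ha : a ∈ (MvPolynomial.aeval (R := k) x).range := by
        rw [← Algebra.adjoin_range_eq_range_aeval, hgen]; exact Algebra.mem_top
      exact ha⟩
    let r := AlgEquiv.ofBijective _ hbij
    have hn : Nonempty (Fin n) := by
      rw [← not_isEmpty_iff]
      intro hemp
      refine hne ?_
      haveI : IsIso e.hom.left := inferInstanceAs (IsIso ((Over.forget _).map e.hom))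
      have hsurj : Function.Bijective (algebraMap k A) := by
        refine ⟨(algebraMap k A).injective, fun a => ?_⟩
        obtain ⟨q, rfl⟩ := hbij.2 a
        exact ⟨MvPolynomial.isEmptyAlgEquiv k (Fin n) q, by
          rw [← AlgHom.commutes (MvPolynomial.aeval (R := k) x)]
          congr 1
          exact (MvPolynomial.isEmptyAlgEquiv k (Fin n)).symm_apply_apply q⟩
      haveI : IsIso (CommRingCat.ofHom (algebraMap k A)) := (ConcreteCategory.isIso_iff_bijective _).2 hsurj
      have hw : e.hom.left ≫ U.hom = Spec.map (CommRingCat.ofHom (algebraMap k A)) := Over.w e.hom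
      rw [(IsIso.eq_inv_comp e.hom.left).2 hw]
      infer_instance
    obtain ⟨a₀⟩ := hn
    letI : Algebra (ULift.{u} ℤ) k := ((Int.castRingHom k).comp (ULift.ringEquiv.toRingHom)).toAlgebra
    let S := SymmetricAlgebra (ULift.{u} ℤ) (ULift.{u} ℤ)
    obtain ⟨jG⟩ := MTBridge.nonempty_bc_specGrp (ULift.{u} ℤ) k S
    rw [specULiftZIsTerminal.hom_ext (Spec.map (CommRingCat.ofHom (algebraMap (ULift.{u} ℤ) k)))
      (IsTerminal.from specULiftZIsTerminal _)] at jG
    let g : k ⊗[ULift.{u} ℤ] S := 1 ⊗ₜ SymmetricAlgebra.ι _ _ (1 : ULift.{u} ℤ)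
    let ψa : A →ₐ[k] k ⊗[ULift.{u} ℤ] S :=
      (MvPolynomial.aeval fun i => if i = a₀ then g else 0).comp r.symm.toAlgHom
    have hψx : ∀ i, ψa (x i) = if i = a₀ then g else 0 := fun i => by
      have : r.symm (x i) = MvPolynomial.X i := by
        rw [AlgEquiv.symm_apply_eq]; exact (MvPolynomial.aeval_X x i).symm
      show MvPolynomial.aeval _ (r.symm (x i)) = _
      rw [this, MvPolynomial.aeval_X]
    have hcg : Coalgebra.counit (R := k) g = 0 := by
      simp only [g, TensorProduct.counit_tmul]
      erw [SymmetricAlgebra.counit_ι]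
      exact (Algebra.smul_def _ _).trans ((congrArg (· * _) (map_zero _)).trans (zero_mul _))
    have hdg : Coalgebra.comul (R := k) g = g ⊗ₜ[k] (1 : k ⊗[ULift.{u} ℤ] S) + (1 : k ⊗[ULift.{u} ℤ] S) ⊗ₜ[k] g := by
      simp only [g, TensorProduct.comul_tmul]
      erw [SymmetricAlgebra.comul_ι]
      simp [TensorProduct.tmul_add, Algebra.TensorProduct.one_def]
    let ψ : A →ₐc[k] k ⊗[ULift.{u} ℤ] S := BialgHom.ofAlgHom ψa
      (AlgHom.ext_of_adjoin_eq_top hgen (by
        rintro _ ⟨i, rfl⟩
        show Coalgebra.counit (R := k) (ψa (x i)) = Coalgebra.counit (R := k) (x i)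
        rw [hψx, UnipZero.counit_prim (UnipZero.mem_prim.2 (hprim i))]
        split_ifs
        · exact hcg
        · exact map_zero _))
      (AlgHom.ext_of_adjoin_eq_top hgen (by
        rintro _ ⟨i, rfl⟩
        show Algebra.TensorProduct.map ψa ψa (Coalgebra.comul (R := k) (x i)) = Coalgebra.comul (R := k) (ψa (x i))
        rw [hprim, hψx, map_add, Algebra.TensorProduct.map_tmul, Algebra.TensorProduct.map_tmul, hψx, map_one]
        split_ifs
        · exact hdg.symm
        · simp))
    have hψsurj : Function.Surjective ψ := by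
      intro t
      suffices ht : t ∈ ψa.range from ht
      induction t using TensorProduct.induction_on with
      | zero => exact zero_mem _
      | add a b ha hb => exact add_mem ha hb
      | tmul c z =>
        have hz : (1 : k) ⊗ₜ[ULift.{u} ℤ] z ∈ ψa.range := by
          induction z using SymmetricAlgebra.induction with
          | algebraMap m =>
            rw [← Algebra.TensorProduct.tmul_one_eq_one_tmul]
            exact ψa.range.algebraMap_mem _
          | «ι» m =>
            have hm : m = m.down • (1 : ULift.{u} ℤ) := by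
              rw [zsmul_one]; exact ULift.ext _ _ (by simp)
            rw [hm, map_zsmul, show (1 : k) ⊗ₜ[ULift.{u} ℤ] (m.down • SymmetricAlgebra.ι (ULift.{u} ℤ) (ULift.{u} ℤ) 1) =
              m.down • g from map_zsmul (TensorProduct.mk (ULift.{u} ℤ) k S 1) _ _]
            exact zsmul_mem (show g ∈ ψa.range from ⟨x a₀, (hψx a₀).trans (if_pos rfl)⟩) _
          | mul a b ha hb =>
            rw [show (1 : k) ⊗ₜ[ULift.{u} ℤ] (a * b) = (1 : k) ⊗ₜ a * (1 : k) ⊗ₜ b by
              rw [Algebra.TensorProduct.tmul_mul_tmul, _root_.mul_one]]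
            exact mul_mem ha hb
          | add a b ha hb => rw [TensorProduct.tmul_add]; exact add_mem ha hb
        rw [show c ⊗ₜ[ULift.{u} ℤ] z = c • ((1 : k) ⊗ₜ[ULift.{u} ℤ] z) by
          rw [TensorProduct.smul_tmul', smul_eq_mul, _root_.mul_one]]
        exact Subalgebra.smul_mem _ hz _
    let ug : specGrp k (k ⊗[ULift.{u} ℤ] S) ⟶ specGrp k A :=
      (hopfSpec (CommRingCat.of k)).map (CommHopfAlgCat.ofHom (R := k) ψ).op
    let eA : specGrp k A ≅ Grp.mk U := Grp.mkIso' e
    let I : Grp.mk (Red.Ga (Spec (CommRingCat.of k))) ⟶ Grp.mk U := jG.hom ≫ ug ≫ eA.hom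
    refine ⟨I.hom.hom, I.hom.isMonHom_hom, ?_⟩
    haveI : IsIso jG.hom.hom.hom.left :=
      inferInstanceAs (IsIso ((Over.forget _).map ((Grp.forget _).map jG.hom)))
    haveI : IsIso eA.hom.hom.hom.left :=
      inferInstanceAs (IsIso ((Over.forget _).map ((Grp.forget _).map eA.hom)))
    have h0 : IsClosedImmersion (Spec.map (CommRingCat.ofHom (ψ : A →ₐ[k] k ⊗[ULift.{u} ℤ] S).toRingHom)) :=
      IsClosedImmersion.spec_of_surjective (CommRingCat.ofHom (ψ : A →ₐ[k] k ⊗[ULift.{u} ℤ] S).toRingHom) hψsurj
    haveI : IsClosedImmersion ug.hom.hom.left := h0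
    show IsClosedImmersion (jG.hom.hom.hom.left ≫ ug.hom.hom.left ≫ eA.hom.hom.hom.left)
    infer_instance

end Ga

/-- An extension by a trivial group is an isomorphism. -/
theorem exists_section_trivial {C A B : Over (Spec (CommRingCat.of k))} [GrpObj C] [GrpObj A] [GrpObj B]
    [LocallyOfFiniteType C.hom] [QuasiCompact C.hom] [LocallyOfFiniteType A.hom]
    (i : B ⟶ C) [IsMonHom i] (α : C ⟶ A) [IsMonHom α] [Flat α.left] [Surjective α.left]
    (hk : AlgGrp.IsKernel i α) (hB : IsIso B.hom) : ∃ s : A ⟶ C, s ≫ α = 𝟙 A := by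
  have hk' : IsPullback i (toUnit B) α η[A] := hk
  haveI := hB
  haveI : Mono α := ⟨fun {W} a b h => by
    have h1 : (a * b⁻¹) ≫ α = toUnit W ≫ η[A] := by
      rw [MonObj.mul_comp, GrpObj.inv_comp, h, mul_inv_cancel, Hom.one_def]
    have h2 : hk'.lift (a * b⁻¹) (toUnit W) h1 = 1 :=
      Over.OverMorphism.ext ((cancel_mono B.hom).1 (by rw [Over.w, Over.w]))
    have h3 := hk'.lift_fst (a * b⁻¹) (toUnit W) h1
    rw [h2, MonObj.one_comp] at h3
    exact mul_inv_eq_one.1 h3.symm⟩
  obtain ⟨hqc, hfp⟩ := quotient_props α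
  haveI := hfp
  haveI : Mono α.left := inferInstanceAs (Mono ((Over.forget _).map α))
  haveI : IsOpenImmersion α.left := IsOpenImmersion.of_flat_of_mono α.left
  haveI : IsIso α.left := isIso_of_isOpenImmersion_of_opensRange_eq_top α.left
    (TopologicalSpace.Opens.ext (Set.range_eq_univ.2 α.left.surjective))
  haveI : IsIso ((Over.forget _).map α) := ‹IsIso α.left›
  haveI : IsIso α := isIso_of_reflects_iso α (Over.forget _)
  exact ⟨inv α, IsIso.inv_hom_id α⟩

/-- **An extension by a connected commutative linear group with affine total space has a section.** -/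
theorem exists_section_of_affine (B C A : Over (Spec (CommRingCat.of k))) [GrpObj B] [GrpObj C] [GrpObj A]
    [IsCommMonObj B] [IsCommMonObj C] [Smooth B.hom] [ConnectedSpace B.left] [IsAffine B.left]
    [IsAffine C.left] [IsAffine A.left] [LocallyOfFiniteType C.hom] [LocallyOfFiniteType A.hom]
    (i : B ⟶ C) [IsMonHom i] [IsClosedImmersion i.left] (α : C ⟶ A) [IsMonHom α] [Flat α.left]
    [Surjective α.left] (hk : AlgGrp.IsKernel i α) : ∃ s : A ⟶ C, s ≫ α = 𝟙 A := by
  obtain ⟨d, hd⟩ := Chev.exists_natDim' B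
  induction d using Nat.strong_induction_on generalizing B C A with
  | _ d ih =>
    classical
    haveI : IsAffineHom C.hom := isAffineHom_of_isAffine C.hom
    by_cases htriv : IsIso B.hom
    · exact exists_section_trivial i α hk htriv
    haveI : Subsingleton ↥(Spec (CommRingCat.of k)) := inferInstanceAs (Subsingleton (PrimeSpectrum k))
    haveI : IsAffineHom B.hom := isAffineHom_of_isAffine B.hom
    -- a nontrivial subgroup whose quotient maps have sections
    obtain ⟨H, _, j, hjm, hjc, hHd, hsec⟩ : ∃ (H : Over (Spec (CommRingCat.of k))) (_ : GrpObj H) (j : H ⟶ B),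
        IsMonHom j ∧ IsClosedImmersion j.left ∧ 0 < topologicalKrullDim H.left ∧
        ∀ (C' : Over (Spec (CommRingCat.of k))) [GrpObj C'] [IsAffine C'.left] [LocallyOfFiniteType C'.hom]
          (l : H ⟶ C) [IsMonHom l] [IsClosedImmersion l.left] (q : C ⟶ C') [IsMonHom q] [Flat q.left]
          [Surjective q.left], AlgGrp.IsKernel l q → ∃ s : C' ⟶ C, s ≫ q = 𝟙 C' := by
      by_cases hU : Red.HasNoSubtorus k B
      · obtain ⟨j, hjm, hjc⟩ := exists_ga_sub B hU htriv
        haveI := RedR1.smooth_ga k
        haveI := RedR1.connectedSpace_ga k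
        refine ⟨_, inferInstance, j, hjm, hjc, Decidable.byContradiction fun h => not_isIso_ga
          (isIso_hom_of_dim_zero _ h), fun C' _ _ _ l _ _ q _ _ _ hl => ?_⟩
        exact GaSection.exists_section q l hl
      · unfold Red.HasNoSubtorus at hU
        push Not at hU
        obtain ⟨T, _, j, _, _, hT, hTn⟩ := hU
        haveI := Chev.smooth_of_isTorus hT
        haveI := Chev.connectedSpace_of_isTorus hT
        haveI := Chev.isAffine_of_isTorus hT
        haveI : IsAffineHom T.hom := isAffineHom_of_isAffine T.hom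
        haveI := SplitH1.quasiCompact_left j
        exact ⟨T, inferInstance, j, inferInstance, GrpField.isClosedImmersion_of_mono j,
          Decidable.byContradiction fun h => hTn (isIso_hom_of_dim_zero _ h),
          fun C' _ _ _ l _ _ q _ _ _ hl => exists_section_torus hT l q hl⟩
    haveI := hjm; haveI := hjc
    haveI : LocallyOfFiniteType H.hom := by rw [← Over.w j]; infer_instance
    haveI : IsClosedImmersion (j ≫ i).left := inferInstanceAs (IsClosedImmersion (j.left ≫ i.left))
    obtain ⟨C', _, q, hqm, hC'a, hC'l, hqf, hqs, hlk⟩ := Takeuchi.exists_affine_quotient C H (j ≫ i)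
      fun T g n => ⟨n, by rw [mul_comm g, mul_inv_cancel_right]⟩
    haveI := hqm; haveI := hC'a; haveI := hC'l; haveI := hqf; haveI := hqs
    obtain ⟨hqqc, hqfp⟩ := quotient_props q
    haveI := hqqc; haveI := hqfp
    haveI : IsCommMonObj C' := Chev.isCommMonObj_of_surjective q
    have hk' : IsPullback i (toUnit B) α η[A] := hk
    obtain ⟨α', hα'⟩ := AdjRep.exists_desc (j ≫ i) q hlk α (by
      rw [Category.assoc, hk'.w, ← Category.assoc, toUnit_unique (j ≫ toUnit B) (toUnit H), Hom.one_def])
    haveI : Epi q := AVQuot.epi_of_covering q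
    haveI : IsMonHom (q ≫ α') := by rw [hα']; infer_instance
    haveI : IsMonHom α' := Chev.isMonHom_desc q α'
    haveI : Surjective α'.left := by
      haveI : Surjective (q.left ≫ α'.left) := by rw [← Over.comp_left, hα']; infer_instance
      exact Surjective.of_comp q.left α'.left
    haveI : Flat α'.left := by
      haveI : Flat (q.left ≫ α'.left) := by rw [← Over.comp_left, hα']; infer_instance
      exact GrpdLib.flat_of_flat_comp q.left α'.left
    haveI : IsAffineHom C'.hom := isAffineHom_of_isAffine C'.hom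
    obtain ⟨B', gB', i', hi'm, hi'c, -, hk''⟩ := AdjRep.exists_kernel α'
    letI := gB'
    haveI := hi'm; haveI := hi'c
    have hk2 : IsPullback i' (toUnit B') α' η[A] := hk''
    haveI : Mono i' := GrpField.SchImg.mono_of_isClosedImmersion i'
    let π : B ⟶ B' := hk2.lift (i ≫ q) (toUnit B) (by rw [Category.assoc, hα', hk'.w])
    have hπ : π ≫ i' = i ≫ q := hk2.lift_fst _ _ _
    have hsq : IsPullback i π q i' := by
      refine IsPullback.of_bot ?_ hπ.symm hk2
      rw [toUnit_unique (π ≫ toUnit B') (toUnit B), hα']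
      exact hk'
    haveI : IsMonHom (π ≫ i') := by rw [hπ]; infer_instance
    haveI : IsMonHom π := isMonHom_of_comp π i'
    have hπl : IsPullback π.left i.left i'.left q.left := (hsq.map (Over.forget _)).flip
    haveI : Flat π.left := MorphismProperty.of_isPullback (P := @Flat) hπl.flip hqf
    haveI : Surjective π.left := MorphismProperty.of_isPullback (P := @Surjective) hπl.flip hqs
    haveI : LocallyOfFiniteType B'.hom := by rw [← Over.w i']; infer_instance
    haveI : IsAffine B'.left := isAffine_of_isAffineHom i'.left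
    haveI : IsAffineHom B'.hom := isAffineHom_of_isAffine B'.hom
    obtain ⟨-, hsm, hconn⟩ := Groth.Agent.S7983.result k B B' π
    haveI := hsm ‹_›
    haveI := hconn ‹_›
    haveI : IsCommMonObj B' := isCommMonObj_iff_isMulCommutative _ |>.2 fun T => ⟨⟨fun a b => by
      rw [← cancel_mono i', MonObj.mul_comp, MonObj.mul_comp, mul_comm]⟩⟩
    have hkπ : AlgGrp.IsKernel j π := by
      show IsPullback j (toUnit H) π η[B']
      refine IsPullback.of_right ?_ ?_ hsq
      · rw [IsMonHom.one_hom i']
        exact hlk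
      · rw [← cancel_mono i', Category.assoc, hπ, Category.assoc, IsMonHom.one_hom i', ← Category.assoc]
        exact (show IsPullback (j ≫ i) (toUnit H) q η[C'] from hlk).w
    haveI := SplitH1.quasiCompact_left π
    obtain ⟨dH, hdH⟩ := Chev.exists_natDim' H
    obtain ⟨dB, hdB⟩ := Chev.exists_natDim' B'
    have hsum := S3016.dim_eq_field π j hkπ
    have hrange : topologicalKrullDim (Set.range π.left.base) = topologicalKrullDim B'.left := by
      rw [Set.range_eq_univ.2 π.left.surjective]
      exact (Homeomorph.Set.univ B'.left).isHomeomorph.topologicalKrullDim_eq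
    rw [hrange, hd, hdH, hdB] at hsum
    have hsum' : d = dB + dH := by exact_mod_cast hsum
    rw [hdH] at hHd
    have hpos : 0 < dH := by exact_mod_cast hHd
    obtain ⟨s', hs'⟩ := ih dB (by omega) B' C' A i' α' hk'' hdB
    obtain ⟨σ, hσ⟩ := hsec C' (j ≫ i) q hlk
    exact ⟨s' ≫ σ, by rw [← hα', Category.assoc, reassoc_of% hσ, hs']⟩

end Groth.Agent.Chev.LinSection
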