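import Groth.Prelude.Def_VecGrp
import Groth.Prelude.Def_GmPts
import Groth.Agent.BGaNotS.GaPts
import Mathlib.RingTheory.DedekindDomain.Dvr
import Mathlib.RingTheory.Localization.AtPrime.Basic
import Mathlib.RingTheory.Localization.FractionRing
import Mathlib.RingTheory.Polynomial.Quotient
import Mathlib.AlgebraicGeometry.ValuativeCriterion

/-!
# Fixed points of the additive and the multiplicative group on proper schemes

The limit at infinity of an orbit is fixed: translations of the line act on the valuation ring at infinity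
by automorphisms inducing the identity on the residue field.
-/

set_option autoImplicit false
set_option backward.isDefEq.respectTransparency false

universe u

open CategoryTheory CategoryTheory.Limits MonoidalCategory CartesianMonoidalCategory MonObj GrpObj AlgebraicGeometry
open Polynomial

noncomputable section

namespace Groth.Agent.Chev.LineFixed

variable {k : Type u} [Field k]

theorem ptMap_comp' {A B C : Type u} [CommRing A] [Algebra k A] [CommRing B] [Algebra k B] [CommRing C] [Algebra k C]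
    (φ : A →ₐ[k] B) (ψ : B →ₐ[k] C) :
    VecGrp.ptMap ψ ≫ VecGrp.ptMap φ = (VecGrp.ptMap (ψ.comp φ) : VecGrp.pt k C ⟶ VecGrp.pt k A) := by
  apply Over.OverMorphism.ext
  show Spec.map _ ≫ Spec.map _ = Spec.map _
  rw [← Spec.map_comp]
  rfl

section Ring

variable (K : Type u) [Field K]

theorem span_X_isMaximal : (Ideal.span {(X : K[X])}).IsMaximal :=
  PrincipalIdealRing.isMaximal_of_irreducible Polynomial.irreducible_X

instance : (Ideal.span {(X : K[X])}).IsPrime := (span_X_isMaximal K).isPrime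

/-- The local ring of the line at the origin. -/
abbrev O : Type u := Localization.AtPrime (Ideal.span {(X : K[X])})

/-- The function field of the line. -/
abbrev F : Type u := FractionRing (O K)

instance : IsDiscreteValuationRing (O K) :=
  IsLocalization.AtPrime.isDiscreteValuationRing_of_dedekind_domain K[X]
    (fun h => Polynomial.X_ne_zero (Ideal.span_singleton_eq_bot.1 h)) _

theorem mem_primeCompl {p : K[X]} : p ∈ (Ideal.span {(X : K[X])}).primeCompl ↔ p.eval 0 ≠ 0 := by
  show p ∉ Ideal.span {(X : K[X])} ↔ _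
  rw [Ideal.mem_span_singleton, Polynomial.X_dvd_iff, Polynomial.coeff_zero_eq_eval_zero]

variable [Algebra k K]

/-- Evaluation at the origin. -/
def res : O K →ₐ[k] K :=
  IsLocalization.liftAlgHom (M := (Ideal.span {(X : K[X])}).primeCompl)
    (f := ((Polynomial.aeval (0 : K) : K[X] →ₐ[K] K).restrictScalars k)) fun y => by
      have := (mem_primeCompl K).1 y.2
      simp only [AlgHom.restrictScalars_apply]
      rw [Polynomial.coe_aeval_eq_eval]
      exact this.isUnit

theorem res_algebraMap (p : K[X]) : res (k := k) K (algebraMap K[X] (O K) p) = p.eval 0 := by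
  show IsLocalization.lift _ _ = _
  rw [IsLocalization.lift_eq]
  exact congrFun (Polynomial.coe_aeval_eq_eval 0) p

theorem isUnit_of_res {x : O K} (h : res (k := k) K x ≠ 0) : IsUnit x := by
  obtain ⟨⟨a, s⟩, hs⟩ := IsLocalization.surj (M := (Ideal.span {(X : K[X])}).primeCompl) x
  have hs' : IsUnit (algebraMap K[X] (O K) s) := IsLocalization.map_units _ s
  have ha : a ∈ (Ideal.span {(X : K[X])}).primeCompl := by
    rw [mem_primeCompl, ← res_algebraMap (k := k), ← hs, map_mul]
    exact mul_ne_zero h (by rw [res_algebraMap]; exact (mem_primeCompl K).1 s.2)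
  have : IsUnit (x * algebraMap K[X] (O K) s) := hs ▸ IsLocalization.map_units (O K) ⟨a, ha⟩
  exact (IsUnit.mul_iff.1 this).1

theorem X_ne_zero_O : algebraMap K[X] (O K) X ≠ 0 := fun h =>
  Polynomial.X_ne_zero (IsLocalization.injective (M := (Ideal.span {(X : K[X])}).primeCompl) (O K) (Ideal.primeCompl_le_nonZeroDivisors _) (h.trans (map_zero _).symm))

theorem isUnit_aeval (v : O K) (p : k[X]) (hp : p.eval 0 ≠ 0) :
    IsUnit (Polynomial.aeval (algebraMap K[X] (O K) X * v) p) := by
  apply isUnit_of_res (k := k)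
  rw [← Polynomial.aeval_algHom_apply, map_mul, res_algebraMap, Polynomial.eval_X, zero_mul,
    ← map_zero (algebraMap k K), Polynomial.aeval_algebraMap_apply, Polynomial.coe_aeval_eq_eval]
  exact fun h => hp ((algebraMap k K).injective h)

/-- The map of local rings sending the parameter to a unit multiple of the parameter. -/
def subst (v : O K) : O k →ₐ[k] O K :=
  IsLocalization.liftAlgHom (M := (Ideal.span {(X : k[X])}).primeCompl)
    (f := Polynomial.aeval (algebraMap K[X] (O K) X * v)) fun y => isUnit_aeval K v y ((mem_primeCompl k).1 y.2)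

theorem subst_algebraMap (v : O K) (p : k[X]) :
    subst K v (algebraMap k[X] (O k) p) = Polynomial.aeval (algebraMap K[X] (O K) X * v) p := by
  show IsLocalization.lift _ _ = _
  rw [IsLocalization.lift_eq]
  rfl

theorem res_comp_subst (v : O K) :
    (res (k := k) K).comp (subst K v) = (Algebra.ofId k K).comp (res (k := k) k) := by
  apply IsLocalization.algHom_ext (Ideal.span {(X : k[X])}).primeCompl
  apply Polynomial.algHom_ext
  show res (k := k) K (subst K v (algebraMap k[X] (O k) X)) = algebraMap k K (res (k := k) k (algebraMap k[X] (O k) X))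
  rw [subst_algebraMap, Polynomial.aeval_X, map_mul, res_algebraMap, res_algebraMap, Polynomial.eval_X,
    Polynomial.eval_X, zero_mul, map_zero]

theorem subst_injective (v : (O K)ˣ) : Function.Injective (subst (k := k) K (v : O K)) := by
  rw [injective_iff_map_eq_zero]
  intro x hx
  obtain ⟨⟨a, s⟩, hs⟩ := IsLocalization.surj (M := (Ideal.span {(X : k[X])}).primeCompl) x
  have ha : subst (k := k) K (v : O K) (algebraMap k[X] (O k) a) = 0 := by rw [← hs, map_mul, hx, zero_mul]
  rw [subst_algebraMap] at ha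
  by_contra hne
  have ha0 : a ≠ 0 := fun h => hne ((IsLocalization.map_units (O k) s).mul_left_eq_zero.1 (by rw [hs]; show algebraMap k[X] (O k) a = 0; rw [h, map_zero]))
  obtain ⟨q, hq, hq0⟩ := Polynomial.exists_eq_pow_rootMultiplicity_mul_and_not_dvd a ha0 0
  rw [map_zero, sub_zero] at hq hq0
  rw [hq, map_mul, map_pow, Polynomial.aeval_X] at ha
  rw [Polynomial.X_dvd_iff, Polynomial.coeff_zero_eq_eval_zero] at hq0
  rcases mul_eq_zero.1 ha with h | h
  · exact mul_ne_zero (X_ne_zero_O K) v.ne_zero (eq_zero_of_pow_eq_zero h)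
  · exact (isUnit_aeval K (v : O K) q hq0).ne_zero h

/-- The map of function fields. -/
def substF (v : (O K)ˣ) : F k →ₐ[k] F K :=
  IsFractionRing.liftAlgHom (g := (IsScalarTower.toAlgHom k (O K) (F K)).comp (subst K (v : O K)))
    ((IsFractionRing.injective (O K) (F K)).comp (subst_injective K v))

theorem substF_algebraMap (v : (O K)ˣ) (x : O k) :
    substF (k := k) K v (algebraMap (O k) (F k) x) = algebraMap (O K) (F K) (subst K (v : O K) x) := by
  exact IsLocalization.lift_eq _ x

/-- The parameter in the function field. -/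
def τ : F K := algebraMap (O K) (F K) (algebraMap K[X] (O K) X)

theorem τ_ne_zero : τ K ≠ 0 := fun h =>
  X_ne_zero_O K (IsFractionRing.injective (O K) (F K) (h.trans (map_zero _).symm))

theorem substF_tau (v : (O K)ˣ) : substF (k := k) K v (τ k) = τ K * algebraMap (O K) (F K) (v : O K) := by
  rw [τ, substF_algebraMap, subst_algebraMap, Polynomial.aeval_X, map_mul, τ]

theorem substF_inv_tau (v : (O K)ˣ) :
    substF (k := k) K v (τ k)⁻¹ = (τ K)⁻¹ * algebraMap (O K) (F K) ((v⁻¹ : (O K)ˣ) : O K) := by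
  rw [map_inv₀, substF_tau, _root_.mul_inv, eq_comm]
  congr 1
  refine eq_inv_of_mul_eq_one_left ?_
  rw [← map_mul, Units.inv_mul, map_one]

end Ring

section Fixed

variable {G X : Over (Spec (CommRingCat.of k))} [GrpObj G] [IsProper X.hom] (a : AlgGrp.Action G X)

theorem ext_frac (K : Type u) [Field K] [Algebra k K] {P Q : VecGrp.pt k (O K) ⟶ X}
    (h : VecGrp.ptMap (IsScalarTower.toAlgHom k (O K) (F K)) ≫ P =
      VecGrp.ptMap (IsScalarTower.toAlgHom k (O K) (F K)) ≫ Q) : P = Q := by
  apply Over.OverMorphism.ext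
  let j := Spec.map (CommRingCat.ofHom (algebraMap (O K) (F K)))
  haveI : IsDominant j := ⟨by
    show DenseRange (PrimeSpectrum.comap (algebraMap (O K) (F K)))
    rw [PrimeSpectrum.denseRange_comap_iff_ker_le_nilRadical,
      (RingHom.injective_iff_ker_eq_bot _).1 (IsFractionRing.injective (O K) (F K))]
    exact bot_le⟩
  haveI : IsReduced (VecGrp.pt k (O K)).left := inferInstanceAs (IsReduced (Spec (CommRingCat.of (O K))))
  exact ext_of_isDominant_of_isSeparated X.hom (by rw [Over.w, Over.w]) j (congrArg CommaMorphism.left h)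

theorem exists_ext (e : VecGrp.pt k (F k) ⟶ X) :
    ∃ e₀ : VecGrp.pt k (O k) ⟶ X, VecGrp.ptMap (IsScalarTower.toAlgHom k (O k) (F k)) ≫ e₀ = e := by
  have hv : ValuativeCriterion.Existence X.hom := by
    have := (inferInstance : UniversallyClosed X.hom)
    rw [UniversallyClosed.eq_valuativeCriterion] at this
    exact this.1
  obtain ⟨⟨⟨l, hl₁, hl₂⟩⟩⟩ := hv
    { R := O k
      K := F k
      i₁ := e.left
      i₂ := (VecGrp.pt k (O k)).hom
      commSq := ⟨by
        rw [Over.w]
        exact (Over.w (VecGrp.ptMap (IsScalarTower.toAlgHom k (O k) (F k)))).symm⟩ }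
  exact ⟨Over.homMk l hl₂, Over.OverMorphism.ext hl₁⟩

/-- A translation equivariant family at infinity gives a fixed point, tested on field valued points. -/
theorem exists_fixed_of_infty (u₀ : VecGrp.pt k (F k) ⟶ G)
    (hu : ∀ (K : Type u) [Field K] [Algebra k K] (g : VecGrp.pt k K ⟶ G),
      ∃ v : (O K)ˣ, VecGrp.ptMap (substF (k := k) K v) ≫ u₀ =
        (VecGrp.ptMap (IsScalarTower.toAlgHom k K (F K)) ≫ g) * (VecGrp.ptMap (substF (k := k) K 1) ≫ u₀))
    (x₀ : 𝟙_ (Over (Spec (CommRingCat.of k))) ⟶ X) :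
    ∃ x : 𝟙_ (Over (Spec (CommRingCat.of k))) ⟶ X, ∀ (K : Type u) [Field K] [Algebra k K]
      (g : VecGrp.pt k K ⟶ G), lift g (toUnit _ ≫ x) ≫ a.act = toUnit _ ≫ x := by
  let e : VecGrp.pt k (F k) ⟶ X := lift u₀ (toUnit _ ≫ x₀) ≫ a.act
  obtain ⟨e₀, he₀⟩ := exists_ext e
  let ek : 𝟙_ (Over (Spec (CommRingCat.of k))) ⟶ VecGrp.pt k k := Over.homMk (𝟙 _) (by
    show 𝟙 _ ≫ Spec.map (CommRingCat.ofHom (algebraMap k k)) = 𝟙 _
    rw [Algebra.algebraMap_self, CommRingCat.ofHom_id, Spec.map_id, Category.comp_id])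
  refine ⟨ek ≫ VecGrp.ptMap (res (k := k) k) ≫ e₀, fun K _ _ g => ?_⟩
  have hek : toUnit (VecGrp.pt k K) ≫ ek = VecGrp.ptMap (Algebra.ofId k K) := by
    apply Over.OverMorphism.ext
    show (toUnit (VecGrp.pt k K)).left ≫ 𝟙 _ = Spec.map _
    exact Category.comp_id _
  obtain ⟨v, hv⟩ := hu K g
  let gO : VecGrp.pt k (O K) ⟶ G := VecGrp.ptMap (IsScalarTower.toAlgHom k K (O K)) ≫ g
  let P₁ : VecGrp.pt k (O K) ⟶ X := VecGrp.ptMap (subst (k := k) K (v : O K)) ≫ e₀
  let P₂ : VecGrp.pt k (O K) ⟶ X := lift gO (VecGrp.ptMap (subst (k := k) K ((1 : (O K)ˣ) : O K)) ≫ e₀) ≫ a.act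
  have hs : ∀ w : (O K)ˣ,
      VecGrp.ptMap (IsScalarTower.toAlgHom k (O K) (F K)) ≫ VecGrp.ptMap (subst (k := k) K (w : O K)) ≫ e₀ =
        lift (VecGrp.ptMap (substF (k := k) K w) ≫ u₀) (toUnit _ ≫ x₀) ≫ a.act := by
    intro w
    have h : (IsScalarTower.toAlgHom k (O K) (F K)).comp (subst (k := k) K (w : O K)) =
        (substF (k := k) K w).comp (IsScalarTower.toAlgHom k (O k) (F k)) :=
      AlgHom.ext fun x => (substF_algebraMap K w x).symm
    rw [← Category.assoc, ptMap_comp', h, ← ptMap_comp', Category.assoc, he₀]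
    show _ ≫ lift u₀ _ ≫ a.act = _
    rw [← Category.assoc, comp_lift, ← Category.assoc, toUnit_unique (_ ≫ toUnit _) (toUnit _)]
  have hP : P₁ = P₂ := by
    refine ext_frac K ?_
    have hg : VecGrp.ptMap (IsScalarTower.toAlgHom k (O K) (F K)) ≫ gO =
        VecGrp.ptMap (IsScalarTower.toAlgHom k K (F K)) ≫ g := by
      rw [← Category.assoc, ptMap_comp']
      congr 2
    rw [show P₂ = lift gO (VecGrp.ptMap (subst (k := k) K ((1 : (O K)ˣ) : O K)) ≫ e₀) ≫ a.act from rfl,
      ← Category.assoc _ _ a.act, comp_lift, hg, hs 1, show P₁ = VecGrp.ptMap (subst (k := k) K (v : O K)) ≫ e₀ from rfl,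
      hs v, hv]
    have h := congrArg (fun z => lift (lift (VecGrp.ptMap (IsScalarTower.toAlgHom k K (F K)) ≫ g)
      (VecGrp.ptMap (substF (k := k) K 1) ≫ u₀)) (toUnit _ ≫ x₀) ≫ z) a.mul_act
    simp only [lift_whiskerRight_assoc, lift_lift_associator_hom_assoc, lift_whiskerLeft_assoc] at h
    rw [Hom.mul_def]
    exact h
  have hres : ∀ w : O K, VecGrp.ptMap (res (k := k) K) ≫ VecGrp.ptMap (subst (k := k) K w) ≫ e₀ =
      toUnit _ ≫ ek ≫ VecGrp.ptMap (res (k := k) k) ≫ e₀ := fun w => by
    rw [← Category.assoc, ptMap_comp', res_comp_subst, ← ptMap_comp', ← hek]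
    simp only [Category.assoc]
  have h := congrArg (VecGrp.ptMap (res (k := k) K) ≫ ·) hP
  simp only [P₁, P₂] at h
  rw [hres, ← Category.assoc _ _ a.act, comp_lift, hres] at h
  have hgres : VecGrp.ptMap (res (k := k) K) ≫ gO = g := by
    rw [show gO = _ from rfl, ← Category.assoc, ptMap_comp',
      show (res (k := k) K).comp (IsScalarTower.toAlgHom k K (O K)) = AlgHom.id k K from AlgHom.ext fun c => by
        show res (k := k) K (algebraMap K (O K) c) = c
        rw [IsScalarTower.algebraMap_apply K K[X] (O K), res_algebraMap, ← Polynomial.C_eq_algebraMap, Polynomial.eval_C]]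
    have : (VecGrp.ptMap (AlgHom.id k K) : VecGrp.pt k K ⟶ VecGrp.pt k K) = 𝟙 _ :=
      Over.OverMorphism.ext (Spec.map_id _)
    rw [this, Category.id_comp]
  rw [hgres] at h
  exact h.symm

/-- Fixedness can be tested on points with values in fields, for a reduced group. -/
theorem isFixedPt_of_fields [IsReduced G.left] (x : 𝟙_ (Over (Spec (CommRingCat.of k))) ⟶ X)
    (hx : ∀ (K : Type u) [Field K] [Algebra k K] (g : VecGrp.pt k K ⟶ G),
      lift g (toUnit _ ≫ x) ≫ a.act = toUnit _ ≫ x) : a.IsFixedPt x := by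
  let s : G ⟶ X := lift (𝟙 G) (toUnit G ≫ x) ≫ a.act
  have key : s = toUnit G ≫ x := by
    apply Over.OverMorphism.ext
    let E := pullback.fst (pullback.lift s.left (toUnit G ≫ x).left (by rw [Over.w, Over.w]) :
      G.left ⟶ pullback X.hom X.hom) (pullback.diagonal X.hom)
    haveI : IsClosedImmersion E := inferInstance
    haveI : Surjective E := ⟨fun z => by
      obtain ⟨φ, hφ⟩ := Spec.map_surjective (G.left.fromSpecResidueField z ≫ G.hom)
      letI : Algebra k (G.left.residueField z) := φ.hom.toAlgebra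
      let g : VecGrp.pt k (G.left.residueField z) ⟶ G := Over.homMk (G.left.fromSpecResidueField z) hφ.symm
      have h : g ≫ s = g ≫ toUnit G ≫ x := by
        rw [← Category.assoc g, comp_lift, Category.comp_id, ← Category.assoc g, toUnit_unique (g ≫ toUnit G) (toUnit _),
          hx]
      have h' : G.left.fromSpecResidueField z ≫ s.left = G.left.fromSpecResidueField z ≫ (toUnit G ≫ x).left :=
        congrArg CommaMorphism.left h
      refine ⟨pullback.lift (G.left.fromSpecResidueField z) (G.left.fromSpecResidueField z ≫ s.left) ?_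
        (IsLocalRing.closedPoint _), ?_⟩
      · apply pullback.hom_ext <;> simp [h']
      · rw [← Scheme.Hom.comp_apply, pullback.lift_fst, Scheme.fromSpecResidueField_apply]⟩
    haveI : IsIso E := isIso_of_isClosedImmersion_of_surjective E
    rw [← cancel_epi E]
    have h := pullback.condition (f := (pullback.lift s.left (toUnit G ≫ x).left (by rw [Over.w, Over.w]) :
      G.left ⟶ pullback X.hom X.hom)) (g := pullback.diagonal X.hom)
    have h1 := congrArg (· ≫ pullback.fst X.hom X.hom) h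
    have h2 := congrArg (· ≫ pullback.snd X.hom X.hom) h
    simp only [Category.assoc, pullback.lift_fst, pullback.lift_snd, pullback.diagonal_fst, pullback.diagonal_snd,
      Category.comp_id] at h1 h2
    exact h1.trans h2.symm
  intro T g
  have h := congrArg (g ≫ ·) key
  simp only [s] at h
  rw [← Category.assoc, comp_lift, Category.comp_id, ← Category.assoc, toUnit_unique (g ≫ toUnit G) (toUnit T)] at h
  exact h

end Fixed

section Coordinates

variable {A B : Type u} [CommRing A] [Algebra k A] [CommRing B] [Algebra k B]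

theorem appTop_ptMap (φ : A →ₐ[k] B) (r : Γ((VecGrp.pt k A).left, ⊤)) :
    (Scheme.ΓSpecIso (CommRingCat.of B)).hom.hom ((VecGrp.ptMap φ).left.appTop.hom r) =
      φ ((Scheme.ΓSpecIso (CommRingCat.of A)).hom.hom r) :=
  congrArg (fun t => t.hom r) (Scheme.ΓSpecIso_naturality (CommRingCat.ofHom φ.toRingHom))

/-- The coordinate of a point of the additive group. -/
def gaVal (x : VecGrp.pt k A ⟶ Red.Ga (Spec (CommRingCat.of k))) : A :=
  (Scheme.ΓSpecIso (CommRingCat.of A)).hom.hom (Red.gaFn x)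

theorem gaVal_ext {x y : VecGrp.pt k A ⟶ Red.Ga (Spec (CommRingCat.of k))} (h : gaVal x = gaVal y) : x = y :=
  BGaNotS.gaPt_ext ((Scheme.ΓSpecIso (CommRingCat.of A)).commRingCatIsoToRingEquiv.injective h)

theorem gaVal_comp (φ : A →ₐ[k] B) (x : VecGrp.pt k A ⟶ Red.Ga (Spec (CommRingCat.of k))) :
    gaVal (VecGrp.ptMap φ ≫ x) = φ (gaVal x) := by
  rw [gaVal, BGaNotS.gaFn_comp]
  exact appTop_ptMap φ _

theorem gaVal_mul (x y : VecGrp.pt k A ⟶ Red.Ga (Spec (CommRingCat.of k))) :
    gaVal (x * y) = gaVal x + gaVal y := by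
  rw [gaVal, BGaNotS.gaFn_mul]; exact map_add _ _ _

theorem exists_gaVal (b : A) : ∃ x : VecGrp.pt k A ⟶ Red.Ga (Spec (CommRingCat.of k)), gaVal x = b :=
  ⟨BGaNotS.gaPt ((Scheme.ΓSpecIso (CommRingCat.of A)).inv.hom b), by
    rw [gaVal, BGaNotS.gaFn_gaPt]
    exact congrArg (fun t => t.hom b) (Scheme.ΓSpecIso (CommRingCat.of A)).inv_hom_id⟩

/-- The coordinate of a point of the multiplicative group. -/
def gmVal (x : VecGrp.pt k A ⟶ Red.Gm (Spec (CommRingCat.of k))) : A :=
  (Scheme.ΓSpecIso (CommRingCat.of A)).hom.hom (Red.gmFn x)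

theorem isUnit_gmVal (x : VecGrp.pt k A ⟶ Red.Gm (Spec (CommRingCat.of k))) : IsUnit (gmVal x) :=
  (GmPts.isUnit_gmFn x).map _

theorem gmVal_ext {x y : VecGrp.pt k A ⟶ Red.Gm (Spec (CommRingCat.of k))} (h : gmVal x = gmVal y) : x = y :=
  GmPts.gmFn_injective ((Scheme.ΓSpecIso (CommRingCat.of A)).commRingCatIsoToRingEquiv.injective h)

theorem gmVal_comp (φ : A →ₐ[k] B) (x : VecGrp.pt k A ⟶ Red.Gm (Spec (CommRingCat.of k))) :
    gmVal (VecGrp.ptMap φ ≫ x) = φ (gmVal x) := by
  rw [gmVal, GmPts.gmFn_comp]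
  exact appTop_ptMap φ _

theorem gmVal_mul (x y : VecGrp.pt k A ⟶ Red.Gm (Spec (CommRingCat.of k))) :
    gmVal (x * y) = gmVal x * gmVal y := by
  rw [gmVal, GmPts.gmFn_mul]; exact map_mul _ _ _

theorem exists_gmVal (b : Aˣ) : ∃ x : VecGrp.pt k A ⟶ Red.Gm (Spec (CommRingCat.of k)), gmVal x = b :=
  ⟨GmPts.ptOfUnit (Units.map (Scheme.ΓSpecIso (CommRingCat.of A)).inv.hom.toMonoidHom b), by
    rw [gmVal, GmPts.gmFn_ptOfUnit]
    exact congrArg (fun t => t.hom (b : A)) (Scheme.ΓSpecIso (CommRingCat.of A)).inv_hom_id⟩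

/-- Translations of the additive group near infinity. -/
theorem infty_ga :
    ∃ u₀ : VecGrp.pt k (F k) ⟶ Red.Ga (Spec (CommRingCat.of k)),
      ∀ (K : Type u) [Field K] [Algebra k K] (g : VecGrp.pt k K ⟶ Red.Ga (Spec (CommRingCat.of k))),
      ∃ v : (O K)ˣ, VecGrp.ptMap (substF (k := k) K v) ≫ u₀ =
        (VecGrp.ptMap (IsScalarTower.toAlgHom k K (F K)) ≫ g) * (VecGrp.ptMap (substF (k := k) K 1) ≫ u₀) := by
  obtain ⟨u₀, hu₀⟩ := exists_gaVal (k := k) ((τ k)⁻¹ : F k)
  refine ⟨u₀, fun K _ _ g => ?_⟩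
  let c := gaVal g
  have hw : IsUnit (1 + algebraMap K (O K) c * algebraMap K[X] (O K) X) := by
    apply isUnit_of_res (k := k)
    rw [map_add, map_one, map_mul, res_algebraMap, Polynomial.eval_X, mul_zero, add_zero]
    exact one_ne_zero
  refine ⟨hw.unit⁻¹, gaVal_ext ?_⟩
  rw [gaVal_mul, gaVal_comp, gaVal_comp, gaVal_comp, hu₀, substF_inv_tau, substF_inv_tau, _root_.inv_inv,
    _root_.inv_one, Units.val_one, map_one, _root_.mul_one, IsUnit.unit_spec, map_add, map_one, map_mul,
    IsScalarTower.toAlgHom_apply, ← IsScalarTower.algebraMap_apply K (O K) (F K)]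
  show (τ K)⁻¹ * (1 + algebraMap K (F K) c * τ K) = algebraMap K (F K) c + (τ K)⁻¹
  field_simp [τ_ne_zero K]
  ring

/-- Translations of the multiplicative group near infinity. -/
theorem infty_gm :
    ∃ u₀ : VecGrp.pt k (F k) ⟶ Red.Gm (Spec (CommRingCat.of k)),
      ∀ (K : Type u) [Field K] [Algebra k K] (g : VecGrp.pt k K ⟶ Red.Gm (Spec (CommRingCat.of k))),
      ∃ v : (O K)ˣ, VecGrp.ptMap (substF (k := k) K v) ≫ u₀ =
        (VecGrp.ptMap (IsScalarTower.toAlgHom k K (F K)) ≫ g) * (VecGrp.ptMap (substF (k := k) K 1) ≫ u₀) := by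
  obtain ⟨u₀, hu₀⟩ := exists_gmVal (k := k) (Units.mk0 ((τ k)⁻¹ : F k) (inv_ne_zero (τ_ne_zero k)))
  refine ⟨u₀, fun K _ _ g => ?_⟩
  refine ⟨((isUnit_gmVal g).map (algebraMap K (O K))).unit⁻¹, gmVal_ext ?_⟩
  rw [gmVal_mul, gmVal_comp, gmVal_comp, gmVal_comp, hu₀, Units.val_mk0, substF_inv_tau, substF_inv_tau,
    _root_.inv_inv, _root_.inv_one, Units.val_one, map_one, _root_.mul_one, IsUnit.unit_spec,
    ← IsScalarTower.algebraMap_apply K (O K) (F K), IsScalarTower.toAlgHom_apply]
  ring

end Coordinates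

end Groth.Agent.Chev.LineFixed
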