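import Groth.Agent.Chev.NonAffine
import Groth.Agent.Chev.Component
import Groth.Agent.Chev.TorusTheory
import Groth.Agent.GrpField.SurjSmooth
import Groth.Agent.GrpField.Kernel

/-!
# Images of maximal tori under surjective homomorphisms of algebraic groups

Given a torus `R` containing the image, the identity component of the reduced preimage of `R` still maps onto `R`,
and so does its affine part, whose maximal tori have maximal image.
-/

set_option autoImplicit false
set_option linter.style.haveILetI false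
set_option backward.isDefEq.respectTransparency false
set_option maxHeartbeats 1000000

universe u

noncomputable section

open CategoryTheory Limits MonoidalCategory CartesianMonoidalCategory MonObj GrpObj AlgebraicGeometry
open scoped CategoryTheory.Obj

namespace Groth.Agent.Chev.MaxTorusImage

open Groth.Agent.Chev Groth.Agent.Chev.Borel

variable {k : Type u} [Field k] [IsAlgClosed k]

/-- An open subgroup of a connected group surjects. -/
theorem surjective_component {H R H₀ : Over (Spec (CommRingCat.of k))} [GrpObj H] [GrpObj R] [GrpObj H₀]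
    [LocallyOfFiniteType H.hom] [QuasiCompact H.hom] [LocallyOfFiniteType R.hom] [QuasiCompact R.hom]
    [ConnectedSpace R.left] [IsReduced R.left] (h : H ⟶ R) [IsMonHom h] [Surjective h.left]
    (c : H₀ ⟶ H) [IsMonHom c] (hc : IsOpen (Set.range c.left)) : Surjective (c ≫ h).left := by
  haveI : IsSeparated R.hom := GrpField.isSeparated_hom R
  haveI : QuasiCompact (h.left ≫ R.hom) := by rw [Over.w h]; infer_instance
  haveI : QuasiCompact h.left := QuasiCompact.of_comp h.left R.hom
  haveI : Flat h.left := GrpField.flat_of_surjective_reduced (f := h)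
  haveI : LocallyOfFiniteType (h.left ≫ R.hom) := by rw [Over.w h]; infer_instance
  haveI : LocallyOfFiniteType h.left := locallyOfFiniteType_of_comp h.left R.hom
  haveI : IsLocallyNoetherian R.left := LocallyOfFiniteType.isLocallyNoetherian R.hom
  haveI : LocallyOfFinitePresentation h.left := inferInstance
  have hopen : IsOpen (Set.range (c ≫ h).left) := by
    rw [Over.comp_left, Scheme.Hom.comp_base, TopCat.coe_comp, Set.range_comp]
    exact h.left.isOpenMap _ hc
  have hsub := GrpField.isSubgroupSet_range (c ≫ h)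
  have hclopen : IsClopen (Set.range (c ≫ h).left) := ⟨hsub.isClosed_of_isOpen hopen, hopen⟩
  exact ⟨Set.range_eq_univ.1 (hclopen.eq_univ ⟨_, η[H₀].left (IsLocalRing.closedPoint k), rfl⟩)⟩

/-- The image of a maximal torus of a connected group in a torus onto which the group surjects is everything. -/
theorem surjective_torus_of_connected {H T R : Over (Spec (CommRingCat.of k))} [GrpObj H] [GrpObj T] [GrpObj R]
    [Smooth H.hom] [QuasiCompact H.hom] [ConnectedSpace H.left] (i : T ⟶ H) (hi : AGF.IsMaxTorus i)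
    (hR : Red.IsTorus R) (h : H ⟶ R) [IsMonHom h] [Surjective h.left] {T' : Over (Spec (CommRingCat.of k))}
    [GrpObj T'] (hT' : Red.IsTorus T') (v : T ⟶ T') [Surjective v.left] (f : T' ⟶ R) [IsMonHom f] [Mono f]
    (hv : v ≫ f = i ≫ h) : IsIso f := by
  haveI := hi.1; haveI := hi.2.1
  haveI := smooth_of_isTorus hR
  haveI := connectedSpace_of_isTorus hR
  haveI := isAffine_of_isTorus hR
  haveI := smooth_of_isTorus hT'
  haveI := isAffine_of_isTorus hT'
  haveI : IsReduced T'.left := SmoothRed.isReduced_of_smooth_scheme T'.hom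
  obtain ⟨L, hL, l, A, hA, qA, hlm, hlc, hla, hls, hlcon, -, hqm, hqs, -, hker, hAp, -, -⟩ := exists_structure H
  haveI := hlm; haveI := hlc; haveI := hla; haveI := hls; haveI := hlcon; haveI := hqm; haveI := hqs; haveI := hAp
  haveI : Mono l := GrpField.SchImg.mono_of_isClosedImmersion l
  obtain ⟨hQ, D, hD, d, hρm, hρf, hρs, hρl, hQl, hdm, hdc, hdk, hanti, hDl, hDq⟩ := exists_anti_kernel H
  letI := hQ
  haveI := hρm; haveI := hdm; haveI := hdc; haveI := hDl; haveI := hDq
  have hmax : ∀ (M' : Over (Spec (CommRingCat.of k))) [GrpObj M'] [LocallyOfFiniteType M'.hom] [QuasiCompact M'.hom]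
      (j' : M' ⟶ H) [IsMonHom j'] [IsClosedImmersion j'.left], IsAnti M' → ∃ g : M' ⟶ D, g ≫ d = j' :=
    fun M' _ _ _ j' _ _ h => ⟨hdk.lift j' (toUnit _) (by rw [eq_one_of_anti h (j' ≫ AffHull.toHull H)]; rfl),
      hdk.lift_fst _ _ _⟩
  haveI hmul : Surjective ((l ⊗ₘ d) ≫ μ[H]).left := surjective_mul_anti l qA hker d hmax
  haveI : Surjective (l ≫ h).left := by
    have e : ((l ⊗ₘ d) ≫ μ[H]) ≫ h = fst L D ≫ l ≫ h := by
      rw [← Category.id_comp ((l ⊗ₘ d) ≫ μ[H]), comp_tensor_mul, MonObj.mul_comp, Category.id_comp, Category.id_comp,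
        Category.assoc, Category.assoc, eq_one_of_anti hanti (d ≫ h), MonObj.comp_one, _root_.mul_one]
    haveI : Surjective ((fst L D).left ≫ (l ≫ h).left) := by
      rw [← Over.comp_left, ← e, Over.comp_left]; infer_instance
    exact Surjective.of_comp (fst L D).left _
  haveI := smooth_of_isTorus hi.2.2.1
  haveI := isAffine_of_isTorus hi.2.2.1
  haveI := connectedSpace_of_isTorus hi.2.2.1
  obtain ⟨t, ht⟩ := exists_factor_affPart hker i
  haveI : IsMonHom t := MTSplit.isMonHom_of_comp_mono t l i ht
  haveI : Mono (t ≫ l) := by rw [ht]; infer_instance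
  haveI : Mono t := mono_of_mono t l
  have htmax : AGF.IsMaxTorus t := ⟨inferInstance, inferInstance, hi.2.2.1, fun T₁ _ j _ _ f₁ hT₁ hf₁ =>
    hi.2.2.2 T₁ (j ≫ l) f₁ hT₁ (by rw [← Category.assoc, hf₁, ht])⟩
  haveI : QuasiCompact T'.hom := inferInstance
  haveI : QuasiCompact (f.left ≫ R.hom) := by rw [Over.w f]; infer_instance
  haveI : QuasiCompact f.left := QuasiCompact.of_comp f.left R.hom
  haveI : Subsingleton (Spec (CommRingCat.of k)) := inferInstanceAs (Subsingleton (PrimeSpectrum k))
  haveI : IsClosedImmersion f.left := GrpField.isClosedImmersion_of_mono f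
  have hf := Groth.Agent.Chev.Borel.isMaxTorus_image (l ≫ h) t htmax f v (by rw [hv, reassoc_of% ht])
  exact hf.2.2.2 R (𝟙 R) f hR (Category.comp_id _)

/-- **The image of a maximal torus under a surjective homomorphism is a maximal torus.** -/
theorem isMaxTorus_image {G G' T T' : Over (Spec (CommRingCat.of k))} [GrpObj G] [GrpObj G'] [GrpObj T] [GrpObj T']
    [LocallyOfFiniteType G.hom] [QuasiCompact G.hom] [LocallyOfFiniteType G'.hom] [QuasiCompact G'.hom]
    (u : G ⟶ G') [IsMonHom u] [Surjective u.left] (i : T ⟶ G) (hi : AGF.IsMaxTorus i) (i' : T' ⟶ G') [IsMonHom i']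
    [Mono i'] (hT' : Red.IsTorus T') (v : T ⟶ T') [Surjective v.left] (hv : v ≫ i' = i ≫ u) :
    AGF.IsMaxTorus i' := by
  refine ⟨inferInstance, inferInstance, hT', fun R _ j _ _ f hR hf => ?_⟩
  haveI := hi.1; haveI := hi.2.1
  haveI : IsMonHom f := MTSplit.isMonHom_of_comp_mono f j i' hf
  haveI : Mono (f ≫ j) := by rw [hf]; infer_instance
  haveI : Mono f := mono_of_mono f j
  haveI := smooth_of_isTorus hR
  haveI := connectedSpace_of_isTorus hR
  haveI := isAffine_of_isTorus hR
  haveI : IsReduced R.left := SmoothRed.isReduced_of_smooth_scheme R.hom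
  haveI : Subsingleton (Spec (CommRingCat.of k)) := inferInstanceAs (Subsingleton (PrimeSpectrum k))
  haveI : IsSeparated G'.hom := GrpField.isSeparated_hom G'
  haveI : IsSeparated G.hom := GrpField.isSeparated_hom G
  haveI : QuasiCompact R.hom := inferInstance
  haveI : QuasiCompact (j.left ≫ G'.hom) := by rw [Over.w j]; infer_instance
  haveI : QuasiCompact j.left := QuasiCompact.of_comp j.left G'.hom
  haveI : IsClosedImmersion j.left := GrpField.isClosedImmersion_of_mono j
  -- the preimage of `R`
  let P : Over (Spec (CommRingCat.of k)) := Over.mk (pullback.fst u.left j.left ≫ G.hom)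
  let iP : P ⟶ G := Over.homMk (pullback.fst u.left j.left) rfl
  let p : P ⟶ R := Over.homMk (pullback.snd u.left j.left) (by
    show pullback.snd u.left j.left ≫ R.hom = pullback.fst u.left j.left ≫ G.hom
    rw [← Over.w j, ← pullback.condition_assoc, Over.w u])
  haveI : IsClosedImmersion iP.left := inferInstanceAs (IsClosedImmersion (pullback.fst u.left j.left))
  haveI : Mono iP := GrpField.SchImg.mono_of_isClosedImmersion iP
  have hp : iP ≫ u = p ≫ j := Over.OverMorphism.ext pullback.condition
  have hsq : IsPullback iP p u j := by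
    refine IsPullback.mk' hp (fun T φ φ' e₁ _ => (cancel_mono iP).1 e₁) fun T a b e => ?_
    refine ⟨Over.homMk (pullback.lift a.left b.left (congrArg (fun x => x.left) e)) ?_,
      Over.OverMorphism.ext (pullback.lift_fst _ _ _), Over.OverMorphism.ext (pullback.lift_snd _ _ _)⟩
    show pullback.lift _ _ _ ≫ pullback.fst _ _ ≫ G.hom = _
    rw [pullback.lift_fst_assoc, Over.w]
  haveI : Surjective p.left := MorphismProperty.pullback_snd _ _ ‹Surjective u.left›
  obtain ⟨hPg, hPm⟩ := GrpField.SchImg.exists_grpObj_of_div iP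
    ⟨hsq.lift η[G] η[R] (by rw [IsMonHom.one_hom, IsMonHom.one_hom]), hsq.lift_fst _ _ _⟩
    fun T a b => ⟨hsq.lift ((a ≫ iP)⁻¹ * (b ≫ iP)) ((a ≫ p)⁻¹ * (b ≫ p)) (by
      rw [MonObj.mul_comp, GrpObj.inv_comp, MonObj.mul_comp, GrpObj.inv_comp]
      simp only [Category.assoc, hp]), hsq.lift_fst _ _ _⟩
  haveI := hPm
  haveI : IsMonHom (p ≫ j) := by rw [← hp]; infer_instance
  haveI : IsMonHom p := MTSplit.isMonHom_of_comp_mono p j (p ≫ j) rfl
  haveI : LocallyOfFiniteType P.hom := by rw [← Over.w iP]; infer_instance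
  haveI : QuasiCompact P.hom := by rw [← Over.w iP]; infer_instance
  obtain ⟨P₁, hP₁, r, hr, hrc, hrs, hP₁s⟩ := exists_red_group P
  haveI := hr; haveI := hrc; haveI := hrs; haveI := hP₁s
  haveI : QuasiCompact P₁.hom := by rw [← Over.w r]; infer_instance
  obtain ⟨H, hHg, c, hcm, hcc, hHs, hirr, hcr⟩ := exists_component P₁
  haveI := hcm; haveI := hcc; haveI := hHs; haveI := hirr
  haveI : QuasiCompact H.hom := by rw [← Over.w c]; infer_instance
  haveI : Mono c := GrpField.SchImg.mono_of_isClosedImmersion c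
  haveI : Mono r := GrpField.SchImg.mono_of_isClosedImmersion r
  haveI : ConnectedSpace H.left := inferInstance
  let h := c ≫ r ≫ p
  haveI : IsMonHom h := inferInstanceAs (IsMonHom (c ≫ r ≫ p))
  haveI : Surjective (r ≫ p).left := inferInstanceAs (Surjective (r.left ≫ p.left))
  haveI : IsLocallyNoetherian P₁.left := LocallyOfFiniteType.isLocallyNoetherian P₁.hom
  haveI : CompactSpace P₁.left := QuasiCompact.compactSpace_of_compactSpace P₁.hom
  haveI : IsNoetherian P₁.left := {}
  haveI : Surjective h.left := surjective_component (r ≫ p) c (by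
    rw [hcr]; exact Groth.Agent.LocNoethTop.isOpen_connectedComponent_of_noetherian _)
  -- the torus lies in the identity component
  haveI := smooth_of_isTorus hi.2.2.1
  haveI := connectedSpace_of_isTorus hi.2.2.1
  haveI : IsReduced T.left := SmoothRed.isReduced_of_smooth_scheme T.hom
  let t₀ : T ⟶ P := hsq.lift i (v ≫ f) (by rw [Category.assoc, hf, hv])
  have ht₀ : t₀ ≫ iP = i := hsq.lift_fst _ _ _
  have ht₀p : t₀ ≫ p = v ≫ f := hsq.lift_snd _ _ _
  haveI : IsMonHom t₀ := MTSplit.isMonHom_of_comp_mono t₀ iP i ht₀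
  obtain ⟨t₁, ht₁⟩ := Chev.exists_lift_range t₀ r (by
    rw [Set.range_eq_univ.2 r.left.surjective]; exact Set.subset_univ _)
  haveI : IsMonHom t₁ := MTSplit.isMonHom_of_comp_mono t₁ r t₀ ht₁
  obtain ⟨t, ht⟩ := Groth.Agent.Chev.Borel.exists_factor_component hcr t₁
  haveI : IsMonHom t := MTSplit.isMonHom_of_comp_mono t c t₁ ht
  have hti : t ≫ c ≫ r ≫ iP = i := by rw [reassoc_of% ht, reassoc_of% ht₁, ht₀]
  haveI : Mono (t ≫ c ≫ r ≫ iP) := by rw [hti]; infer_instance
  haveI : Mono t := mono_of_mono t (c ≫ r ≫ iP)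
  have htmax : AGF.IsMaxTorus t := ⟨inferInstance, inferInstance, hi.2.2.1, fun T₁ _ j₁ _ _ f₁ hT₁ hf₁ =>
    hi.2.2.2 T₁ (j₁ ≫ c ≫ r ≫ iP) f₁ hT₁ (by rw [← Category.assoc, hf₁, hti])⟩
  exact surjective_torus_of_connected t htmax hR h hT' v f (by
    simp only [h]
    rw [reassoc_of% ht, reassoc_of% ht₁, ht₀p])

end Groth.Agent.Chev.MaxTorusImage
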