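import Groth.Agent.MTBridge.ExtCentral

/-!
# Rigidity of homomorphisms of groups of multiplicative type

A family of homomorphisms between groups of multiplicative type parametrised by a connected scheme
with a point over a field is trivial as soon as it is trivial at that point.
-/

set_option autoImplicit false
set_option linter.style.haveILetI false
set_option backward.isDefEq.respectTransparency false
set_option maxHeartbeats 800000
set_option synthInstance.maxHeartbeats 400000

universe u

open CategoryTheory Limits MonoidalCategory CartesianMonoidalCategory AlgebraicGeometry Opposite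
open Groth.Agent.MTBridge
open scoped CategoryTheory.Obj MonObj

noncomputable section

namespace Groth.Agent.Chev.MultRigid

variable {S : Scheme.{u}}

/-- The clopen locus where a family of homomorphisms between groups of multiplicative type is trivial. -/
theorem exists_trivial_locus {E H H' : Over S} [GrpObj H] [GrpObj H'] (hH : SGA3x.IsMultTypeFT H)
    (hH' : SGA3x.IsMultTypeFT H') (d : H ⊗ E ⟶ H')
    (hd : ∀ (X : Over S) (a b : X ⟶ H) (e : X ⟶ E), lift (a * b) e ≫ d = (lift a e ≫ d) * (lift b e ≫ d)) :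
    ∃ L : E.left.Opens, IsClosed (L : Set E.left) ∧
      (∀ (X : Over S) (e : X ⟶ E), Set.range e.left ⊆ (L : Set E.left) →
        ∀ a : X ⟶ H, lift a e ≫ d = 1) ∧
      ∀ (K : Type u) [Field K] (e : Spec (CommRingCat.of K) ⟶ E.left),
        (∀ (X : Over S) (x : X.left ⟶ Spec (CommRingCat.of K)) (hx : x ≫ e ≫ E.hom = X.hom) (a : X ⟶ H),
          lift a (Over.homMk (U := X) (x ≫ e) (by rw [Category.assoc, hx]) : X ⟶ E) ≫ d = 1) →
        ∀ p, e p ∈ L := by
  let j : E.left ⟶ S := E.hom
  let P : Over E.left := Red.bc j H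
  obtain ⟨a₀, ha₀⟩ := exists_toBC' j (𝟙 P)
  let x₀ : (Over.map j).obj P ⟶ E := Over.homMk P.hom rfl
  let P' : Over E.left := Red.bc j H'
  let u : P ⟶ P' := toBC j (lift a₀ x₀ ≫ d)
  have hu : ∀ (Y : Over E.left) (a : (Over.map j).obj Y ⟶ H),
      toBC j a ≫ u = toBC j (lift a (Over.homMk Y.hom rfl : (Over.map j).obj Y ⟶ E) ≫ d) := by
    intro Y a
    show toBC j a ≫ toBC j (lift a₀ x₀ ≫ d) = _
    rw [← toBC_naturality, ← Category.assoc, comp_lift]
    have h1 : (Over.map j).map (toBC j a) ≫ a₀ = a := by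
      apply toBC_inj j
      rw [toBC_naturality, ha₀, Category.comp_id]
    have h2 : (Over.map j).map (toBC j a) ≫ x₀ = (Over.homMk Y.hom rfl : (Over.map j).obj Y ⟶ E) :=
      Over.OverMorphism.ext (Over.w (toBC j a))
    rw [h1, h2]
  haveI : IsMonHom u := isMonHom_of_points u fun Y a b => by
    obtain ⟨a, rfl⟩ := exists_toBC' j a
    obtain ⟨b, rfl⟩ := exists_toBC' j b
    rw [← toBC_mul, hu, hu, hu, hd, toBC_mul]
  haveI := isAffineHom H' hH'
  haveI := Groth.Agent.MTFT.locallyOfFiniteType H' hH'
  haveI : IsSeparated P'.hom := MorphismProperty.pullback_snd H'.hom j inferInstance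
  haveI : LocallyOfFiniteType P'.hom := MorphismProperty.pullback_snd H'.hom j inferInstance
  obtain ⟨U, hUc, hUiff, hU1⟩ := exists_clopen_trivial P P' (isMultTypeFT_bc H j hH) (Or.inr inferInstance) u
  refine ⟨U, hUc, fun X e hr a => ?_, fun K _ e he p => ?_⟩
  · have hle : Set.range e.left ⊆ Set.range U.ι := by rw [Scheme.Opens.range_ι]; exact hr
    let c := IsOpenImmersion.lift U.ι e.left hle
    have hc : c ≫ U.ι = e.left := IsOpenImmersion.lift_fac _ _ _
    have h1 : (Over.pullback e.left).map u = 1 := by rw [← hc]; exact map_eq_one_comp u U.ι c hU1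
    rw [map_eq_one_iff u (IsPullback.of_hasPullback P.hom e.left)] at h1
    let ε : (Over.map j).obj (Over.mk e.left) ≅ X := Over.isoMk (Iso.refl _) (by simpa [j] using (Over.w e).symm)
    have h2 : toBC j (ε.hom ≫ a) ≫ u = toBC j (ε.hom ≫ a) ≫ (1 : P ⟶ P') := by
      apply Over.OverMorphism.ext
      have h3 := congrArg (fun k => pullback.lift (toBC j (ε.hom ≫ a)).left (𝟙 X.left) (f := P.hom) (g := e.left)
        ((Over.w (toBC j (ε.hom ≫ a))).trans (Category.id_comp _).symm) ≫ k) h1
      simp only [pullback.lift_fst_assoc] at h3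
      rw [Over.comp_left, Over.comp_left]
      exact h3
    rw [MonObj.comp_one, hu] at h2
    have h4 : toBC j (1 : (Over.map j).obj (Over.mk e.left) ⟶ H') = 1 :=
      mul_eq_left.1 (show toBC j (1 : _ ⟶ H') * toBC j 1 = toBC j 1 by rw [← toBC_mul, _root_.one_mul])
    rw [← h4] at h2
    have h5 := toBC_inj j h2
    have h6 : (Over.homMk (Over.mk e.left).hom rfl : (Over.map j).obj (Over.mk e.left) ⟶ E) = ε.hom ≫ e := by
      apply Over.OverMorphism.ext
      simp [ε]
    rw [h6, ← comp_lift, Category.assoc, ← MonObj.comp_one ε.hom] at h5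
    exact (cancel_epi ε.hom).1 h5
  · rw [hUiff]
    -- triviality over the field
    have hK : (Over.pullback e).map u = 1 := by
      rw [map_eq_one_iff u (IsPullback.of_hasPullback P.hom e)]
      let Y : Over E.left := Over.mk (pullback.snd P.hom e ≫ e)
      let y : Y ⟶ P := Over.homMk (pullback.fst P.hom e) pullback.condition
      obtain ⟨a, ha⟩ := exists_toBC' j y
      have h2 : y ≫ u = y ≫ 1 := by
        rw [MonObj.comp_one, ← ha, hu, show (Over.homMk Y.hom rfl : (Over.map j).obj Y ⟶ E) =
          Over.homMk (pullback.snd P.hom e ≫ e) rfl from rfl,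
          he ((Over.map j).obj Y) (pullback.snd P.hom e) (Category.assoc _ _ _).symm a]
        exact mul_eq_left.1 (show toBC j (1 : _ ⟶ H') * toBC j 1 = toBC j 1 by rw [← toBC_mul, _root_.one_mul])
      exact congrArg (fun k => k.left) h2
    -- descend to the residue field
    obtain ⟨c, hc⟩ : ∃ c : Spec (CommRingCat.of K) ⟶ Spec (E.left.residueField (e p)),
        c ≫ E.left.fromSpecResidueField (e p) = e := by
      have hp : p = IsLocalRing.closedPoint K := Subsingleton.elim _ _
      subst hp
      exact ⟨Spec.map (E.left.descResidueField (Scheme.stalkClosedPointTo e)),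
        Scheme.descResidueField_stalkClosedPointTo_fromSpecResidueField K E.left e⟩
    haveI : Flat c := inferInstance
    haveI : Surjective c := inferInstance
    exact map_eq_one_of_ff u (E.left.fromSpecResidueField (e p)) c (by rw [hc]; exact hK)


/-- **Rigidity.** -/
theorem eq_one_of_connected {k : Type u} [Field k] {E H H' : Over (Spec (CommRingCat.of k))} [GrpObj H]
    [GrpObj H'] [ConnectedSpace ↥E.left] (hH : SGA3x.IsMultTypeFT H) (hH' : SGA3x.IsMultTypeFT H')
    (d : H ⊗ E ⟶ H')
    (hd : ∀ (X : Over (Spec (CommRingCat.of k))) (a b : X ⟶ H) (e : X ⟶ E),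
      lift (a * b) e ≫ d = (lift a e ≫ d) * (lift b e ≫ d))
    (e₀ : 𝟙_ (Over (Spec (CommRingCat.of k))) ⟶ E)
    (h₀ : ∀ (X : Over (Spec (CommRingCat.of k))) (a : X ⟶ H), lift a (toUnit X ≫ e₀) ≫ d = 1) :
    ∀ (X : Over (Spec (CommRingCat.of k))) (a : X ⟶ H) (e : X ⟶ E), lift a e ≫ d = 1 := by
  obtain ⟨L, hLc, hL1, hL2⟩ := exists_trivial_locus hH hH' d hd
  let pt₀ : ↥(Spec (CommRingCat.of k)) := IsLocalRing.closedPoint k
  have hmem : e₀.left pt₀ ∈ L := by
    refine hL2 k e₀.left (fun X x hx a => ?_) pt₀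
    have hx' : x = X.hom := by
      rw [← hx, show e₀.left ≫ E.hom = 𝟙 _ from Over.w e₀]
      exact (Category.comp_id x).symm
    have he : (Over.homMk (U := X) (x ≫ e₀.left) (by rw [Category.assoc, hx]) : X ⟶ E) = toUnit X ≫ e₀ := by
      apply Over.OverMorphism.ext
      subst hx'
      rfl
    rw [he]
    exact h₀ X a
  have htop : (L : Set E.left) = Set.univ :=
    IsClopen.eq_univ ⟨hLc, L.2⟩ ⟨_, hmem⟩
  intro X a e
  exact hL1 X e (by rw [htop]; exact Set.subset_univ _) a

/-- Local lifting of points through a faithfully flat quasi-compact morphism. -/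
theorem exists_lift_cover {H Q : Over S} (p : H ⟶ Q) [Flat p.left] [Surjective p.left] [QuasiCompact p.left]
    {T : Over S} (x : T ⟶ Q) :
    ∃ (T' : Over S) (c : T' ⟶ T) (h : T' ⟶ H), Epi c ∧ h ≫ p = c ≫ x := by
  let T' : Over S := Over.mk (pullback.snd p.left x.left ≫ T.hom)
  let c : T' ⟶ T := Over.homMk (pullback.snd p.left x.left) rfl
  let h : T' ⟶ H := Over.homMk (pullback.fst p.left x.left) (by
    show pullback.fst p.left x.left ≫ H.hom = pullback.snd p.left x.left ≫ T.hom
    rw [← Over.w p, ← Category.assoc, pullback.condition, Category.assoc, Over.w x])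
  haveI : Flat c.left := inferInstanceAs (Flat (pullback.snd p.left x.left))
  haveI : Surjective c.left := inferInstanceAs (Surjective (pullback.snd p.left x.left))
  haveI : QuasiCompact c.left := inferInstanceAs (QuasiCompact (pullback.snd p.left x.left))
  refine ⟨T', c, h, ⟨fun a b hab => Over.OverMorphism.ext ((cancel_epi c.left).1 congr(($hab).left))⟩, ?_⟩
  exact Over.OverMorphism.ext pullback.condition

/-- A map constant on the fibres of a faithfully flat quasi-compact morphism factors through it. -/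
theorem exists_desc_fppf {X Y Z : Over S} (q : X ⟶ Y) [Flat q.left] [Surjective q.left] [QuasiCompact q.left]
    (φ : X ⟶ Z) (h : ∀ (T : Over S) (a b : T ⟶ X), a ≫ q = b ≫ q → a ≫ φ = b ≫ φ) :
    ∃ φ' : Y ⟶ Z, q ≫ φ' = φ := by
  have hd : ∀ {T : Scheme.{u}} (g₁ g₂ : T ⟶ X.left), g₁ ≫ q.left = g₂ ≫ q.left →
      g₁ ≫ φ.left = g₂ ≫ φ.left := by
    intro T g₁ g₂ hg
    let T' : Over S := Over.mk (g₁ ≫ X.hom)
    let a : T' ⟶ X := Over.homMk g₁ rfl
    let b : T' ⟶ X := Over.homMk g₂ (by
      show g₂ ≫ X.hom = g₁ ≫ X.hom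
      rw [← Over.w q, ← Category.assoc, ← Category.assoc, hg])
    exact congr(($(h T' a b (Over.OverMorphism.ext hg))).left)
  have hfac : q.left ≫ EffectiveEpi.desc q.left φ.left hd = φ.left := EffectiveEpi.fac _ _ _
  refine ⟨Over.homMk (EffectiveEpi.desc q.left φ.left hd) ?_, Over.OverMorphism.ext hfac⟩
  apply (cancel_epi q.left).mp
  rw [reassoc_of% hfac, Over.w φ, Over.w q]

end Groth.Agent.Chev.MultRigid
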