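import Groth.Agent.Chev.Fit
import Groth.Agent.S0384
import Groth.Agent.GlueSL.Basic
import Groth.Agent.N2Field.Basic
import Groth.Agent.GLinFree.Dim
import Groth.Agent.Curves.Basic

/-!
# A point which escapes from a non-proper scheme along a smooth curve

If a separated scheme of finite type over a field is not proper, then there are a Dedekind domain `B` of
finite type, a maximal ideal `P` and a point with values in the fraction field of `B` which extends over
every prime other than `P` but does not extend over `P`.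
-/

set_option autoImplicit false
set_option backward.isDefEq.respectTransparency false

universe u

open CategoryTheory CategoryTheory.Limits AlgebraicGeometry
open IsLocalRing (closedPoint)

noncomputable section

namespace Groth.Agent.Chev

/-- A closed point in the closure of an open subscheme of an affine scheme of finite type lies on a curve
meeting the open subscheme. -/
theorem exists_curve_prime {A : Type u} [CommRing A] [IsNoetherianRing A] (I : Ideal A) (m : Ideal A) [m.IsMaximal]
    (hIm : I ≤ m) (hcl : ∀ c ∉ m, ∃ q : Ideal A, q.IsPrime ∧ c ∉ q ∧ ¬ I ≤ q) :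
    ∃ q : Ideal A, q.IsPrime ∧ q ≤ m ∧ ∃ a ∈ I, a ∉ q ∧
      ∀ q' : Ideal A, q'.IsPrime → q ≤ q' → q' ≤ m → q' = q ∨ q' = m := by
  classical
  haveI : m.IsPrime := Ideal.IsMaximal.isPrime ‹_›
  let Am := Localization.AtPrime m
  have h0 : ∃ P : Ideal Am, P.IsPrime ∧ ∃ a ∈ I, algebraMap A Am a ∉ P := by
    by_contra h
    push Not at h
    obtain ⟨s, hs⟩ := IsNoetherian.noetherian I
    have hnil : ∀ a ∈ s, ∃ (c : A) (n : ℕ), c ∉ m ∧ c * a ^ n = 0 := fun a ha => by
      have haI : a ∈ I := hs ▸ Submodule.subset_span ha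
      obtain ⟨n, hn⟩ : IsNilpotent (algebraMap A Am a) := by
        rw [nilpotent_iff_mem_prime]
        exact fun P hP => h P hP a haI
      rw [← map_pow] at hn
      obtain ⟨c, hc⟩ := (IsLocalization.map_eq_zero_iff m.primeCompl Am _).1 hn
      exact ⟨c, n, c.2, hc⟩
    choose! c n hc hca using hnil
    obtain ⟨q, hq, hcq, hIq⟩ := hcl (∏ a ∈ s, c a) fun hmem => by
      obtain ⟨a, ha, ha'⟩ := Ideal.IsPrime.prod_mem_iff.1 hmem
      exact hc a ha ha'
    refine hIq (hs ▸ Submodule.span_le.2 fun a ha => ?_)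
    have h1 : c a * a ^ n a ∈ q := by rw [hca a ha]; exact q.zero_mem
    rcases hq.mem_or_mem h1 with h2 | h2
    · exact absurd (Ideal.mem_of_dvd q (Finset.dvd_prod_of_mem c ha) h2) hcq
    · exact hq.mem_of_pow_mem _ h2
  obtain ⟨P, hP, a, haI, haP⟩ := h0
  haveI := hP
  haveI : IsNoetherianRing Am := IsLocalization.isNoetherianRing m.primeCompl Am inferInstance
  obtain ⟨Q, hQ, -, haQ, hmax⟩ := Curves.exists_prime_below_maximal P haP
    ((IsLocalization.AtPrime.to_map_mem_maximal_iff Am m a).2 (hIm haI))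
  haveI := hQ
  refine ⟨Q.comap (algebraMap A Am), inferInstance, fun x hx => ?_, a, haI, haQ, fun q' hq' h1 h2 => ?_⟩
  · exact (IsLocalization.AtPrime.to_map_mem_maximal_iff Am m x).1 (IsLocalRing.le_maximalIdeal hQ.ne_top hx)
  · haveI := hq'
    have hdisj : Disjoint (m.primeCompl : Set A) (q' : Set A) :=
      Set.disjoint_left.2 fun x hx hx' => hx (h2 hx')
    have hq'' : (q'.map (algebraMap A Am)).IsPrime :=
      IsLocalization.isPrime_of_isPrime_disjoint m.primeCompl Am q' hq' hdisj
    have hcm : (q'.map (algebraMap A Am)).comap (algebraMap A Am) = q' :=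
      IsLocalization.under_map_of_isPrime_disjoint m.primeCompl Am hq' hdisj
    have hQle : Q ≤ q'.map (algebraMap A Am) := by
      rw [← IsLocalization.map_under m.primeCompl Am Q]
      exact Ideal.map_mono h1
    rcases hmax _ hq'' hQle with e | e
    · left; rw [← e, hcm]
    · right
      rw [← hcm, e]
      ext x
      exact IsLocalization.AtPrime.to_map_mem_maximal_iff Am m x

variable {k : Type u} [Field k]

/-- An affine variety with only two primes below a closed point is a curve. -/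
theorem krullDimLE_one_of_maximal {R : Type u} [CommRing R] [IsDomain R] [Algebra k R] [Algebra.FiniteType k R]
    (m : Ideal R) [m.IsMaximal] (h : ∀ q : Ideal R, q.IsPrime → q ≤ m → q = ⊥ ∨ q = m) :
    Ring.KrullDimLE 1 R := by
  rw [Ring.krullDimLE_iff, ← GLinFree.height_eq_ringKrullDim (K := k) m]
  refine WithBot.coe_le_coe.2 ?_
  rw [PrimeSpectrum.height_eq_orderHeight ⟨m, Ideal.IsMaximal.isPrime ‹_›⟩, Nat.cast_one]
  refine le_of_le_of_eq (Order.height_le_coe_iff (n := 1).2 fun y hy => ?_) Nat.cast_one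
  rcases h y.asIdeal y.isPrime (le_of_lt hy) with e | e
  · have : Order.height y = 0 := Order.height_eq_zero.2 fun z hz => by
      show y.asIdeal ≤ z.asIdeal
      rw [e]; exact bot_le
    rw [this, Nat.cast_one]; exact zero_lt_one
  · exact absurd (PrimeSpectrum.ext e) hy.ne

/-- A point with values in the fraction field of a smooth curve, defined away from one point where it has no
limit. -/
structure Escape (G : Over (Spec (CommRingCat.of k))) where
  /-- the ring of the curve -/
  B : Type u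
  [commRing : CommRing B]
  [isDomain : IsDomain B]
  [isDedekind : IsDedekindDomain B]
  [algebra : Algebra k B]
  [finiteType : Algebra.FiniteType k B]
  /-- the point without limit -/
  P : Ideal B
  [isMaximal : P.IsMaximal]
  P_ne_bot : P ≠ ⊥
  /-- the point -/
  f : VecGrp.pt k (FractionRing B) ⟶ G
  extends_away : ∀ (R L : Type u) [CommRing R] [IsDomain R] [IsLocalRing R] [Algebra k R] [Field L] [Algebra k L]
    (σ : FractionRing B →ₐ[k] L) (e : R →ₐ[k] L) (σB : B →ₐ[k] R), Function.Injective e →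
    (∀ b, e (σB b) = σ (algebraMap B (FractionRing B) b)) → (IsLocalRing.maximalIdeal R).comap σB ≠ P →
    ∃ x : VecGrp.pt k R ⟶ G, VecGrp.ptMap e ≫ x = VecGrp.ptMap σ ≫ f
  not_extends : ∀ (R L : Type u) [CommRing R] [IsDomain R] [IsLocalRing R] [Algebra k R] [Field L] [Algebra k L]
    (σ : FractionRing B →ₐ[k] L) (e : R →ₐ[k] L) (σB : B →ₐ[k] R), Function.Injective e →
    (∀ b, e (σB b) = σ (algebraMap B (FractionRing B) b)) → (IsLocalRing.maximalIdeal R).comap σB = P →
    ∀ x : VecGrp.pt k R ⟶ G, VecGrp.ptMap e ≫ x ≠ VecGrp.ptMap σ ≫ f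

attribute [instance] Escape.commRing Escape.isDomain Escape.isDedekind Escape.algebra Escape.finiteType
  Escape.isMaximal

/-- The escape attached to a curve in a separated scheme leaving an open subscheme at one point. -/
theorem nonempty_escape_of_curve (G : Over (Spec (CommRingCat.of k))) {Xc : Scheme.{u}} (j : G.left ⟶ Xc)
    [IsOpenImmersion j] (g : Xc ⟶ Spec (CommRingCat.of k)) [IsSeparated g] (hjg : j ≫ g = G.hom)
    (B : Type u) [CommRing B] [IsDomain B] [IsDedekindDomain B] [Algebra k B] [Algebra.FiniteType k B]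
    (h : Spec (CommRingCat.of B) ⟶ Xc) (hg : h ≫ g = Spec.map (CommRingCat.ofHom (algebraMap k B)))
    (P : Ideal B) [hP : P.IsMaximal] (hP0 : P ≠ ⊥) (hout : h ⟨P, hP.isPrime⟩ ∉ Set.range j)
    (hin : ∀ q : PrimeSpectrum B, q.asIdeal ≠ P → h q ∈ Set.range j) : Nonempty (Escape G) := by
  let ι₀ : VecGrp.pt k (FractionRing B) ⟶ VecGrp.pt k B :=
    VecGrp.ptMap (IsScalarTower.toAlgHom k B (FractionRing B))
  have hrange : ∀ {R : Type u} [CommRing R] [IsLocalRing R] (x : Spec (CommRingCat.of R) ⟶ Xc),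
      x (closedPoint R) ∈ Set.range j → Set.range x ⊆ Set.range j := by
    intro R _ _ x hx
    rintro _ ⟨z, rfl⟩
    exact ((IsLocalRing.specializes_closedPoint z).map x.continuous).mem_open j.isOpenEmbedding.isOpen_range hx
  have hgen : Set.range (ι₀.left ≫ h) ⊆ Set.range j := hrange _ (hin _ fun e => hP0 (by
    rw [← e]
    show (IsLocalRing.maximalIdeal (FractionRing B)).comap (algebraMap B (FractionRing B)) = ⊥
    rw [IsLocalRing.maximalIdeal_eq_bot, ← RingHom.ker_eq_comap_bot]
    exact (RingHom.injective_iff_ker_eq_bot _).1 (IsFractionRing.injective B (FractionRing B))))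
  let f : VecGrp.pt k (FractionRing B) ⟶ G := Over.homMk (IsOpenImmersion.lift j (ι₀.left ≫ h) hgen) (by
    show _ ≫ G.hom = _
    rw [← hjg, IsOpenImmersion.lift_fac_assoc, Category.assoc, hg]
    exact Over.w ι₀)
  have hsq : ∀ {R L : Type u} [CommRing R] [Algebra k R] [Field L] [Algebra k L]
      (σ : FractionRing B →ₐ[k] L) (e : R →ₐ[k] L) (σB : B →ₐ[k] R),
      (∀ b, e (σB b) = σ (algebraMap B (FractionRing B) b)) →
      (VecGrp.ptMap e).left ≫ (VecGrp.ptMap σB).left ≫ h = (VecGrp.ptMap σ).left ≫ f.left ≫ j := by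
    intro R L _ _ _ _ σ e σB he
    show _ = _ ≫ IsOpenImmersion.lift j (ι₀.left ≫ h) hgen ≫ j
    rw [IsOpenImmersion.lift_fac]
    show Spec.map _ ≫ Spec.map _ ≫ h = Spec.map _ ≫ Spec.map _ ≫ h
    rw [← Spec.map_comp_assoc, ← Spec.map_comp_assoc]
    congr 2
    ext b
    exact he b
  refine ⟨{ B := B, P := P, P_ne_bot := hP0, f := f, extends_away := ?_, not_extends := ?_ }⟩
  · intro R L _ _ _ _ _ _ σ e σB hei he hne
    have hr : Set.range ((VecGrp.ptMap σB).left ≫ h) ⊆ Set.range j := hrange _ (hin _ hne)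
    let x : VecGrp.pt k R ⟶ G := Over.homMk (IsOpenImmersion.lift j ((VecGrp.ptMap σB).left ≫ h) hr) (by
      show _ ≫ G.hom = _
      rw [← hjg, IsOpenImmersion.lift_fac_assoc, Category.assoc, hg]
      exact Over.w (VecGrp.ptMap σB))
    refine ⟨x, Over.OverMorphism.ext ((cancel_mono j).1 ?_)⟩
    simp only [Over.comp_left, Category.assoc]
    show _ ≫ IsOpenImmersion.lift j _ hr ≫ j = _
    rw [IsOpenImmersion.lift_fac, hsq σ e σB he]
  · intro R L _ _ _ _ _ _ σ e σB hei he heq x hx
    haveI : IsDominant (Spec.map (CommRingCat.ofHom e.toRingHom)) := by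
      refine ⟨?_⟩
      rw [DenseRange]
      exact (PrimeSpectrum.denseRange_comap_iff_ker_le_nilRadical e.toRingHom).2
        (((RingHom.injective_iff_ker_eq_bot e.toRingHom).1 hei).le.trans bot_le)
    letI : (Spec (CommRingCat.of R)).Over (Spec (CommRingCat.of k)) :=
      ⟨Spec.map (CommRingCat.ofHom (algebraMap k R))⟩
    letI : Xc.Over (Spec (CommRingCat.of k)) := ⟨g⟩
    haveI : IsSeparated (Xc ↘ Spec (CommRingCat.of k)) := ‹IsSeparated g›
    haveI : Scheme.Hom.IsOver (x.left ≫ j) (Spec (CommRingCat.of k)) :=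
      ⟨by show (x.left ≫ j) ≫ g = _; rw [Category.assoc, hjg]; exact Over.w x⟩
    haveI : Scheme.Hom.IsOver ((VecGrp.ptMap σB).left ≫ h) (Spec (CommRingCat.of k)) :=
      ⟨by show ((VecGrp.ptMap σB).left ≫ h) ≫ g = _; rw [Category.assoc, hg]; exact Over.w (VecGrp.ptMap σB)⟩
    haveI : IsReduced (VecGrp.pt k R).left := inferInstanceAs (IsReduced (Spec (CommRingCat.of R)))
    have heq2 : x.left ≫ j = (VecGrp.ptMap σB).left ≫ h := by
      refine ext_of_isDominant_of_isSeparated' (Spec (CommRingCat.of k)) (Spec.map (CommRingCat.ofHom e.toRingHom)) ?_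
      show (VecGrp.ptMap e).left ≫ x.left ≫ j = _
      rw [← Category.assoc, ← Over.comp_left, hx, Over.comp_left, Category.assoc]
      exact (hsq σ e σB he).symm
    refine hout ⟨x.left (closedPoint R), ?_⟩
    have h2 := congrArg (fun q => q (closedPoint R)) heq2
    refine Eq.trans h2 (congrArg h (PrimeSpectrum.ext ?_))
    exact heq

/-- A Dedekind domain carrying a curve through a given point leaving an open subscheme only there. -/
theorem exists_dedekind_of_prime {A : Type u} [CommRing A] [Algebra k A] [Algebra.FiniteType k A] (I : Ideal A)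
    (m : Ideal A) [m.IsMaximal] (hIm : I ≤ m) (q : Ideal A) [q.IsPrime] (hqm : q ≤ m) {a : A} (haI : a ∈ I)
    (haq : a ∉ q) (hq : ∀ q' : Ideal A, q'.IsPrime → q ≤ q' → q' ≤ m → q' = q ∨ q' = m) :
    ∃ (B : Type u) (_ : CommRing B) (_ : IsDomain B) (_ : IsDedekindDomain B) (_ : Algebra k B)
      (_ : Algebra.FiniteType k B) (φ : A →ₐ[k] B) (P : Ideal B),
      P.IsMaximal ∧ P ≠ ⊥ ∧ P.comap φ = m ∧ ∀ p : PrimeSpectrum B, p.asIdeal ≠ P → ¬ I ≤ p.asIdeal.comap φ := by
  classical
  haveI : IsNoetherianRing A := Algebra.FiniteType.isNoetherianRing k A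
  let A₁ := A ⧸ q
  let π : A →ₐ[k] A₁ := Ideal.Quotient.mkₐ k q
  have hπ : Function.Surjective (Ideal.Quotient.mk q) := Ideal.Quotient.mk_surjective
  haveI : Algebra.FiniteType k A₁ := Algebra.FiniteType.of_surjective π hπ
  let m₁ : Ideal A₁ := m.map (Ideal.Quotient.mk q)
  have hker : RingHom.ker (Ideal.Quotient.mk q) ≤ m := fun x hx => hqm (Ideal.Quotient.eq_zero_iff_mem.1 hx)
  haveI hm₁ : m₁.IsMaximal := Ideal.IsMaximal.map_of_surjective_of_ker_le hπ hker
  have hcm : m₁.comap (Ideal.Quotient.mk q) = m := by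
    rw [Ideal.comap_map_of_surjective _ hπ, sup_eq_left]
    exact hker
  haveI : Ring.KrullDimLE 1 A₁ := krullDimLE_one_of_maximal (k := k) m₁ fun p hp hpm => by
    have hc : (p.comap (Ideal.Quotient.mk q)) ≤ m := hcm ▸ Ideal.comap_mono hpm
    have hq' : q ≤ p.comap (Ideal.Quotient.mk q) := fun x hx => by
      rw [Ideal.mem_comap, Ideal.Quotient.eq_zero_iff_mem.2 hx]; exact p.zero_mem
    rcases hq _ (Ideal.comap_isPrime _ _) hq' hc with e | e
    · left
      rw [← Ideal.map_comap_of_surjective _ hπ p, e]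
      exact Ideal.map_quotient_self q
    · right
      rw [← Ideal.map_comap_of_surjective _ hπ p, e]
  let K := FractionRing A₁
  let B₀ := integralClosure A₁ K
  haveI : IsDedekindDomain B₀ := GlueSL.isDedekindDomain_integralClosure A₁ K
  haveI : Module.Finite A₁ B₀ := N2Field.finite_integralClosure k A₁ K K
  haveI : Algebra.FiniteType k B₀ := Algebra.FiniteType.trans (S := A₁) inferInstance inferInstance
  haveI : FaithfulSMul A₁ B₀ := (faithfulSMul_iff_algebraMap_injective A₁ B₀).2 fun x y h =>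
    IsFractionRing.injective A₁ K (congrArg Subtype.val h)
  haveI : Algebra.IsIntegral A₁ B₀ := Algebra.IsIntegral.of_finite A₁ B₀
  obtain ⟨P, hPmax, hP⟩ := Ideal.exists_maximal_ideal_liesOver_of_isIntegral (S := B₀) m₁
  have ha0 : algebraMap A₁ B₀ (π a) ≠ 0 := fun e => haq (Ideal.Quotient.eq_zero_iff_mem.1
    ((FaithfulSMul.algebraMap_injective A₁ B₀) (e.trans (map_zero _).symm)))
  have hPcomap : P.comap (algebraMap A₁ B₀) = m₁ := hP.over.symm
  have haP : algebraMap A₁ B₀ (π a) ∈ P := by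
    show π a ∈ P.comap (algebraMap A₁ B₀)
    rw [hPcomap]; exact Ideal.mem_map_of_mem _ (hIm haI)
  -- finitely many other points above the boundary
  have hfin : {p : Ideal B₀ | p.IsPrime ∧ algebraMap A₁ B₀ (π a) ∈ p}.Finite := by
    refine (Ideal.finite_minimalPrimes_of_isNoetherianRing B₀ (Ideal.span {algebraMap A₁ B₀ (π a)})).subset ?_
    rintro p ⟨hp, hap⟩
    refine ⟨⟨hp, (Ideal.span_singleton_le_iff_mem _).2 hap⟩, fun p' hp' hle => le_of_eq ?_⟩
    refine ((Ring.DimensionLEOne.maximalOfPrime (fun h0 => ha0 ?_) hp'.1).eq_of_le hp.ne_top hle).symm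
    have := hp'.2 (Ideal.mem_span_singleton_self _)
    rw [h0, Submodule.mem_bot] at this
    exact this
  have hsep : ∀ p ∈ hfin.toFinset.erase P, ∃ b, b ∈ p ∧ b ∉ P := fun p hp => by
    obtain ⟨hne, hp'⟩ := Finset.mem_erase.1 hp
    obtain ⟨hp1, hp2⟩ := hfin.mem_toFinset.1 hp'
    have hpm : p.IsMaximal := Ring.DimensionLEOne.maximalOfPrime (fun h0 => ha0 (by
      rw [h0, Submodule.mem_bot] at hp2; exact hp2)) hp1
    by_contra h
    push Not at h
    exact hne (hpm.eq_of_le hPmax.ne_top h)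
  choose! c hc hcP using hsep
  let b : B₀ := ∏ p ∈ hfin.toFinset.erase P, c p
  have hbP : b ∉ P := fun h => by
    haveI := hPmax.isPrime
    obtain ⟨p, hp, hp'⟩ := Ideal.IsPrime.prod_mem_iff.1 h
    exact hcP p hp hp'
  have hb0 : b ≠ 0 := fun h => hbP (h ▸ P.zero_mem)
  let B := Localization.Away b
  have hle : Submonoid.powers b ≤ nonZeroDivisors B₀ := powers_le_nonZeroDivisors_of_noZeroDivisors hb0
  haveI : IsDomain B := IsLocalization.isDomain_localization hle
  haveI : IsDedekindDomain B := IsLocalization.isDedekindDomain B₀ hle B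
  haveI : Algebra.FiniteType B₀ B := IsLocalization.finiteType_of_monoid_fg (Submonoid.powers b) B
  haveI : Algebra.FiniteType k B := Algebra.FiniteType.trans (S := B₀) inferInstance inferInstance
  have hdisj : Disjoint (Submonoid.powers b : Set B₀) (P : Set B₀) := Set.disjoint_left.2 fun x hx hx' => by
    obtain ⟨n, rfl⟩ := hx
    exact hbP (hPmax.isPrime.mem_of_pow_mem n hx')
  let P' := P.map (algebraMap B₀ B)
  have hP' : P'.IsPrime := IsLocalization.isPrime_of_isPrime_disjoint (Submonoid.powers b) B P hPmax.isPrime hdisj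
  have hP'c : P'.comap (algebraMap B₀ B) = P :=
    IsLocalization.under_map_of_isPrime_disjoint (Submonoid.powers b) B hPmax.isPrime hdisj
  have hP'0 : P' ≠ ⊥ := fun h => ha0 (by
    have h1 : algebraMap B₀ B (algebraMap A₁ B₀ (π a)) ∈ P' := Ideal.mem_map_of_mem _ haP
    rw [h, Submodule.mem_bot] at h1
    exact IsLocalization.injective B hle (h1.trans (map_zero _).symm))
  refine ⟨B, inferInstance, inferInstance, inferInstance, inferInstance, inferInstance,
    ((IsScalarTower.toAlgHom k B₀ B).comp (IsScalarTower.toAlgHom k A₁ B₀)).comp π, P',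
    Ring.DimensionLEOne.maximalOfPrime hP'0 hP', hP'0, ?_, fun p hp hIp => ?_⟩
  · show ((P'.comap (algebraMap B₀ B)).comap (algebraMap A₁ B₀)).comap (Ideal.Quotient.mk q) = m
    rw [hP'c, hPcomap, hcm]
  · let p₀ := p.asIdeal.comap (algebraMap B₀ B)
    have hp₀ : p₀.IsPrime := Ideal.comap_isPrime _ _
    have hap : algebraMap A₁ B₀ (π a) ∈ p₀ := hIp haI
    have hne : p₀ ≠ P := fun e => hp (by
      rw [← IsLocalization.map_under (Submonoid.powers b) B p.asIdeal]
      exact congrArg (Ideal.map (algebraMap B₀ B)) e)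
    have hmem : p₀ ∈ hfin.toFinset.erase P := Finset.mem_erase.2 ⟨hne, hfin.mem_toFinset.2 ⟨hp₀, hap⟩⟩
    have hbp : algebraMap B₀ B b ∈ p.asIdeal :=
      Ideal.mem_of_dvd p₀ (Finset.dvd_prod_of_mem c hmem) (hc p₀ hmem)
    exact p.isPrime.ne_top (Ideal.eq_top_of_isUnit_mem _ hbp (IsLocalization.Away.algebraMap_isUnit b))

/-- Every non-proper separated scheme of finite type has an escape. -/
theorem nonempty_escape (G : Over (Spec (CommRingCat.of k))) [IsSeparated G.hom] [LocallyOfFiniteType G.hom]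
    [QuasiCompact G.hom] (hG : ¬ IsProper G.hom) : Nonempty (Escape G) := by
  classical
  obtain ⟨Xc, j, g, hj, hjqc, hg, hjg⟩ := S0384.result G.hom
  haveI := hj
  haveI := hjqc
  haveI := hg
  have hncl : ¬ IsClosed (Set.range j) := fun hcl => hG (by
    haveI : IsClosedImmersion j := IsClosedImmersion.of_isPreimmersion j hcl
    rw [← hjg]; infer_instance)
  haveI : IsLocallyNoetherian Xc := LocallyOfFiniteType.isLocallyNoetherian g
  haveI : JacobsonSpace Xc := LocallyOfFiniteType.jacobsonSpace g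
  obtain ⟨y, hy, hycl⟩ := nonempty_inter_closedPoints
    (show (closure (Set.range j) \ Set.range j).Nonempty from Set.diff_nonempty.2 fun h => hncl
      (closure_subset_iff_isClosed.1 h))
    (isClosed_closure.sdiff j.isOpenEmbedding.isOpen_range).isLocallyClosed
  obtain ⟨_, ⟨V, hV, rfl⟩, hyV, -⟩ := Xc.isBasis_affineOpens.exists_subset_of_mem_open (Set.mem_univ y) isOpen_univ
  let A := Γ(Xc, V)
  let φ := Spec.preimage (hV.fromSpec ≫ g)
  letI : Algebra k A := φ.hom.toAlgebra
  haveI : Algebra.FiniteType k A := by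
    have h1 : LocallyOfFiniteType (Spec.map φ) := by rw [Spec.map_preimage]; infer_instance
    rw [HasRingHomProperty.Spec_iff (P := @LocallyOfFiniteType)] at h1
    exact h1
  haveI : IsNoetherianRing A := Algebra.FiniteType.isNoetherianRing k A
  let mp := hV.primeIdealOf ⟨y, hyV⟩
  have hmp : hV.fromSpec mp = y := hV.fromSpec_primeIdealOf ⟨y, hyV⟩
  have hmcl : IsClosed ({mp} : Set (Spec A)) := by
    have : ({mp} : Set (Spec A)) = hV.fromSpec ⁻¹' {y} := by
      rw [← hmp, Set.preimage_image_eq {mp} hV.fromSpec.isOpenEmbedding.injective |>.symm, Set.image_singleton]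
    rw [this]
    exact (mem_closedPoints_iff.1 hycl).preimage hV.fromSpec.continuous
  haveI : mp.asIdeal.IsMaximal := (PrimeSpectrum.isClosed_singleton_iff_isMaximal mp).1 hmcl
  obtain ⟨I, hI⟩ := (PrimeSpectrum.isClosed_iff_zeroLocus_ideal _).1
    ((j.isOpenEmbedding.isOpen_range.preimage hV.fromSpec.continuous).isClosed_compl)
  have hmem : ∀ p : PrimeSpectrum A, hV.fromSpec p ∈ Set.range j ↔ ¬ I ≤ p.asIdeal := fun p => by
    have h := Set.ext_iff.1 hI p
    have h' : ¬ hV.fromSpec p ∈ Set.range j ↔ I ≤ p.asIdeal := h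
    exact ⟨fun hp hI => h'.2 hI hp, fun hI => by_contra fun hp => hI (h'.1 hp)⟩
  have hIm : I ≤ mp.asIdeal := by
    by_contra h
    exact hy.2 (hmp ▸ (hmem mp).2 h)
  have hcl : ∀ c ∉ mp.asIdeal, ∃ q : Ideal A, q.IsPrime ∧ c ∉ q ∧ ¬ I ≤ q := by
    intro c hc
    have hopen : IsOpen (hV.fromSpec '' (PrimeSpectrum.basicOpen c : Set (PrimeSpectrum A))) :=
      hV.fromSpec.isOpenEmbedding.isOpenMap _ (PrimeSpectrum.basicOpen c).2
    obtain ⟨w, ⟨p, hp, rfl⟩, hw⟩ := mem_closure_iff.1 hy.1 _ hopen ⟨mp, hc, hmp⟩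
    exact ⟨p.asIdeal, p.isPrime, hp, (hmem p).1 hw⟩
  obtain ⟨q, hq, hqm, a, haI, haq, hqmin⟩ := exists_curve_prime I mp.asIdeal hIm hcl
  haveI := hq
  obtain ⟨B, _, _, _, _, _, ψ, P, hPmax, hP0, hPm, hPin⟩ :=
    exists_dedekind_of_prime (k := k) I mp.asIdeal hIm q hqm haI haq hqmin
  let h : Spec (CommRingCat.of B) ⟶ Xc := Spec.map (CommRingCat.ofHom ψ.toRingHom) ≫ hV.fromSpec
  refine nonempty_escape_of_curve G j g hjg B h ?_ P hP0 ?_ fun p hp => (hmem _).2 (hPin p hp)
  · show (Spec.map _ ≫ hV.fromSpec) ≫ g = _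
    rw [Category.assoc, ← Spec.map_preimage (hV.fromSpec ≫ g), ← Spec.map_comp]
    congr 1
    ext x
    exact ψ.commutes x
  · intro hin
    exact (hmem _).1 hin (hIm.trans hPm.ge)

end Groth.Agent.Chev
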