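import Groth.Agent.Chev.Trans
import Groth.Agent.SubGen.AlgClosed

/-!
# Zeros of rational functions at rational points
-/

set_option autoImplicit false
set_option backward.isDefEq.respectTransparency false

universe u

open CategoryTheory CategoryTheory.Limits MonoidalCategory CartesianMonoidalCategory MonObj GrpObj AlgebraicGeometry
open IsLocalRing (closedPoint)

noncomputable section

namespace Groth.Agent.Chev

variable {k : Type u} [Field k] {X : Over (Spec (CommRingCat.of k))} [IsIntegral X.left]

theorem toKF_germ {U : X.left.Opens} {y : X.left} (hy : y ∈ U) (s : Γ(X.left, U)) :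
    toKF y (X.left.presheaf.germ U y hy s) =
      X.left.presheaf.germ U (genericPoint X.left) ((genericPoint_specializes' y).mem_open U.2 hy) s :=
  congr($(TopCat.Presheaf.germ_stalkSpecializes X.left.presheaf hy (genericPoint_specializes' y)) s)

theorem isOpen_un (a : KF X) : IsOpen {y : X.left | Un y a} := by
  refine isOpen_iff_forall_mem_open.2 fun y hy => ?_
  obtain ⟨r, hu, hr⟩ := hy
  obtain ⟨U, hyU, s, rfl⟩ := X.left.presheaf.germ_exist r
  refine ⟨(X.left.basicOpen s : Set X.left), fun z hz => ?_, (X.left.basicOpen s).2,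
    (X.left.mem_basicOpen s y hyU).2 hu⟩
  have hzU : z ∈ U := X.left.basicOpen_le s hz
  exact ⟨X.left.presheaf.germ U z hzU s, (X.left.mem_basicOpen s z hzU).1 hz,
    by rw [toKF_germ, ← hr, toKF_germ]⟩

theorem isOpen_mem (a : KF X) : IsOpen {y : X.left | Mem y a} := by
  refine isOpen_iff_forall_mem_open.2 fun y hy => ?_
  obtain ⟨r, hr⟩ := hy
  obtain ⟨U, hyU, s, rfl⟩ := X.left.presheaf.germ_exist r
  exact ⟨(U : Set X.left), fun z hz => ⟨X.left.presheaf.germ U z hz s, by rw [toKF_germ, ← hr, toKF_germ]⟩, U.2, hyU⟩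

theorem un_generic {a : KF X} (ha : a ≠ 0) : Un (genericPoint X.left) a := ⟨a, ha.isUnit, toKF_generic a⟩

variable [IsAlgClosed k] [LocallyOfFiniteType X.hom]

theorem img_rat_eq {H : Over (Spec (CommRingCat.of k))} (c : RP H) : img (rat (A := k) c) = SubGen.rpt c := by
  show c.left ((toUnit (VecGrp.pt k k)).left _) = c.left _
  haveI : Subsingleton (𝟙_ (Over (Spec (CommRingCat.of k)))).left :=
    inferInstanceAs (Subsingleton (PrimeSpectrum k))
  exact congrArg _ (Subsingleton.elim _ _)

theorem exists_rat_mem_open {U : Set X.left} (hU : IsOpen U) (hne : U.Nonempty) :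
    ∃ z : RP X, img (rat (A := k) z) ∈ U := by
  haveI : JacobsonSpace X.left := LocallyOfFiniteType.jacobsonSpace X.hom
  obtain ⟨x, hxU, hx⟩ := nonempty_inter_closedPoints hne hU.isLocallyClosed
  obtain ⟨z, rfl⟩ := SubGen.exists_rpt hx
  exact ⟨z, by rwa [img_rat_eq]⟩

/-- A function vanishing at all rational points of an open set is zero. -/
theorem eq_zero_of_fit_zero {U : Set X.left} (hU : IsOpen U) (hne : U.Nonempty) (a : KF X)
    (h : ∀ z : RP X, img (rat (A := k) z) ∈ U → Fit (rat (A := k) z) a 0) : a = 0 := by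
  by_contra ha
  have hη : genericPoint X.left ∈ U := by
    obtain ⟨w, hw⟩ := hne
    exact (genericPoint_specializes' w).mem_open hU hw
  obtain ⟨z, hz, hz'⟩ := exists_rat_mem_open (hU.inter (isOpen_un a)) ⟨_, hη, un_generic ha⟩
  exact not_isUnit_zero ((h z hz).isUnit_iff.2 hz')

end Groth.Agent.Chev
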