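import Groth.Agent.Chev.Rep
import Mathlib.LinearAlgebra.Matrix.ToLin
import Mathlib.LinearAlgebra.Dimension.Free

/-!
# The operators of normalized equivalences
-/

set_option autoImplicit false
set_option backward.isDefEq.respectTransparency false

universe u

open CategoryTheory CategoryTheory.Limits MonoidalCategory CartesianMonoidalCategory MonObj GrpObj AlgebraicGeometry
open Polynomial

noncomputable section

namespace Groth.Agent.Chev

variable {k : Type u} [Field k] [IsAlgClosed k] {H : Over (Spec (CommRingCat.of k))} [GrpObj H] [IsCommMonObj H]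
  [IsIntegral H.left] [Smooth H.hom] {W : H.left.Opens} (E : Equations H W) (cs : Bool → RatCurve H)

/-- The operator of a normalized equivalence. -/
def IsNormalPair.op {h : RP H} {f : KF H} (hf : IsNormalPair E cs h f) : Vsp E cs →ₗ[k] Vsp E cs where
  toFun a := ⟨f * tK h (a : KF H), hf.mem_Vsp E cs a.2⟩
  map_add' a b := Subtype.ext (by simp [mul_add])
  map_smul' t a := Subtype.ext (by simp)

theorem op_apply {h : RP H} {f : KF H} (hf : IsNormalPair E cs h f) (a : Vsp E cs) :
    ((hf.op E cs a : Vsp E cs) : KF H) = f * tK h (a : KF H) := rfl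

theorem op_injective {h : RP H} {f : KF H} (hf : IsNormalPair E cs h f) : Function.Injective (hf.op E cs) :=
  fun a b hab => Subtype.ext ((tK h).toRingHom.injective (mul_left_cancel₀ hf.1.ne_zero (congrArg Subtype.val hab)))

theorem op_mul {h h' : RP H} {f f' : KF H} (hf : IsNormalPair E cs h f) (hf' : IsNormalPair E cs h' f') :
    (hf.mul E cs hf').op E cs = (hf.op E cs).comp (hf'.op E cs) := LinearMap.ext fun a => Subtype.ext (by
  simp only [op_apply, LinearMap.comp_apply, map_mul, tK_comp]
  ring)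

theorem op_one : (IsNormalPair.one E cs).op E cs = LinearMap.id := LinearMap.ext fun a => Subtype.ext (by
  simp [op_apply, tK_one])

/-- If the operator is the identity the translation preserves `W`. -/
theorem mem_of_op_eq_id {h : RP H} {f : KF H} (hf : IsNormalPair E cs h f) (hid : hf.op E cs = LinearMap.id)
    {y : H.left} (hy : y ∈ W) : sh y h ∈ W := by
  have h1 := congrArg Subtype.val (LinearMap.congr_fun hid ⟨1, one_mem_Vsp E cs⟩)
  rw [op_apply] at h1
  simp only [map_one, _root_.mul_one, LinearMap.id_apply] at h1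
  exact mem_of_isPair_one E (h1 ▸ hf.1) hy

/-- The operators of the generating translations are polynomial in the parameter. -/
theorem exists_matrix {F : Bool → (KF H)[X]} (hF : ∀ ε, (F ε).Monic)
    (hFund : ∀ ε, ∀ (Q : Ideal (KF H)[X]) [Q.IsPrime] (_ : Q ≠ ⊥) (hQ : (cs ε).Avoids (genericPoint H.left) Q),
      RatCurve.UAt (genericPoint H.left) Q
        (algebraMap _ (RatFunc (KF H)) (F ε) / (cs ε).tau (E.d (img ((cs ε).sQ (genericPoint H.left) Q hQ)))))
    {r : ℕ} (b : Module.Basis (Fin r) k (Vsp E cs)) :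
    ∃ (v₁ : k) (Bad : Finset k) (M : Matrix (Fin r) (Fin r) k[X]), v₁ ∉ Bad ∧ ∀ v : k, v ∉ Bad →
      (cs true).g.eval v ≠ 0 ∧ ∃ (f : KF H) (hf : IsNormalPair E cs (((cs true).uv v₁)⁻¹ * (cs true).uv v) f),
        LinearMap.toMatrix b b (hf.op E cs) = M.map (Polynomial.eval v) := by
  classical
  obtain ⟨B, hB⟩ := exists_normal_gen E cs hF hFund true
  obtain ⟨v₁, hv₁⟩ := Infinite.exists_notMem_finset B
  obtain ⟨hg₁, hF₁, -⟩ := hB v₁ v₁ hv₁ hv₁
  let c := cs true
  let w : RP H := (c.uv v₁)⁻¹
  let F₁ : KF H := (F true).eval (algebraMap k _ v₁)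
  choose P hPd hP using fun j => c.exists_bound E (hF true) (hFund true) (b j).2.1 ((b j).2.2 true)
  let Q : Fin r → (KF H)[X] := fun j => (P j * Polynomial.C F₁⁻¹).map (tK w).toRingHom
  have hQ : ∀ (j : Fin r) (v : k) (hv : v ∉ B), (Q j).eval (algebraMap k _ v) =
      (((hB v v₁ hv hv₁).2.2).op E cs (b j) : KF H) := fun j v hv => by
    obtain ⟨hg, -, -⟩ := hB v v₁ hv hv₁
    rw [op_apply, ← tK_comp, map_div₀]
    simp only [Q]
    conv_lhs => rw [← (tK w).commutes v]
    rw [show (tK w) ((algebraMap k (KF H)) v) = (tK w).toRingHom (algebraMap k (KF H) v) from rfl,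
      Polynomial.eval_map_apply, eval_mul, eval_C, ← c.eval_tau (hP j) hg]
    show tK w _ = _
    rw [map_mul, map_mul, map_inv₀]
    simp only [w, F₁, c]
    ring
  have hcoef : ∀ (j : Fin r) (n : ℕ), (Q j).coeff n ∈ Vsp E cs := fun j n => by
    obtain ⟨S, hS, hScard⟩ := Set.Infinite.exists_subset_card_eq (s := {v : k | v ∉ B})
      (B.finite_toSet.infinite_compl) ((Q j).natDegree + 1)
    have hinj : Set.InjOn (fun t : k => algebraMap k (KF H) t) (S : Set k) :=
      fun _ _ _ _ h => (algebraMap k (KF H)).injective h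
    rw [Lagrange.eq_interpolate (f := Q j) (s := S) hinj
      (lt_of_le_of_lt degree_le_natDegree (by exact_mod_cast (by omega : (Q j).natDegree < S.card)))]
    simp only [Lagrange.interpolate_apply, finsetSum_coeff, coeff_C_mul]
    refine Submodule.sum_mem _ fun t ht => ?_
    have e : Lagrange.basis S (fun t : k => algebraMap k (KF H) t) t =
        (Lagrange.basis S id t).map (algebraMap k (KF H)) := by
      simp [Lagrange.basis, Lagrange.basisDivisor, Polynomial.map_prod, map_inv₀]
    rw [e, coeff_map, hQ j t (hS ht), _root_.mul_comm, ← Algebra.smul_def]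
    exact Submodule.smul_mem _ _ (Subtype.coe_prop _)
  let M : Matrix (Fin r) (Fin r) k[X] := fun i j =>
    ∑ n ∈ Finset.range ((Q j).natDegree + 1), Polynomial.C (b.repr ⟨_, hcoef j n⟩ i) * X ^ n
  refine ⟨v₁, B, M, hv₁, fun v hv => ?_⟩
  obtain ⟨hg, -, hf⟩ := hB v v₁ hv hv₁
  refine ⟨hg, _, hf, ?_⟩
  ext i j
  rw [LinearMap.toMatrix_apply, Matrix.map_apply]
  simp only [M, eval_finsetSum, eval_mul, eval_C, eval_pow, eval_X]
  have e : hf.op E cs (b j) =
      ∑ n ∈ Finset.range ((Q j).natDegree + 1), (v ^ n) • (⟨_, hcoef j n⟩ : Vsp E cs) := by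
    apply Subtype.ext
    rw [← hQ j v hv, eval_eq_sum_range, Submodule.coe_sum]
    refine Finset.sum_congr rfl fun n _ => ?_
    rw [Submodule.coe_smul, Algebra.smul_def, map_pow, _root_.mul_comm]
  rw [e, map_sum, Finsupp.finsetSum_apply]
  refine Finset.sum_congr rfl fun n _ => ?_
  rw [map_smul, Finsupp.smul_apply, smul_eq_mul, _root_.mul_comm]

theorem det_ne_zero {r : ℕ} (b : Module.Basis (Fin r) k (Vsp E cs)) {h : RP H} {f : KF H}
    (hf : IsNormalPair E cs h f) : (LinearMap.toMatrix b b (hf.op E cs)).det ≠ 0 := by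
  rw [LinearMap.det_toMatrix]
  haveI : FiniteDimensional k (Vsp E cs) := Module.Finite.of_basis b
  exact (LinearMap.isUnit_det _ (LinearMap.isUnit_iff_ker_eq_bot _ |>.2
    (LinearMap.ker_eq_bot.2 (op_injective E cs hf)))).ne_zero

end Groth.Agent.Chev
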