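import Groth.Agent.Chev.Equiv
import Groth.Agent.Chev.Open

/-!
# Linear equivalences between translates of the boundary divisor, and the space they act on
-/

set_option autoImplicit false
set_option backward.isDefEq.respectTransparency false

universe u

open CategoryTheory CategoryTheory.Limits MonoidalCategory CartesianMonoidalCategory MonObj GrpObj AlgebraicGeometry
open Polynomial

noncomputable section

namespace Groth.Agent.Chev

variable {k : Type u} [Field k] {H : Over (Spec (CommRingCat.of k))} [GrpObj H] [IsIntegral H.left]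
  {W : H.left.Opens} (E : Equations H W)

/-- `f` realizes the linear equivalence between the divisor and its translate by `h`. -/
def IsPair (h : RP H) (f : KF H) : Prop := ∀ y, Un y (f * E.d y / tK h (E.d (sh y h)))

theorem IsPair.ne_zero {h : RP H} {f : KF H} (hf : IsPair E h f) : f ≠ 0 := fun e =>
  (hf (genericPoint H.left)).ne_zero (by rw [e, zero_mul, zero_div])

theorem IsPair.one : IsPair E 1 1 := fun y => by
  rw [tK_one, sh_one, _root_.one_mul, div_self (E.ne_zero y)]
  exact Un.one y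

theorem IsPair.mul {h h' : RP H} {f f' : KF H} (hf : IsPair E h f) (hf' : IsPair E h' f') :
    IsPair E (h * h') (f * tK h f') := fun y => by
  have e1 : tK h (E.d (sh y h)) ≠ 0 := (map_ne_zero_iff _ (tK h).toRingHom.injective).2 (E.ne_zero _)
  have h2 := (hf y).mul (hf' (sh y h)).tK
  rw [map_div₀, map_mul, tK_comp, sh_sh] at h2
  have e2 : tK (h * h') (E.d (sh y (h * h'))) ≠ 0 :=
    (map_ne_zero_iff _ (tK (h * h')).toRingHom.injective).2 (E.ne_zero _)
  convert h2 using 1
  field_simp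

theorem IsPair.inv {h : RP H} {f : KF H} (hf : IsPair E h f) : IsPair E h⁻¹ (tK h⁻¹ f)⁻¹ := fun y => by
  have h2 := (hf (sh y h⁻¹)).tK.inv
  rw [map_div₀, map_mul, sh_sh, inv_mul_cancel, sh_one, tK_inv_left, inv_div, div_mul_eq_div_div] at h2
  have e1 : tK h⁻¹ f ≠ 0 := (map_ne_zero_iff _ (tK h⁻¹).toRingHom.injective).2 hf.ne_zero
  convert h2 using 1
  field_simp

/-- Rational functions with at most simple poles on the boundary. -/
def LD : Submodule k (KF H) where
  carrier := {a | ∀ y, Mem y (a * E.d y)}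
  add_mem' {a b} ha hb y := by rw [add_mul]; exact (ha y).add (hb y)
  zero_mem' y := by rw [zero_mul]; exact ⟨0, map_zero _⟩
  smul_mem' t a ha y := by
    rw [Algebra.smul_def, _root_.mul_assoc]
    exact (Mem.const y t).mul (ha y)

theorem mem_LD {a : KF H} : a ∈ LD E ↔ ∀ y, Mem y (a * E.d y) := Iff.rfl

theorem one_mem_LD : (1 : KF H) ∈ LD E := fun y => by rw [_root_.one_mul]; exact E.mem y

theorem IsPair.mem_LD {h : RP H} {f a : KF H} (hf : IsPair E h f) (ha : a ∈ LD E) : f * tK h a ∈ LD E := fun y => by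
  have h2 := (hf y).mem.mul (ha (sh y h)).tK
  rw [map_mul] at h2
  have e1 : tK h (E.d (sh y h)) ≠ 0 := (map_ne_zero_iff _ (tK h).toRingHom.injective).2 (E.ne_zero _)
  convert h2 using 1
  field_simp

/-- If `f = 1` is such an equivalence then the translation preserves `W`. -/
theorem mem_of_isPair_one {h : RP H} (hf : IsPair E h 1) {y : H.left} (hy : y ∈ W) : sh y h ∈ W := by
  have h1 := hf y
  rw [E.eq_one y hy, _root_.one_mul, one_div] at h1
  have h2 := h1.inv
  rw [_root_.inv_inv] at h2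
  have h3 : Un (sh y h) (tK h⁻¹ (tK h (E.d (sh y h)))) := Un.tK (by rwa [sh_sh, mul_inv_cancel, sh_one])
  rw [tK_inv_left] at h3
  exact E.mem_of_un _ h3

section Places

variable {K : Type u} [Field K]

/-- No pole at the value `s` of the variable. -/
def RegAt (s : K) (r : RatFunc K) : Prop := ∃ p q : K[X], q.eval s ≠ 0 ∧ r * algebraMap _ _ q = algebraMap _ _ p

/-- Neither pole nor zero at the value `s`. -/
def UnitAt (s : K) (r : RatFunc K) : Prop :=
  ∃ p q : K[X], p.eval s ≠ 0 ∧ q.eval s ≠ 0 ∧ r * algebraMap _ _ q = algebraMap _ _ p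

/-- No pole at infinity. -/
def RegInf (r : RatFunc K) : Prop :=
  ∃ p q : K[X], q ≠ 0 ∧ p.natDegree ≤ q.natDegree ∧ r * algebraMap _ _ q = algebraMap _ _ p

/-- Neither pole nor zero at infinity. -/
def UnitInf (r : RatFunc K) : Prop :=
  ∃ p q : K[X], p ≠ 0 ∧ q ≠ 0 ∧ p.natDegree = q.natDegree ∧ r * algebraMap _ _ q = algebraMap _ _ p

theorem UnitAt.regAt {s : K} {r : RatFunc K} (h : UnitAt s r) : RegAt s r := by
  obtain ⟨p, q, -, hq, e⟩ := h; exact ⟨p, q, hq, e⟩

theorem UnitInf.regInf {r : RatFunc K} (h : UnitInf r) : RegInf r := by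
  obtain ⟨p, q, -, hq, hd, e⟩ := h; exact ⟨p, q, hq, hd.le, e⟩

theorem UnitAt.mul {s : K} {r r' : RatFunc K} (h : UnitAt s r) (h' : UnitAt s r') : UnitAt s (r * r') := by
  obtain ⟨p, q, hp, hq, e⟩ := h; obtain ⟨p', q', hp', hq', e'⟩ := h'
  exact ⟨p * p', q * q', by simp [hp, hp'], by simp [hq, hq'], by rw [map_mul, map_mul, ← e, ← e']; ring⟩

theorem UnitAt.inv {s : K} {r : RatFunc K} (h : UnitAt s r) : UnitAt s r⁻¹ := by
  obtain ⟨p, q, hp, hq, e⟩ := h
  have hr : r ≠ 0 := fun h0 => by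
    rw [h0, zero_mul] at e
    exact RatFunc.algebraMap_ne_zero (fun e0 => hp (by rw [e0, eval_zero])) e.symm
  exact ⟨q, p, hq, hp, by rw [← e, inv_mul_cancel_left₀ hr]⟩

theorem UnitAt.one (s : K) : UnitAt s (1 : RatFunc K) := ⟨1, 1, by simp, by simp, by simp⟩

theorem UnitInf.mul {r r' : RatFunc K} (h : UnitInf r) (h' : UnitInf r') : UnitInf (r * r') := by
  obtain ⟨p, q, hp, hq, hd, e⟩ := h; obtain ⟨p', q', hp', hq', hd', e'⟩ := h'
  exact ⟨p * p', q * q', mul_ne_zero hp hp', mul_ne_zero hq hq', by rw [natDegree_mul hp hp', natDegree_mul hq hq', hd, hd'],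
    by rw [map_mul, map_mul, ← e, ← e']; ring⟩

theorem UnitInf.inv {r : RatFunc K} (h : UnitInf r) : UnitInf r⁻¹ := by
  obtain ⟨p, q, hp, hq, hd, e⟩ := h
  have hr : r ≠ 0 := fun h0 => by
    rw [h0, zero_mul] at e
    exact RatFunc.algebraMap_ne_zero hp e.symm
  exact ⟨q, p, hq, hp, hd.symm, by rw [← e, inv_mul_cancel_left₀ hr]⟩

theorem UnitInf.one : UnitInf (1 : RatFunc K) := ⟨1, 1, one_ne_zero, one_ne_zero, rfl, by simp⟩

theorem RegAt.mul {s : K} {r r' : RatFunc K} (h : RegAt s r) (h' : RegAt s r') : RegAt s (r * r') := by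
  obtain ⟨p, q, hq, e⟩ := h; obtain ⟨p', q', hq', e'⟩ := h'
  exact ⟨p * p', q * q', by simp [hq, hq'], by rw [map_mul, map_mul, ← e, ← e']; ring⟩

theorem RegInf.mul {r r' : RatFunc K} (h : RegInf r) (h' : RegInf r') : RegInf (r * r') := by
  obtain ⟨p, q, hq, hd, e⟩ := h; obtain ⟨p', q', hq', hd', e'⟩ := h'
  refine ⟨p * p', q * q', mul_ne_zero hq hq', ?_, by rw [map_mul, map_mul, ← e, ← e']; ring⟩
  rw [natDegree_mul hq hq']
  exact natDegree_mul_le.trans (add_le_add hd hd')

theorem RegAt.add {s : K} {r r' : RatFunc K} (h : RegAt s r) (h' : RegAt s r') : RegAt s (r + r') := by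
  obtain ⟨p, q, hq, e⟩ := h; obtain ⟨p', q', hq', e'⟩ := h'
  exact ⟨p * q' + p' * q, q * q', by simp [hq, hq'], by rw [map_mul, map_add, map_mul, map_mul, ← e, ← e']; ring⟩

theorem RegInf.add {r r' : RatFunc K} (h : RegInf r) (h' : RegInf r') : RegInf (r + r') := by
  obtain ⟨p, q, hq, hd, e⟩ := h; obtain ⟨p', q', hq', hd', e'⟩ := h'
  refine ⟨p * q' + p' * q, q * q', mul_ne_zero hq hq', ?_, by rw [map_mul, map_add, map_mul, map_mul, ← e, ← e']; ring⟩
  rw [natDegree_mul hq hq']
  refine (natDegree_add_le _ _).trans (max_le ?_ ?_)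
  · exact natDegree_mul_le.trans (by omega)
  · exact natDegree_mul_le.trans (by omega)

theorem RegAt.const (s : K) (t : K) : RegAt s (algebraMap K (RatFunc K) t) :=
  ⟨C t, 1, by simp, by rw [map_one, _root_.mul_one, IsScalarTower.algebraMap_apply K K[X] (RatFunc K)]; rfl⟩

theorem RegInf.const (t : K) : RegInf (algebraMap K (RatFunc K) t) :=
  ⟨C t, 1, one_ne_zero, by simp, by rw [map_one, _root_.mul_one, IsScalarTower.algebraMap_apply K K[X] (RatFunc K)]; rfl⟩

/-- A rational function without poles is a polynomial. -/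
theorem exists_poly (r : RatFunc K)
    (h : ∀ P : K[X], Irreducible P → ∃ p q : K[X], ¬ P ∣ q ∧ r * algebraMap _ _ q = algebraMap _ _ p) :
    ∃ p : K[X], r = algebraMap _ _ p := by
  have hu : IsUnit r.denom := by
    by_contra hnu
    obtain ⟨P, hP, hdvd⟩ := WfDvdMonoid.exists_irreducible_factor hnu r.denom_ne_zero
    obtain ⟨p, q, hq, e⟩ := h P hP
    have e' : r.num * q = p * r.denom := by
      apply RatFunc.algebraMap_injective K
      rw [map_mul, map_mul, ← e]
      conv_rhs => rw [← r.num_div_denom]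
      have := RatFunc.algebraMap_ne_zero r.denom_ne_zero
      field_simp
      rw [RatFunc.num_div_denom]
    have hdn : P ∣ r.num * q := e' ▸ dvd_mul_of_dvd_right hdvd p
    rcases hP.prime.dvd_or_dvd hdn with h1 | h1
    · exact hP.not_isUnit (r.isCoprime_num_denom.isUnit_of_dvd' h1 hdvd)
    · exact hq h1
  refine ⟨r.num * ↑hu.unit⁻¹, ?_⟩
  conv_lhs => rw [← r.num_div_denom]
  rw [map_mul, div_eq_iff (RatFunc.algebraMap_ne_zero r.denom_ne_zero), _root_.mul_assoc, ← map_mul,
    IsUnit.val_inv_mul, map_one, _root_.mul_one]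

end Places

end Groth.Agent.Chev
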