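import Groth.Agent.Chev.SepDesc
import Groth.Agent.Chev.Divisible
import Groth.Agent.Chev.PtsDenseRed
import Groth.Agent.AVDeg.FiniteKer
import Groth.Agent.GrpField.RatClosure
import Groth.Agent.GeomRedPull.Basic
import Groth.Agent.GeomConn.Normal
import Groth.Agent.SepBC.Basic
import Groth.Agent.FlatMor.ReducedDescent
import Groth.Agent.FpqcDescent.Sep
import Groth.Agent.MTBridge.CentralFibres
import Groth.Agent.S4112

/-!
# Abelian subvarieties along primary extensions (Chow)

An abelian subvariety of `A_K` contains a dense set of points over closed points of `A` with separable residue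
field; over a primary extension such points have a single point above them, so the subvariety is the preimage
of its image.
-/

set_option autoImplicit false

universe u

open CategoryTheory Limits MonoidalCategory CartesianMonoidalCategory MonObj GrpObj AlgebraicGeometry
open AlgGrp
open scoped CategoryTheory.Obj TensorProduct

noncomputable section

namespace Groth.Agent.Chev.PrimaryDesc

open AVDeg (bcK specMap one' overInst)
open Groth.Agent.GrpField.RatClosure (pt)
open Groth.Agent.Chev

variable {k : Type u} [Field k]

theorem flat_surj_specMap (K : Type u) [Field K] [Algebra k K] :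
    Flat (specMap k K) ∧ Surjective (specMap k K) :=
  FlatMor.flat_surjective_spec_field_hom (algebraMap k K)

theorem range_comp_of_surjective' {X Y Z : Scheme.{u}} (f : X ⟶ Y) [Surjective f] (g : Y ⟶ Z) :
    Set.range (f ≫ g) = Set.range g := by
  ext z
  exact ⟨fun ⟨x, hx⟩ => ⟨f x, by rw [← hx, Scheme.Hom.comp_apply]⟩, fun ⟨y, hy⟩ => by
    obtain ⟨x, rfl⟩ := f.surjective y
    exact ⟨x, by rw [Scheme.Hom.comp_apply, hy]⟩⟩

theorem range_bcMap {K : Type u} [Field K] [Algebra k K] {N X : Over (Spec (CommRingCat.of k))} (n : N ⟶ X) :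
    Set.range ((Over.pullback (specMap k K)).map n).left =
      (pullback.fst X.hom (specMap k K)) ⁻¹' Set.range n.left := by
  have h : IsPullback ((Over.pullback (specMap k K)).map n).left (pullback.fst N.hom (specMap k K))
      (pullback.fst X.hom (specMap k K)) n.left := by
    refine IsPullback.of_right ?_ (bcMap_fst K n) (IsPullback.of_hasPullback X.hom (specMap k K)).flip
    rw [show ((Over.pullback (specMap k K)).map n).left ≫ pullback.snd X.hom (specMap k K) =
      pullback.snd N.hom (specMap k K) from pullback.lift_snd _ _ _, Over.w n]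
    exact (IsPullback.of_hasPullback N.hom (specMap k K)).flip
  rw [← h.isoPullback_hom_fst, range_comp_of_surjective']
  exact Scheme.Pullback.range_fst _ _

/-- A reduced closed subscheme with a dense set of points lying on finite étale subschemes is geometrically
reduced. -/
theorem geometricallyReduced_of_etale_points {X Z : Over (Spec (CommRingCat.of k))} (c : Z ⟶ X)
    [IsClosedImmersion c.left] [IsReduced Z.left]
    (hd : Dense {z : Z.left | ∃ (N : Over (Spec (CommRingCat.of k))) (n : N ⟶ X), Etale N.hom ∧ IsFinite N.hom ∧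
      c.left z ∈ Set.range n.left}) :
    GeometricallyReduced Z.hom := by
  let S := SeparableClosure k
  let w := specMap k S
  let F := Over.pullback w
  haveI : GeometricallyReduced w := geometricallyReduced_specMap_of_isSeparable (k := k) S
  haveI : IsReduced (F.obj Z).left := by
    haveI := GeomRedPull.isReduced_pullback w Z.hom
    exact isReduced_of_isOpenImmersion (pullbackSymmetry Z.hom w).hom
  haveI hcc : IsClosedImmersion (F.map c).left := MorphismProperty.baseChange_map (P := @IsClosedImmersion) w c ‹_›
  haveI : Flat w := (flat_surj_specMap S).1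
  haveI : Surjective w := (flat_surj_specMap S).2
  let q : (F.obj Z).left ⟶ Z.left := pullback.fst Z.hom w
  have hq : IsOpenMap q := by
    haveI : UniversallyOpen w := inferInstance
    exact q.isOpenMap
  refine FlatMor.geometricallyReduced_of_baseChange (algebraMap k S) (IsPullback.of_hasPullback Z.hom w)
    (hf' := ?_)
  let Sec : Set (Spec (CommRingCat.of S) ⟶ (F.obj Z).left) := {s | s ≫ (F.obj Z).hom = 𝟙 _}
  refine GrpField.RatClosure.geometricallyReduced_of_dense (X := (F.obj Z).left) (F.obj Z).hom Sec (fun s hs => hs) ?_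
  refine (hd.preimage hq).mono ?_
  rintro z ⟨N, n, hNe, hNf, hzn⟩
  haveI := hNe; haveI := hNf
  have hq2 : (F.map c).left ≫ pullback.fst X.hom w = q ≫ c.left := bcMap_fst S c
  have hz1 : (F.map c).left z ∈ (pullback.fst X.hom w) ⁻¹' Set.range n.left := by
    rw [Set.mem_preimage, ← Scheme.Hom.comp_apply, hq2, Scheme.Hom.comp_apply]
    exact hzn
  rw [← range_bcMap (K := S) n] at hz1
  obtain ⟨y, hy⟩ := hz1
  haveI : Etale (F.obj N).hom := MorphismProperty.pullback_snd (P := @Etale) N.hom w inferInstance
  haveI : IsFinite (F.obj N).hom := MorphismProperty.pullback_snd (P := @IsFinite) N.hom w inferInstance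
  haveI : Smooth (F.obj N).hom := inferInstance
  haveI : GeometricallyReduced (F.obj N).hom := Rigid.geometricallyReduced_of_smooth _
  haveI : DiscreteTopology (F.obj N).left := SpQS.discrete_of_isFinite (F.obj N).hom
  have hall := (dense_rational_of_geometricallyReduced S (F.obj N).hom).closure_eq
  rw [closure_discrete] at hall
  obtain ⟨s, hs, hsy⟩ : y ∈ {x | ∃ s : Spec (CommRingCat.of S) ⟶ (F.obj N).left, s ≫ (F.obj N).hom = 𝟙 _ ∧
      s (IsLocalRing.closedPoint S) = x} := hall ▸ Set.mem_univ y
  let sO : 𝟙_ (Over (Spec (CommRingCat.of S))) ⟶ F.obj N := Over.homMk s hs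
  haveI : IsReduced (𝟙_ (Over (Spec (CommRingCat.of S)))).left :=
    inferInstanceAs (IsReduced (Spec (CommRingCat.of S)))
  obtain ⟨t, ht⟩ := exists_lift_range (sO ≫ F.map n) (F.map c) (by
    rintro _ ⟨o, rfl⟩
    refine ⟨z, ?_⟩
    rw [Over.comp_left, Scheme.Hom.comp_apply, ← hy, ← hsy]
    exact congrArg (fun o' => (F.map n).left (s o')) (Subsingleton.elim (α := PrimeSpectrum S) _ o))
  refine ⟨t.left, Over.w t, ?_⟩
  apply (F.map c).left.isClosedEmbedding.injective
  rw [← hy, ← hsy]
  exact congrArg (fun φ => φ.left (IsLocalRing.closedPoint S)) ht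

variable {K : Type u} [Field K] [Algebra k K]

/-- Over a primary extension a point on a finite étale subscheme has a single point above it. -/
theorem subsingleton_fibre (hK : separableClosure k K = ⊥) {X N : Over (Spec (CommRingCat.of k))}
    (n : N ⟶ X) [IsClosedImmersion n.left] [IsFinite N.hom] (a : X.left) (ha : a ∈ Set.range n.left) :
    ((pullback.fst X.hom (specMap k K)) ⁻¹' {a}).Subsingleton := by
  let w := specMap k K
  haveI : GeometricallyIrreducible w := by
    haveI := GeomConn.irreducibleSpace_primary hK
    refine SepBC.geometricallyIrreducible _ ?_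
    have e := pullbackSpecIso k K (SeparableClosure k)
    haveI : IrreducibleSpace (PrimeSpectrum (K ⊗[k] SeparableClosure k)) := by
      haveI := GeomConn.isDomain_tensor_separable' (S := separableClosure k (AlgebraicClosure k)) hK
      exact PrimeSpectrum.irreducibleSpace
    haveI : IrreducibleSpace ↥(Spec (CommRingCat.of (K ⊗[k] SeparableClosure k))) :=
      inferInstanceAs (IrreducibleSpace (PrimeSpectrum (K ⊗[k] SeparableClosure k)))
    exact e.hom.homeomorph.irreducibleSpace_iff.2 inferInstance
  let g := X.left.fromSpecResidueField a ≫ X.hom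
  haveI : IrreducibleSpace (Spec (X.left.residueField a)) := inferInstanceAs (IrreducibleSpace (PrimeSpectrum _))
  haveI : IrreducibleSpace ↥(pullback w g) :=
    GeometricallyIrreducible.geometrically_irreducibleSpace (f := w) g _ _ (IsPullback.of_hasPullback w g)
  let m : pullback w g ⟶ pullback X.hom w :=
    pullback.lift (pullback.snd w g ≫ X.left.fromSpecResidueField a) (pullback.fst w g) (by
      rw [Category.assoc]; exact pullback.condition.symm)
  have hsq : IsPullback m (pullback.snd w g) (pullback.fst X.hom w) (X.left.fromSpecResidueField a) := by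
    refine IsPullback.of_right ?_ (pullback.lift_fst _ _ _) (IsPullback.of_hasPullback X.hom w).flip
    rw [pullback.lift_snd]
    exact IsPullback.of_hasPullback w g
  have hr : Set.range m = (pullback.fst X.hom w) ⁻¹' {a} := by
    rw [← hsq.isoPullback_hom_fst, range_comp_of_surjective', Scheme.Pullback.range_fst,
      Scheme.range_fromSpecResidueField]
  have hirr : IsPreirreducible ((pullback.fst X.hom w) ⁻¹' {a}) := by
    rw [← hr, ← Set.image_univ]
    exact (PreirreducibleSpace.isPreirreducible_univ).image _ m.continuous.continuousOn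
  haveI : IsFinite ((Over.pullback w).obj N).hom := MorphismProperty.pullback_snd (P := @IsFinite) N.hom w inferInstance
  haveI : DiscreteTopology ((Over.pullback w).obj N).left := SpQS.discrete_of_isFinite ((Over.pullback w).obj N).hom
  haveI : IsClosedImmersion ((Over.pullback w).map n).left :=
    MorphismProperty.baseChange_map (P := @IsClosedImmersion) w n ‹_›
  have hsub : (pullback.fst X.hom w) ⁻¹' {a} ⊆ Set.range ((Over.pullback w).map n).left := by
    rw [range_bcMap]
    exact Set.preimage_mono (Set.singleton_subset_iff.2 ha)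
  intro x hx y hy
  obtain ⟨x', rfl⟩ := hsub hx
  obtain ⟨y', rfl⟩ := hsub hy
  by_contra hne
  have hemb := ((Over.pullback w).map n).left.isClosedEmbedding
  obtain ⟨U, hU, hUx⟩ := hemb.isInducing.isOpen_iff.1 (isOpen_discrete {x'})
  obtain ⟨V, hV, hVy⟩ := hemb.isInducing.isOpen_iff.1 (isOpen_discrete {y'})
  have hxU : ((Over.pullback w).map n).left x' ∈ U := hUx.ge (Set.mem_singleton x')
  have hyV : ((Over.pullback w).map n).left y' ∈ V := hVy.ge (Set.mem_singleton y')
  obtain ⟨z, hz, hzU, hzV⟩ := hirr U V hU hV ⟨_, hx, hxU⟩ ⟨_, hy, hyV⟩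
  obtain ⟨z', rfl⟩ := hsub hz
  have h1 : z' ∈ ({x'} : Set _) := hUx.le hzU
  have h2 : z' ∈ ({y'} : Set _) := hVy.le hzV
  exact hne (by rw [← Set.mem_singleton_iff.1 h1, Set.mem_singleton_iff.1 h2])

theorem toBC_one {S T : Scheme.{u}} (j : T ⟶ S) {X : Over T} {G : Over S} [GrpObj G] :
    MTBridge.toBC j (1 : (Over.map j).obj X ⟶ G) = 1 := by
  have h := MTBridge.toBC_mul (j := j) (X := X) (1 : (Over.map j).obj X ⟶ G) 1
  rw [_root_.one_mul] at h
  exact left_eq_mul.1 h

/-- Torsion points of a base change come from torsion points. -/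
theorem exists_torsion_of_toBC {S T : Scheme.{u}} (j : T ⟶ S) {X : Over T} {G : Over S} [GrpObj G]
    (x : X ⟶ Red.bc j G) {m : ℕ} (hx : x ^ m = 1) :
    ∃ a : (Over.map j).obj X ⟶ G, a ^ m = 1 ∧ a.left = x.left ≫ pullback.fst G.hom j := by
  obtain ⟨a, rfl⟩ := ((Over.mapPullbackAdj j).homEquiv X G).surjective x
  refine ⟨a, ((Over.mapPullbackAdj j).homEquiv X G).injective ?_, by
    simp [Over.mapPullbackAdj]; exact (pullback.lift_fst _ _ _).symm⟩
  show MTBridge.toBC j (a ^ m) = MTBridge.toBC j 1
  rw [toBC_one]
  refine Eq.trans ?_ hx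
  exact map_pow (MonoidHom.mk' (MTBridge.toBC j) (MTBridge.toBC_mul (j := j))) a m

/-- A reduced closed subscheme whose base change has the same space as a reduced closed subscheme of the base
change induces it. -/
theorem ker_eq_of_range_eq {X Z : Over (Spec (CommRingCat.of k))} {Z' : Over (Spec (CommRingCat.of K))}
    (c : Z ⟶ X) [IsClosedImmersion c.left] [GeometricallyReduced Z.hom]
    (z : Z' ⟶ bcK k K X) [IsClosedImmersion z.left] [IsReduced Z'.left]
    (h : Set.range z.left = (pullback.fst X.hom (specMap k K)) ⁻¹' Set.range c.left) :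
    z.left.ker ≤ (z.left.ker.map (pullback.fst X.hom (specMap k K))).comap (pullback.fst X.hom (specMap k K)) := by
  let w := specMap k K
  let F := Over.pullback w
  let π := pullback.fst X.hom w
  haveI : IsClosedImmersion (F.map c).left := MorphismProperty.baseChange_map (P := @IsClosedImmersion) w c ‹_›
  haveI : IsReduced (F.obj Z).left := pullback_of_geometrically GeometricallyReduced.geometrically_isReduced K w
  obtain ⟨u, hu⟩ := exists_lift_range z (F.map c) (by rw [h, range_bcMap])
  obtain ⟨v, hv⟩ := exists_lift_range (F.map c) z (by rw [h, range_bcMap])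
  have e1 : (F.map c).left.ker ≤ z.left.ker := by
    rw [← hu, Over.comp_left]; exact u.left.le_ker_comp (F.map c).left
  have e2 : z.left.ker ≤ (F.map c).left.ker := by
    rw [← hv, Over.comp_left]; exact v.left.le_ker_comp z.left
  have heq : z.left.ker = (F.map c).left.ker := le_antisymm e2 e1
  have hsq : IsPullback (F.map c).left (pullback.fst Z.hom w) π c.left := by
    refine IsPullback.of_right ?_ (bcMap_fst K c) (IsPullback.of_hasPullback X.hom w).flip
    rw [show (F.map c).left ≫ pullback.snd X.hom w = pullback.snd Z.hom w from pullback.lift_snd _ _ _, Over.w c]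
    exact (IsPullback.of_hasPullback Z.hom w).flip
  have hker : (F.map c).left.ker = c.left.ker.comap π := by
    rw [← hsq.isoPullback_hom_fst, Scheme.Hom.ker_comp_of_isIso]
    exact Scheme.IdealSheafData.ker_fst_of_isClosedImmersion _ _
  rw [heq, hker]
  refine (Scheme.IdealSheafData.map_gc π).monotone_l ?_
  exact (Scheme.IdealSheafData.map_gc π).le_u_l _

set_option maxHeartbeats 1000000 in
/-- **Chow's theorem**: abelian subvarieties descend along primary extensions. -/
theorem exists_desc_primary (hK : separableClosure k K = ⊥)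
    (A : Over (Spec (CommRingCat.of k))) [GrpObj A] [IsProper A.hom] [GeometricallyIntegral A.hom]
    (B' : Over (Spec (CommRingCat.of K))) [GrpObj B'] [IsProper B'.hom] [GeometricallyIntegral B'.hom]
    (i' : B' ⟶ bcK k K A) [IsMonHom i'] [IsClosedImmersion i'.left] :
    ∃ (B : Over (Spec (CommRingCat.of k))) (_ : GrpObj B) (i : B ⟶ A) (e : B' ≅ bcK k K B),
      IsProper B.hom ∧ GeometricallyIntegral B.hom ∧ IsMonHom i ∧ IsClosedImmersion i.left ∧
      e.hom ≫ (Over.pullback (specMap k K)).map i = i' := by
  haveI : IsCommMonObj A := isCommMonObj_of_isProper_of_geometricallyIntegral A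
  haveI : IsCommMonObj B' := isCommMonObj_of_isProper_of_geometricallyIntegral B'
  obtain ⟨l, hl, hlk⟩ : ∃ l : ℕ, l.Prime ∧ (l : k) ≠ 0 := by
    by_cases h2 : ((2 : ℕ) : k) = 0
    · refine ⟨3, Nat.prime_three, fun h3 => one_ne_zero (α := k) ?_⟩
      have : ((3 : ℕ) : k) - ((2 : ℕ) : k) = 1 := by norm_num
      rw [← this, h3, h2, sub_zero]
    · exact ⟨2, Nat.prime_two, h2⟩
  haveI := Fact.mk hl
  haveI : IsSeparated A.hom := inferInstance
  haveI : Mono i' := GrpField.SchImg.mono_of_isClosedImmersion i'
  let w := specMap k K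
  let π : (bcK k K A).left ⟶ A.left := pullback.fst A.hom w
  -- the finite etale torsion subgroups
  let U : Set A.left := {a | ∃ (N : Over (Spec (CommRingCat.of k))) (n : N ⟶ A), Etale N.hom ∧ IsFinite N.hom ∧
    IsClosedImmersion n.left ∧ a ∈ Set.range n.left}
  have htors : ∀ (j : ℕ) (T : Over (Spec (CommRingCat.of k))) (x : T ⟶ A), x ^ (l ^ j) = 1 →
      ∀ t : T.left, x.left t ∈ U := by
    intro j T x hx t
    haveI := isMonHom_pow A (l ^ j)
    haveI : Etale (𝟙 A ^ (l ^ j)).left := S4112.result k A (l ^ j) (by rw [Nat.cast_pow]; exact pow_ne_zero _ hlk)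
    obtain ⟨N, hN, n, hnm, hnc, -, hnk⟩ := AdjRep.exists_kernel (𝟙 A ^ (l ^ j))
    haveI := hnm; haveI := hnc
    haveI hNe : Etale N.hom := by
      have h1 : Etale (toUnit N).left :=
        MorphismProperty.of_isPullback (hnk.map (Over.forget _)) ‹Etale (𝟙 A ^ (l ^ j)).left›
      rwa [Over.toUnit_left] at h1
    haveI : IsProper N.hom := by
      haveI : IsProper (n.left ≫ A.hom) := inferInstance
      rw [← Over.w n]; infer_instance
    haveI : LocallyQuasiFinite N.hom := FpqcDescent.locallyQuasiFinite_of_etale N.hom
    haveI hNf : IsFinite N.hom := IsFinite.of_locallyQuasiFinite N.hom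
    refine ⟨N, n, hNe, hNf, hnc, ⟨(hnk.lift x (toUnit T) ?_).left t, ?_⟩⟩
    · rw [MonObj.comp_pow, Category.comp_id, hx, Hom.one_def]
    · rw [← Scheme.Hom.comp_apply, ← Over.comp_left, hnk.lift_fst]
  -- density in the subvariety
  let Tor : Set B'.left := {b | π (i'.left b) ∈ U}
  have hTor : Dense Tor := by
    let Ω := AlgebraicClosure K
    let v := specMap K Ω
    let G := Over.pullback v
    haveI : GeometricallyIntegral (G.obj B').hom := inferInstanceAs (GeometricallyIntegral (pullback.snd B'.hom v))
    haveI : IsProper (G.obj B').hom := inferInstanceAs (IsProper (pullback.snd B'.hom v))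
    haveI : IsCommMonObj (G.obj B') := isCommMonObj_of_isProper_of_geometricallyIntegral _
    have hd := AVDeg.dense_torsion (A := G.obj B') (l := l) (by
      intro h
      apply hlk
      apply ((algebraMap K Ω).comp (algebraMap k K)).injective
      rw [map_natCast, map_zero]
      exact h)
    let q : (G.obj B').left ⟶ B'.left := pullback.fst B'.hom v
    haveI : Surjective v := (flat_surj_specMap Ω).2
    refine ((q.surjective.denseRange).dense_image q.continuous hd).mono ?_
    rintro _ ⟨_, ⟨a, ⟨n, hn⟩, rfl⟩, rfl⟩
    have h1 : (a ≫ G.map i') ^ (l ^ n) = 1 := by rw [← MonObj.pow_comp, hn, MonObj.one_comp]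
    obtain ⟨a₁, ha₁, ha₁l⟩ := exists_torsion_of_toBC v (a ≫ G.map i') h1
    obtain ⟨a₂, ha₂, ha₂l⟩ := exists_torsion_of_toBC w a₁ ha₁
    have key := htors n _ a₂ ha₂ (IsLocalRing.closedPoint Ω)
    have e : a₂.left = a.left ≫ q ≫ i'.left ≫ π := by
      rw [ha₂l, ha₁l, Over.comp_left, Category.assoc, Category.assoc]
      congr 1
      rw [← Category.assoc, show (G.map i').left ≫ pullback.fst (bcK k K A).hom v = q ≫ i'.left from
        pullback.lift_fst _ _ _, Category.assoc]
    rw [e] at key
    simpa [Tor, Scheme.Hom.comp_apply] using key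
  -- the image
  let U' : Set A.left := π '' Set.range i'.left ∩ U
  let C : TopologicalSpace.Closeds A.left := ⟨closure U', isClosed_closure⟩
  let I := Scheme.IdealSheafData.vanishingIdeal C
  let Z : Over (Spec (CommRingCat.of k)) := Over.mk (I.subschemeι ≫ A.hom)
  let c : Z ⟶ A := Over.homMk I.subschemeι rfl
  haveI : IsClosedImmersion c.left := inferInstanceAs (IsClosedImmersion I.subschemeι)
  haveI : IsReduced Z.left := GrpField.isReduced_vanishingIdeal C
  have hcr : Set.range c.left = closure U' := by
    show Set.range I.subschemeι = _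
    rw [Scheme.IdealSheafData.range_subschemeι, Scheme.IdealSheafData.coe_support_vanishingIdeal]
    rfl
  have hpre : π ⁻¹' U' = Set.range i'.left ∩ π ⁻¹' U := by
    ext z
    constructor
    · rintro ⟨⟨y, hy, hyz⟩, hzU⟩
      obtain ⟨N, n, -, hNf, hnc, hn⟩ := id hzU
      haveI := hNf; haveI := hnc
      exact ⟨subsingleton_fibre hK n (π z) hn (Set.mem_singleton_iff.2 hyz) (Set.mem_singleton (π z)) ▸ hy, hzU⟩
    · rintro ⟨hz, hzU⟩
      exact ⟨⟨z, hz, rfl⟩, hzU⟩
  have hπo : IsOpenMap π := by
    haveI : UniversallyOpen w := inferInstance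
    exact π.isOpenMap
  have hrange : Set.range i'.left = π ⁻¹' Set.range c.left := by
    rw [hcr, hπo.preimage_closure_eq_closure_preimage π.continuous, hpre]
    refine subset_antisymm ?_ (closure_minimal Set.inter_subset_left i'.left.isClosedEmbedding.isClosed_range)
    refine (i'.left.continuous.range_subset_closure_image_dense hTor).trans (closure_mono ?_)
    rintro _ ⟨b, hb, rfl⟩
    exact ⟨⟨b, rfl⟩, hb⟩
  haveI : GeometricallyReduced Z.hom := by
    refine geometricallyReduced_of_etale_points c ?_
    have h1 : Dense (c.left ⁻¹' U') := by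
      rw [dense_iff_closure_eq, c.left.isClosedEmbedding.isInducing.closure_eq_preimage_closure_image,
        Set.image_preimage_eq_inter_range, Set.inter_eq_left.2 (hcr ▸ subset_closure), ← hcr, Set.preimage_range]
    refine h1.mono ?_
    rintro z ⟨-, N, n, h1, h2, -, h4⟩
    exact ⟨N, n, h1, h2, h4⟩
  haveI : IsReduced B'.left :=
    haveI : GeometricallyReduced B'.hom := inferInstance
    GeometricallyReduced.geometrically_isReduced (f := B'.hom) (K := K) (𝟙 _) (𝟙 _) B'.hom
      (IsPullback.of_horiz_isIso ⟨by rw [Category.id_comp, Category.comp_id]⟩)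
  obtain ⟨B, hB, i, e, hi, -, hic, he⟩ := exists_desc_subgroup K i' (ker_eq_of_range_eq c i' hrange)
  haveI := hic
  haveI : IsProper (i.left ≫ A.hom) := inferInstance
  haveI : IsProper B.hom := by rw [← Over.w i]; infer_instance
  haveI : IsIso e.hom.left := inferInstanceAs (IsIso ((Over.forget _).map e.hom))
  haveI : GeometricallyIntegral (bcK k K B).hom := by
    haveI h2 : GeometricallyIntegral B'.hom := inferInstance
    have hb : (bcK k K B).hom = inv e.hom.left ≫ B'.hom := by rw [IsIso.eq_inv_comp]; exact Over.w e.hom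
    rw [hb]
    exact (MorphismProperty.cancel_left_of_respectsIso (P := @GeometricallyIntegral) _ _).2 h2
  haveI : GeometricallyReduced B.hom :=
    FlatMor.geometricallyReduced_of_baseChange (algebraMap k K) (IsPullback.of_hasPullback B.hom w)
      (hf' := inferInstanceAs (GeometricallyReduced (bcK k K B).hom))
  haveI : GeometricallyIrreducible B.hom := by
    haveI : Surjective w := (flat_surj_specMap K).2
    refine ⟨GeomConn.geometrically_descends _
      (fun P Q q _ h => @GeomConn.irreducibleSpace_of_surjective P Q q _ h) B.hom w ?_⟩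
    exact (show GeometricallyIrreducible (bcK k K B).hom from inferInstance).geometrically_irreducibleSpace
  haveI : GeometricallyIntegral B.hom :=
    GeometricallyIntegral.of_geometricallyReduced_of_geometricallyIrreducible B.hom
  exact ⟨B, hB, i, e, inferInstance, inferInstance, hi, hic, he⟩

end Groth.Agent.Chev.PrimaryDesc
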