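import Groth.Agent.GrassClosed.Points
import Groth.Prelude.Def_AlgGrp

/-!
# Actions from functorial operations on affine points
-/

set_option autoImplicit false
set_option backward.isDefEq.respectTransparency false

universe u

open CategoryTheory CategoryTheory.Limits MonoidalCategory CartesianMonoidalCategory MonObj GrpObj AlgebraicGeometry
open Groth.Agent.GrassClosed (SpA over_hom_ext exists_hom_of_points)

noncomputable section

namespace Groth.Agent.Chev.PtsAction

variable {R : Type u} [CommRing R]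

/-- The morphism of spectra of an algebra map. -/
def sp {A B : CommAlgCat.{u} R} (φ : A →ₐ[R] B) : SpA B ⟶ SpA A :=
  Over.homMk (Spec.map (CommRingCat.ofHom φ.toRingHom)) (by
    show Spec.map _ ≫ Spec.map _ = Spec.map _
    rw [← Spec.map_comp, ← CommRingCat.ofHom_comp]
    congr 2
    exact φ.comp_algebraMap)

/-- A functorial operation of points of a group on points of a scheme comes from an action. -/
theorem exists_action_of_points (G X : Over (Spec (CommRingCat.of R))) [GrpObj G]
    (op : ∀ A : CommAlgCat.{u} R, (SpA A ⟶ G) → (SpA A ⟶ X) → (SpA A ⟶ X))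
    (nat : ∀ (A B : CommAlgCat.{u} R) (φ : A →ₐ[R] B) (g : SpA A ⟶ G) (x : SpA A ⟶ X),
      sp φ ≫ op A g x = op B (sp φ ≫ g) (sp φ ≫ x))
    (hone : ∀ (A : CommAlgCat.{u} R) (x : SpA A ⟶ X), op A 1 x = x)
    (hmul : ∀ (A : CommAlgCat.{u} R) (g h : SpA A ⟶ G) (x : SpA A ⟶ X), op A (g * h) x = op A g (op A h x)) :
    ∃ a : AlgGrp.Action G X, ∀ (A : CommAlgCat.{u} R) (g : SpA A ⟶ G) (x : SpA A ⟶ X),
      lift g x ≫ a.act = op A g x := by
  obtain ⟨c, hc⟩ := exists_hom_of_points (Y := G ⊗ X) (X := X) (fun A p => op A (p ≫ fst G X) (p ≫ snd G X))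
    fun A B φ p p' hp => by
      have e : p' = sp φ.hom ≫ p := Over.OverMorphism.ext hp
      subst e
      rw [Category.assoc, Category.assoc, ← nat]
      rfl
  have hop : ∀ (A : CommAlgCat.{u} R) (g : SpA A ⟶ G) (x : SpA A ⟶ X), lift g x ≫ c = op A g x := fun A g x => by
    rw [hc, lift_fst, lift_snd]
  refine ⟨{ act := c, one_act := ?_, mul_act := ?_ }, hop⟩
  · refine over_hom_ext _ _ fun A p => ?_
    have e : p ≫ (η[G] ▷ X) = lift (1 : SpA A ⟶ G) (p ≫ snd _ X) := by
      refine CartesianMonoidalCategory.hom_ext _ _ ?_ ?_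
      · rw [Category.assoc, whiskerRight_fst, lift_fst, ← Category.assoc, toUnit_unique (p ≫ fst _ X) (toUnit _),
          Hom.one_def]
      · rw [Category.assoc, whiskerRight_snd, lift_snd]
    rw [← Category.assoc, e, hop, hone, leftUnitor_hom]
  · refine over_hom_ext _ _ fun A p => ?_
    have e1 : p ≫ (μ[G] ▷ X) = lift ((p ≫ fst _ X ≫ fst G G) * (p ≫ fst _ X ≫ snd G G)) (p ≫ snd _ X) := by
      refine CartesianMonoidalCategory.hom_ext _ _ ?_ ?_
      · rw [Category.assoc, whiskerRight_fst, lift_fst, Hom.mul_def, ← comp_lift, ← comp_lift, lift_fst_snd,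
          Category.comp_id, Category.assoc]
      · rw [Category.assoc, whiskerRight_snd, lift_snd]
    have e2 : p ≫ (α_ G G X).hom ≫ (G ◁ c) =
        lift (p ≫ fst _ X ≫ fst G G) (lift (p ≫ fst _ X ≫ snd G G) (p ≫ snd _ X) ≫ c) := by
      refine CartesianMonoidalCategory.hom_ext _ _ ?_ ?_
      · simp
      · simp only [Category.assoc, whiskerLeft_snd, lift_snd]
        rw [← Category.assoc p]
        rw [← Category.assoc (p ≫ (α_ G G X).hom)]
        congr 1
        refine CartesianMonoidalCategory.hom_ext _ _ ?_ ?_ <;> simp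
    rw [← Category.assoc, e1, hop, hmul]
    rw [reassoc_of% e2, hop, hop]

end Groth.Agent.Chev.PtsAction
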