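import Groth.Agent.Chev.Complement
import Groth.Agent.Chev.Main

/-!
# Quasi-complements of abelian subvarieties over an algebraically closed field
-/

set_option autoImplicit false
set_option backward.isDefEq.respectTransparency false

universe u

open CategoryTheory CategoryTheory.Limits MonoidalCategory CartesianMonoidalCategory MonObj GrpObj AlgebraicGeometry

noncomputable section

namespace Groth.Agent.Chev

variable {k : Type u} [Field k] {G A N R : Over (Spec (CommRingCat.of k))}

/-- The image of a product map is the preimage of the image. -/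
theorem range_whiskerLeft (h : R ⟶ N) :
    Set.range (A ◁ h).left = (snd A N).left ⁻¹' Set.range h.left := by
  have hpb : IsPullback (A ◁ h) (snd A R) (snd A N) h := by
    refine IsPullback.mk' (by simp) (fun T φ φ' e₁ e₂ => ?_) fun T a b e => ?_
    · apply CartesianMonoidalCategory.hom_ext
      · have := congrArg (· ≫ fst A N) e₁
        simpa using this
      · exact e₂
    · refine ⟨lift (a ≫ fst A N) b, ?_, lift_snd _ _⟩
      rw [lift_whiskerLeft, ← e]
      apply CartesianMonoidalCategory.hom_ext <;> simp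
  have h' : IsPullback (A ◁ h).left (snd A R).left (snd A N).left h.left := hpb.map (Over.forget _)
  rw [← h'.isoPullback_hom_fst, Scheme.Hom.comp_base, TopCat.coe_comp, Set.range_comp,
    Set.range_eq_univ.2 h'.isoPullback.hom.surjective, Set.image_univ, Scheme.Pullback.range_fst]

variable [IsAlgClosed k]

/-- Every point of a smooth group is in a translate of the identity component. -/
theorem exists_translate [GrpObj R] [Smooth R.hom] [QuasiCompact R.hom] {G₀ : Over (Spec (CommRingCat.of k))}
    (c : G₀ ⟶ R) (hr : Set.range c.left = connectedComponent (GrpComp.ept R)) :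
    ∃ (J : Type u) (_ : Finite J) (z : J → RP R), ∀ p : R.left, ∃ C, p ∈ Set.range (c ≫ tr (z C)).left := by
  haveI : IsLocallyNoetherian R.left := LocallyOfFiniteType.isLocallyNoetherian R.hom
  haveI : CompactSpace R.left := QuasiCompact.compactSpace_of_compactSpace R.hom
  haveI : IsNoetherian R.left := { }
  haveI : JacobsonSpace R.left := LocallyOfFiniteType.jacobsonSpace R.hom
  have hone : GrpComp.ept R = SubGen.rpt (1 : RP R) := (GrpComp.one_apply _).symm
  have hpick : ∀ C : irreducibleComponents R.left, ∃ z : RP R, SubGen.rpt z ∈ C.1 := fun C => by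
    obtain ⟨w, hw, hwc⟩ := nonempty_inter_closedPoints C.2.1.nonempty
      (isClosed_of_mem_irreducibleComponents C.1 C.2).isLocallyClosed
    obtain ⟨z, rfl⟩ := SubGen.exists_rpt hwc
    exact ⟨z, hw⟩
  choose z hz using hpick
  refine ⟨irreducibleComponents R.left, TopologicalSpace.NoetherianSpace.finite_irreducibleComponents.to_subtype,
    z, fun p => ⟨⟨_, irreducibleComponent_mem_irreducibleComponents p⟩, ?_⟩⟩
  let C : irreducibleComponents R.left := ⟨_, irreducibleComponent_mem_irreducibleComponents p⟩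
  have hp : p ∈ connectedComponent (SubGen.rpt (z C)) :=
    C.2.1.isConnected.subset_connectedComponent (hz C) mem_irreducibleComponent
  have hc : (tr (z C)⁻¹).left (SubGen.rpt (z C)) = GrpComp.ept R := by
    rw [hone, SubGen.map_rpt, comp_tr, toUnit_unique (toUnit _) (𝟙 _), Category.id_comp, mul_inv_cancel]
  have h1 : (tr (z C)⁻¹).left p ∈ connectedComponent (GrpComp.ept R) := by
    rw [← hc]
    exact ((tr (z C)⁻¹).left.continuous.image_connectedComponent_subset _) ⟨p, hp, rfl⟩
  rw [← hr] at h1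
  obtain ⟨w, hw⟩ := h1
  refine ⟨w, ?_⟩
  show (tr (z C)).left (c.left w) = p
  rw [hw]
  have h2 := congrArg (fun q : R ⟶ R => q.left p) ((tr_tr (z C)⁻¹ (z C)).trans (by rw [inv_mul_cancel, tr_one]))
  simpa using h2

/-- An abelian subvariety has a connected smooth normal quasi-complement. -/
theorem exists_quasiComplement [GrpObj G] [GrpObj A] [Smooth G.hom] [QuasiCompact G.hom] [ConnectedSpace G.left]
    [IsProper A.hom] [Smooth A.hom] [ConnectedSpace A.left] (i : A ⟶ G) [IsMonHom i] [IsClosedImmersion i.left] :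
    ∃ (H : Over (Spec (CommRingCat.of k))) (_ : GrpObj H) (h : H ⟶ G), IsMonHom h ∧ IsClosedImmersion h.left ∧
      Smooth H.hom ∧ ConnectedSpace H.left ∧ AlgGrp.IsNormalHom h ∧ Surjective ((i ⊗ₘ h) ≫ μ[G]).left ∧
      IsFinite (Limits.pullback.fst i.left h.left ≫ A.hom) := by
  haveI : IsSeparated G.hom := GrpField.isSeparated_hom G
  haveI := geometricallyIntegral_of_group (A := G)
  haveI := geometricallyIntegral_of_group (A := A)
  haveI : IsIntegral G.left := GeometricallyIntegral.isIntegral_of_subsingleton G.hom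
  obtain ⟨r, n, hn, hr, hir⟩ := exists_retraction i
  haveI := hr
  obtain ⟨N, hN, j, hjm, hjc, hjn, hker⟩ := AdjRep.exists_kernel r
  haveI := hjm
  haveI := hjc
  have hcent : ∀ (T : Over (Spec (CommRingCat.of k))) (a : T ⟶ A) (g : T ⟶ G), g * (a ≫ i) = (a ≫ i) * g :=
    fun _ a g => commute_abelianSubvariety i a g
  have hjr : j ≫ r = 1 := by rw [hker.w, Hom.one_def]
  obtain ⟨R, hR, c, hcm, hcc, hcs, hsm, hcn⟩ := exists_red_subgroup j hjn
  haveI := hcm
  haveI := hcc
  haveI := hcs
  haveI := hsm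
  haveI : QuasiCompact R.hom := by rw [← Over.w (c ≫ j)]; infer_instance
  obtain ⟨H, hH, c₀, h0m, h0c, h0s, h0i, h0r⟩ := exists_component R
  haveI := h0m
  haveI := h0c
  haveI := h0s
  haveI := h0i
  haveI : ConnectedSpace H.left := inferInstance
  let h : H ⟶ G := c₀ ≫ c ≫ j
  haveI : IsClosedImmersion h.left := by rw [Over.comp_left]; infer_instance
  haveI : IsMonHom h := inferInstanceAs (IsMonHom (c₀ ≫ c ≫ j))
  haveI : QuasiCompact H.hom := by rw [← Over.w h]; infer_instance
  haveI : IsSeparated H.hom := GrpField.isSeparated_hom H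
  haveI := geometricallyIntegral_of_group (A := H)
  have hnorm : AlgGrp.IsNormalHom h := by
    haveI := AVRat.geometricallyIntegral_prod (X := G) (Y := H)
    haveI : IsIntegral (G ⊗ H).left := GeometricallyIntegral.isIntegral_of_subsingleton (G ⊗ H).hom
    obtain ⟨w, hw⟩ := hcn (G ⊗ H) (fst G H) (snd G H ≫ c₀)
    haveI : Mono (c ≫ j) := GrpField.SchImg.mono_of_isClosedImmersion (c ≫ j)
    have h1 : lift (1 : RP G) (1 : RP H) ≫ w = 1 := by
      rw [← cancel_mono (c ≫ j), Category.assoc, ← hw, MonObj.one_comp]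
      simp only [MonObj.comp_mul, GrpObj.comp_inv, Category.assoc, lift_fst, lift_snd_assoc, MonObj.one_comp,
        _root_.one_mul, _root_.mul_one, inv_one]
    have hsub : Set.range w.left ⊆ Set.range c₀.left := by
      rw [h0r]
      refine ((isConnected_range w.left.continuous).subset_connectedComponent ⟨SubGen.rpt (lift (1 : RP G) (1 : RP H)), ?_⟩)
      rw [SubGen.map_rpt, h1]
      exact GrpComp.one_apply _
    obtain ⟨w', hw'⟩ := exists_lift_range w c₀ hsub
    intro T g x
    refine ⟨lift g x ≫ w', ?_⟩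
    have e := congrArg (lift g x ≫ ·) hw
    simp only [MonObj.comp_mul, GrpObj.comp_inv, Category.assoc, lift_fst, lift_snd_assoc] at e
    rw [Category.assoc, reassoc_of% hw']
    exact e
  have hcomm : ∀ (T : Over (Spec (CommRingCat.of k))) (a : T ⟶ A) (x : T ⟶ H),
      (a ≫ i) * (x ≫ h) = (x ≫ h) * (a ≫ i) := fun T a x => (hcent T a _).symm
  refine ⟨H, hH, h, inferInstance, inferInstance, h0s, inferInstance, hnorm, ?_,
    isFinite_inter i h r n hn hir (by simp only [h, Category.assoc, hjr, MonObj.comp_one])⟩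
  haveI hmR : Surjective ((i ⊗ₘ (c ≫ j)) ≫ μ[G]).left := by
    have e : (i ⊗ₘ (c ≫ j)) ≫ μ[G] = (A ◁ c) ≫ (i ⊗ₘ j) ≫ μ[G] := by
      rw [← Category.assoc]; congr 1
      apply CartesianMonoidalCategory.hom_ext <;> simp
    haveI := surjective_whiskerLeft (A := A) c
    haveI := surjective_tensor_mul_of_kernel i j r n hn hir hker hcent
    rw [e, Over.comp_left]; infer_instance
  let m := (i ⊗ₘ h) ≫ μ[G]
  haveI : IsMonHom m := isMonHom_tensor_mul i h hcomm
  haveI : QuasiCompact (A ⊗ H).hom := inferInstanceAs (QuasiCompact (Limits.pullback.fst A.hom H.hom ≫ A.hom))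
  haveI : LocallyOfFiniteType (A ⊗ H).hom :=
    inferInstanceAs (LocallyOfFiniteType (Limits.pullback.fst A.hom H.hom ≫ A.hom))
  haveI : QuasiCompact m.left := by
    haveI : QuasiCompact (m.left ≫ G.hom) := by rw [Over.w]; infer_instance
    exact QuasiCompact.of_comp _ G.hom
  haveI : IsLocallyNoetherian G.left := LocallyOfFiniteType.isLocallyNoetherian G.hom
  haveI : LocallyOfFiniteType m.left := by
    haveI : LocallyOfFiniteType (m.left ≫ G.hom) := by rw [Over.w]; infer_instance
    exact locallyOfFiniteType_of_comp m.left G.hom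
  haveI : LocallyOfFinitePresentation m.left := inferInstance
  have hcl : IsClosed (Set.range m.left) := GrpField.isClosed_range m
  obtain ⟨J, hJ, z, hz⟩ := exists_translate c₀ h0r
  have hcov : ∀ x : G.left, ∃ C, x ∈ (tr (z C ≫ c ≫ j)).left '' Set.range m.left := by
    intro x
    obtain ⟨u, hu⟩ := hmR.surj x
    obtain ⟨C, hC⟩ := hz ((snd A R).left u)
    obtain ⟨u', hu'⟩ : u ∈ Set.range (A ◁ (c₀ ≫ tr (z C))).left := by rw [range_whiskerLeft]; exact hC
    refine ⟨C, m.left u', ⟨u', rfl⟩, ?_⟩
    have e : (A ◁ (c₀ ≫ tr (z C))) ≫ (i ⊗ₘ (c ≫ j)) ≫ μ[G] = m ≫ tr (z C ≫ c ≫ j) := by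
      have hm : m = (fst A H ≫ i) * (snd A H ≫ h) := by
        have := comp_tensor_mul i h (𝟙 (A ⊗ H))
        simpa only [Category.id_comp] using this
      rw [comp_tensor_mul, whiskerLeft_fst, whiskerLeft_snd, comp_tr, hm, ← Category.assoc (snd A H) c₀, comp_tr]
      simp only [h, MonObj.mul_comp, MonObj.comp_mul, comp_toUnit_assoc, Category.assoc, _root_.mul_assoc]
    have e' := congrArg (fun q => q.left u') e
    simp only [Over.comp_left, Scheme.Hom.comp_apply] at e'
    rw [← hu', Over.comp_left, Scheme.Hom.comp_apply] at hu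
    exact e'.symm.trans hu
  have hcl' : ∀ C, IsClosed ((tr (z C ≫ c ≫ j)).left '' Set.range m.left) := fun C => by
    haveI : IsIso (tr (z C ≫ c ≫ j)) := ⟨tr (z C ≫ c ≫ j)⁻¹, by rw [tr_tr, mul_inv_cancel, tr_one],
      by rw [tr_tr, inv_mul_cancel, tr_one]⟩
    haveI : IsIso (tr (z C ≫ c ≫ j)).left := inferInstanceAs (IsIso ((Over.forget _).map (tr (z C ≫ c ≫ j))))
    exact (tr (z C ≫ c ≫ j)).left.isClosedEmbedding.isClosedMap _ hcl
  haveI := hJ
  haveI : Fintype J := Fintype.ofFinite J
  classical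
  obtain ⟨C, hC, hsub⟩ := (isIrreducible_iff_sUnion_isClosed.1 (IrreducibleSpace.isIrreducible_univ G.left))
    (Finset.univ.image fun C => (tr (z C ≫ c ≫ j)).left '' Set.range m.left)
    (by intro S hS; obtain ⟨C, -, rfl⟩ := Finset.mem_image.1 hS; exact hcl' C)
    (fun x _ => by
      obtain ⟨C, hC⟩ := hcov x
      exact ⟨_, Finset.mem_coe.2 (Finset.mem_image_of_mem _ (Finset.mem_univ C)), hC⟩)
  obtain ⟨C, -, rfl⟩ := Finset.mem_image.1 hC
  refine ⟨fun x => ?_⟩
  obtain ⟨y, hy, hyx⟩ := hsub (Set.mem_univ ((tr (z C ≫ c ≫ j)).left x))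
  haveI : IsIso (tr (z C ≫ c ≫ j)) := ⟨tr (z C ≫ c ≫ j)⁻¹, by rw [tr_tr, mul_inv_cancel, tr_one],
    by rw [tr_tr, inv_mul_cancel, tr_one]⟩
  haveI : IsIso (tr (z C ≫ c ≫ j)).left := inferInstanceAs (IsIso ((Over.forget _).map (tr (z C ≫ c ≫ j))))
  obtain rfl := (tr (z C ≫ c ≫ j)).left.isClosedEmbedding.injective hyx
  exact hy

end Groth.Agent.Chev
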