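import Groth.Prelude.Def_AGF
import Groth.Agent.Chev.Complement
import Groth.Agent.S0593

/-!
# Quotients by a subgroup and by a subgroup with the same space
-/

set_option autoImplicit false
set_option backward.isDefEq.respectTransparency false

universe u

open CategoryTheory CategoryTheory.Limits MonoidalCategory CartesianMonoidalCategory MonObj GrpObj AlgebraicGeometry

noncomputable section

namespace Groth.Agent.Chev

/-- A universally injective morphism with universally open composite from a surjection is universally closed. -/
theorem universallyClosed_of_universallyInjective {W X Y : Scheme.{u}} (p : W ⟶ X) (f : X ⟶ Y) [Surjective p]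
    [Surjective f] [UniversallyInjective f] [UniversallyOpen (p ≫ f)] : UniversallyClosed f := by
  refine ⟨fun {X' Y'} i₁ i₂ f' h => ?_⟩
  haveI : UniversallyInjective f' := MorphismProperty.of_isPullback h.flip ‹UniversallyInjective f›
  haveI : Surjective f' := MorphismProperty.of_isPullback h.flip ‹Surjective f›
  let q := pullback.fst i₁ p
  haveI : Surjective q := MorphismProperty.pullback_fst _ _ inferInstance
  haveI : UniversallyOpen (q ≫ f') :=
    MorphismProperty.of_isPullback ((IsPullback.of_hasPullback i₁ p).paste_horiz h).flip ‹UniversallyOpen (p ≫ f)›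
  show IsClosedMap f'
  intro C hC
  have : f' '' C = ((q ≫ f') '' (q ⁻¹' Cᶜ))ᶜ := by
    rw [Scheme.Hom.comp_base, TopCat.coe_comp, Set.image_comp, Set.image_preimage_eq _ q.surjective,
      Set.image_compl_eq ⟨f'.injective, f'.surjective⟩, compl_compl]
  rw [this]
  exact ((q ≫ f').isOpenMap _ (hC.isOpen_compl.preimage q.continuous)).isClosed_compl

variable {k : Type u} [Field k]

set_option maxHeartbeats 1000000 in
/-- The map between quotients is finite and surjective. -/
theorem exists_finite_surjective {G H H' X X' : Over (Spec (CommRingCat.of k))} [GrpObj G] [GrpObj H] [GrpObj H']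
    [LocallyOfFiniteType G.hom] [QuasiCompact G.hom] (h : H ⟶ G) (h' : H' ⟶ H) [Surjective h'.left]
    (a : AlgGrp.Action G X) (o : 𝟙_ (Over (Spec (CommRingCat.of k))) ⟶ X) (hX : AGF.IsQuotient h X a o)
    (a' : AlgGrp.Action G X') (o' : 𝟙_ (Over (Spec (CommRingCat.of k))) ⟶ X') (hX' : AGF.IsQuotient (h' ≫ h) X' a' o') :
    ∃ f : X' ⟶ X, IsFinite f.left ∧ Surjective f.left := by
  obtain ⟨hft, hfl, hsu, hsq⟩ := hX
  obtain ⟨hft', hfl', hsu', hsq'⟩ := hX'
  haveI := hft; haveI := hfl; haveI := hsu; haveI := hft'; haveI := hfl'; haveI := hsu'
  let π := a.orbitMap o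
  let π' := a'.orbitMap o'
  haveI : IsLocallyNoetherian X.left := LocallyOfFiniteType.isLocallyNoetherian X.hom
  haveI : IsLocallyNoetherian X'.left := LocallyOfFiniteType.isLocallyNoetherian X'.hom
  haveI : QuasiCompact π'.left := by
    haveI : QuasiCompact (π'.left ≫ X'.hom) := by rw [Over.w]; infer_instance
    exact QuasiCompact.of_comp _ X'.hom
  have hmap : ∀ {T : Over (Spec (CommRingCat.of k))} (g₁ g₂ : T ⟶ G), g₁ ≫ π' = g₂ ≫ π' → g₁ ≫ π = g₂ ≫ π := by
    intro T g₁ g₂ e
    obtain ⟨z, rfl, rfl⟩ := hsq'.exists_lift g₁ g₂ e
    have e2 := ((z ≫ (G ◁ h')) ≫= hsq.w : _)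
    simpa [whiskerLeft_fst] using e2
  let d : X'.left ⟶ X.left := EffectiveEpi.desc π'.left π.left (fun {Z} g₁ g₂ e => by
    let T : Over (Spec (CommRingCat.of k)) := Over.mk (g₁ ≫ G.hom)
    have e2 : g₂ ≫ G.hom = g₁ ≫ G.hom := by
      rw [← Over.w π', ← Category.assoc, ← e, Category.assoc, Over.w]
    exact congrArg CommaMorphism.left (hmap (Over.homMk (U := T) g₁ rfl) (Over.homMk (U := T) g₂ e2)
      (Over.OverMorphism.ext e)))
  have hd : π'.left ≫ d = π.left := EffectiveEpi.fac π'.left _ _
  let f : X' ⟶ X := Over.homMk d (by
    haveI : Epi π'.left := inferInstance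
    rw [← cancel_epi π'.left, ← Category.assoc, hd, Over.w π, Over.w π'])
  haveI : Surjective (π'.left ≫ f.left) := by show Surjective (π'.left ≫ d); rw [hd]; infer_instance
  haveI : Surjective f.left := Surjective.of_comp π'.left f.left
  haveI : LocallyOfFiniteType (π.left ≫ X.hom) := by rw [Over.w]; infer_instance
  haveI : LocallyOfFiniteType π.left := locallyOfFiniteType_of_comp _ X.hom
  haveI : UniversallyOpen π.left := inferInstance
  haveI : UniversallyOpen (π'.left ≫ f.left) := by show UniversallyOpen (π'.left ≫ d); rw [hd]; infer_instance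
  -- universal injectivity
  haveI : UniversallyInjective f.left := by
    rw [UniversallyInjective.iff_diagonal]
    have hsqL : IsPullback (fst G H).left ((G ◁ h) ≫ μ[G]).left π.left π.left := hsq.map (Over.forget _)
    let ψ : pullback π.left π.left ⟶ pullback f.left f.left :=
      pullback.map _ _ _ _ π'.left π'.left (𝟙 X.left) (by rw [Category.comp_id]; exact hd.symm)
        (by rw [Category.comp_id]; exact hd.symm)
    haveI : Surjective ψ := by
      let A := pullback.snd π'.left (pullback.fst f.left f.left)
      let B := pullback.snd π'.left (A ≫ pullback.snd f.left f.left)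
      haveI : Surjective A := MorphismProperty.pullback_snd _ _ inferInstance
      haveI : Surjective B := MorphismProperty.pullback_snd _ _ inferInstance
      let l : pullback π'.left (A ≫ pullback.snd f.left f.left) ⟶ pullback π.left π.left :=
        pullback.lift (B ≫ pullback.fst π'.left (pullback.fst f.left f.left))
          (pullback.fst π'.left (A ≫ pullback.snd f.left f.left)) (by
            rw [← hd, Category.assoc, pullback.condition_assoc, pullback.condition_assoc, Category.assoc]
            show B ≫ A ≫ pullback.fst f.left f.left ≫ f.left = B ≫ A ≫ pullback.snd f.left f.left ≫ f.left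
            rw [pullback.condition])
      have hl : l ≫ ψ = B ≫ A := by
        apply pullback.hom_ext
        · simp only [Category.assoc, ψ, pullback.lift_fst]
          rw [pullback.lift_fst_assoc, Category.assoc, pullback.condition]
        · simp only [Category.assoc, ψ, pullback.lift_snd]
          rw [pullback.lift_snd_assoc, pullback.condition]
      haveI : Surjective (l ≫ ψ) := by rw [hl]; infer_instance
      exact Surjective.of_comp l ψ
    haveI : Surjective (G ◁ h').left := surjective_whiskerLeft h'
    let χ : (G ⊗ H').left ⟶ pullback f.left f.left := (G ◁ h').left ≫ hsqL.isoPullback.hom ≫ ψ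
    haveI : Surjective χ := inferInstance
    have hw : ((fst G H').left ≫ π'.left) = ((G ◁ (h' ≫ h)) ≫ μ[G]).left ≫ π'.left := by
      rw [← Over.comp_left, ← Over.comp_left, hsq'.w]
    have e : ((fst G H').left ≫ π'.left) ≫ pullback.diagonal f.left = χ := by
      apply pullback.hom_ext
      · simp only [χ, ψ, Category.assoc, pullback.diagonal_fst, Category.comp_id, pullback.lift_fst,
          IsPullback.isoPullback_hom_fst_assoc]
        simp only [← Category.assoc, ← Over.comp_left, whiskerLeft_fst]
      · simp only [χ, ψ, Category.assoc, pullback.diagonal_snd, Category.comp_id, pullback.lift_snd,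
          IsPullback.isoPullback_hom_snd_assoc]
        rw [hw]
        simp only [← Category.assoc, ← Over.comp_left, MonoidalCategory.whiskerLeft_comp]
    haveI : Surjective (((fst G H').left ≫ π'.left) ≫ pullback.diagonal f.left) := by rw [e]; infer_instance
    exact Surjective.of_comp ((fst G H').left ≫ π'.left) _
  haveI : UniversallyClosed f.left := universallyClosed_of_universallyInjective π'.left f.left
  haveI : IsSeparated f.left := by
    haveI : Surjective (pullback.diagonal f.left) := (UniversallyInjective.iff_diagonal _).1 inferInstance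
    refine ⟨IsClosedImmersion.of_isPreimmersion _ ?_⟩
    rw [Set.range_eq_univ.2 (pullback.diagonal f.left).surjective]
    exact isClosed_univ
  haveI : LocallyOfFiniteType (f.left ≫ X.hom) := by rw [Over.w]; infer_instance
  haveI : LocallyOfFiniteType f.left := locallyOfFiniteType_of_comp _ X.hom
  haveI : IsProper f.left := {}
  haveI : LocallyQuasiFinite f.left := LocallyQuasiFinite.of_injective f.left.injective
  exact ⟨f, IsFinite.of_isProper_of_locallyQuasiFinite f.left, inferInstance⟩

end Groth.Agent.Chev
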