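import Groth.Agent.Chev.AVKernel
import Groth.Agent.Chev.Complement

/-!
# The reduction of a connected closed subgroup of an abelian variety
-/

set_option autoImplicit false
set_option backward.isDefEq.respectTransparency false

universe u

open CategoryTheory Limits MonoidalCategory CartesianMonoidalCategory MonObj GrpObj AlgebraicGeometry
open AlgGrp
open scoped CategoryTheory.Obj

noncomputable section

namespace Groth.Agent.Chev.Chow

open AVDeg (bcK specMap)
open Groth.Agent.Chev

variable {k : Type u} [Field k]

set_option maxHeartbeats 1000000 in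
/-- A connected proper commutative group has a closed abelian subgroup on the whole space. -/
theorem exists_av_full (Y : Over (Spec (CommRingCat.of k))) [GrpObj Y] [IsCommMonObj Y] [IsProper Y.hom]
    [ConnectedSpace Y.left] :
    ∃ (M : Over (Spec (CommRingCat.of k))) (_ : GrpObj M) (iM : M ⟶ Y), IsProper M.hom ∧
      GeometricallyIntegral M.hom ∧ IsMonHom iM ∧ IsClosedImmersion iM.left ∧ Surjective iM.left := by
  obtain ⟨Q, hQ, v, w, e, he, hvm, hwm, hQs, hvs, hvi, hve, hvw⟩ := exists_smooth_quot_pow Y
  haveI := hvm; haveI := hwm; haveI := hQs; haveI := hvs; haveI := hvi; haveI := hve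
  haveI : IsSeparated Q.hom := GrpField.isSeparated_hom Q
  haveI : IsProper (v.left ≫ Q.hom) := by rw [Over.w]; infer_instance
  haveI : UniversallyClosed Q.hom := UniversallyClosed.of_comp_surjective v.left Q.hom
  haveI : IsProper Q.hom := ⟨⟩
  haveI : ConnectedSpace Q.left := v.left.surjective.connectedSpace v.left.continuous
  haveI : GeometricallyIntegral Q.hom := geometricallyIntegral_of_group (A := Q)
  haveI := isCommMonObj_of_isProper_of_geometricallyIntegral Q
  haveI : Surjective w.left := by
    have hwv : w ≫ v = 𝟙 Q ^ e := by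
      rw [← cancel_epi v, ← Category.assoc, hvw, MonObj.pow_comp, Category.id_comp, MonObj.comp_pow,
        Category.comp_id]
    haveI : Surjective (w.left ≫ v.left) := by rw [← Over.comp_left, hwv]; exact surjective_pow_av Q he
    refine ⟨fun y => ?_⟩
    obtain ⟨q, hq⟩ := (w.left ≫ v.left).surjective (v.left y)
    exact ⟨q, v.left.injective (by rw [← Scheme.Hom.comp_apply]; exact hq)⟩
  obtain ⟨M, hM, g, iM, hMp, hMi, hgm, hgs, hiMm, hiMc, hgiM⟩ := exists_image_av w
  refine ⟨M, hM, iM, hMp, hMi, hiMm, hiMc, ?_⟩
  haveI : Surjective (g.left ≫ iM.left) := by rw [← Over.comp_left, hgiM]; infer_instance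
  exact Surjective.of_comp g.left iM.left

/-- The reduction of a connected closed subgroup of an abelian variety is an abelian subvariety. -/
theorem reduced_connected_subgroup {X : Over (Spec (CommRingCat.of k))} [GrpObj X] [IsProper X.hom]
    [GeometricallyIntegral X.hom] {Y : Over (Spec (CommRingCat.of k))} [GrpObj Y] (i : Y ⟶ X) [IsMonHom i]
    [IsClosedImmersion i.left] [ConnectedSpace Y.left]
    (Yr : Scheme.{u}) (j : Yr ⟶ Y.left) [IsClosedImmersion j] [Surjective j] [IsReduced Yr] :
    GeometricallyIntegral (j ≫ Y.hom) ∧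
      ∃ _ : GrpObj (Over.mk (j ≫ Y.hom)), IsMonHom (Over.homMk j rfl : Over.mk (j ≫ Y.hom) ⟶ Y) := by
  haveI := isCommMonObj_of_isProper_of_geometricallyIntegral X
  haveI : Mono i := GrpField.SchImg.mono_of_isClosedImmersion i
  haveI : IsCommMonObj Y := isCommMonObj_of_mono i
  haveI : IsProper Y.hom := by rw [← Over.w i]; infer_instance
  obtain ⟨M, hM, iM, hMp, hMi, hiMm, hiMc, hiMs⟩ := exists_av_full Y
  haveI := hiMm; haveI := hiMc; haveI := hMi; haveI := hiMs
  haveI : Subsingleton (Spec (CommRingCat.of k)) := inferInstanceAs (Subsingleton (PrimeSpectrum k))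
  haveI : IsIntegral M.left := GeometricallyIntegral.isIntegral_of_subsingleton M.hom
  let Z : Over (Spec (CommRingCat.of k)) := Over.mk (j ≫ Y.hom)
  let z : Z ⟶ Y := Over.homMk j rfl
  haveI : IsClosedImmersion z.left := inferInstanceAs (IsClosedImmersion j)
  haveI : IsReduced Z.left := inferInstanceAs (IsReduced Yr)
  haveI : Surjective z.left := inferInstanceAs (Surjective j)
  haveI : Mono z := GrpField.SchImg.mono_of_isClosedImmersion z
  haveI : Mono iM := GrpField.SchImg.mono_of_isClosedImmersion iM
  obtain ⟨a, ha⟩ := exists_lift_range z iM (by rw [Set.range_eq_univ.2 iM.left.surjective]; exact Set.subset_univ _)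
  obtain ⟨b, hb⟩ := exists_lift_range iM z (by rw [Set.range_eq_univ.2 z.left.surjective]; exact Set.subset_univ _)
  let φ : Z ≅ M := ⟨a, b, by rw [← cancel_mono z, Category.assoc, hb, ha, Category.id_comp],
    by rw [← cancel_mono iM, Category.assoc, ha, hb, Category.id_comp]⟩
  refine ⟨?_, ?_⟩
  · haveI : IsIso a := φ.isIso_hom
    haveI : IsIso a.left := inferInstanceAs (IsIso ((Over.forget _).map a))
    rw [show j ≫ Y.hom = a.left ≫ M.hom from (Over.w a).symm]
    exact (MorphismProperty.cancel_left_of_respectsIso @GeometricallyIntegral a.left M.hom).2 hMi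
  · exact GrpField.SchImg.exists_grpObj_of_div z
      ⟨η[M] ≫ b, by rw [Category.assoc, hb, IsMonHom.one_hom]⟩
      fun T k₁ k₂ => ⟨((k₁ ≫ a)⁻¹ * (k₂ ≫ a)) ≫ b, by
        rw [Category.assoc, hb, MonObj.mul_comp, GrpObj.inv_comp, Category.assoc, Category.assoc, ha]⟩

end Groth.Agent.Chev.Chow
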