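import Groth.Agent.Chev.Space

/-!
# Normalized equivalences and their action on the finite dimensional space
-/

set_option autoImplicit false
set_option backward.isDefEq.respectTransparency false

universe u

open CategoryTheory CategoryTheory.Limits MonoidalCategory CartesianMonoidalCategory MonObj GrpObj AlgebraicGeometry
open Polynomial

noncomputable section

namespace Groth.Agent.Chev

theorem exists_eval_ratio_at {k K : Type u} [Field k] [Field K] [Algebra k K] (G : (RatFunc K)[X]) (hG : G ≠ 0)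
    (s : K) :
    ∃ B : Finset k, ∀ v v₁ : k, v ∉ B → v₁ ∉ B →
      UnitAt s (G.eval (algebraMap k _ v) / G.eval (algebraMap k _ v₁)) := by
  classical
  obtain ⟨r, hr, hP⟩ := IsLocalization.integerNormalization_spec (nonZeroDivisors K[X]) G
  set P := IsLocalization.integerNormalization (nonZeroDivisors K[X]) G
  have hr0 : r ≠ 0 := nonZeroDivisors.ne_zero hr
  have hP' : P.map (algebraMap K[X] (RatFunc K)) = Polynomial.C (algebraMap _ _ r) * G :=
    hP.trans (Algebra.smul_def r G)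
  have hP0 : P ≠ 0 := fun e => by
    rw [e, Polynomial.map_zero] at hP'
    exact mul_ne_zero (C_ne_zero.2 (RatFunc.algebraMap_ne_zero hr0)) hG hP'.symm
  have hpr : Prime (Polynomial.C (X - Polynomial.C s) : K[X][X]) := prime_C_iff.2 (prime_X_sub_C s)
  obtain ⟨n, P₁, hP₁, hPeq⟩ := WfDvdMonoid.max_power_factor hP0 hpr.irreducible
  let P₂ : K[X] := P₁.map (evalRingHom s)
  have hP₂ : P₂ ≠ 0 := fun e => hP₁ (C_dvd_iff_dvd_coeff _ _ |>.2 fun i => dvd_iff_isRoot.2 (by
    have h := congrArg (fun q : K[X] => q.coeff i) e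
    simp only [P₂, coeff_map, coe_evalRingHom, coeff_zero] at h
    exact h))
  refine ⟨(Set.Finite.preimage (f := algebraMap k K) (algebraMap k K).injective.injOn
    P₂.roots.toFinset.finite_toSet).toFinset, fun v v₁ hv hv₁ => ?_⟩
  simp only [Set.Finite.mem_toFinset, Set.mem_preimage, Finset.mem_coe, Multiset.mem_toFinset, mem_roots hP₂] at hv hv₁
  have hev : ∀ t : k, (P₁.eval (Polynomial.C (algebraMap k K t))).eval s = P₂.eval (algebraMap k K t) := fun t => by
    have h := Polynomial.eval_map_apply (p := P₁) (f := evalRingHom s) (Polynomial.C (algebraMap k K t))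
    simp only [coe_evalRingHom, eval_C] at h
    exact h.symm
  refine ⟨P₁.eval (Polynomial.C (algebraMap k K v)), P₁.eval (Polynomial.C (algebraMap k K v₁)),
    by rw [hev]; exact hv, by rw [hev]; exact hv₁, ?_⟩
  have hGe : ∀ t : k, algebraMap K[X] (RatFunc K) r * G.eval (algebraMap k _ t) =
      algebraMap K[X] (RatFunc K) ((X - Polynomial.C s) ^ n) *
        algebraMap K[X] (RatFunc K) (P₁.eval (Polynomial.C (algebraMap k K t))) := fun t => by
    have h := congrArg (Polynomial.eval (algebraMap k (RatFunc K) t)) hP'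
    rw [eval_mul, eval_C] at h
    rw [← h, IsScalarTower.algebraMap_apply k K[X] (RatFunc K), Polynomial.eval_map, eval₂_at_apply, hPeq,
      ← map_mul, eval_mul, eval_pow, eval_C]
    rfl
  have hne : algebraMap K[X] (RatFunc K) ((X - Polynomial.C s) ^ n) ≠ 0 :=
    RatFunc.algebraMap_ne_zero (pow_ne_zero _ (X_sub_C_ne_zero s))
  have hr1 := RatFunc.algebraMap_ne_zero (K := K) hr0
  have h1 := hGe v
  have h2 := hGe v₁
  have hne1 : G.eval (algebraMap k _ v₁) ≠ 0 := fun e => by
    rw [e, mul_zero] at h2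
    exact mul_ne_zero hne (RatFunc.algebraMap_ne_zero fun e0 => hv₁ (by
      rw [IsRoot, ← hev, e0, eval_zero])) h2.symm
  field_simp
  apply mul_left_cancel₀ hr1
  apply mul_left_cancel₀ hne
  linear_combination (algebraMap K[X] (RatFunc K) ((X - Polynomial.C s) ^ n) *
    algebraMap K[X] (RatFunc K) (P₁.eval (Polynomial.C (algebraMap k K v₁)))) * h1 -
    (algebraMap K[X] (RatFunc K) ((X - Polynomial.C s) ^ n) *
    algebraMap K[X] (RatFunc K) (P₁.eval (Polynomial.C (algebraMap k K v)))) * h2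

theorem exists_eval_ratio_inf {k K : Type u} [Field k] [Field K] [Algebra k K] (G : (RatFunc K)[X]) (hG : G ≠ 0) :
    ∃ B : Finset k, ∀ v v₁ : k, v ∉ B → v₁ ∉ B →
      UnitInf (G.eval (algebraMap k _ v) / G.eval (algebraMap k _ v₁)) := by
  classical
  obtain ⟨r, hr, hP⟩ := IsLocalization.integerNormalization_spec (nonZeroDivisors K[X]) G
  set P := IsLocalization.integerNormalization (nonZeroDivisors K[X]) G
  have hr0 : r ≠ 0 := nonZeroDivisors.ne_zero hr
  have hP' : P.map (algebraMap K[X] (RatFunc K)) = Polynomial.C (algebraMap _ _ r) * G :=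
    hP.trans (Algebra.smul_def r G)
  have hP0 : P ≠ 0 := fun e => by
    rw [e, Polynomial.map_zero] at hP'
    exact mul_ne_zero (C_ne_zero.2 (RatFunc.algebraMap_ne_zero hr0)) hG hP'.symm
  let N := P.support.sup fun i => (P.coeff i).natDegree
  let P₂ : K[X] := ∑ i ∈ P.support, Polynomial.C ((P.coeff i).coeff N) * X ^ i
  have hP₂ : P₂ ≠ 0 := fun e => by
    obtain ⟨i, hi, hiN⟩ := Finset.exists_mem_eq_sup P.support (Polynomial.support_nonempty.2 hP0)
      fun i => (P.coeff i).natDegree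
    have h := congrArg (fun q : K[X] => q.coeff i) e
    simp only [P₂, finsetSum_coeff, coeff_C_mul, coeff_X_pow, mul_ite, _root_.mul_one, mul_zero, Finset.sum_ite_eq,
      if_pos hi, coeff_zero] at h
    rw [show N = (P.coeff i).natDegree from hiN, coeff_natDegree] at h
    exact mem_support_iff.1 hi (leadingCoeff_eq_zero.1 h)
  refine ⟨(Set.Finite.preimage (f := algebraMap k K) (algebraMap k K).injective.injOn
    P₂.roots.toFinset.finite_toSet).toFinset, fun v v₁ hv hv₁ => ?_⟩
  simp only [Set.Finite.mem_toFinset, Set.mem_preimage, Finset.mem_coe, Multiset.mem_toFinset, mem_roots hP₂] at hv hv₁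
  have hdeg : ∀ t : k, ¬ P₂.IsRoot (algebraMap k K t) →
      (P.eval (Polynomial.C (algebraMap k K t))).natDegree = N ∧ P.eval (Polynomial.C (algebraMap k K t)) ≠ 0 := by
    intro t ht
    have hc : (P.eval (Polynomial.C (algebraMap k K t))).coeff N = P₂.eval (algebraMap k K t) := by
      rw [eval_eq_sum, Polynomial.sum, finsetSum_coeff, eval_finsetSum]
      refine Finset.sum_congr rfl fun i _ => ?_
      rw [← map_pow, coeff_mul_C, eval_mul, eval_C, eval_pow, eval_X]
    have hle : (P.eval (Polynomial.C (algebraMap k K t))).natDegree ≤ N := by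
      rw [eval_eq_sum, Polynomial.sum]
      refine natDegree_sum_le_of_forall_le _ _ fun i hi => ?_
      rw [← map_pow]
      exact (natDegree_mul_C_le _ _).trans (Finset.le_sup (f := fun i => (P.coeff i).natDegree) hi)
    exact ⟨le_antisymm hle (le_natDegree_of_ne_zero (by rw [hc]; exact ht)),
      fun e => ht (by rw [IsRoot, ← hc, e, coeff_zero])⟩
  refine ⟨P.eval (Polynomial.C (algebraMap k K v)), P.eval (Polynomial.C (algebraMap k K v₁)),
    (hdeg v hv).2, (hdeg v₁ hv₁).2, (hdeg v hv).1.trans (hdeg v₁ hv₁).1.symm, ?_⟩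
  have hGe : ∀ t : k, algebraMap K[X] (RatFunc K) r * G.eval (algebraMap k _ t) =
      algebraMap K[X] (RatFunc K) (P.eval (Polynomial.C (algebraMap k K t))) := fun t => by
    have h := congrArg (Polynomial.eval (algebraMap k (RatFunc K) t)) hP'
    rw [eval_mul, eval_C] at h
    rw [← h, IsScalarTower.algebraMap_apply k K[X] (RatFunc K), Polynomial.eval_map, eval₂_at_apply]
    rfl
  have hr1 := RatFunc.algebraMap_ne_zero (K := K) hr0
  have h1 := hGe v
  have h2 := hGe v₁
  have hne1 : G.eval (algebraMap k _ v₁) ≠ 0 := fun e => by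
    rw [e, mul_zero] at h2
    exact RatFunc.algebraMap_ne_zero (hdeg v₁ hv₁).2 h2.symm
  field_simp
  rw [← h1, ← h2]
  ring

variable {k : Type u} [Field k] [IsAlgClosed k] {H : Over (Spec (CommRingCat.of k))} [GrpObj H] [IsCommMonObj H]
  [IsIntegral H.left] [Smooth H.hom]

theorem UnitAt.map_tL {s : k} {r : RatFunc (KF H)} (h : UnitAt (algebraMap k (KF H) s) r) (d : RP H) :
    UnitAt (algebraMap k (KF H) s) (RatCurve.tL d r) := by
  obtain ⟨p, q, hp, hq, e⟩ := h
  have key : ∀ p : (KF H)[X], (p.map (tK d).toRingHom).eval (algebraMap k (KF H) s) =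
      tK d (p.eval (algebraMap k (KF H) s)) := fun p => by
    conv_lhs => rw [← (tK d).commutes s]
    exact (Polynomial.eval_map_apply (f := (tK d).toRingHom) _)
  refine ⟨p.map (tK d).toRingHom, q.map (tK d).toRingHom, ?_, ?_, ?_⟩
  · rw [key]; exact (map_ne_zero_iff _ (tK d).toRingHom.injective).2 hp
  · rw [key]; exact (map_ne_zero_iff _ (tK d).toRingHom.injective).2 hq
  · rw [← RatCurve.tL_algebraMap, ← RatCurve.tL_algebraMap, ← map_mul, e]

theorem RegAt.map_tL {s : k} {r : RatFunc (KF H)} (h : RegAt (algebraMap k (KF H) s) r) (d : RP H) :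
    RegAt (algebraMap k (KF H) s) (RatCurve.tL d r) := by
  obtain ⟨p, q, hq, e⟩ := h
  refine ⟨p.map (tK d).toRingHom, q.map (tK d).toRingHom, ?_, ?_⟩
  · conv_lhs => rw [← (tK d).commutes s]
    rw [show ((tK d) ((algebraMap k (KF H)) s)) = (tK d).toRingHom (algebraMap k (KF H) s) from rfl,
      Polynomial.eval_map_apply]
    exact (map_ne_zero_iff _ (tK d).toRingHom.injective).2 hq
  · rw [← RatCurve.tL_algebraMap, ← RatCurve.tL_algebraMap, ← map_mul, e]

theorem UnitInf.map_tL {r : RatFunc (KF H)} (h : UnitInf r) (d : RP H) : UnitInf (RatCurve.tL d r) := by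
  obtain ⟨p, q, hp, hq, hd, e⟩ := h
  have hi := (tK d).toRingHom.injective
  exact ⟨p.map (tK d).toRingHom, q.map (tK d).toRingHom, (Polynomial.map_ne_zero_iff hi).2 hp,
    (Polynomial.map_ne_zero_iff hi).2 hq, by rw [natDegree_map_eq_of_injective hi, natDegree_map_eq_of_injective hi, hd],
    by rw [← RatCurve.tL_algebraMap, ← RatCurve.tL_algebraMap, ← map_mul, e]⟩

theorem RegInf.map_tL {r : RatFunc (KF H)} (h : RegInf r) (d : RP H) : RegInf (RatCurve.tL d r) := by
  obtain ⟨p, q, hq, hd, e⟩ := h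
  have hi := (tK d).toRingHom.injective
  exact ⟨p.map (tK d).toRingHom, q.map (tK d).toRingHom, (Polynomial.map_ne_zero_iff hi).2 hq,
    by rwa [natDegree_map_eq_of_injective hi, natDegree_map_eq_of_injective hi],
    by rw [← RatCurve.tL_algebraMap, ← RatCurve.tL_algebraMap, ← map_mul, e]⟩

variable {W : H.left.Opens} (E : Equations H W) (cs : Bool → RatCurve H)

/-- An equivalence without zeros and poles at the missing parameters. -/
def IsNormalPair (h : RP H) (f : KF H) : Prop := IsPair E h f ∧ ∀ ε, (cs ε).BdryUnit ((cs ε).tau f)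

theorem IsNormalPair.one : IsNormalPair E cs 1 1 :=
  ⟨IsPair.one E, fun ε => by rw [map_one]; exact ⟨fun s _ => UnitAt.one _, UnitInf.one⟩⟩

theorem IsNormalPair.mul {h h' : RP H} {f f' : KF H} (a : IsNormalPair E cs h f) (b : IsNormalPair E cs h' f') :
    IsNormalPair E cs (h * h') (f * tK h f') := ⟨a.1.mul E b.1, fun ε => by
  rw [map_mul, ← RatCurve.tL_tau]
  exact ⟨fun s hs => ((a.2 ε).1 s hs).mul (((b.2 ε).1 s hs).map_tL h), (a.2 ε).2.mul ((b.2 ε).2.map_tL h)⟩⟩

theorem IsNormalPair.inv {h : RP H} {f : KF H} (a : IsNormalPair E cs h f) :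
    IsNormalPair E cs h⁻¹ (tK h⁻¹ f)⁻¹ := ⟨a.1.inv E, fun ε => by
  rw [map_inv₀, ← RatCurve.tL_tau]
  exact ⟨fun s hs => (((a.2 ε).1 s hs).map_tL _).inv, ((a.2 ε).2.map_tL _).inv⟩⟩

/-- Translations admitting a normalized equivalence. -/
def normalSubgroup : Subgroup (RP H) where
  carrier := {h | ∃ f, IsNormalPair E cs h f}
  mul_mem' := fun ⟨f, hf⟩ ⟨f', hf'⟩ => ⟨_, hf.mul E cs hf'⟩
  one_mem' := ⟨1, IsNormalPair.one E cs⟩
  inv_mem' := fun ⟨f, hf⟩ => ⟨_, hf.inv E cs⟩

theorem IsNormalPair.mem_Vsp {h : RP H} {f a : KF H} (hf : IsNormalPair E cs h f) (ha : a ∈ Vsp E cs) :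
    f * tK h a ∈ Vsp E cs := ⟨hf.1.mem_LD E ha.1, fun ε => by
  rw [map_mul, ← RatCurve.tL_tau]
  exact ⟨fun s hs => ((hf.2 ε).1 s hs).regAt.mul (((ha.2 ε).1 s hs).map_tL h),
    (hf.2 ε).2.regInf.mul ((ha.2 ε).2.map_tL h)⟩⟩

theorem exists_const_of_normal {f : KF H} (hf : IsNormalPair E cs 1 f)
    (hinv : ∀ S : Subgroup (RP H), (∀ s s' : k, (cs true).g.eval s ≠ 0 → (cs true).g.eval s' ≠ 0 →
      ((cs true).uv s')⁻¹ * (cs true).uv s ∈ S) → S = ⊤) :
    ∃ t : k, f = algebraMap k (KF H) t := by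
  classical
  let c := cs true
  have hun : ∀ y, Un y f := fun y => by
    have h := hf.1 y
    rw [tK_one, sh_one, mul_div_assoc, div_self (E.ne_zero y), _root_.mul_one] at h
    exact h
  obtain ⟨B, hBd, hB⟩ := c.exists_tau_poly (a := f)
    ⟨fun s hs => ((hf.2 true).1 s hs).regAt, (hf.2 true).2.regInf⟩ (F := 1) one_ne_zero fun P hP hPp hQ => by
      obtain ⟨p, q, -, hq, e⟩ := c.uAt_of_un hQ (hun _)
      rw [RatCurve.inc_generic, RatCurve.inc_generic] at e
      exact ⟨p, q, fun h => hq (Ideal.mem_span_singleton.2 h), by rw [map_one, _root_.mul_one, ← e]⟩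
  rw [natDegree_one, Nat.le_zero, natDegree_eq_zero] at hBd
  obtain ⟨κ, rfl⟩ := hBd
  have hev : ∀ s, c.g.eval s ≠ 0 → tK (c.uv s) f = κ := fun s hs => by
    have := c.eval_tau hB hs
    simpa using this
  let S : Subgroup (RP H) :=
    { carrier := {h | tK h f = f}
      mul_mem' := fun {a b} ha hb => by
        simp only [Set.mem_setOf_eq] at *
        rw [← tK_comp, hb, ha]
      one_mem' := tK_one f
      inv_mem' := fun {a} ha => by
        simp only [Set.mem_setOf_eq] at *
        conv_lhs => rw [← ha]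
        rw [tK_inv_left] }
  have hS : S = ⊤ := hinv S fun s s' hs hs' => by
    show tK _ f = f
    rw [← tK_comp, hev s hs, ← hev s' hs', tK_inv_left]
  obtain ⟨z₀, -⟩ := exists_rat_mem_open (X := H) isOpen_univ ⟨genericPoint H.left, trivial⟩
  obtain ⟨b, hb⟩ := exists_fit (rat (A := k) z₀) ((hun _).mem)
  refine ⟨b, sub_eq_zero.1 (eq_zero_of_fit_zero isOpen_univ ⟨genericPoint H.left, trivial⟩ _ fun z _ => ?_)⟩
  have hz : Fit (rat (A := k) z) f b := by
    have h0 : tK (z⁻¹ * z₀) f = f := by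
      have : z⁻¹ * z₀ ∈ S := hS ▸ Subgroup.mem_top _
      exact this
    have := fit_tK_rat (z := z) (c := z⁻¹ * z₀) (by rwa [mul_inv_cancel_left])
    rwa [h0] at this
  have := hz.add (Fit.const (rat (A := k) z) b).neg
  rw [← sub_eq_add_neg] at this
  simpa using this

/-- Translations by differences of almost all values of a curve have normalized equivalences. -/
theorem exists_normal_gen {F : Bool → (KF H)[X]} (hF : ∀ ε, (F ε).Monic)
    (hFund : ∀ ε, ∀ (Q : Ideal (KF H)[X]) [Q.IsPrime] (_ : Q ≠ ⊥) (hQ : (cs ε).Avoids (genericPoint H.left) Q),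
      RatCurve.UAt (genericPoint H.left) Q
        (algebraMap _ (RatFunc (KF H)) (F ε) / (cs ε).tau (E.d (img ((cs ε).sQ (genericPoint H.left) Q hQ)))))
    (ε₀ : Bool) :
    ∃ B : Finset k, ∀ v v₁ : k, v ∉ B → v₁ ∉ B →
      (cs ε₀).g.eval v ≠ 0 ∧ (F ε₀).eval (algebraMap k _ v) ≠ 0 ∧
      IsNormalPair E cs (((cs ε₀).uv v₁)⁻¹ * (cs ε₀).uv v)
        (tK ((cs ε₀).uv v₁)⁻¹ ((F ε₀).eval (algebraMap k _ v) / (F ε₀).eval (algebraMap k _ v₁))) := by
  classical
  let c := cs ε₀
  let G : Bool → (RatFunc (KF H))[X] := fun ε => (F ε₀).map (cs ε).tau.toRingHom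
  have hG : ∀ ε, G ε ≠ 0 := fun ε => (Polynomial.map_ne_zero_iff (cs ε).tau.toRingHom.injective).2 (hF ε₀).ne_zero
  choose Bat hBat using fun (ε : Bool) (s : k) => exists_eval_ratio_at (k := k) (G ε) (hG ε) (algebraMap k (KF H) s)
  choose Binf hBinf using fun ε => exists_eval_ratio_inf (k := k) (G ε) (hG ε)
  let B0 : Finset k := c.g.roots.toFinset ∪
    (Set.Finite.preimage (f := algebraMap k (KF H)) (algebraMap k (KF H)).injective.injOn
      (F ε₀).roots.toFinset.finite_toSet).toFinset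
  refine ⟨B0 ∪ Finset.univ.biUnion (fun ε => Binf ε ∪ (cs ε).g.roots.toFinset.biUnion (Bat ε)), fun v v₁ hv hv₁ => ?_⟩
  simp only [B0, Finset.mem_union, Finset.mem_biUnion, Finset.mem_univ, true_and, Multiset.mem_toFinset, not_or,
    not_exists, Set.Finite.mem_toFinset, Set.mem_preimage, Finset.mem_coe, mem_roots c.g_ne_zero,
    mem_roots (hF ε₀).ne_zero, not_and] at hv hv₁
  refine ⟨hv.1.1, hv.1.2, fun y => ?_, fun ε => ?_⟩
  · have h := (c.un_ratio E (F ε₀) (hF ε₀) (hFund ε₀) (sh y (c.uv v₁)⁻¹) hv.1.1 hv₁.1.1).tK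
    rw [sh_sh, inv_mul_cancel, sh_one, map_mul, map_div₀ (tK (c.uv v₁)⁻¹) (tK _ _), tK_inv_left, sh_sh, tK_comp,
      ← mul_div_assoc] at h
    exact h
  · rw [← RatCurve.tL_tau, map_div₀]
    have e : ∀ t : k, (cs ε).tau ((F ε₀).eval (algebraMap k _ t)) = (G ε).eval (algebraMap k _ t) := fun t => by
      conv_rhs => rw [← (cs ε).tau.commutes t]
      exact (Polynomial.eval_map_apply (f := (cs ε).tau.toRingHom) _).symm
    rw [e, e]
    refine ⟨fun s hs => (hBat ε s v v₁ ?_ ?_).map_tL _, (hBinf ε v v₁ (hv.2 ε).1 (hv₁.2 ε).1).map_tL _⟩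
    · exact (hv.2 ε).2 s ((mem_roots (cs ε).g_ne_zero).2 hs)
    · exact (hv₁.2 ε).2 s ((mem_roots (cs ε).g_ne_zero).2 hs)

end Groth.Agent.Chev
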