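import Groth.Agent.Chev.Exponent
import Groth.Agent.S5938
import Groth.Agent.GrpField.Isogeny

/-!
# Quotients by the largest semi-abelian subgroup
-/

set_option autoImplicit false
set_option linter.style.haveILetI false
set_option backward.isDefEq.respectTransparency false
set_option maxHeartbeats 1000000
set_option synthInstance.maxHeartbeats 400000
universe u

open CategoryTheory Limits MonoidalCategory CartesianMonoidalCategory MonObj GrpObj AlgebraicGeometry
open AlgGrp
open scoped CategoryTheory.Obj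

noncomputable section

namespace Groth.Agent.Chev

variable {k : Type u} [Field k]

/-- A finite fibre condition: the kernel of a flat surjective endomorphism of a smooth group is finite. -/
theorem isFinite_kernel_of_surjective {S N : Over (Spec (CommRingCat.of k))} [GrpObj S] [GrpObj N] [Smooth S.hom]
    [QuasiCompact S.hom] (f : S ⟶ S) [IsMonHom f] [Surjective f.left] (i : N ⟶ S) [IsClosedImmersion i.left]
    (hk : AlgGrp.IsKernel i f) : IsFinite N.hom := by
  haveI : IsSeparated S.hom := GrpField.isSeparated_hom S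
  haveI : IsReduced S.left := isReduced_of_smooth' S
  haveI : QuasiCompact f.left := by
    haveI : QuasiCompact (f.left ≫ S.hom) := by rw [Over.w]; infer_instance
    exact QuasiCompact.of_comp _ S.hom
  haveI : Flat f.left := GrpField.flat_of_surjective_reduced f
  haveI : IsLocallyNoetherian S.left := LocallyOfFiniteType.isLocallyNoetherian S.hom
  haveI : CompactSpace S.left := QuasiCompact.compactSpace_of_compactSpace S.hom
  haveI : IsNoetherian S.left := {}
  haveI : JacobsonSpace S.left := LocallyOfFiniteType.jacobsonSpace S.hom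
  have hec := GrpField.isClosed_unit (Y := S)
  have hfin := GrpField.finite_fibre_of_flat f hec fun z hz => by
    apply WithBot.coe_injective
    rw [GrpField.coheight_eq_topologicalKrullDim S hz, GrpField.coheight_eq_topologicalKrullDim S hec]
  haveI : LocallyOfFiniteType N.hom := by rw [← Over.w i]; infer_instance
  haveI : QuasiCompact N.hom := by rw [← Over.w i]; infer_instance
  haveI : IsSeparated N.hom := by rw [← Over.w i]; infer_instance
  haveI : Finite N.left := by
    refine Set.finite_univ_iff.1 (Set.Finite.subset (hfin.preimage i.left.isClosedEmbedding.injective.injOn) fun x _ => ?_)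
    show f.left (i.left x) = η[S].left (IsLocalRing.closedPoint k)
    rw [← Scheme.Hom.comp_apply, ← Over.comp_left, hk.w, Over.comp_left, Scheme.Hom.comp_apply]
    exact congrArg η[S].left (Subsingleton.elim (α := PrimeSpectrum k) _ _)
  haveI : LocallyQuasiFinite N.hom := LocallyQuasiFinite.of_finite_preimage_singleton N.hom fun y => Set.toFinite _
  exact IsFinite.of_locallyQuasiFinite N.hom

/-- Finite exponent excludes semi-abelian subgroups. -/
theorem noSA_of_pow_eq_one {G : Over (Spec (CommRingCat.of k))} [GrpObj G] [IsCommMonObj G]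
    [LocallyOfFiniteType G.hom] [QuasiCompact G.hom] {n : ℕ} (hn : 0 < n) (h : 𝟙 G ^ n = 1) : NoSA G := by
  intro S _ s _ _ hS
  haveI : LocallyOfFiniteType S.hom := by rw [← Over.w s]; infer_instance
  haveI : QuasiCompact S.hom := by rw [← Over.w s]; infer_instance
  obtain ⟨hSs, hSc⟩ := hS.smooth_connected
  haveI := hSs; haveI := hSc
  haveI : IsReduced S.left := isReduced_of_smooth' S
  haveI := hS.isCommMonObj
  haveI := hS.surjective_pow hn
  haveI : Mono s := GrpField.SchImg.mono_of_isClosedImmersion s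
  refine isIso_eta_of_one (𝟙 S ^ n) ?_
  rw [← cancel_mono s, MonObj.one_comp, MonObj.pow_comp, Category.id_comp]
  have h2 := congrArg (s ≫ ·) h
  simp only [MonObj.comp_pow, Category.comp_id, MonObj.comp_one] at h2
  exact h2

/-- The quotient by the largest semi-abelian subgroup has finite exponent. -/
theorem exists_pow_eq_one_quotient (p : ℕ) [Fact p.Prime] [CharP k p] {G S Q : Over (Spec (CommRingCat.of k))}
    [GrpObj G] [IsCommMonObj G] [LocallyOfFiniteType G.hom] [QuasiCompact G.hom] [GrpObj S] [GrpObj Q]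
    [LocallyOfFiniteType Q.hom] [QuasiCompact Q.hom] (s : S ⟶ G) [IsMonHom s] [IsClosedImmersion s.left] (hS : IsSA S)
    (hmax : ∀ (S' : Over (Spec (CommRingCat.of k))) [GrpObj S'] (s' : S' ⟶ G) [IsMonHom s'] [IsClosedImmersion s'.left],
      IsSA S' → ∃ g : S' ⟶ S, g ≫ s = s')
    (q : G ⟶ Q) [IsMonHom q] [Surjective q.left] [Flat q.left] (hker : AlgGrp.IsKernel s q) :
    ∃ n : ℕ, 0 < n ∧ 𝟙 Q ^ n = 1 := by
  haveI : IsLocallyNoetherian Q.left := LocallyOfFiniteType.isLocallyNoetherian Q.hom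
  haveI : LocallyOfFiniteType (q.left ≫ Q.hom) := by rw [Over.w]; infer_instance
  haveI : LocallyOfFiniteType q.left := locallyOfFiniteType_of_comp q.left Q.hom
  haveI : IsCommMonObj Q := isCommMonObj_of_surjective q
  exact exists_pow_eq_one_of_noSA p Q fun S'' _ s'' _ _ h =>
    isIso_eta_of_SA_quotient s hS hmax q hker s'' h

/-- A multiple of the identity factors through the largest semi-abelian subgroup. -/
theorem exists_pow_factor (p : ℕ) [Fact p.Prime] [CharP k p] {G S : Over (Spec (CommRingCat.of k))}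
    [GrpObj G] [IsCommMonObj G] [LocallyOfFiniteType G.hom] [QuasiCompact G.hom] [GrpObj S]
    (s : S ⟶ G) [IsMonHom s] [IsClosedImmersion s.left] (hS : IsSA S)
    (hmax : ∀ (S' : Over (Spec (CommRingCat.of k))) [GrpObj S'] (s' : S' ⟶ G) [IsMonHom s'] [IsClosedImmersion s'.left],
      IsSA S' → ∃ g : S' ⟶ S, g ≫ s = s') :
    ∃ (n : ℕ) (φ : G ⟶ S), 0 < n ∧ IsMonHom φ ∧ φ ≫ s = 𝟙 G ^ n := by
  haveI : Mono s := GrpField.SchImg.mono_of_isClosedImmersion s
  haveI : IsSeparated G.hom := GrpField.isSeparated_hom G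
  haveI : LocallyOfFiniteType S.hom := by rw [← Over.w s]; infer_instance
  obtain ⟨Q, hQ, q, hqm, hqf, hqs, hqp, hker, hsep, -, -⟩ := S3030.result k S G s
    (fun X a x => ⟨x, by rw [_root_.mul_comm a, _root_.mul_assoc, mul_inv_cancel, _root_.mul_one]⟩)
  haveI := hqm; haveI := hqf; haveI := hqs
  haveI := hqp
  haveI : LocallyOfFiniteType Q.hom := by
    haveI : LocallyOfFiniteType (q.left ≫ Q.hom) := by rw [Over.w q]; infer_instance
    exact S5938.result q.left Q.hom
  haveI : QuasiCompact Q.hom := by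
    haveI : QuasiCompact (q.left ≫ Q.hom) := by rw [Over.w q]; infer_instance
    exact ThickLib.quasiCompact_of_comp_surjective q.left Q.hom
  obtain ⟨n, hn, hQn⟩ := exists_pow_eq_one_quotient p s hS hmax q hker
  haveI := isMonHom_pow G n
  have h1 : (𝟙 G ^ n) ≫ q = toUnit G ≫ η[Q] := by
    have h := congrArg (q ≫ ·) hQn
    simp only [MonObj.comp_pow, Category.comp_id, MonObj.comp_one] at h
    rw [MonObj.pow_comp, Category.id_comp, h, Hom.one_def]
  let φ : G ⟶ S := hker.lift (𝟙 G ^ n) (toUnit G) h1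
  have hφ : φ ≫ s = 𝟙 G ^ n := hker.lift_fst _ _ _
  haveI : IsMonHom (φ ≫ s) := by rw [hφ]; infer_instance
  exact ⟨n, φ, hn, isMonHom_of_comp φ s, hφ⟩

/-- The quasi-complement of the largest semi-abelian subgroup. -/
theorem exists_quasiComplement_SA (p : ℕ) [Fact p.Prime] [CharP k p] {G S : Over (Spec (CommRingCat.of k))}
    [GrpObj G] [IsCommMonObj G] [LocallyOfFiniteType G.hom] [QuasiCompact G.hom] [GrpObj S]
    (s : S ⟶ G) [IsMonHom s] [IsClosedImmersion s.left] (hS : IsSA S)
    (hmax : ∀ (S' : Over (Spec (CommRingCat.of k))) [GrpObj S'] (s' : S' ⟶ G) [IsMonHom s'] [IsClosedImmersion s'.left],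
      IsSA S' → ∃ g : S' ⟶ S, g ≫ s = s') :
    ∃ (H : Over (Spec (CommRingCat.of k))) (_ : GrpObj H) (h : H ⟶ G), IsMonHom h ∧ IsClosedImmersion h.left ∧
      Flat ((s ⊗ₘ h) ≫ μ[G]).left ∧ Surjective ((s ⊗ₘ h) ≫ μ[G]).left ∧
      IsFinite (pullback.fst s.left h.left ≫ S.hom) := by
  obtain ⟨n, φ, hn, hφm, hφ⟩ := exists_pow_factor p s hS hmax
  haveI := hφm
  haveI : Mono s := GrpField.SchImg.mono_of_isClosedImmersion s
  haveI : LocallyOfFiniteType S.hom := by rw [← Over.w s]; infer_instance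
  haveI : QuasiCompact S.hom := by rw [← Over.w s]; infer_instance
  obtain ⟨hSs, hSc⟩ := hS.smooth_connected
  haveI := hSs; haveI := hSc
  haveI := hS.isCommMonObj
  haveI : IsSeparated S.hom := GrpField.isSeparated_hom S
  obtain ⟨H, hH, h, hm, hc, -, hker⟩ := AdjRep.exists_kernel φ
  haveI := hm; haveI := hc
  haveI : Mono h := GrpField.SchImg.mono_of_isClosedImmersion h
  have hsφ : s ≫ φ = 𝟙 S ^ n := by
    rw [← cancel_mono s, Category.assoc, hφ, MonObj.comp_pow, Category.comp_id, MonObj.pow_comp, Category.id_comp]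
  let m := (s ⊗ₘ h) ≫ μ[G]
  have hsq : IsPullback m (fst S H) φ (𝟙 S ^ n) := by
    have hcomm : m ≫ φ = fst S H ≫ (𝟙 S ^ n) := by
      rw [Category.assoc, IsMonHom.mul_hom, MonoidalCategory.tensorHom_comp_tensorHom_assoc, hsφ, hker.w,
        ← Hom.one_def, show ((𝟙 S ^ n) ⊗ₘ (1 : H ⟶ S)) ≫ μ[S] = (fst S H ≫ (𝟙 S ^ n)) * (snd S H ≫ (1 : H ⟶ S)) by
          rw [Hom.mul_def]; congr 1, MonObj.comp_one, _root_.mul_one]
    refine IsPullback.mk' hcomm (fun T a b e₁ e₂ => ?_) fun T x a e => ?_
    · have key : ∀ c : T ⟶ S ⊗ H, c ≫ m = (c ≫ fst S H ≫ s) * (c ≫ snd S H ≫ h) := fun c => comp_tensor_mul s h c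
      rw [key, key, reassoc_of% e₂] at e₁
      apply CartesianMonoidalCategory.hom_ext
      · exact e₂
      · rw [← cancel_mono h, Category.assoc, Category.assoc]
        exact mul_left_cancel e₁
    · let y : T ⟶ G := (a ≫ s)⁻¹ * x
      have hy : y ≫ φ = toUnit T ≫ η[S] := by
        rw [MonObj.mul_comp, GrpObj.inv_comp, Category.assoc, hsφ, ← e, inv_mul_cancel, Hom.one_def]
      refine ⟨lift a (hker.lift y _ hy), ?_, lift_fst _ _⟩
      have hk0 : hker.lift y _ hy ≫ h = y := hker.lift_fst _ _ _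
      generalize hker.lift y _ hy = yb at hk0 ⊢
      rw [show lift a yb ≫ m = _ from comp_tensor_mul s h _, lift_fst, lift_snd,
        hk0, mul_inv_cancel_left]
  haveI := isMonHom_pow S n
  haveI : Surjective (𝟙 S ^ n).left := hS.surjective_pow hn
  haveI : IsReduced S.left := isReduced_of_smooth' S
  haveI : QuasiCompact (𝟙 S ^ n).left := by
    haveI : QuasiCompact ((𝟙 S ^ n).left ≫ S.hom) := by rw [Over.w]; infer_instance
    exact QuasiCompact.of_comp _ S.hom
  haveI : Flat (𝟙 S ^ n).left := GrpField.flat_of_surjective_reduced _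
  have hsq' : IsPullback m.left (fst S H).left φ.left (𝟙 S ^ n).left := hsq.map (Over.forget _)
  refine ⟨H, hH, h, hm, hc, MorphismProperty.of_isPullback (P := @Flat) hsq'.flip ‹_›,
    MorphismProperty.of_isPullback (P := @Surjective) hsq'.flip ‹_›, ?_⟩
  let N : Over (Spec (CommRingCat.of k)) := Over.mk (pullback.fst s.left h.left ≫ S.hom)
  let a : N ⟶ S := Over.homMk (pullback.fst s.left h.left) rfl
  let b : N ⟶ H := Over.homMk (pullback.snd s.left h.left) (by
    show _ = pullback.fst s.left h.left ≫ S.hom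
    rw [← Over.w h, ← pullback.condition_assoc, Over.w s])
  haveI : IsClosedImmersion a.left := inferInstanceAs (IsClosedImmersion (pullback.fst s.left h.left))
  haveI : Mono a := GrpField.SchImg.mono_of_isClosedImmersion a
  have hab : a ≫ s = b ≫ h := Over.OverMorphism.ext pullback.condition
  have hN : IsPullback a b s h := by
    refine IsPullback.mk' hab (fun T u v e₁ _ => (cancel_mono a).1 e₁) fun T u v e => ?_
    refine ⟨Over.homMk (pullback.lift u.left v.left (congrArg (fun t => t.left) e)) ?_,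
      Over.OverMorphism.ext (pullback.lift_fst _ _ _), Over.OverMorphism.ext (pullback.lift_snd _ _ _)⟩
    show pullback.lift _ _ _ ≫ pullback.fst _ _ ≫ S.hom = _
    rw [pullback.lift_fst_assoc, Over.w]
  have hk : AlgGrp.IsKernel a (𝟙 S ^ n) := by
    refine IsPullback.mk' ?_ (fun T u v e₁ _ => (cancel_mono a).1 e₁) fun T u v e => ?_
    · rw [← hsφ, reassoc_of% hab, hker.w, comp_toUnit_assoc]
    · have hu : (u ≫ s) ≫ φ = toUnit T ≫ η[S] := by rw [Category.assoc, hsφ, e, toUnit_unique v (toUnit T)]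
      exact ⟨hN.lift u (hker.lift _ _ hu) (hker.lift_fst _ _ _).symm, hN.lift_fst _ _ _, toUnit_unique _ _⟩
  obtain ⟨hg, -⟩ := GrpField.SchImg.exists_grpObj_of_div a
    ⟨hk.lift η[S] (toUnit _) (by rw [IsMonHom.one_hom, toUnit_unit, Category.id_comp]), hk.lift_fst _ _ _⟩
    fun T x y => ⟨hk.lift ((x ≫ a)⁻¹ * (y ≫ a)) (toUnit T) (by
      rw [MonObj.mul_comp, GrpObj.inv_comp, Category.assoc, Category.assoc, hk.w, comp_toUnit_assoc,
        comp_toUnit_assoc, ← Hom.one_def, inv_one, _root_.one_mul]), hk.lift_fst _ _ _⟩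
  exact isFinite_kernel_of_surjective (𝟙 S ^ n) a hk

/-- The image of the largest semi-abelian subgroup in a quotient is the largest one. -/
theorem range_comp_eq (p : ℕ) [Fact p.Prime] [CharP k p] {G Q S S' : Over (Spec (CommRingCat.of k))}
    [GrpObj G] [IsCommMonObj G] [LocallyOfFiniteType G.hom] [QuasiCompact G.hom] [GrpObj Q]
    [LocallyOfFiniteType Q.hom] [QuasiCompact Q.hom] [GrpObj S] [GrpObj S']
    (q : G ⟶ Q) [IsMonHom q] [Surjective q.left]
    (s : S ⟶ G) [IsMonHom s] [IsClosedImmersion s.left] (hS : IsSA S)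
    (hmax : ∀ (S₁ : Over (Spec (CommRingCat.of k))) [GrpObj S₁] (s₁ : S₁ ⟶ G) [IsMonHom s₁] [IsClosedImmersion s₁.left],
      IsSA S₁ → ∃ g : S₁ ⟶ S, g ≫ s = s₁)
    (s' : S' ⟶ Q) [IsMonHom s'] [IsClosedImmersion s'.left] (hS' : IsSA S')
    (hmax' : ∀ (S₁ : Over (Spec (CommRingCat.of k))) [GrpObj S₁] (s₁ : S₁ ⟶ Q) [IsMonHom s₁] [IsClosedImmersion s₁.left],
      IsSA S₁ → ∃ g : S₁ ⟶ S', g ≫ s' = s₁) :
    Set.range (s ≫ q).left = Set.range s'.left := by
  haveI : LocallyOfFiniteType S.hom := by rw [← Over.w s]; infer_instance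
  haveI : QuasiCompact S.hom := by rw [← Over.w s]; infer_instance
  haveI : LocallyOfFiniteType S'.hom := by rw [← Over.w s']; infer_instance
  haveI : QuasiCompact S'.hom := by rw [← Over.w s']; infer_instance
  obtain ⟨hSs, hSc⟩ := hS.smooth_connected
  obtain ⟨hS's, hS'c⟩ := hS'.smooth_connected
  haveI := hSs; haveI := hSc; haveI := hS's; haveI := hS'c
  apply subset_antisymm
  · obtain ⟨I, hI, ii, g, hiim, hgm, hiic, hgs, hIs, hIq, hIc, hgi⟩ := exists_image_smooth (s ≫ q)
    haveI := hiim; haveI := hgm; haveI := hiic; haveI := hgs; haveI := hIs; haveI := hIq; haveI := hIc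
    obtain ⟨t, ht⟩ := hmax' I ii (isSA_of_surjective hS g)
    rintro _ ⟨x, rfl⟩
    rw [← hgi, ← ht, Over.comp_left, Over.comp_left, Scheme.Hom.comp_apply, Scheme.Hom.comp_apply]
    exact ⟨_, rfl⟩
  · obtain ⟨n, φ, hn, -, hφ⟩ := exists_pow_factor p s hS hmax
    haveI := hS'.isCommMonObj
    haveI := hS'.surjective_pow hn
    rintro _ ⟨z, rfl⟩
    obtain ⟨z₀, rfl⟩ := (𝟙 S' ^ n).left.surjective z
    obtain ⟨x, hx⟩ := q.left.surjective (s'.left z₀)
    refine ⟨φ.left x, ?_⟩
    rw [← Scheme.Hom.comp_apply, ← Scheme.Hom.comp_apply, ← Over.comp_left, ← Over.comp_left, reassoc_of% hφ,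
      MonObj.pow_comp, Category.id_comp, MonObj.pow_comp, Category.id_comp,
      show q ^ n = q ≫ (𝟙 Q ^ n) by rw [MonObj.comp_pow, Category.comp_id],
      show s' ^ n = s' ≫ (𝟙 Q ^ n) by rw [MonObj.comp_pow, Category.comp_id],
      Over.comp_left, Over.comp_left, Scheme.Hom.comp_apply, Scheme.Hom.comp_apply, hx]

end Groth.Agent.Chev
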