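import Groth.Agent.S5429
import Groth.Agent.S4128
import Groth.Agent.S2966
import Groth.Agent.S3266
import Groth.Agent.S7967
import Groth.Agent.MTBridge.CharMap
import Groth.Agent.HopfRange.Basic
import Groth.Agent.Comod.Change
import Groth.Agent.MultT.Diag
import Mathlib.RingTheory.Bialgebra.MonoidAlgebra

/-!
# Solvable groups in Hopf form: diagonalisable subgroups are conjugate into a section
-/

set_option autoImplicit false
set_option backward.isDefEq.respectTransparency false

universe u

open TensorProduct HopfAlgebra WithConv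

noncomputable section

namespace Groth.Agent.Chev.SolvHopf

variable {k : Type u} [Field k] {A A' B B' : Type u} [CommRing A] [HopfAlgebra k A] [CommRing A'] [HopfAlgebra k A']
  [CommRing B] [HopfAlgebra k B] [CommRing B'] [HopfAlgebra k B']

/-- The ideal generated by the kernel of a surjection of Hopf algebras is a Hopf ideal. -/
theorem isHopfIdeal_map (ψ : B →ₐc[k] A) (φ : B →ₐc[k] B') (hφ : Function.Surjective φ) :
    (Ideal.map (ψ : B →+* A) (RingHom.ker (φ : B →ₐ[k] B'))).IsHopfIdeal k := by
  set K := Ideal.map (ψ : B →+* A) (RingHom.ker (φ : B →ₐ[k] B')) with hK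
  have hgen : ∀ b, φ b = 0 → ψ b ∈ K := fun b hb => Ideal.mem_map_of_mem _ hb
  let g : B' →ₐ[k] A ⧸ K := AlgHom.liftOfSurjective (φ : B →ₐ[k] B') hφ ((Ideal.Quotient.mkₐ k K).comp (ψ : B →ₐ[k] A))
    fun b hb => Ideal.Quotient.eq_zero_iff_mem.2 (hgen b hb)
  have hg : ∀ b, g (φ b) = Ideal.Quotient.mk K (ψ b) := fun b =>
    AlgHom.liftOfSurjective_apply (φ : B →ₐ[k] B') hφ _ _ b
  refine { counit_eq_zero := fun a ha => ?_, map_mkQ_comul_eq_zero := fun a ha => ?_, antipode_mem := fun a ha => ?_ }
  · have h : K ≤ RingHom.ker (Bialgebra.counitAlgHom k A) := Ideal.map_le_iff_le_comap.2 fun b hb => by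
      show Coalgebra.counit (R := k) (ψ b) = 0
      rw [CoalgHomClass.counit_comp_apply, ← CoalgHomClass.counit_comp_apply φ]
      exact (congrArg _ (RingHom.mem_ker.1 hb)).trans (map_zero _)
    exact h ha
  · let D := (Algebra.TensorProduct.map (Ideal.Quotient.mkₐ k K) (Ideal.Quotient.mkₐ k K)).comp
      (Bialgebra.comulAlgHom k A)
    have h : K ≤ RingHom.ker D := Ideal.map_le_iff_le_comap.2 fun b hb => by
      show TensorProduct.map (Ideal.Quotient.mkₐ k K).toLinearMap (Ideal.Quotient.mkₐ k K).toLinearMap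
        (Coalgebra.comul (R := k) (ψ b)) = 0
      have e : TensorProduct.map (Ideal.Quotient.mkₐ k K).toLinearMap (Ideal.Quotient.mkₐ k K).toLinearMap
          (Coalgebra.comul (R := k) (ψ b)) = TensorProduct.map g.toLinearMap g.toLinearMap (Coalgebra.comul (R := k) (φ b)) := by
        rw [← CoalgHomClass.map_comp_comul_apply ψ b, ← CoalgHomClass.map_comp_comul_apply φ b]
        generalize Coalgebra.comul (R := k) b = z
        induction z using TensorProduct.induction_on with
        | zero => simp
        | tmul x y => simp [hg]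
        | add x y hx hy => simp only [map_add, hx, hy]
      rw [e, show φ b = 0 from RingHom.mem_ker.1 hb, map_zero, map_zero]
    exact h ha
  · have h : K ≤ K.comap (HopfAlgebra.antipodeAlgHom k A) := Ideal.map_le_iff_le_comap.2 fun b hb => by
      show antipode k (ψ b) ∈ K
      rw [HopfRange.antipode_map]
      refine hgen _ ?_
      rw [← HopfRange.antipode_map, show φ b = 0 from RingHom.mem_ker.1 hb, map_zero]
    exact h ha

/-- Unipotence transfers along bijective bialgebra maps. -/
theorem isUnipotent_of_bijective (f : A →ₐc[k] A') (hf : Function.Bijective f) (h : HopfRep.IsUnipotent k A) :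
    HopfRep.IsUnipotent k A' := by
  intro V _ _ cV hfin hne hbot
  let e := BialgEquiv.ofBijective f hf
  let cA : HopfRep.Comod k A V := Groth.Agent.Comod.pushforward ((e.symm : A' →ₐc[k] A) : A' →ₗc[k] A) cV
  have h' := @h V _ _ cA hfin hne
  refine h' ((Submodule.eq_bot_iff _).2 fun v hv => (Submodule.eq_bot_iff _).1 hbot v ?_)
  have hv' : (e.symm : A' →ₐc[k] A).toLinearMap.lTensor V (cV.coact v) = v ⊗ₜ[k] (1 : A) := hv
  show cV.coact v = v ⊗ₜ[k] (1 : A')
  have hinj : Function.Injective ((e.symm : A' →ₐc[k] A).toLinearMap.lTensor V) :=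
    Module.Flat.lTensor_preserves_injective_linearMap _ e.symm.injective
  refine hinj (hv'.trans ?_)
  rw [LinearMap.lTensor_tmul]
  exact congrArg _ (map_one e.symm).symm

/-- The trace of a diagonalisable subgroup on the diagonalisable quotient by a unipotent group
is a closed immersion. -/
theorem surjective_comp [Algebra.FiniteType k A] [Algebra.FiniteType k B'] (hB : SGA3b.IsDiag k B)
    (hB' : SGA3b.IsDiag k B') (ψ : B →ₐc[k] A) (J : Ideal A) [J.IsHopfIdeal k]
    (hJ : J = Ideal.map (ψ : B →+* A) (RingHom.ker (Bialgebra.counitAlgHom k B)))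
    (hU : HopfRep.IsUnipotent k (A ⧸ J)) (jh : A →ₐc[k] B') (hjh : Function.Surjective jh) :
    Function.Surjective (jh.comp ψ) := by
  obtain ⟨M, _, ⟨E⟩⟩ := hB
  obtain ⟨M', _, ⟨E'⟩⟩ := hB'
  let f := (E' : B' →ₐc[k] MonoidAlgebra k M').comp ((jh.comp ψ).comp (E.symm : MonoidAlgebra k M →ₐc[k] B))
  obtain ⟨h, hh⟩ := (MonoidAlgebra.mapDomainBialgHomEquiv (R := k) (G := M) (H := M')).surjective f
  suffices hsurj : Function.Surjective h by
    intro b'
    obtain ⟨x, hx⟩ := MTBridge.mapDomain_surjective k h hsurj (E' b')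
    refine ⟨E.symm x, E'.injective ?_⟩
    exact (DFunLike.congr_fun hh x).symm.trans hx
  let Q := M' ⧸ h.range
  let q : B' →ₐc[k] MonoidAlgebra k Q :=
    (MonoidAlgebra.mapDomainBialgHom k (QuotientGroup.mk' h.range)).comp (E' : B' →ₐc[k] MonoidAlgebra k M')
  haveI : Algebra.FiniteType k (MonoidAlgebra k Q) :=
    Algebra.FiniteType.of_surjective (q : B' →ₐ[k] MonoidAlgebra k Q)
      ((MTBridge.mapDomain_surjective k _ (QuotientGroup.mk'_surjective h.range)).comp E'.surjective)
  have hq : ∀ b : B, q (jh (ψ b)) = algebraMap k _ (Coalgebra.counit (R := k) b) := by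
    intro b
    have e1 : E' (jh (ψ b)) = MonoidAlgebra.mapDomainBialgHom k h (E b) := by
      rw [show MonoidAlgebra.mapDomainBialgHom k h = f from hh]
      simp [f]
    show MonoidAlgebra.mapDomainBialgHom k (QuotientGroup.mk' h.range) (E' (jh (ψ b))) = _
    rw [e1, MonoidAlgebra.mapDomainBialgHom_mapDomainBialgHom]
    rw [← CoalgHomClass.counit_comp_apply (E : B →ₐc[k] MonoidAlgebra k M) b]
    show _ = algebraMap k _ (Coalgebra.counit (R := k) (E b))
    generalize E b = x
    induction x using MonoidAlgebra.induction_linear with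
    | zero => simp
    | add x y hx hy => simp only [map_add, hx, hy]
    | single m c =>
      have : ((h m : M') : M' ⧸ h.range) = 1 := (QuotientGroup.eq_one_iff _).2 ⟨m, rfl⟩
      simp [this]
  have hker : ∀ a ∈ J, q (jh a) = 0 := by
    intro a ha
    rw [hJ] at ha
    have h0 : Ideal.map (ψ : B →+* A) (RingHom.ker (Bialgebra.counitAlgHom k B)) ≤
        RingHom.ker ((q.comp jh : A →ₐc[k] MonoidAlgebra k Q) : A →ₐ[k] MonoidAlgebra k Q) :=
      Ideal.map_le_iff_le_comap.2 fun b hb => (hq b).trans (by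
        rw [show Coalgebra.counit (R := k) b = 0 from hb, map_zero])
    exact h0 ha
  let l : (A ⧸ J) →ₐ[k] MonoidAlgebra k Q :=
    Ideal.Quotient.liftₐ J ((q.comp jh : A →ₐc[k] MonoidAlgebra k Q) : A →ₐ[k] MonoidAlgebra k Q) hker
  let lb : (A ⧸ J) →ₐc[k] MonoidAlgebra k Q := BialgHom.ofAlgHom l
    (Ideal.Quotient.algHom_ext k (AlgHom.ext fun a =>
      CoalgHomClass.counit_comp_apply (q.comp jh : A →ₐc[k] MonoidAlgebra k Q) a))
    (Ideal.Quotient.algHom_ext k (AlgHom.ext fun a => by
      refine Eq.trans ?_ (CoalgHomClass.map_comp_comul_apply (q.comp jh : A →ₐc[k] MonoidAlgebra k Q) a)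
      show TensorProduct.map l.toLinearMap l.toLinearMap (Coalgebra.comul (R := k) (Ideal.Quotient.mk J a)) = _
      rw [Bialgebra.Quotient.comul_mk]
      generalize Coalgebra.comul (R := k) a = z
      induction z using TensorProduct.induction_on with
      | zero => simp
      | tmul x y => rfl
      | add x y hx hy => simp only [map_add, hx, hy]))
  have hdiag : HopfRep.IsDiagonalizable (AlgebraicClosure k) (AlgebraicClosure k ⊗[k] MonoidAlgebra k Q) := by
    unfold HopfRep.IsDiagonalizable
    rw [eq_top_iff]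
    rintro y -
    induction y using TensorProduct.induction_on with
    | zero => simp
    | tmul c x =>
      induction x using MonoidAlgebra.induction_linear with
      | zero => simp
      | add x y hx hy => rw [tmul_add]; exact add_mem hx hy
      | single m d =>
        rw [show c ⊗ₜ[k] MonoidAlgebra.single m d = (d • c) • ((1 : AlgebraicClosure k) ⊗ₜ[k] MonoidAlgebra.single m (1 : k)) by
          rw [TensorProduct.smul_tmul', smul_eq_mul, _root_.mul_one, TensorProduct.smul_tmul]; simp]
        refine Submodule.smul_mem _ _ (Submodule.subset_span ?_)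
        exact ⟨by simp [TensorProduct.counit_tmul], by simp [TensorProduct.comul_tmul, Algebra.TensorProduct.one_def]⟩
    | add x y hx hy => exact add_mem hx hy
  have htriv := (Groth.Agent.S2966.result hdiag hU).1 lb
  have hlsurj : Function.Surjective lb := fun x => by
    obtain ⟨b', rfl⟩ := ((MTBridge.mapDomain_surjective k _ (QuotientGroup.mk'_surjective h.range)).comp E'.surjective) x
    obtain ⟨a, rfl⟩ := hjh b'
    exact ⟨Ideal.Quotient.mk J a, rfl⟩
  intro m'
  obtain ⟨a, ha⟩ := hlsurj (MonoidAlgebra.single (QuotientGroup.mk' h.range m') 1)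
  rw [htriv a, MonoidAlgebra.coe_algebraMap] at ha
  have : QuotientGroup.mk' h.range m' = 1 := by
    by_contra hne
    have := congrArg (fun x : MonoidAlgebra k Q => x.coeff (QuotientGroup.mk' h.range m')) ha
    simp [MonoidAlgebra.single_apply] at this
    rw [Finsupp.single_eq_of_ne (show (m' : M' ⧸ h.range) ≠ 1 from fun e => hne e)] at this
    exact zero_ne_one this
  exact (QuotientGroup.eq_one_iff _).1 this

/-- Diagonalisable reduced subgroups are conjugate into the section. -/
theorem exists_conj_section [IsAlgClosed k] [Algebra.FiniteType k A] [Algebra.FiniteType k B]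
    [Algebra.FiniteType k B'] [IsReduced B'] (hB : SGA3b.IsDiag k B) (hB' : SGA3b.IsDiag k B')
    (ψ : B →ₐc[k] A) (J : Ideal A) [J.IsHopfIdeal k]
    (hJ : J = Ideal.map (ψ : B →+* A) (RingHom.ker (Bialgebra.counitAlgHom k B)))
    (hU : HopfRep.IsUnipotent k (A ⧸ J)) (r : A →ₐc[k] B) (hr : r.comp ψ = BialgHom.id k B)
    (jh : A →ₐc[k] B') (hjh : Function.Surjective jh) :
    ∃ u : A →ₐ[k] k, (jh : A →ₐ[k] B') = Dyn.conv3 k A ((Algebra.ofId k B').comp u)
      (((jh.comp ψ).comp r : A →ₐc[k] B') : A →ₐ[k] B')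
      (((Algebra.ofId k B').comp u).comp (HopfAlgebra.antipodeAlgHom k A)) := by
  set φ := jh.comp ψ with hφdef
  have hφ : Function.Surjective φ := surjective_comp hB hB' ψ J hJ hU jh hjh
  have hrψ : ∀ b, r (ψ b) = b := DFunLike.congr_fun hr
  let K := Ideal.map (ψ : B →+* A) (RingHom.ker (φ : B →ₐ[k] B'))
  haveI : K.IsHopfIdeal k := isHopfIdeal_map ψ φ hφ
  -- the retractions
  have hd : ∀ (s : A →ₐc[k] B'), (∀ b, s (ψ b) = φ b) →
      ∃ s' : (A ⧸ K) →ₐc[k] B', ∀ a, s' (Ideal.Quotient.mk K a) = s a := by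
    intro s hs
    have hker : K ≤ RingHom.ker (s : A →ₐ[k] B') := Ideal.map_le_iff_le_comap.2 fun b hb =>
      (hs b).trans (RingHom.mem_ker.1 hb)
    let l : (A ⧸ K) →ₐ[k] B' := Ideal.Quotient.liftₐ K (s : A →ₐ[k] B') fun a ha => hker ha
    exact ⟨BialgHom.ofAlgHom l
      (Ideal.Quotient.algHom_ext k (AlgHom.ext fun a => CoalgHomClass.counit_comp_apply s a))
      (Ideal.Quotient.algHom_ext k (AlgHom.ext fun a => by
        refine Eq.trans ?_ (CoalgHomClass.map_comp_comul_apply s a)
        show TensorProduct.map l.toLinearMap l.toLinearMap (Coalgebra.comul (R := k) (Ideal.Quotient.mk K a)) = _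
        rw [Bialgebra.Quotient.comul_mk]
        generalize Coalgebra.comul (R := k) a = z
        induction z using TensorProduct.induction_on with
        | zero => simp
        | tmul x y => rfl
        | add x y hx hy => simp only [map_add, hx, hy])), fun a => rfl⟩
  obtain ⟨r', hr'⟩ := hd (φ.comp r) fun b => congrArg φ (hrψ b)
  obtain ⟨r'', hr''⟩ := hd jh fun b => rfl
  let g : B' →ₐ[k] A ⧸ K := AlgHom.liftOfSurjective (φ : B →ₐ[k] B') hφ ((Ideal.Quotient.mkₐ k K).comp (ψ : B →ₐ[k] A))
    fun b hb => Ideal.Quotient.eq_zero_iff_mem.2 (Ideal.mem_map_of_mem _ hb)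
  have hg : ∀ b, g (φ b) = Ideal.Quotient.mk K (ψ b) := fun b =>
    AlgHom.liftOfSurjective_apply (φ : B →ₐ[k] B') hφ _ _ b
  let ψ' : B' →ₐc[k] A ⧸ K := BialgHom.ofAlgHom g
    (AlgHom.ext fun b' => by
      obtain ⟨b, rfl⟩ := hφ b'
      show Coalgebra.counit (R := k) (g (φ b)) = Coalgebra.counit (R := k) (φ b)
      rw [hg, Bialgebra.Quotient.counit_mk, CoalgHomClass.counit_comp_apply, CoalgHomClass.counit_comp_apply])
    (AlgHom.ext fun b' => by
      obtain ⟨b, rfl⟩ := hφ b'
      show TensorProduct.map g.toLinearMap g.toLinearMap (Coalgebra.comul (R := k) (φ b)) = Coalgebra.comul (R := k) (g (φ b))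
      rw [hg, Bialgebra.Quotient.comul_mk, ← CoalgHomClass.map_comp_comul_apply φ b, ← CoalgHomClass.map_comp_comul_apply ψ b]
      generalize Coalgebra.comul (R := k) b = z
      induction z using TensorProduct.induction_on with
      | zero => simp
      | tmul x y => simp [hg]
      | add x y hx hy => simp only [map_add, hx, hy])
  have hret : ∀ (s' : (A ⧸ K) →ₐc[k] B') (s : A →ₐc[k] B'), (∀ b, s (ψ b) = φ b) →
      (∀ a, s' (Ideal.Quotient.mk K a) = s a) → s'.comp ψ' = BialgHom.id k B' := by
    intro s' s hs hss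
    refine BialgHom.ext fun b' => ?_
    obtain ⟨b, rfl⟩ := hφ b'
    show s' (g (φ b)) = φ b
    rw [hg, hss, hs]
  have h1 := hret r' (φ.comp r) (fun b => congrArg φ (hrψ b)) hr'
  have h2 := hret r'' jh (fun b => rfl) hr''
  have hinj : Function.Injective ψ' := Function.LeftInverse.injective (g := r') (DFunLike.congr_fun h1)
  let J' := Ideal.map (ψ' : B' →+* A ⧸ K) (RingHom.ker (Bialgebra.counitAlgHom k B'))
  haveI : J'.IsHopfIdeal k :=
    isHopfIdeal_map ψ' (Bialgebra.counitBialgHom k B') fun c => ⟨algebraMap k B' c, by simp⟩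
  have hJJ : J = J'.comap (Ideal.Quotient.mk K) := by
    have e : J' = J.map (Ideal.Quotient.mk K) := by
      rw [hJ, Ideal.map_map]
      refine le_antisymm (Ideal.map_le_iff_le_comap.2 fun b' hb' => ?_) (Ideal.map_le_iff_le_comap.2 fun b hb => ?_)
      · obtain ⟨b, rfl⟩ := hφ b'
        refine Ideal.mem_comap.2 ?_
        show g (φ b) ∈ Ideal.map _ _
        rw [hg]
        refine Ideal.mem_map_of_mem _ ?_
        rw [RingHom.mem_ker] at hb' ⊢
        exact (CoalgHomClass.counit_comp_apply φ b).symm.trans hb'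
      · refine Ideal.mem_comap.2 ?_
        show Ideal.Quotient.mk K (ψ b) ∈ Ideal.map _ _
        rw [← hg]
        refine Ideal.mem_map_of_mem _ ?_
        rw [RingHom.mem_ker] at hb ⊢
        exact (CoalgHomClass.counit_comp_apply φ b).trans hb
    rw [e, Ideal.comap_map_of_surjective _ Ideal.Quotient.mk_surjective, eq_comm, sup_eq_left]
    intro x hx
    rw [hJ]
    have hx' : x ∈ K := Ideal.Quotient.eq_zero_iff_mem.1 hx
    refine Ideal.map_mono (fun b hb => ?_) hx'
    rw [RingHom.mem_ker] at hb ⊢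
    show Coalgebra.counit (R := k) b = 0
    rw [← CoalgHomClass.counit_comp_apply φ, show φ b = 0 from hb, map_zero]
  have hU' : HopfRep.IsUnipotent k ((A ⧸ K) ⧸ J') := by
    let m : A →ₐc[k] (A ⧸ K) ⧸ J' := (Bialgebra.Quotient.mkBialgHom J').comp (Bialgebra.Quotient.mkBialgHom K)
    have hm : ∀ a, m a = 0 ↔ a ∈ J := fun a => by
      rw [hJJ, Ideal.mem_comap]; exact Ideal.Quotient.eq_zero_iff_mem
    let l : (A ⧸ J) →ₐ[k] (A ⧸ K) ⧸ J' := Ideal.Quotient.liftₐ J (m : A →ₐ[k] _) fun a ha => (hm a).2 ha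
    refine isUnipotent_of_bijective (BialgHom.ofAlgHom l
      (Ideal.Quotient.algHom_ext k (AlgHom.ext fun a => CoalgHomClass.counit_comp_apply m a))
      (Ideal.Quotient.algHom_ext k (AlgHom.ext fun a => by
        refine Eq.trans ?_ (CoalgHomClass.map_comp_comul_apply m a)
        show TensorProduct.map l.toLinearMap l.toLinearMap (Coalgebra.comul (R := k) (Ideal.Quotient.mk J a)) = _
        rw [Bialgebra.Quotient.comul_mk]
        generalize Coalgebra.comul (R := k) a = z
        induction z using TensorProduct.induction_on with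
        | zero => simp
        | tmul x y => rfl
        | add x y hx hy => simp only [map_add, hx, hy]))) ⟨?_, fun x => ?_⟩ hU
    · rw [injective_iff_map_eq_zero]
      intro x hx
      obtain ⟨a, rfl⟩ := Ideal.Quotient.mk_surjective x
      exact Ideal.Quotient.eq_zero_iff_mem.2 ((hm a).1 hx)
    · obtain ⟨y, rfl⟩ := Ideal.Quotient.mk_surjective x
      obtain ⟨a, rfl⟩ := Ideal.Quotient.mk_surjective y
      exact ⟨Ideal.Quotient.mk J a, rfl⟩
  obtain ⟨u', -, hu'⟩ := Groth.Agent.S5429.result k (A ⧸ K) B' hB' ψ' hinj J' rfl hU' (Or.inl inferInstance) r' r'' h1 h2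
  refine ⟨u'.comp (Ideal.Quotient.mkₐ k K), AlgHom.ext fun a => ?_⟩
  show jh a = _
  rw [← hr'' a]
  refine (DFunLike.congr_fun hu' (Ideal.Quotient.mk K a)).trans ?_
  simp only [Dyn.conv3, AlgHom.comp_apply, Bialgebra.comulAlgHom_apply, Bialgebra.Quotient.comul_mk]
  generalize Coalgebra.comul (R := k) a = z
  induction z using TensorProduct.induction_on with
  | zero => simp
  | tmul x y =>
    simp only [TensorProduct.map_tmul, AlgHom.toLinearMap_apply, Ideal.Quotient.mkₐ_eq_mk, Algebra.TensorProduct.map_tmul,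
      AlgHom.id_apply, Bialgebra.comulAlgHom_apply, Bialgebra.Quotient.comul_mk]
    generalize Coalgebra.comul (R := k) x = w
    induction w using TensorProduct.induction_on with
    | zero => simp
    | tmul p q => simp [hr']
    | add p q hp hq => simp only [map_add, add_tmul, hp, hq]
  | add p q hp hq => simp only [map_add, hp, hq]

end Groth.Agent.Chev.SolvHopf
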