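import Groth.Agent.Chev.Pairs
import Mathlib.LinearAlgebra.Lagrange
import Mathlib.LinearAlgebra.FiniteDimensional.Basic

/-!
# The finite dimensional space of functions with bounded poles along the curves
-/

set_option autoImplicit false
set_option backward.isDefEq.respectTransparency false

universe u

open CategoryTheory CategoryTheory.Limits MonoidalCategory CartesianMonoidalCategory MonObj GrpObj AlgebraicGeometry
open Polynomial

noncomputable section

namespace Groth.Agent.Chev

variable {k : Type u} [Field k] [IsAlgClosed k] {H : Over (Spec (CommRingCat.of k))} [GrpObj H] [IsCommMonObj H]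
  [IsIntegral H.left] [Smooth H.hom]

namespace RatCurve

variable (c : RatCurve H)

/-- The missing parameters, seen in the rational functions. -/
def Bdry (r : RatFunc (KF H)) : Prop :=
  (∀ s : k, c.g.eval s = 0 → RegAt (algebraMap k (KF H) s) r) ∧ RegInf r

/-- The missing parameters are neither zeros nor poles. -/
def BdryUnit (r : RatFunc (KF H)) : Prop :=
  (∀ s : k, c.g.eval s = 0 → UnitAt (algebraMap k (KF H) s) r) ∧ UnitInf r

/-- Translation of rational functions along the curve, evaluated. -/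
theorem eval_tau {a : KF H} {G₁ G₂ : (KF H)[X]}
    (h : c.tau a * algebraMap _ _ G₁ = algebraMap _ _ G₂) {s : k} (hs : c.g.eval s ≠ 0) :
    tK (c.uv s) a * G₁.eval (algebraMap k _ s) = G₂.eval (algebraMap k _ s) := by
  obtain ⟨p, q, hq, hpq, hev⟩ := c.exists_quot_eval (y := genericPoint H.left) hs (a := a)
    (by rw [sh_generic]; exact ⟨a, toKF_generic a⟩)
  rw [toKF_generic, toKF_generic] at hev
  rw [inc_generic, inc_generic] at hpq
  have e : p * G₁ = G₂ * q := by
    apply RatFunc.algebraMap_injective (KF H)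
    rw [map_mul, map_mul, hpq, ← h]
    ring
  have e' := congrArg (Polynomial.eval (algebraMap k (KF H) s)) e
  rw [eval_mul, eval_mul] at e'
  apply mul_left_cancel₀ hq.ne_zero
  change q.eval (algebraMap k (KF H) s) * _ = q.eval (algebraMap k (KF H) s) * _
  change p.eval (algebraMap k (KF H) s) = _ at hev
  rw [hev] at e'
  linear_combination e'

theorem eq_X_sub_C {P : (KF H)[X]} (hP : Irreducible P) (h : P ∣ aeval X c.g) :
    ∃ s : k, c.g.eval s = 0 ∧ Associated P (X - C (algebraMap k (KF H) s)) := by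
  have hsplit : c.g.Splits := IsAlgClosed.splits _
  rw [aeval_X_left_eq_map, hsplit.eq_prod_roots, Polynomial.map_mul, map_C] at h
  have hu : IsUnit (C (algebraMap k (KF H) c.g.leadingCoeff)) :=
    isUnit_C.2 ((leadingCoeff_ne_zero.2 c.g_ne_zero).isUnit.map _)
  rw [hu.dvd_mul_left, Polynomial.map_multiset_prod, Multiset.map_map] at h
  obtain ⟨q, hq, hdvd⟩ := hP.prime.exists_mem_multiset_dvd h
  obtain ⟨s, hs, rfl⟩ := Multiset.mem_map.1 hq
  refine ⟨s, ((mem_roots c.g_ne_zero).1 hs), ?_⟩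
  simp only [Function.comp_apply, Polynomial.map_sub, map_X, map_C] at hdvd
  exact hP.associated_of_dvd (irreducible_X_sub_C _) hdvd

theorem avoids_of_not_dvd {P : (KF H)[X]} (h : ¬ P ∣ aeval X c.g) :
    c.Avoids (genericPoint H.left) (Ideal.span {P}) := fun hm => h (Ideal.mem_span_singleton.1 hm)

/-- Functions regular at every finite parameter and without poles at infinity are constant. -/
theorem exists_tau_poly {a : KF H}
    (hbd : c.Bdry (c.tau a)) {F : (KF H)[X]} (hF : F ≠ 0)
    (h : ∀ (P : (KF H)[X]) (_ : Irreducible P) [(Ideal.span {P}).IsPrime],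
      c.Avoids (genericPoint H.left) (Ideal.span {P}) →
        ∃ p q : (KF H)[X], ¬ P ∣ q ∧ c.tau a * algebraMap _ _ F * algebraMap _ _ q = algebraMap _ _ p) :
    ∃ B : (KF H)[X], B.natDegree ≤ F.natDegree ∧ c.tau a * algebraMap _ _ F = algebraMap _ _ B := by
  obtain ⟨B, hB⟩ := exists_poly (c.tau a * algebraMap _ (RatFunc (KF H)) F) fun P hP => by
    by_cases hd : P ∣ aeval X c.g
    · obtain ⟨s, hs, hass⟩ := c.eq_X_sub_C hP hd
      obtain ⟨p, q, hq, e⟩ := hbd.1 s hs
      refine ⟨p * F, q, fun hPq => hq ?_, by rw [map_mul, ← e]; ring⟩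
      exact dvd_iff_isRoot.1 (hass.symm.dvd.trans hPq)
    · haveI := (Ideal.span_singleton_prime hP.ne_zero).2 hP.prime
      exact h P hP (c.avoids_of_not_dvd hd)
  refine ⟨B, ?_, hB⟩
  obtain ⟨p, q, hq, hd, e⟩ := hbd.2
  have e' : B * q = p * F := by
    apply RatFunc.algebraMap_injective (KF H)
    rw [map_mul, map_mul, ← hB, ← e]
    ring
  by_cases hB0 : B = 0
  · simp [hB0]
  have h1 := congrArg natDegree e'
  rw [natDegree_mul hB0 hq] at h1
  have h2 : (p * F).natDegree ≤ q.natDegree + F.natDegree := natDegree_mul_le.trans (by omega)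
  omega

theorem exists_bound {W : H.left.Opens} (E : Equations H W) {F : (KF H)[X]} (hF : F.Monic)
    (hFund : ∀ (Q : Ideal (KF H)[X]) [Q.IsPrime] (_ : Q ≠ ⊥) (hQ : c.Avoids (genericPoint H.left) Q),
      UAt (genericPoint H.left) Q
        (algebraMap _ (RatFunc (KF H)) F / c.tau (E.d (img (c.sQ (genericPoint H.left) Q hQ)))))
    {a : KF H} (ha : a ∈ LD E) (hbd : c.Bdry (c.tau a)) :
    ∃ B : (KF H)[X], B.natDegree ≤ F.natDegree ∧ c.tau a * algebraMap _ _ F = algebraMap _ _ B := by
  refine c.exists_tau_poly hbd hF.ne_zero fun P hP hPp hQ => ?_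
  obtain ⟨u₁, u₂, -, hu₂, hu⟩ := hFund (Ideal.span {P}) (fun h => hP.ne_zero (Ideal.span_singleton_eq_bot.1 h)) hQ
  obtain ⟨p, q, hq, hpq⟩ := c.exists_quot hQ (ha (img (c.sQ (genericPoint H.left) (Ideal.span {P}) hQ)))
  refine ⟨p * u₁, q * u₂, fun h => ?_, ?_⟩
  · rcases hP.prime.dvd_or_dvd h with h' | h'
    · exact hq (Ideal.mem_span_singleton.2 h')
    · exact hu₂ (Ideal.mem_span_singleton.2 h')
  · rw [inc_generic, inc_generic] at hu hpq
    rw [map_mul] at hpq
    rw [map_mul, map_mul, hu, hpq]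
    have ht : c.tau (E.d (img (c.sQ (genericPoint H.left) (Ideal.span {P}) hQ))) ≠ 0 :=
      (map_ne_zero_iff c.tau c.tau.toRingHom.injective).2 (E.ne_zero _)
    revert ht
    generalize c.tau (E.d (img (c.sQ (genericPoint H.left) (Ideal.span {P}) hQ))) = T
    generalize c.tau a = A'
    generalize algebraMap (KF H)[X] (RatFunc (KF H)) F = F'
    generalize algebraMap (KF H)[X] (RatFunc (KF H)) q = Q'
    generalize algebraMap (KF H)[X] (RatFunc (KF H)) u₂ = U'
    intro hT
    field_simp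

/-- An open set meeting a translate of the curve contains almost all of it. -/
theorem cofinite_mem (y : RP H) {O : Set H.left} (hO : IsOpen O) {s₀ : k} (hs₀ : c.g.eval s₀ ≠ 0)
    (h : img (rat (A := k) (y * c.uv s₀)) ∈ O) :
    ∃ B : Finset k, ∀ s, c.g.eval s ≠ 0 → s ∉ B → img (rat (A := k) (y * c.uv s)) ∈ O := by
  classical
  let x : VecGrp.pt k (Localization.Away c.g) ⟶ H := rat y * c.map
  have hx : ∀ s, c.g.eval s ≠ 0 → ∀ hu, img (rat (A := k) (y * c.uv s)) =
      x.left (PrimeSpectrum.comap (c.evalAlg (algebraMap k k s) hu).toRingHom (IsLocalRing.closedPoint k)) := by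
    intro s hs hu
    have e : rat (A := k) (y * c.uv s) = VecGrp.ptMap (c.evalAlg (algebraMap k k s) hu) ≫ x := by
      rw [rat_mul, c.rat_uv hs, MonObj.comp_mul, ptMap_rat]
      rfl
    rw [e]; rfl
  obtain ⟨_, ⟨f, rfl⟩, hf, hsub⟩ := PrimeSpectrum.isTopologicalBasis_basic_opens.exists_subset_of_mem_open
    (u := x.left ⁻¹' O) (a := PrimeSpectrum.comap (c.evalAlg (algebraMap k k s₀) (c.isUnit_const hs₀)).toRingHom
      (IsLocalRing.closedPoint k)) (by rw [Set.mem_preimage, ← hx s₀ hs₀]; exact h) (hO.preimage x.left.continuous)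
  obtain ⟨p, q, rfl⟩ := IsLocalization.exists_mk'_eq (Submonoid.powers c.g) f
  have hev : ∀ s, c.g.eval s ≠ 0 → ∀ hu, (c.evalAlg (algebraMap k k s) hu (IsLocalization.mk' _ p q)) *
      (q : k[X]).eval s = p.eval s := by
    intro s hs hu
    have := congrArg (c.evalAlg (algebraMap k k s) hu) (IsLocalization.mk'_spec (Localization.Away c.g) p q)
    rw [map_mul, evalAlg_algebraMap, evalAlg_algebraMap] at this
    simp only [Algebra.algebraMap_self, RingHom.id_apply] at this ⊢
    exact this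
  have hp : p ≠ 0 := by
    rintro rfl
    refine hf ?_
    show IsLocalization.mk' _ (0 : k[X]) q ∈ _
    rw [IsLocalization.mk'_zero]
    exact Ideal.zero_mem _
  refine ⟨p.roots.toFinset, fun s hs hsB => ?_⟩
  rw [hx s hs (c.isUnit_const hs)]
  refine hsub ?_
  show c.evalAlg (algebraMap k k s) (c.isUnit_const hs) (IsLocalization.mk' _ p q) ∉ IsLocalRing.maximalIdeal k
  intro h0
  have h0' : c.evalAlg (algebraMap k k s) (c.isUnit_const hs) (IsLocalization.mk' _ p q) = 0 := by
    rw [IsLocalRing.maximalIdeal_eq_bot] at h0; exact h0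
  have := hev s hs (c.isUnit_const hs)
  rw [h0', zero_mul] at this
  exact hsB (Multiset.mem_toFinset.2 ((mem_roots hp).2 this.symm))

end RatCurve

/-- The value at a rational point, or zero. -/
def val₀ (z : RP H) (a : KF H) : k :=
  open Classical in if h : ∃ b, Fit (rat (A := k) z) a b then h.choose else 0

omit [IsCommMonObj H] [Smooth H.hom] [IsAlgClosed k] in
theorem val₀_eq {z : RP H} {a : KF H} {b : k} (h : Fit (rat (A := k) z) a b) : val₀ z a = b := by
  have h' : ∃ b, Fit (rat (A := k) z) a b := ⟨b, h⟩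
  rw [val₀, dif_pos h']
  exact h'.choose_spec.unique h

variable {W : H.left.Opens} (E : Equations H W) (cs : Bool → RatCurve H)

/-- The space of functions with at most simple poles on the boundary and none at the missing parameters. -/
def Vsp : Submodule k (KF H) where
  carrier := {a | a ∈ LD E ∧ ∀ ε, (cs ε).Bdry ((cs ε).tau a)}
  add_mem' {a b} ha hb := ⟨add_mem ha.1 hb.1, fun ε => by
    rw [map_add]
    exact ⟨fun s hs => ((ha.2 ε).1 s hs).add ((hb.2 ε).1 s hs), (ha.2 ε).2.add (hb.2 ε).2⟩⟩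
  zero_mem' := ⟨zero_mem _, fun ε => by
    rw [map_zero, ← map_zero (algebraMap (KF H) (RatFunc (KF H)))]
    exact ⟨fun s _ => RegAt.const _ _, RegInf.const _⟩⟩
  smul_mem' t a ha := ⟨Submodule.smul_mem _ t ha.1, fun ε => by
    rw [map_smul, Algebra.smul_def, IsScalarTower.algebraMap_apply k (KF H) (RatFunc (KF H))]
    exact ⟨fun s hs => (RegAt.const _ _).mul ((ha.2 ε).1 s hs), (RegInf.const _).mul (ha.2 ε).2⟩⟩

theorem one_mem_Vsp : (1 : KF H) ∈ Vsp E cs := ⟨one_mem_LD E, fun ε => by
  rw [map_one]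
  exact ⟨fun s _ => (UnitAt.one _).regAt, UnitInf.one.regInf⟩⟩

/-- Products of rational values of the curves along a word. -/
def Words : List Bool → Set (RP H)
  | [] => {1}
  | ε :: l => {w | ∃ s, (cs ε).g.eval s ≠ 0 ∧ ∃ w' ∈ Words l, w = (cs ε).uv s * w'}

/-- If every rational point is a product along one word then the space is finite dimensional. -/
theorem finite_Vsp (hW : genericPoint H.left ∈ W) {F : Bool → (KF H)[X]} (hF : ∀ ε, (F ε).Monic)
    (hFund : ∀ ε, ∀ (Q : Ideal (KF H)[X]) [Q.IsPrime] (_ : Q ≠ ⊥) (hQ : (cs ε).Avoids (genericPoint H.left) Q),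
      RatCurve.UAt (genericPoint H.left) Q
        (algebraMap _ (RatFunc (KF H)) (F ε) / (cs ε).tau (E.d (img ((cs ε).sQ (genericPoint H.left) Q hQ)))))
    {l : List Bool} (hgen : ∀ h : RP H, h ∈ Words cs l) : FiniteDimensional k (Vsp E cs) := by
  classical
  haveI : IsLocallyNoetherian H.left := LocallyOfFiniteType.isLocallyNoetherian H.hom
  have hnodes : ∀ ε, ∃ S : Finset k, (F ε).natDegree < S.card ∧ ∀ s ∈ S, (cs ε).g.eval s ≠ 0 := fun ε => by
    obtain ⟨S, hS, hS'⟩ := (Set.Infinite.exists_subset_card_eq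
      (s := {s : k | (cs ε).g.eval s ≠ 0}) (by
        have : {s : k | (cs ε).g.eval s ≠ 0} = {s | (cs ε).g.IsRoot s}ᶜ := rfl
        rw [this]
        exact (Polynomial.finite_setOf_isRoot (cs ε).g_ne_zero).infinite_compl) ((F ε).natDegree + 1))
    exact ⟨S, by omega, fun s hs => hS hs⟩
  choose C hC hCg using hnodes
  let G : List Bool → Finset (RP H) := fun l =>
    l.foldr (fun ε S => (C ε).biUnion fun s => S.image fun g => (cs ε).uv s * g) {1}
  have hG0 : G [] = {1} := rfl
  have hG1 : ∀ ε l, G (ε :: l) = (C ε).biUnion fun s => (G l).image fun g => (cs ε).uv s * g := fun ε l => rfl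
  let Ω : Bool → Set H.left := fun ε => {x | x ∈ W} ∩
    ⋂ i ∈ Finset.range ((F ε).natDegree + 1), {x | Mem x ((F ε).coeff i)}
  have hΩ : ∀ ε, IsOpen (Ω ε) := fun ε => W.2.inter (isOpen_biInter_finset fun i _ => isOpen_mem _)
  have hΩη : ∀ ε, genericPoint H.left ∈ Ω ε := fun ε => ⟨hW, Set.mem_iInter₂.2 fun i _ => ⟨_, toKF_generic _⟩⟩
  let Ok : List Bool → Set H.left := fun l => List.rec {x | x ∈ W}
    (fun ε l ok => (⋂ g ∈ G l, (fun x => sh x g) ⁻¹' (Ω ε)) ∩
      (⋂ s ∈ C ε, ⋂ g ∈ G l, (fun x => sh x ((cs ε).uv s * g)) ⁻¹' {x | x ∈ W}) ∩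
      ⋂ s ∈ C ε, (fun x => sh x ((cs ε).uv s)) ⁻¹' ok) l
  have hOk1 : ∀ ε l, Ok (ε :: l) = (⋂ g ∈ G l, (fun x => sh x g) ⁻¹' (Ω ε)) ∩
      (⋂ s ∈ C ε, ⋂ g ∈ G l, (fun x => sh x ((cs ε).uv s * g)) ⁻¹' {x | x ∈ W}) ∩
      ⋂ s ∈ C ε, (fun x => sh x ((cs ε).uv s)) ⁻¹' Ok l := fun ε l => rfl
  have hcont : ∀ g : RP H, Continuous fun x : H.left => sh x g := fun g => (tr g).left.continuous
  have hOk : ∀ l, IsOpen (Ok l) ∧ genericPoint H.left ∈ Ok l := by
    intro l
    induction l with
    | nil => exact ⟨W.2, hW⟩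
    | cons ε l ih =>
      rw [hOk1]
      refine ⟨((isOpen_biInter_finset fun g _ => (hΩ ε).preimage (hcont g)).inter
        (isOpen_biInter_finset fun s _ => isOpen_biInter_finset fun g _ => W.2.preimage (hcont _))).inter
        (isOpen_biInter_finset fun s _ => ih.1.preimage (hcont _)), ⟨?_, ?_⟩, ?_⟩
      · simp only [Set.mem_iInter, Set.mem_preimage, sh_generic]; exact fun _ _ => hΩη ε
      · simp only [Set.mem_iInter, Set.mem_preimage, sh_generic]; exact fun _ _ _ _ => hW
      · simp only [Set.mem_iInter, Set.mem_preimage, sh_generic]; exact fun _ _ => ih.2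
  obtain ⟨x₀, hx₀⟩ := exists_rat_mem_open (hOk l).1 ⟨_, (hOk l).2⟩
  -- values at the grid
  have hW_mem : ∀ (a : Vsp E cs) {x : H.left}, x ∈ W → Mem x (a : KF H) := fun a x hx => by
    have := (mem_LD E).1 a.2.1 x
    rwa [E.eq_one x hx, _root_.mul_one] at this
  have hOkW : ∀ l (x : H.left), x ∈ Ok l → ∀ g ∈ G l, sh x g ∈ W := by
    intro l
    induction l with
    | nil =>
      intro x hx g hg
      rw [hG0, Finset.mem_singleton] at hg
      rw [hg, sh_one]; exact hx
    | cons ε l _ =>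
      intro x hx g hg
      rw [hOk1] at hx
      rw [hG1, Finset.mem_biUnion] at hg
      obtain ⟨s, hs, hg⟩ := hg
      obtain ⟨g', hg', rfl⟩ := Finset.mem_image.1 hg
      exact Set.mem_iInter₂.1 (Set.mem_iInter₂.1 hx.1.2 s hs) g' hg'
  have hfit : ∀ (a : Vsp E cs) (z : RP H), img (rat (A := k) z) ∈ W → Fit (rat (A := k) z) (a : KF H) (val₀ z (a : KF H)) := by
    intro a z hz
    obtain ⟨b, hb⟩ := exists_fit _ (hW_mem a hz)
    rwa [val₀_eq hb]
  have hgrid : ∀ g : G l, img (rat (A := k) (x₀ * g.1)) ∈ W := fun g => by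
    rw [img_rat_mul]; exact hOkW l _ hx₀ g.1 g.2
  let Φ : Vsp E cs →ₗ[k] (G l → k) :=
    { toFun := fun a g => val₀ (x₀ * g.1) (a : KF H)
      map_add' := fun a b => funext fun g => val₀_eq ((hfit a _ (hgrid g)).add (hfit b _ (hgrid g)))
      map_smul' := fun t a => funext fun g => by
        refine val₀_eq ?_
        rw [Submodule.coe_smul, Algebra.smul_def]
        exact (Fit.const _ t).mul (hfit a _ (hgrid g)) }
  refine FiniteDimensional.of_injective Φ ((injective_iff_map_eq_zero Φ).2 fun a ha => ?_)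
  -- zero set of `a`
  let Z : Set H.left := ({x | x ∈ W} ∩ {x | Un x (a : KF H)})ᶜ
  have hZ : IsOpen Zᶜ := by rw [compl_compl]; exact W.2.inter (isOpen_un _)
  have hZ0 : ∀ z : RP H, img (rat (A := k) z) ∈ W → (img (rat (A := k) z) ∈ Z ↔ val₀ z (a : KF H) = 0) := by
    intro z hz
    have h := (hfit a z hz).isUnit_iff
    rw [isUnit_iff_ne_zero] at h
    simp only [Z, Set.mem_compl_iff, Set.mem_inter_iff, Set.mem_setOf_eq, not_and]
    exact ⟨fun h1 => not_not.1 fun h2 => h1 hz (h.1 h2), fun h1 _ h2 => h.2 h2 h1⟩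
  have step : ∀ ε (y : RP H), img (rat (A := k) y) ∈ Ω ε →
      (∀ s ∈ C ε, img (rat (A := k) (y * (cs ε).uv s)) ∈ W) →
      (∀ s ∈ C ε, img (rat (A := k) (y * (cs ε).uv s)) ∈ Z) →
      ∀ s, (cs ε).g.eval s ≠ 0 → img (rat (A := k) (y * (cs ε).uv s)) ∈ Z := by
    intro ε y hy hyW hyZ s hs
    obtain ⟨B, hBd, hB⟩ := (cs ε).exists_bound E (hF ε) (hFund ε) a.2.1 (a.2.2 ε)
    have hFc : ∀ i, Mem (img (rat (A := k) y)) ((F ε).coeff i) := fun i => by
      by_cases hi : i ∈ Finset.range ((F ε).natDegree + 1)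
      · exact Set.mem_iInter₂.1 hy.2 i hi
      · rw [coeff_eq_zero_of_natDegree_lt (by simp only [Finset.mem_range] at hi; omega)]
        exact ⟨0, map_zero _⟩
    choose fc hfc using fun i => exists_fit (rat (A := k) y) (hFc i)
    let Fy : k[X] := ∑ i ∈ Finset.range ((F ε).natDegree + 1), Polynomial.C (fc i) * X ^ i
    have hFy : ∀ t : k, Fit (rat (A := k) y) ((F ε).eval (algebraMap k _ t)) (Fy.eval t) := fun t => by
      rw [eval_eq_sum_range, eval_finsetSum]
      refine Fit.sum _ fun i _ => ?_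
      simp only [eval_mul, eval_C, eval_pow, eval_X]
      rw [← map_pow]
      exact (hfc i).mul (Fit.const _ _)
    have hFy0 : Fy ≠ 0 := fun e => by
      have hc : fc (F ε).natDegree = 1 := by
        have h1 := hfc (F ε).natDegree
        rw [(hF ε).coeff_natDegree] at h1
        exact h1.unique (Fit.one _)
      have := congrArg (fun p : k[X] => p.coeff (F ε).natDegree) e
      simp only [Fy, finsetSum_coeff, coeff_C_mul, coeff_X_pow, coeff_zero] at this
      rw [Finset.sum_eq_single (F ε).natDegree (fun i _ hi => by simp [hi.symm])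
        (fun h => absurd (Finset.self_mem_range_succ _) h)] at this
      simp [hc] at this
    have hBc : ∀ t ∈ C ε, Fit (rat (A := k) y) (B.eval (algebraMap k _ t)) 0 := fun t ht => by
      rw [← (cs ε).eval_tau hB (hCg ε t ht)]
      have h1 := hfit a _ (hyW t ht)
      rw [(hZ0 _ (hyW t ht)).1 (hyZ t ht)] at h1
      have h2 := (fit_tK_rat h1).mul (hFy t)
      rwa [zero_mul] at h2
    have hinj : Set.InjOn (fun t : k => algebraMap k (KF H) t) (C ε : Set k) :=
      fun _ _ _ _ h => (algebraMap k (KF H)).injective h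
    have hinterp := Lagrange.eq_interpolate (f := B) (s := C ε) hinj
      (lt_of_le_of_lt degree_le_natDegree (by exact_mod_cast lt_of_le_of_lt hBd (hC ε)))
    have hBs : Fit (rat (A := k) y) (B.eval (algebraMap k _ s)) 0 := by
      rw [hinterp]
      simp only [Lagrange.interpolate_apply, eval_finsetSum, eval_mul, eval_C]
      rw [← Finset.sum_const_zero (s := C ε)]
      refine Fit.sum _ fun t ht => ?_
      have e : (Lagrange.basis (C ε) (fun t : k => algebraMap k (KF H) t) t).eval (algebraMap k _ s) =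
          algebraMap k (KF H) ((Lagrange.basis (C ε) id t).eval s) := by
        simp [Lagrange.basis, Lagrange.basisDivisor, eval_prod, map_prod, map_inv₀]
      rw [e]
      have h2 := (hBc t ht).mul (Fit.const (rat (A := k) y) ((Lagrange.basis (C ε) id t).eval s))
      rwa [zero_mul] at h2
    by_contra hs'
    -- the good parameters form a cofinite set
    obtain ⟨Bad, hBad⟩ := (cs ε).cofinite_mem y hZ hs hs'
    obtain ⟨t, ht⟩ := Infinite.exists_notMem_finset (Bad ∪ (cs ε).g.roots.toFinset ∪ Fy.roots.toFinset)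
    simp only [Finset.mem_union, Multiset.mem_toFinset, mem_roots (cs ε).g_ne_zero, mem_roots hFy0, not_or] at ht
    have hgood := hBad t ht.1.2 ht.1.1
    have hBt : Fit (rat (A := k) y) (B.eval (algebraMap k _ t)) 0 := by
      rw [hinterp]
      simp only [Lagrange.interpolate_apply, eval_finsetSum, eval_mul, eval_C]
      rw [← Finset.sum_const_zero (s := C ε)]
      refine Fit.sum _ fun t' ht' => ?_
      have e : (Lagrange.basis (C ε) (fun t : k => algebraMap k (KF H) t) t').eval (algebraMap k _ t) =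
          algebraMap k (KF H) ((Lagrange.basis (C ε) id t').eval t) := by
        simp [Lagrange.basis, Lagrange.basisDivisor, eval_prod, map_prod, map_inv₀]
      rw [e]
      have h2 := (hBc t' ht').mul (Fit.const (rat (A := k) y) ((Lagrange.basis (C ε) id t').eval t))
      rwa [zero_mul] at h2
    have hyt : img (rat (A := k) (y * (cs ε).uv t)) ∈ W := by
      by_contra hn
      exact hgood (fun h => hn h.1)
    have h1 := (fit_tK_rat (hfit a _ hyt)).mul (hFy t)
    rw [(cs ε).eval_tau hB ht.1.2] at h1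
    have h0 := h1.unique hBt
    exact hgood ((hZ0 _ hyt).2 ((mul_eq_zero.1 h0).resolve_right ht.2))
  have main : ∀ l (y : RP H), img (rat (A := k) y) ∈ Ok l → (∀ g ∈ G l, img (rat (A := k) (y * g)) ∈ Z) →
      ∀ w ∈ Words cs l, img (rat (A := k) (y * w)) ∈ Z := by
    intro l
    induction l with
    | nil =>
      intro y _ hg w hw
      exact hg w (by rw [hG0, Finset.mem_singleton]; exact hw)
    | cons ε l ih =>
      intro y hy hg w hw
      rw [hOk1] at hy
      obtain ⟨⟨hy1, hy2⟩, hy3⟩ := hy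
      have hcurve : ∀ g ∈ G l, ∀ s, (cs ε).g.eval s ≠ 0 → img (rat (A := k) (y * (cs ε).uv s * g)) ∈ Z := by
        intro g hgl s hs
        rw [_root_.mul_assoc, pt_comm ((cs ε).uv s) g, ← _root_.mul_assoc]
        refine step ε (y * g) (img_rat_mul y g ▸ Set.mem_iInter₂.1 hy1 g hgl) (fun t ht => ?_) (fun t ht => ?_) s hs
        · rw [_root_.mul_assoc, pt_comm g, img_rat_mul]
          exact Set.mem_iInter₂.1 (Set.mem_iInter₂.1 hy2 t ht) g hgl
        · rw [_root_.mul_assoc, pt_comm g]
          exact hg _ (by rw [hG1]; exact Finset.mem_biUnion.2 ⟨t, ht, Finset.mem_image_of_mem _ hgl⟩)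
      obtain ⟨s, hs, w', hw', rfl⟩ := hw
      obtain ⟨t₀, ht₀⟩ : (C ε).Nonempty := Finset.card_pos.1 (by have := hC ε; omega)
      obtain ⟨Bad, hBad⟩ := (cs ε).cofinite_mem y (hOk l).1 (hCg ε t₀ ht₀)
        (img_rat_mul y ((cs ε).uv t₀) ▸ Set.mem_iInter₂.1 hy3 t₀ ht₀)
      by_contra hn
      rw [← _root_.mul_assoc, _root_.mul_assoc y, pt_comm ((cs ε).uv s) w', ← _root_.mul_assoc] at hn
      obtain ⟨Bad', hBad'⟩ := (cs ε).cofinite_mem (y * w') hZ hs hn
      obtain ⟨t, ht⟩ := Infinite.exists_notMem_finset (Bad ∪ Bad' ∪ (cs ε).g.roots.toFinset)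
      simp only [Finset.mem_union, Multiset.mem_toFinset, mem_roots (cs ε).g_ne_zero, not_or] at ht
      have := ih (y * (cs ε).uv t) (hBad t ht.2 ht.1.1) (fun g hgl => hcurve g hgl t ht.2) w' hw'
      rw [_root_.mul_assoc, pt_comm ((cs ε).uv t) w', ← _root_.mul_assoc] at this
      exact hBad' t ht.2 ht.1.2 this
  have hall : ∀ h : RP H, img (rat (A := k) h) ∈ Z := fun h => by
    have := main l x₀ hx₀ (fun g hg => (hZ0 _ (hgrid ⟨g, hg⟩)).2 (congrFun ha ⟨g, hg⟩)) (x₀⁻¹ * h) (hgen _)
    rwa [mul_inv_cancel_left] at this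
  apply Subtype.ext
  refine eq_zero_of_fit_zero (U := {x | x ∈ W}) W.2 ⟨_, hW⟩ _ fun z hz => ?_
  have := hfit a z hz
  rwa [(hZ0 z hz).1 (hall z)] at this

end Groth.Agent.Chev
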