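import Groth.Agent.Chev.SplitCoords
import Groth.Agent.Chev.TorusExt
import Groth.Agent.Chev.LargestSA
import Groth.Agent.Chev.LargestNormal
import Groth.Agent.WittUnip.AffSpace
import Groth.Agent.Takeuchi.Quot
import Groth.Agent.S12181
import Groth.Agent.S12182
import Groth.Agent.S7983
import Groth.Agent.S3016
import Groth.Agent.GrpField.QAAffine

/-!
# Galois cohomology of connected commutative linear groups over an algebraically closed field

Such groups are iterated extensions of additive and multiplicative groups, so the cohomology of their
base change to any extension field vanishes.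
-/

set_option autoImplicit false
set_option linter.style.haveILetI false
set_option backward.isDefEq.respectTransparency false
set_option synthInstance.maxHeartbeats 400000

universe u

open CategoryTheory Limits MonoidalCategory CartesianMonoidalCategory MonObj GrpObj AlgebraicGeometry
open scoped CategoryTheory.Obj

noncomputable section

namespace Groth.Agent.Chev.SplitH1

open GalTorsor

variable {k : Type u} [Field k] [IsAlgClosed k] {K : Type u} [Field K] [Algebra k K] {Ks : Type u} [Field Ks]
  [Algebra K Ks] [Algebra k Ks] [IsScalarTower k K Ks] [IsGalois K Ks] [IsSepClosed Ks]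

theorem good_of_eq_one {G : Over (Spec (CommRingCat.of k))} [GrpObj G] (h : 𝟙 G = 1) : Good k K Ks G := by
  intro c L _ _ _ _
  refine ⟨1, fun σ => ?_⟩
  have e : ∀ x : pt K Ks ⟶ Red.bc (DualCyc.base k K) G, x = 1 := fun x => by
    rw [← Category.comp_id x, ← (Over.pullback (DualCyc.base k K)).map_id, h, bc_map_one, MonObj.comp_one]
  exact (e _).trans (e _).symm

theorem good_ug {p : ℕ} [Fact p.Prime] [CharP k p] (G : WittUnip.UG p k) : Good k K Ks G.X := by
  induction hd : G.dm using Nat.strong_induction_on generalizing G with
  | _ d ih =>
    subst hd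
    rcases Nat.eq_zero_or_pos G.dm with h0 | h0
    · exact good_of_eq_one (WittUnip.hom_ext_pt fun a => by
        rw [Category.comp_id, MonObj.comp_one, WittUnip.eq_one_of_dm_zero h0 a])
    · obtain ⟨Q, q, i, hq, hi, hic, hflat, hsurj, ⟨S⟩, hlt⟩ := WittUnip.exists_bottom_quotient G h0
      haveI := hq; haveI := hi; haveI := hsurj
      haveI : Smooth (WittGrp.W p 1 (Spec (CommRingCat.of k))).hom := (WittUnip.UG.W p k 1).smooth
      obtain ⟨e, he, -⟩ := Groth.Agent.S12181.result p (Spec (CommRingCat.of k))
      haveI := he
      exact good_of_extension i q S.ker (good_of_iso (Grp.mkIso' e) good_Ga) (ih Q.dm hlt Q rfl)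

/-- Connected commutative groups without subtori. -/
theorem good_unip (U : Over (Spec (CommRingCat.of k))) [GrpObj U] [IsCommMonObj U] [Smooth U.hom]
    [ConnectedSpace U.left] [IsAffine U.left] (hU : Red.HasNoSubtorus k U) : Good k K Ks U := by
  obtain ⟨p, hp⟩ := CharP.exists k
  rcases CharP.char_is_prime_or_zero k p with hpr | rfl
  · haveI := Fact.mk hpr
    obtain ⟨N, hN⟩ := WittUnip.exists_ug_of_noSubtorus (p := p) U hU
    exact good_ug (WittUnip.UG.of U ⟨N, hN⟩)
  · haveI := CharP.charP_to_charZero k
    obtain ⟨A, _, _, e, he, _, _, _, _⟩ := WittUnip.exists_coordHopf U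
    haveI := he
    obtain ⟨n, x, hind, hgen, hprim⟩ := UnipZero.exists_generators (WittUnip.isConil_of_noSubtorus hU e)
    exact good_of_iso (Grp.mkIso' e).symm (good_of_primitive x hind hgen hprim)

/-- **Connected commutative linear groups over an algebraically closed field have trivial cohomology.** -/
theorem good_linear (B : Over (Spec (CommRingCat.of k))) [GrpObj B] [IsCommMonObj B] [Smooth B.hom]
    [ConnectedSpace B.left] [IsAffine B.left] : Good k K Ks B := by
  obtain ⟨d, hd⟩ := Chev.exists_natDim' B
  induction d using Nat.strong_induction_on generalizing B with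
  | _ d ih =>
    classical
    by_cases hU : Red.HasNoSubtorus k B
    · exact good_unip B hU
    · unfold Red.HasNoSubtorus at hU
      push Not at hU
      obtain ⟨T, _, j, _, _, hT, htriv⟩ := hU
      haveI : IsAffineHom B.hom := isAffineHom_of_isAffine B.hom
      haveI := Chev.smooth_of_isTorus hT
      haveI := Chev.connectedSpace_of_isTorus hT
      haveI := Chev.isAffine_of_isTorus hT
      haveI : IsAffineHom T.hom := isAffineHom_of_isAffine T.hom
      haveI : LocallyOfFiniteType B.hom := inferInstance
      haveI : LocallyOfFiniteType T.hom := inferInstance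
      haveI : Subsingleton ↥(Spec (CommRingCat.of k)) := inferInstanceAs (Subsingleton (PrimeSpectrum k))
      haveI := quasiCompact_left j
      haveI : IsClosedImmersion j.left := GrpField.isClosedImmersion_of_mono j
      obtain ⟨Q, _, q, hq, hQa, hQl, hqf, hqs, hker⟩ := Takeuchi.exists_affine_quotient B T j
        fun T g n => ⟨n, by rw [mul_comm g, mul_inv_cancel_right]⟩
      haveI := hq; haveI := hQa; haveI := hQl; haveI := hqf; haveI := hqs
      haveI : IsAffineHom Q.hom := isAffineHom_of_isAffine Q.hom
      obtain ⟨-, hsm, hconn⟩ := Groth.Agent.S7983.result k B Q q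
      haveI := hsm ‹_›
      haveI := hconn ‹_›
      haveI : IsLocallyNoetherian Q.left := LocallyOfFiniteType.isLocallyNoetherian Q.hom
      haveI : LocallyOfFiniteType q.left := by
        haveI : LocallyOfFiniteType (q.left ≫ Q.hom) := by rw [Over.w]; infer_instance
        exact locallyOfFiniteType_of_comp q.left Q.hom
      haveI := quasiCompact_left q
      haveI : LocallyOfFinitePresentation q.left := inferInstance
      haveI : IsCommMonObj Q := Chev.isCommMonObj_of_surjective q
      haveI := quasiCompact_left q
      obtain ⟨r, hr⟩ := Chev.exists_split_algClosed hT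
      obtain ⟨dT, hdT⟩ := Chev.exists_natDim' T
      obtain ⟨dQ, hdQ⟩ := Chev.exists_natDim' Q
      have hsum := S3016.dim_eq_field q j hker
      have hrange : topologicalKrullDim (Set.range q.left.base) = topologicalKrullDim Q.left := by
        rw [Set.range_eq_univ.2 q.left.surjective]
        exact (Homeomorph.Set.univ Q.left).isHomeomorph.topologicalKrullDim_eq
      rw [hrange, hd, hdT, hdQ] at hsum
      have hsum' : d = dQ + dT := by exact_mod_cast hsum
      have hpos : 0 < dT := by
        by_contra h0
        haveI : IrreducibleSpace T.left :=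
          GrpField.irreducibleSpace_of_nhds (GrpField.exists_irreducible_nhd T)
        haveI : IsSeparated T.hom := GrpField.isSeparated_hom T
        haveI := GrpField.isClosedImmersion_eta T
        haveI : Surjective η[T].left := ⟨fun y => ⟨IsLocalRing.closedPoint k,
          Chev.eq_of_dim_nonpos (by
            rw [hdT, Nat.eq_zero_of_not_pos h0]
            simp) _ _⟩⟩
        haveI : IsReduced T.left := Chev.isReduced_of_smooth' T
        haveI : IsIso η[T].left := isIso_of_isClosedImmersion_of_surjective η[T].left
        have he : η[T].left ≫ T.hom = 𝟙 _ := Over.w η[T]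
        exact htriv (show IsIso T.hom by
          rw [show T.hom = inv η[T].left by rw [← cancel_epi η[T].left, he, IsIso.hom_inv_id]]
          infer_instance)
      exact good_of_extension j q hker (good_split hr) (ih dQ (by omega) Q hdQ)

end Groth.Agent.Chev.SplitH1
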