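import Groth.Agent.MTBridge.Hom
import Groth.Agent.MTBridge.Charts
import Groth.Agent.MTBridge.Basic
import Mathlib

/-!
# Homomorphisms of diagonalisable groups over a field are maps of character groups
-/

set_option autoImplicit false
set_option linter.style.haveILetI false
set_option backward.isDefEq.respectTransparency false
set_option backward.isDefEq.respectTransparency.types false
set_option maxHeartbeats 1000000
set_option synthInstance.maxHeartbeats 400000
universe u

open CategoryTheory Limits MonoidalCategory CartesianMonoidalCategory AlgebraicGeometry Opposite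
open scoped CategoryTheory.Obj MonObj

noncomputable section

namespace Groth.Agent.Chev

open MTBridge (specGrp)

variable (K : Type u) [Field K]

/-- The diagonalisable group with characters `M`. -/
abbrev diagGrp (M : Type) [CommGroup M] : Grp (Over (Spec (CommRingCat.of K))) := specGrp K (MonoidAlgebra K M)

variable {K} {M N P : Type} [CommGroup M] [CommGroup N] [CommGroup P]

/-- The homomorphism of diagonalisable groups given by a map of characters. -/
def diagMap (φ : M →* N) : (diagGrp K N).X ⟶ (diagGrp K M).X :=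
  ((hopfSpec (CommRingCat.of K)).map (CommHopfAlgCat.ofHom (R := K) (MonoidAlgebra.mapDomainBialgHom K φ)).op).hom.hom

instance (φ : M →* N) : IsMonHom (diagMap (K := K) φ) :=
  inferInstanceAs (IsMonHom ((hopfSpec (CommRingCat.of K)).map
    (CommHopfAlgCat.ofHom (R := K) (MonoidAlgebra.mapDomainBialgHom K φ)).op).hom.hom)

theorem diagMap_left (φ : M →* N) : (diagMap (K := K) φ).left =
    Spec.map (CommRingCat.ofHom (MonoidAlgebra.mapDomainBialgHom K φ : MonoidAlgebra K M →ₐ[K] MonoidAlgebra K N).toRingHom) :=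
  rfl

theorem diagMap_id : diagMap (K := K) (MonoidHom.id M) = 𝟙 _ := by
  apply Over.OverMorphism.ext
  rw [diagMap_left, MonoidAlgebra.mapDomainBialgHom_id]
  exact Spec.map_id _

theorem diagMap_comp (φ : M →* N) (ψ : N →* P) :
    diagMap (K := K) (ψ.comp φ) = diagMap ψ ≫ diagMap φ := by
  apply Over.OverMorphism.ext
  rw [Over.comp_left, diagMap_left, diagMap_left, diagMap_left, MonoidAlgebra.mapDomainBialgHom_comp, ← Spec.map_comp]
  rfl

theorem diagMap_injective {φ ψ : M →* N} (h : diagMap (K := K) φ = diagMap ψ) : φ = ψ := by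
  have h' := congrArg (fun v => v.left) h
  simp only [diagMap_left] at h'
  have h'' := congrArg CommRingCat.Hom.hom (Spec.map_injective h')
  ext m
  have := RingHom.congr_fun h'' (MonoidAlgebra.single m 1)
  simp only [CommRingCat.hom_ofHom, AlgHom.toRingHom_eq_coe, RingHom.coe_coe, BialgHom.coe_toAlgHom,
    MonoidAlgebra.mapDomainBialgHom_single] at this
  exact MonoidAlgebra.single_left_injective (R := K) one_ne_zero this

theorem exists_diagMap (v : (diagGrp K N).X ⟶ (diagGrp K M).X) [IsMonHom v] :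
    ∃ φ : M →* N, v = diagMap φ := by
  obtain ⟨f, hf⟩ := MTBridge.exists_bialgHom v
  refine ⟨MonoidAlgebra.mapDomainOfBialgHom f, ?_⟩
  apply Over.OverMorphism.ext
  rw [diagMap_left, MonoidAlgebra.mapDomainBialgHom_mapDomainOfBialgHom]
  exact hf

theorem diagMap_one : diagMap (K := K) (1 : M →* N) = 1 := by
  apply Over.OverMorphism.ext
  refine Eq.trans ?_ (congrArg (fun x => x.left)
    (map_one (Spec.mapMulEquiv (R := K) (S := MonoidAlgebra K M) (T := MonoidAlgebra K N))))
  rw [diagMap_left]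
  congr 1
  ext1
  refine MonoidAlgebra.ringHom_ext (fun c => ?_) (fun m => ?_)
  · simp
  · simp [MonoidAlgebra.one_def]

/-- **An exact sequence of split tori splits.** -/
theorem exists_section_diag {nK nG nQ : ℕ} {A B C : Over (Spec (CommRingCat.of K))} [GrpObj A] [GrpObj B] [GrpObj C]
    (eA : Grp.mk A ≅ diagGrp K (Multiplicative (Fin nK → ℤ))) (eB : Grp.mk B ≅ diagGrp K (Multiplicative (Fin nG → ℤ)))
    (eC : Grp.mk C ≅ diagGrp K (Multiplicative (Fin nQ → ℤ)))
    (i : A ⟶ B) [IsMonHom i] (π : B ⟶ C) [IsMonHom π] [Epi π] (hw : i ≫ π = 1)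
    (hdesc : ∀ {W : Over (Spec (CommRingCat.of K))} [GrpObj W] (χ : B ⟶ W) [IsMonHom χ], i ≫ χ = 1 →
      ∃ d : C ⟶ W, IsMonHom d ∧ π ≫ d = χ) :
    ∃ s : C ⟶ B, IsMonHom s ∧ s ≫ π = 𝟙 C := by
  let a : A ≅ (diagGrp K (Multiplicative (Fin nK → ℤ))).X := (Grp.forget _).mapIso eA
  let b : B ≅ (diagGrp K (Multiplicative (Fin nG → ℤ))).X := (Grp.forget _).mapIso eB
  let c : C ≅ (diagGrp K (Multiplicative (Fin nQ → ℤ))).X := (Grp.forget _).mapIso eC
  haveI : IsMonHom a.hom := inferInstanceAs (IsMonHom eA.hom.hom.hom)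
  haveI : IsMonHom a.inv := inferInstanceAs (IsMonHom eA.inv.hom.hom)
  haveI : IsMonHom b.hom := inferInstanceAs (IsMonHom eB.hom.hom.hom)
  haveI : IsMonHom b.inv := inferInstanceAs (IsMonHom eB.inv.hom.hom)
  haveI : IsMonHom c.hom := inferInstanceAs (IsMonHom eC.hom.hom.hom)
  haveI : IsMonHom c.inv := inferInstanceAs (IsMonHom eC.inv.hom.hom)
  obtain ⟨ξ, hξ⟩ := exists_diagMap (a.inv ≫ i ≫ b.hom)
  obtain ⟨φ, hφ⟩ := exists_diagMap (b.inv ≫ π ≫ c.hom)
  have hbπ : b.hom ≫ diagMap φ = π ≫ c.hom := by rw [← hφ, Iso.hom_inv_id_assoc]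
  have hφinj : Function.Injective φ := by
    intro x y hxy
    let ev := fun (z : Multiplicative (Fin nQ → ℤ)) => (zpowersHom _ z : Multiplicative ℤ →* _)
    have h1 : φ.comp (ev x) = φ.comp (ev y) := by
      ext; simp [ev, hxy]
    have h2 : diagMap (K := K) (ev x) = diagMap (ev y) := by
      rw [← cancel_epi c.hom, ← cancel_epi π, ← Category.assoc, ← Category.assoc, ← hbπ, Category.assoc,
        Category.assoc, ← diagMap_comp, ← diagMap_comp, h1]
    simpa [ev] using DFunLike.congr_fun (diagMap_injective h2) (Multiplicative.ofAdd 1)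
  have hξφ : ξ.comp φ = 1 := by
    apply diagMap_injective (K := K)
    rw [diagMap_comp, ← hξ, ← hφ, diagMap_one]
    simp only [Category.assoc, Iso.hom_inv_id_assoc]
    rw [← Category.assoc i π, hw, MonObj.one_comp, MonObj.comp_one]
  have hexact : ∀ x, ξ x = 1 → ∃ y, φ y = x := by
    intro x hx
    let ev : Multiplicative ℤ →* Multiplicative (Fin nG → ℤ) := zpowersHom _ x
    let χ := b.hom ≫ diagMap (K := K) ev
    have hχ : i ≫ χ = 1 := by
      have h1 : ξ.comp ev = 1 := by ext; simp [ev, hx]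
      have h2 : i ≫ b.hom = a.hom ≫ diagMap ξ := by rw [← hξ, Iso.hom_inv_id_assoc]
      rw [← Category.assoc, h2, Category.assoc, ← diagMap_comp, h1, diagMap_one, MonObj.comp_one]
    obtain ⟨d, hd, hπd⟩ := hdesc χ hχ
    haveI := hd
    obtain ⟨ψ, hψ⟩ := exists_diagMap (c.inv ≫ d)
    refine ⟨ψ (Multiplicative.ofAdd 1), ?_⟩
    have h3 : φ.comp ψ = ev := by
      apply diagMap_injective (K := K)
      rw [← cancel_epi b.hom, diagMap_comp, ← Category.assoc, hbπ, ← hψ, Category.assoc, Iso.hom_inv_id_assoc, hπd]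
    simpa [ev] using DFunLike.congr_fun h3 (Multiplicative.ofAdd 1)
  -- the lattices
  let f : (Fin nQ → ℤ) →ₗ[ℤ] (Fin nG → ℤ) := (MonoidHom.toAdditive φ).toIntLinearMap
  let g : (Fin nG → ℤ) →ₗ[ℤ] (Fin nK → ℤ) := (MonoidHom.toAdditive ξ).toIntLinearMap
  have hf : Function.Injective f := fun x y h => hφinj (congrArg Multiplicative.ofAdd h)
  obtain ⟨σ, hσ⟩ := Module.projective_lifting_property g.rangeRestrict LinearMap.id g.surjective_rangeRestrict
  have hgx : ∀ x, g (x - σ (g.rangeRestrict x)) = 0 := by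
    intro x
    have h1 : g.rangeRestrict (σ (g.rangeRestrict x)) = g.rangeRestrict x := LinearMap.congr_fun hσ _
    rw [map_sub, sub_eq_zero]
    exact (congrArg Subtype.val h1).symm
  have hex : ∀ x, ∃ y, f y = x - σ (g.rangeRestrict x) := fun x => by
    obtain ⟨y, hy⟩ := hexact (Multiplicative.ofAdd (x - σ (g.rangeRestrict x))) (congrArg Multiplicative.ofAdd (hgx x))
    exact ⟨Multiplicative.toAdd y, congrArg Multiplicative.toAdd hy⟩
  choose r hr using hex
  have hrf : ∀ y, r (f y) = y := by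
    intro y
    apply hf
    have h0 : g.rangeRestrict (f y) = 0 := Subtype.ext (congrArg Multiplicative.toAdd (DFunLike.congr_fun hξφ (Multiplicative.ofAdd y)))
    rw [hr, h0, map_zero, sub_zero]
  let R : (Fin nG → ℤ) →+ (Fin nQ → ℤ) := AddMonoidHom.mk' r fun x y => hf (by
    rw [map_add, hr, hr, hr, map_add, map_add]; abel)
  refine ⟨c.hom ≫ diagMap (AddMonoidHom.toMultiplicative R) ≫ b.inv, inferInstance, ?_⟩
  rw [← cancel_mono c.hom, Category.assoc, Category.assoc, Category.assoc, ← hbπ, Iso.inv_hom_id_assoc,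
    Category.id_comp, ← diagMap_comp]
  have h4 : (AddMonoidHom.toMultiplicative R).comp φ = MonoidHom.id _ :=
    MonoidHom.ext fun y => congrArg Multiplicative.ofAdd (hrf (Multiplicative.toAdd y))
  rw [h4, diagMap_id, Category.comp_id]

end Groth.Agent.Chev
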