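import Groth.Agent.Chev.Fund

/-!
# The linear equivalence of the translates
-/

set_option autoImplicit false
set_option backward.isDefEq.respectTransparency false

universe u

open CategoryTheory CategoryTheory.Limits MonoidalCategory CartesianMonoidalCategory MonObj GrpObj AlgebraicGeometry
open Polynomial

noncomputable section

namespace Groth.Agent.Chev.RatCurve

variable {k : Type u} [Field k] [IsAlgClosed k] {H : Over (Spec (CommRingCat.of k))} [GrpObj H] [IsCommMonObj H]
  [IsIntegral H.left] [Smooth H.hom] (c : RatCurve H)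

/-- A primitive irreducible polynomial dividing the missing points has unit values. -/
theorem isUnit_eval_of_dvd {y : H.left} {s : k} (hs : c.g.eval s ≠ 0) {p : (H.left.presheaf.stalk y)[X]}
    (hp : p ∣ aeval X c.g) : IsUnit (p.eval (algebraMap k _ s)) := by
  obtain ⟨q, hq⟩ := hp
  have h := congrArg (Polynomial.eval (algebraMap k _ s)) hq
  rw [eval_aeval_X, eval_mul] at h
  exact isUnit_of_mul_isUnit_left (h ▸ (Ne.isUnit hs).map _)

/-- Near `y` and the parameter `s`, the polynomial `F` is a constant times the local equation at `y · u(s)`. -/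
theorem exists_local {W : H.left.Opens} (E : Equations H W) (F : (KF H)[X]) (hF : F.Monic)
    (hFund : ∀ (Q : Ideal (KF H)[X]) [Q.IsPrime] (_ : Q ≠ ⊥) (hQ : c.Avoids (genericPoint H.left) Q),
      UAt (genericPoint H.left) Q
        (algebraMap _ (RatFunc (KF H)) F / c.tau (E.d (img (c.sQ (genericPoint H.left) Q hQ)))))
    (y : H.left) {s : k} (hs : c.g.eval s ≠ 0) :
    ∃ κ : KF H, κ ≠ 0 ∧
      UAt y (Qv y s) (algebraMap _ (RatFunc (KF H)) F /
        (algebraMap (KF H) (RatFunc (KF H)) κ * c.tau (E.d (sh y (c.uv s))))) ∧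
      Un y (F.eval (algebraMap k _ s) / (κ * tK (c.uv s) (E.d (sh y (c.uv s))))) := by
  classical
  let R : Type u := H.left.presheaf.stalk y
  haveI : UniqueFactorizationMonoid R := ufd_stalk y
  letI : NormalizedGCDMonoid R := Nonempty.some inferInstance
  let K := H.left.functionField
  let T : RingHom R (KF H) := (toKF y).toRingHom
  have hT : Function.Injective T := toKF_injective y
  let s' : R := algebraMap k R s
  let d₁ := E.d (sh y (c.uv s))
  have hd : d₁ ≠ 0 := E.ne_zero _
  have htd : c.tau d₁ ≠ 0 := (map_ne_zero_iff c.tau c.tau.toRingHom.injective).2 hd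
  obtain ⟨a, b, hb, hab, hev⟩ := c.exists_quot_eval hs (E.mem (sh y (c.uv s)))
  have hbQ : b ∉ Qv y s := notMem_Qv.2 hb
  have hb0 : b ≠ 0 := fun e => hbQ (by rw [e]; exact Ideal.zero_mem _)
  have hD : tK (c.uv s) d₁ ≠ 0 := (map_ne_zero_iff _ (tK (c.uv s)).toRingHom.injective).2 hd
  have hbe : toKF y (b.eval s') ≠ 0 := (map_ne_zero_iff _ (toKF_injective y)).2 hb.ne_zero
  have hae : a.eval s' ≠ 0 := fun e => by
    have h0 : (0 : KF H) = tK (c.uv s) d₁ * toKF y (b.eval s') := by
      rw [← map_zero (toKF y), ← e]; exact hev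
    exact (mul_ne_zero hD hbe) h0.symm
  have ha : a ≠ 0 := fun e => hae (by rw [e, eval_zero])
  -- clear denominators in `F`
  letI : Algebra R (KF H) := T.toAlgebra
  haveI : IsFractionRing R (KF H) :=
    inferInstanceAs (IsFractionRing (H.left.presheaf.stalk y) H.left.functionField)
  obtain ⟨r, hr, hG⟩ := IsLocalization.integerNormalization_spec (nonZeroDivisors R) F
  let G := IsLocalization.integerNormalization (nonZeroDivisors R) F
  have hr0 : r ≠ 0 := nonZeroDivisors.ne_zero hr
  have hG' : G.map T = C (T r) * F := by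
    show G.map (algebraMap R (KF H)) = _
    rw [hG]
    exact Algebra.smul_def r F
  have hTr : T r ≠ 0 := (map_ne_zero_iff T hT).2 hr0
  obtain ⟨a', G', cm, hrel, hca, hcG⟩ := UniqueFactorizationMonoid.exists_reduced_factors a ha G
  have ha' : a' ≠ 0 := fun e => ha (by rw [← hca, e, mul_zero])
  have hG0 : G ≠ 0 := fun e => by
    have := hG'; rw [e, Polynomial.map_zero] at this
    exact mul_ne_zero (C_ne_zero.2 hTr) hF.ne_zero this.symm
  have hG'0 : G' ≠ 0 := fun e => hG0 (by rw [← hcG, e, mul_zero])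
  have hcm : cm ≠ 0 := fun e => ha (by rw [← hca, e, zero_mul])
  -- polynomial identity expressing `F / τ d₁`
  have hid : algebraMap _ (RatFunc (KF H)) F * (algebraMap (KF H) (RatFunc (KF H)) (T r) * inc y a') =
      c.tau d₁ * (inc y G' * inc y b) := by
    apply mul_left_cancel₀ (inc_ne_zero y hcm)
    calc inc y cm * (algebraMap _ (RatFunc (KF H)) F * (algebraMap (KF H) (RatFunc (KF H)) (T r) * inc y a'))
        = (algebraMap (KF H) (RatFunc (KF H)) (T r) * algebraMap _ (RatFunc (KF H)) F) * inc y (cm * a') := by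
          rw [map_mul]; ring
      _ = inc y G * inc y a := by
          rw [hca, inc_apply y G, show G.map (toKF y).toRingHom = C (T r) * F from hG', map_mul,
            IsScalarTower.algebraMap_apply (KF H) (KF H)[X] (RatFunc (KF H))]
          rfl
      _ = inc y (cm * G') * (c.tau d₁ * inc y b) := by rw [hcG, hab]
      _ = inc y cm * (c.tau d₁ * (inc y G' * inc y b)) := by rw [map_mul]; ring
  -- the irreducible factors of positive degree do not pass through the point
  have hclaim : ∀ p : R[X], Prime p → (p ∣ a' ∨ p ∣ G') → p.natDegree ≠ 0 → IsUnit (p.eval s') := by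
    intro p hp hdiv hdeg
    by_contra hnu
    have hpQ : p ∈ Qv y s := not_not.1 fun h => hnu (notMem_Qv.1 h)
    have hprim : p.IsPrimitive := hp.irreducible.isPrimitive hdeg
    let P : (KF H)[X] := p.map T
    have hPirr : Irreducible P := (hprim.irreducible_iff_irreducible_map_fraction_map (K := KF H)).1 hp.irreducible
    have hdvd : ∀ q : R[X], P ∣ q.map T → p ∣ q := fun q h =>
      (hprim.dvd_iff_fraction_map_dvd_fraction_map (KF H)).2 h
    haveI hPp : (Ideal.span {P}).IsPrime := (Ideal.span_singleton_prime hPirr.ne_zero).2 hPirr.prime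
    have hQ : c.Avoids (genericPoint H.left) (Ideal.span {P}) := fun h => by
      refine hnu (c.isUnit_eval_of_dvd hs (hdvd _ ?_))
      have e : (aeval X c.g : R[X]).map T = aeval X c.g := by
        rw [aeval_X_left_eq_map, aeval_X_left_eq_map, Polynomial.map_map]
        congr 1
        exact RingHom.ext fun x => (toKF y).commutes x
      rw [e]
      exact Ideal.mem_span_singleton.1 h
    have hgy : genericPoint H.left ⤳ y := genericPoint_specializes' y
    have hle : ∀ q ∈ (Qv y s).primeCompl, q.map (specAlg hgy).toRingHom ∉ Ideal.span {P} := fun q hq h =>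
      hq (Ideal.mem_of_dvd _ (hdvd q (Ideal.mem_span_singleton.1 h)) hpQ)
    have hz := c.specializes_img (c.avoids_Qv hs) hgy hQ hle
    rw [c.img_sQ_Qv hs] at hz
    have h1 := hFund (Ideal.span {P}) (fun h => hPirr.ne_zero (Ideal.span_singleton_eq_bot.1 h)) hQ
    have h2 := c.uAt_of_un hQ (E.un_div hz)
    rw [map_div₀] at h2
    obtain ⟨u₁, u₂, hu₁, hu₂, hu⟩ := h1.div h2
    rw [inc_generic, inc_generic, div_div_div_cancel_right₀ ((map_ne_zero_iff c.tau
      c.tau.toRingHom.injective).2 (E.ne_zero _))] at hu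
    -- `G' b u₂ = r a' u₁` over the field of rational functions
    have hpoly : G'.map T * b.map T * u₂ = C (T r) * a'.map T * u₁ := by
      apply RatFunc.algebraMap_injective (KF H)
      simp only [map_mul]
      rw [← inc_apply y G', ← inc_apply y b, ← inc_apply y a', hu,
        show algebraMap (KF H)[X] (RatFunc (KF H)) (C (T r)) = algebraMap (KF H) (RatFunc (KF H)) (T r) from
          (IsScalarTower.algebraMap_apply (KF H) (KF H)[X] (RatFunc (KF H)) (T r)).symm]
      have hid' := hid
      have htd' : c.tau (E.d (sh y (c.uv s))) ≠ 0 := htd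
      simp only [d₁] at hid'
      field_simp
      linear_combination (-(algebraMap (KF H)[X] (RatFunc (KF H)) u₂)) * hid'
    have hPpr := hPirr.prime
    have hPu₁ : ¬ P ∣ u₁ := fun h => hu₁ (Ideal.mem_span_singleton.2 h)
    have hPu₂ : ¬ P ∣ u₂ := fun h => hu₂ (Ideal.mem_span_singleton.2 h)
    have hPb : ¬ P ∣ b.map T := fun h => hbQ (Ideal.mem_of_dvd _ (hdvd b h) hpQ)
    have hPr : ¬ P ∣ C (T r) := fun h => hPirr.not_isUnit (isUnit_of_dvd_unit h (isUnit_C.2 hTr.isUnit))
    rcases hdiv with h | h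
    · have : P ∣ G'.map T * b.map T * u₂ := hpoly ▸ ((Polynomial.map_dvd T h).mul_left _).mul_right _
      rcases hPpr.dvd_or_dvd this with h3 | h3
      · rcases hPpr.dvd_or_dvd h3 with h4 | h4
        · exact hp.not_unit (hrel h (hdvd G' h4))
        · exact hPb h4
      · exact hPu₂ h3
    · have : P ∣ C (T r) * a'.map T * u₁ := hpoly ▸ ((Polynomial.map_dvd T h).mul_right _).mul_right _
      rcases hPpr.dvd_or_dvd this with h3 | h3
      · rcases hPpr.dvd_or_dvd h3 with h4 | h4
        · exact hPr h4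
        · exact hp.not_unit (hrel (hdvd a' h4) h)
      · exact hPu₁ h3
  obtain ⟨α, w₂, hw₂, hw₂u⟩ := exists_C_mul s' a' ha' fun p hp h => hclaim p hp (.inl h)
  obtain ⟨gc, w₁, hw₁, hw₁u⟩ := exists_C_mul s' G' hG'0 fun p hp h => hclaim p hp (.inr h)
  have hα : T α ≠ 0 := (map_ne_zero_iff T hT).2 fun e => ha' (by rw [hw₂, e, map_zero, zero_mul])
  have hγ : T gc ≠ 0 := (map_ne_zero_iff T hT).2 fun e => hG'0 (by rw [hw₁, e, map_zero, zero_mul])
  refine ⟨T gc / (T r * T α), div_ne_zero hγ (mul_ne_zero hTr hα), ?_, ?_⟩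
  · refine ⟨w₁ * b, w₂, (Ideal.IsPrime.mul_notMem inferInstance (notMem_Qv.2 hw₁u) hbQ), notMem_Qv.2 hw₂u, ?_⟩
    have hC : ∀ x : R, inc y (C x) = algebraMap (KF H) (RatFunc (KF H)) (T x) := fun x => by
      rw [inc_apply, map_C, IsScalarTower.algebraMap_apply (KF H) (KF H)[X] (RatFunc (KF H))]
      rfl
    have hid' := hid
    rw [hw₁, hw₂, map_mul, map_mul, hC, hC] at hid'
    rw [map_mul, map_div₀, map_mul]
    have n1 : algebraMap (KF H) (RatFunc (KF H)) (T r) ≠ 0 := (_root_.map_ne_zero _).2 hTr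
    have n2 : algebraMap (KF H) (RatFunc (KF H)) (T α) ≠ 0 := (_root_.map_ne_zero _).2 hα
    have n3 : algebraMap (KF H) (RatFunc (KF H)) (T gc) ≠ 0 := (_root_.map_ne_zero _).2 hγ
    have htd' : c.tau (E.d (sh y (c.uv s))) ≠ 0 := htd
    simp only [d₁] at hid'
    field_simp
    linear_combination (-1 : RatFunc (KF H)) * hid'
  · have hev' := congrArg (Polynomial.eval (algebraMap k (KF H) s)) hG'
    have hmap : ∀ q : R[X], (q.map T).eval (algebraMap k (KF H) s) = T (q.eval s') := fun q => by
      rw [show algebraMap k (KF H) s = T s' from ((toKF y).commutes s).symm, Polynomial.eval_map, eval₂_at_apply]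
    rw [hmap, eval_mul, eval_C, ← hcG, eval_mul, map_mul, hw₁, eval_mul, eval_C, map_mul] at hev'
    have hev2 : T (a.eval s') = tK (c.uv s) d₁ * T (b.eval s') := hev
    rw [← hca, eval_mul, map_mul, hw₂, eval_mul, eval_C, map_mul] at hev2
    refine ⟨↑(hw₁u.mul hb).unit * ↑hw₂u.unit⁻¹, (hw₁u.mul hb).unit.isUnit.mul (Units.isUnit _), ?_⟩
    show T _ = _
    have hinv : T ↑hw₂u.unit⁻¹ * T (w₂.eval s') = 1 := by
      rw [← map_mul, IsUnit.val_inv_mul, map_one]
    have n4 : T (w₂.eval s') ≠ 0 := (map_ne_zero_iff T hT).2 hw₂u.ne_zero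
    have n5 : T (cm.eval s') ≠ 0 := (map_ne_zero_iff T hT).2 fun e => hae (by rw [← hca, eval_mul, e, zero_mul])
    rw [map_mul, IsUnit.unit_spec, map_mul, eq_inv_of_mul_eq_one_left hinv]
    have hD' : tK (c.uv s) (E.d (sh y (c.uv s))) ≠ 0 := hD
    simp only [d₁] at hev2
    field_simp
    apply mul_left_cancel₀ n5
    simp only [s'] at hev2 hev' ⊢
    linear_combination (-(T (cm.eval (algebraMap k _ s)) * T gc * T (w₁.eval (algebraMap k _ s)))) * hev2 +
      (T (cm.eval (algebraMap k _ s)) * T α * T (w₂.eval (algebraMap k _ s))) * hev'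

end Groth.Agent.Chev.RatCurve
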