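import Groth.Agent.Chev.AffPart
import Groth.Agent.GrpField.Translate
import Groth.Agent.LocNoethTop.Basic
import Groth.Agent.InfLift.SchemeSmallExt

/-!
# The structure theorem for disconnected smooth groups
-/

set_option autoImplicit false
set_option backward.isDefEq.respectTransparency false

universe u

open CategoryTheory CategoryTheory.Limits MonoidalCategory CartesianMonoidalCategory MonObj GrpObj AlgebraicGeometry
open scoped CategoryTheory.Obj

noncomputable section

namespace Groth.Agent.Chev

open AVDeg (bcK specMap)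

variable {k : Type u} [Field k]

set_option maxHeartbeats 1000000 in
/-- Existence over an algebraically closed field, the group may be disconnected. -/
theorem exists_structure_disc [IsAlgClosed k] (G : Over (Spec (CommRingCat.of k))) [GrpObj G] [Smooth G.hom]
    [QuasiCompact G.hom] :
    ∃ (L : Over (Spec (CommRingCat.of k))) (_ : GrpObj L) (l : L ⟶ G) (Q : Over (Spec (CommRingCat.of k))) (_ : GrpObj Q)
      (q : G ⟶ Q), IsMonHom l ∧ IsClosedImmersion l.left ∧ IsAffine L.left ∧ Smooth L.hom ∧ ConnectedSpace L.left ∧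
      AlgGrp.IsNormalHom l ∧ IsMonHom q ∧ Surjective q.left ∧ Flat q.left ∧ AlgGrp.IsKernel l q ∧
      IsProper Q.hom := by
  obtain ⟨L, hL, l, hlm, hlc, hls, hlcon, hla, hln, huniv⟩ := exists_affPart G
  haveI := hlm; haveI := hlc; haveI := hls; haveI := hlcon; haveI := hla
  haveI : Mono l := GrpField.SchImg.mono_of_isClosedImmersion l
  haveI : LocallyOfFiniteType L.hom := inferInstance
  haveI : IsSeparated G.hom := GrpField.isSeparated_hom G
  obtain ⟨Q, hQ, q, hqm, hqf, hqs, hqp, hker, hsep, -, hsm⟩ := S3030.result k L G l hln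
  haveI := hqm; haveI := hqf; haveI := hqs; haveI := hqp; haveI := hsep
  haveI : Smooth Q.hom := hsm inferInstance
  haveI : QuasiCompact Q.hom := by
    haveI : QuasiCompact (q.left ≫ Q.hom) := by rw [Over.w q]; infer_instance
    exact ThickLib.quasiCompact_of_comp_surjective q.left Q.hom
  refine ⟨L, hL, l, Q, hQ, q, hlm, hlc, hla, hls, hlcon, hln, hqm, hqs, hqf, hker, ?_⟩
  obtain ⟨G₀, hG₀, c, hcm, hcc, hcs, hirr, hcr⟩ := exists_component G
  haveI := hcm; haveI := hcc; haveI := hcs; haveI := hirr
  haveI : QuasiCompact G₀.hom := by rw [← Over.w c]; infer_instance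
  haveI : ConnectedSpace G₀.left := inferInstance
  haveI : Mono c := GrpField.SchImg.mono_of_isClosedImmersion c
  obtain ⟨L₀, hL₀, l₀, Q₀, hQ₀, q₀, hm₀, hc₀, ha₀, hs₀, hcon₀, -, hqm₀, hqs₀, hqf₀, hk₀, hQp₀, -, -⟩ :=
    exists_structure G₀
  haveI := hm₀; haveI := hc₀; haveI := ha₀; haveI := hs₀; haveI := hcon₀; haveI := hqm₀; haveI := hqs₀
  haveI := hqf₀; haveI := hQp₀
  obtain ⟨w, hw⟩ := huniv L₀ (l₀ ≫ c)
  have hkill : l₀ ≫ c ≫ q = 1 := by
    rw [← Category.assoc, ← hw, Category.assoc, hker.w, comp_toUnit_assoc, ← Hom.one_def]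
  haveI : IsSeparated G₀.hom := GrpField.isSeparated_hom G₀
  haveI : QuasiCompact q₀.left := by
    haveI : QuasiCompact (q₀.left ≫ Q₀.hom) := by rw [Over.w]; infer_instance
    exact QuasiCompact.of_comp _ Q₀.hom
  obtain ⟨d, hd⟩ := AdjRep.exists_desc l₀ q₀ hk₀ (c ≫ q) hkill
  refine isProper_of_component Q d ?_
  have hrange : Set.range d.left = Set.range (c ≫ q).left := by
    rw [← hd, Over.comp_left, Scheme.Hom.comp_base, TopCat.coe_comp, Set.range_comp,
      Set.range_eq_univ.2 q₀.left.surjective, Set.image_univ]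
  rw [hrange]
  haveI : IsLocallyNoetherian G.left := LocallyOfFiniteType.isLocallyNoetherian G.hom
  haveI : CompactSpace G.left := QuasiCompact.compactSpace_of_compactSpace G.hom
  haveI : IsNoetherian G.left := { }
  have hopen : IsOpen (Set.range (c ≫ q).left) := by
    rw [Over.comp_left, Scheme.Hom.comp_base, TopCat.coe_comp, Set.range_comp]
    exact q.left.isOpenMap _ (hcr ▸ Groth.Agent.LocNoethTop.isOpen_connectedComponent_of_noetherian _)
  have hone : GrpComp.ept Q = (c ≫ q).left (GrpComp.ept G₀) := by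
    show η[Q].left _ = (c ≫ q).left (η[G₀].left _)
    rw [← Scheme.Hom.comp_apply, ← Over.comp_left, IsMonHom.one_hom (c ≫ q)]
  have hmem : GrpComp.ept Q ∈ Set.range (c ≫ q).left := hone ▸ ⟨_, rfl⟩
  have hclosed : IsClosed (Set.range (c ≫ q).left) :=
    (GrpField.isSubgroupSet_range (c ≫ q)).isClosed_of_isOpen hopen
  exact Set.Subset.antisymm ((isConnected_range (c ≫ q).left.continuous).subset_connectedComponent hmem)
    (IsClopen.connectedComponent_subset ⟨hclosed, hopen⟩ hmem)

variable (K : Type u) [Field K] [Algebra k K]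

set_option maxHeartbeats 1000000 in
/-- Existence over a perfect field, the group may be disconnected. -/
theorem exists_structure_perfect_disc [PerfectField k] [IsAlgClosed K] [Algebra.IsAlgebraic k K]
    (G : Over (Spec (CommRingCat.of k))) [GrpObj G] [Smooth G.hom] [QuasiCompact G.hom] :
    ∃ (L : Over (Spec (CommRingCat.of k))) (_ : GrpObj L) (l : L ⟶ G) (Q : Over (Spec (CommRingCat.of k))) (_ : GrpObj Q)
      (q : G ⟶ Q), IsMonHom l ∧ IsClosedImmersion l.left ∧ IsAffine L.left ∧ Smooth L.hom ∧ ConnectedSpace L.left ∧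
      AlgGrp.IsNormalHom l ∧ IsMonHom q ∧ Surjective q.left ∧ Flat q.left ∧ AlgGrp.IsKernel l q ∧
      IsProper Q.hom ∧ Smooth Q.hom := by
  haveI : IsAlgClosure k K := ⟨inferInstance, inferInstance⟩
  haveI : Normal k K := IsAlgClosure.normal k K
  obtain ⟨L, hL, l, QK, hQK, qK, hlm, hlc, hla, hls, hlcon, hln, hqm, hqs, hqf, hker, hQp⟩ :=
    exists_structure_disc (bcK k K G)
  haveI := hlm; haveI := hlc; haveI := hla; haveI := hls; haveI := hlcon
  haveI := hqm; haveI := hqs; haveI := hqf; haveI := hQp
  let π := pullback.fst G.hom (specMap k K)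
  haveI : IsIntegralHom (specMap k K) :=
    IsIntegralHom.SpecMap_iff.mpr (algebraMap_isIntegral_iff.mpr Algebra.IsAlgebraic.isIntegral)
  haveI : IsIntegralHom π := MorphismProperty.pullback_fst _ _ ‹_›
  have hcl : IsClosed (π '' Set.range l.left) := π.isClosedMap _ l.left.isClosedEmbedding.isClosed_range
  let I := Scheme.IdealSheafData.vanishingIdeal (⟨_, hcl⟩ : TopologicalSpace.Closeds G.left)
  let R : Over (Spec (CommRingCat.of k)) := Over.mk (I.subschemeι ≫ G.hom)
  let r : R ⟶ G := Over.homMk I.subschemeι rfl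
  haveI : IsClosedImmersion r.left := inferInstanceAs (IsClosedImmersion I.subschemeι)
  haveI : IsReduced R.left := inferInstanceAs (IsReduced I.subscheme)
  have hr : Set.range r.left = π '' Set.range l.left := by
    show Set.range I.subschemeι = _
    rw [Scheme.IdealSheafData.range_subschemeι, Scheme.IdealSheafData.coe_support_vanishingIdeal]
    rfl
  haveI : LocallyOfFiniteType R.hom := by rw [← Over.w r]; infer_instance
  haveI : QuasiCompact R.hom := by rw [← Over.w r]; infer_instance
  let F := Over.pullback (specMap k K)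
  have hrK : Set.range (F.map r).left = Set.range l.left := by
    rw [range_bcMap, hr]
    exact Set.Subset.antisymm (preimage_image_subset K l qK hker) (Set.subset_preimage_image _ _)
  haveI : IsClosedImmersion (F.map r).left := by
    have h : IsPullback (F.map r).left (pullback.fst R.hom (specMap k K)) π r.left := by
      refine IsPullback.of_right ?_ (pullback.lift_fst _ _ _) (IsPullback.of_hasPullback G.hom (specMap k K)).flip
      rw [show (F.map r).left ≫ pullback.snd G.hom (specMap k K) = pullback.snd R.hom (specMap k K) from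
        pullback.lift_snd _ _ _, Over.w r]
      exact (IsPullback.of_hasPullback R.hom (specMap k K)).flip
    exact MorphismProperty.of_isPullback (P := @IsClosedImmersion) h.flip ‹IsClosedImmersion r.left›
  haveI : IsReduced (Spec (CommRingCat.of K)) := inferInstance
  haveI : IsReduced (F.obj R).left := Assoc.isReduced_pullback k R.hom (specMap k K)
  haveI : IsReduced L.left := isReduced_of_smooth L
  obtain ⟨e, he⟩ := exists_lift_range (F.map r) l hrK.le
  obtain ⟨e', he'⟩ := exists_lift_range l (F.map r) hrK.ge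
  haveI : Mono l := GrpField.SchImg.mono_of_isClosedImmersion l
  haveI : Mono (F.map r) := GrpField.SchImg.mono_of_isClosedImmersion (F.map r)
  haveI hei : IsIso e := ⟨e', by rw [← cancel_mono (F.map r), Category.assoc, he', he, Category.id_comp],
    by rw [← cancel_mono l, Category.assoc, he, he', Category.id_comp]⟩
  haveI : IsIso e.left := inferInstanceAs (IsIso ((Over.forget _).map e))
  haveI : IsAffine (F.obj R).left := IsAffine.of_isIso e.left
  have hcrit : ∀ {T : Over (Spec (CommRingCat.of k))} [IsReduced T.left] (d : T ⟶ G),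
      (∃ w : F.obj T ⟶ L, w ≫ l = F.map d) → ∃ d' : T ⟶ R, d' ≫ r = d := by
    rintro T _ d ⟨w, hw⟩
    refine exists_lift_range d r ?_
    rintro _ ⟨t, rfl⟩
    obtain ⟨t', rfl⟩ := (pullback.fst T.hom (specMap k K)).surjective t
    rw [hr]
    refine ⟨(F.map d).left t', ⟨w.left t', ?_⟩, ?_⟩
    · rw [← hw]; rfl
    · exact congrArg (fun φ => φ t') (pullback.lift_fst _ _ _ :
        (F.map d).left ≫ π = pullback.fst T.hom (specMap k K) ≫ d.left)
  haveI : IsReduced (R ⊗ R).left := Assoc.isReduced_pullback k R.hom R.hom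
  haveI : GeometricallyReduced G.hom := Rigid.geometricallyReduced_of_smooth _
  haveI : IsReduced G.left := GeometricallyReduced.geometrically_isReduced (f := G.hom) (K := k) (𝟙 _) (𝟙 _) G.hom
    (IsPullback.of_horiz_isIso ⟨by rw [Category.id_comp, Category.comp_id]⟩)
  haveI : IsReduced (G ⊗ R).left := Assoc.isReduced_pullback k G.hom R.hom
  haveI : IsReduced (𝟙_ (Over (Spec (CommRingCat.of k)))).left := inferInstanceAs (IsReduced (Spec (CommRingCat.of k)))
  have hinvmap : ∀ {T : Over (Spec (CommRingCat.of k))} (u : T ⟶ G), F.map u⁻¹ = (F.map u)⁻¹ := fun u =>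
    eq_inv_of_mul_eq_one_left (by rw [← Functor.map_mul, inv_mul_cancel, bcMap_one])
  obtain ⟨u, hu⟩ := hcrit (1 : 𝟙_ _ ⟶ G) ⟨1, by rw [MonObj.one_comp, bcMap_one]⟩
  obtain ⟨d, hd⟩ := hcrit ((fst R R ≫ r)⁻¹ * (snd R R ≫ r))
    ⟨(F.map (fst R R) ≫ e)⁻¹ * (F.map (snd R R) ≫ e), by
      rw [MonObj.mul_comp, GrpObj.inv_comp, Category.assoc, Category.assoc, he, Functor.map_mul, hinvmap,
        F.map_comp, F.map_comp]⟩
  obtain ⟨hRgrp, hrm⟩ := GrpField.SchImg.exists_grpObj_of_div r
    ⟨u, by rw [hu, Hom.one_def, toUnit_unit, Category.id_comp]⟩ fun T k₁ k₂ => ⟨lift k₁ k₂ ≫ d, by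
      rw [Category.assoc, hd, MonObj.comp_mul, GrpObj.comp_inv, lift_fst_assoc, lift_snd_assoc]⟩
  haveI := hrm
  haveI hRs : Smooth R.hom := by
    letI : GrpObj (Over.mk R.hom) := hRgrp
    exact GrpBasic.smooth_of_grpObj_perfect R.hom
  have hnorm : AlgGrp.IsNormalHom r := by
    obtain ⟨w, hw⟩ := hln (F.obj (G ⊗ R)) (F.map (fst G R)) (F.map (snd G R) ≫ e)
    obtain ⟨c, hc⟩ := hcrit (fst G R * (snd G R ≫ r) * (fst G R)⁻¹) ⟨w, by
      rw [← hw, Category.assoc, he, Functor.map_mul, Functor.map_mul, hinvmap, F.map_comp]⟩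
    intro T g x
    refine ⟨lift g x ≫ c, ?_⟩
    rw [Category.assoc, hc, MonObj.comp_mul, MonObj.comp_mul, GrpObj.comp_inv, lift_fst, lift_snd_assoc]
  haveI : Flat (specMap k K) :=
    (HasRingHomProperty.Spec_iff (P := @Flat)).2 (RingHom.flat_algebraMap_iff.2 inferInstance)
  haveI : Surjective (specMap k K) :=
    ⟨fun _ => ⟨IsLocalRing.closedPoint K, Subsingleton.elim (α := PrimeSpectrum k) _ _⟩⟩
  have hff : (@Surjective ⊓ @Flat ⊓ @QuasiCompact : MorphismProperty Scheme.{u}) (specMap k K) :=
    ⟨⟨inferInstance, inferInstance⟩, inferInstance⟩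
  haveI hRa : IsAffine R.left := by
    haveI : IsAffineHom R.hom := MorphismProperty.of_pullback_snd_of_descendsAlong (P := @IsAffineHom)
      (Q := @Surjective ⊓ @Flat ⊓ @QuasiCompact) (g := specMap k K) hff
      (isAffineHom_of_isAffine (F.obj R).hom)
    exact isAffine_of_isAffineHom R.hom
  haveI hRc : ConnectedSpace R.left := by
    haveI : ConnectedSpace (F.obj R).left :=
      (inv e.left).surjective.connectedSpace (inv e.left).continuous
    haveI : ConnectedSpace ↥(pullback R.hom (specMap k K)) := ‹ConnectedSpace (F.obj R).left›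
    exact (pullback.fst R.hom (specMap k K)).surjective.connectedSpace (pullback.fst R.hom (specMap k K)).continuous
  haveI : Mono r := GrpField.SchImg.mono_of_isClosedImmersion r
  obtain ⟨Q, hQ, q, hqm', hqf', hqs', -, hk', hsep, -, hsm⟩ := S3030.result k R G r hnorm
  haveI := hqm'; haveI := hqf'; haveI := hqs'; haveI := hsep
  haveI : Smooth Q.hom := hsm inferInstance
  haveI : QuasiCompact Q.hom := by
    haveI : QuasiCompact (q.left ≫ Q.hom) := by rw [Over.w q]; infer_instance
    exact ThickLib.quasiCompact_of_comp_surjective q.left Q.hom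
  haveI : IsSeparated G.hom := GrpField.isSeparated_hom G
  -- the base change of the quotient
  have hsqF : IsPullback (F.map q).left (pullback.fst G.hom (specMap k K)) (pullback.fst Q.hom (specMap k K)) q.left := by
    refine IsPullback.of_right ?_ (pullback.lift_fst _ _ _) (IsPullback.of_hasPullback Q.hom (specMap k K)).flip
    rw [show (F.map q).left ≫ pullback.snd Q.hom (specMap k K) = pullback.snd G.hom (specMap k K) from
      pullback.lift_snd _ _ _, Over.w q]
    exact (IsPullback.of_hasPullback G.hom (specMap k K)).flip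
  haveI : QuasiCompact q.left := by
    haveI : QuasiCompact (q.left ≫ Q.hom) := by rw [Over.w q]; infer_instance
    exact QuasiCompact.of_comp q.left Q.hom
  haveI : Flat (F.map q).left := MorphismProperty.of_isPullback hsqF.flip hqf'
  haveI : Surjective (F.map q).left := MorphismProperty.of_isPullback hsqF.flip hqs'
  haveI : QuasiCompact (F.map q).left := MorphismProperty.of_isPullback hsqF.flip ‹QuasiCompact q.left›
  haveI : QuasiCompact qK.left := by
    haveI : QuasiCompact (qK.left ≫ QK.hom) := by rw [Over.w qK]; infer_instance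
    exact QuasiCompact.of_comp qK.left QK.hom
  have hkerF : AlgGrp.IsKernel l (F.map q) := by
    have h1 : e' ≫ F.map r ≫ F.map q = 1 := by
      rw [← F.map_comp, hk'.w, show toUnit R ≫ η[Q] = (1 : R ⟶ Q) from Hom.one_def.symm, bcMap_one, MonObj.comp_one]
    have h := hk'.map F
    refine IsPullback.mk' ?_ (fun T φ φ' e₁ _ => (cancel_mono l).1 e₁) fun T a b hab => ?_
    · rw [← he', Category.assoc, h1, Hom.one_def]
    · have e₁ : toUnit T ≫ η[F.obj Q] = (1 : T ⟶ F.obj Q) := Hom.one_def.symm
      have e₂ : ∀ z : T ⟶ F.obj (𝟙_ _), z ≫ F.map η[Q] = 1 := fun z => by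
        rw [show η[Q] = (1 : 𝟙_ _ ⟶ Q) by rw [Hom.one_def, toUnit_unit, Category.id_comp], bcMap_one, MonObj.comp_one]
      have hu' : a ≫ F.map q = (toUnit T ≫ Functor.LaxMonoidal.ε F) ≫ F.map η[Q] := by
        rw [e₂, hab, toUnit_unique b (toUnit T), e₁]
      exact ⟨h.lift a _ hu' ≫ e, by rw [Category.assoc, he, h.lift_fst], toUnit_unique _ _⟩
  obtain ⟨iso⟩ := AdjRep.exists_iso_of_same_kernel l (F.map q) qK hkerF hker
  haveI : IsIso iso.hom.left := inferInstanceAs (IsIso ((Over.forget _).map iso.hom))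
  haveI hQKp : IsProper (F.obj Q).hom := by rw [← Over.w iso.hom]; infer_instance
  haveI : UniversallyClosed Q.hom := MorphismProperty.of_pullback_snd_of_descendsAlong (P := @UniversallyClosed)
      (Q := @Surjective ⊓ @Flat ⊓ @QuasiCompact) (g := specMap k K) hff
      (inferInstanceAs (UniversallyClosed (F.obj Q).hom))
  exact ⟨R, hRgrp, r, Q, hQ, q, hrm, inferInstance, hRa, hRs, hRc, hnorm, hqm', hqs', hqf', hk', { }, inferInstance⟩

end Groth.Agent.Chev
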