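import Groth.Agent.Chev.TorsorMap
import Groth.Agent.Chev.CommSubgroup
import Groth.Agent.S5351

/-!
# The map from a group to an abelian subvariety
-/

set_option autoImplicit false
set_option backward.isDefEq.respectTransparency false

universe u

open CategoryTheory CategoryTheory.Limits MonoidalCategory CartesianMonoidalCategory MonObj GrpObj AlgebraicGeometry

noncomputable section

namespace Groth.Agent.Chev

variable {k : Type u} [Field k] {G A : Over (Spec (CommRingCat.of k))} [GrpObj G] [GrpObj A]

/-- The action of a subgroup by left translations. -/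
def leftMulAction (i : A ⟶ G) [IsMonHom i] : AlgGrp.Action A G where
  act := (i ▷ G) ≫ μ[G]
  one_act := by
    rw [← comp_whiskerRight_assoc, IsMonHom.one_hom, MonObj.one_mul]
  mul_act := by
    rw [← comp_whiskerRight_assoc, IsMonHom.mul_hom, comp_whiskerRight, Category.assoc, MonObj.mul_assoc]
    simp only [MonoidalCategory.tensorHom_def, comp_whiskerRight, Category.assoc, MonoidalCategory.whiskerLeft_comp,
      associator_naturality_middle_assoc, associator_naturality_left_assoc, whisker_exchange_assoc]

/-- A map to an abelian subvariety which is equivariant for a positive power. -/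
theorem exists_map_mul_pow [LocallyOfFiniteType G.hom] [QuasiCompact G.hom] [Smooth G.hom] [ConnectedSpace G.left]
    (i : A ⟶ G) [IsMonHom i] [IsClosedImmersion i.left] [Smooth A.hom] [ConnectedSpace A.left] [IsProper A.hom] :
    ∃ (φ : G ⟶ A) (n : ℕ), 0 < n ∧
      ∀ (T : Over (Spec (CommRingCat.of k))) (g : T ⟶ G) (a : T ⟶ A), (g * (a ≫ i)) ≫ φ = (g ≫ φ) * a ^ n := by
  obtain ⟨X, p, hs, hlft, hsurj, hflat, -, hsq, -, -, hsm, -⟩ := Groth.Agent.S5351.result k A G i
  haveI := hs; haveI := hlft; haveI := hsurj; haveI := hflat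
  haveI := geometricallyIntegral_of_group (A := G)
  haveI : IsSeparated G.hom := GrpField.isSeparated_hom G
  haveI : IsIntegral G.left := GeometricallyIntegral.isIntegral_of_subsingleton G.hom
  haveI : Smooth X.hom := hsm ‹_›
  haveI : GeometricallyReduced X.hom := Rigid.geometricallyReduced_of_smooth _
  haveI : IsReduced X.left := GeometricallyReduced.geometrically_isReduced (f := X.hom) (K := k) (𝟙 _) (𝟙 _) X.hom
    (IsPullback.of_horiz_isIso ⟨by rw [Category.id_comp, Category.comp_id]⟩)
  haveI : IrreducibleSpace X.left := by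
    rw [irreducibleSpace_def, Set.top_eq_univ, ← Set.range_eq_univ.2 p.left.surjective, ← Set.image_univ]
    exact (IrreducibleSpace.isIrreducible_univ _).image _ p.left.continuous.continuousOn
  haveI : IsIntegral X.left := isIntegral_of_irreducibleSpace_of_isReduced _
  haveI : IsCommMonObj A :=
    haveI := geometricallyIntegral_of_group (A := A)
    isCommMonObj_of_isProper_of_geometricallyIntegral A
  obtain ⟨ψ, n, hn, hψ⟩ := exists_torsor_map (a := leftMulAction i) (f := p) hsq
  refine ⟨(𝟙 G)⁻¹ ≫ ψ⁻¹, n, hn, fun T g a => ?_⟩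
  have e : ∀ g : T ⟶ G, g ≫ (𝟙 G)⁻¹ ≫ ψ⁻¹ = (g⁻¹ ≫ ψ)⁻¹ := fun g => by
    rw [← Category.assoc, GrpObj.comp_inv, GrpObj.comp_inv, Category.comp_id]
  have h := hψ T a⁻¹ g⁻¹
  rw [show (leftMulAction i).act = (i ▷ G) ≫ μ[G] from rfl, Category.assoc, lift_whiskerRight_assoc,
    ← Category.assoc, ← Hom.mul_def, GrpObj.inv_comp] at h
  rw [e, e, _root_.mul_inv_rev, h, _root_.mul_inv, inv_pow, _root_.inv_inv]

end Groth.Agent.Chev
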