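import Groth.Agent.Chev.Fit
import Groth.Agent.Chev.Norm
import Groth.Agent.S1550
import Mathlib.AlgebraicGeometry.Morphisms.LocalFlatDescent

/-!
# Torsors: differences, smoothness, points over finite Galois extensions of the function field
-/

set_option autoImplicit false
set_option backward.isDefEq.respectTransparency false

universe u

open CategoryTheory CategoryTheory.Limits MonoidalCategory CartesianMonoidalCategory MonObj GrpObj AlgebraicGeometry
open IsLocalRing (closedPoint)

noncomputable section

namespace Groth.Agent.Chev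

variable {k : Type u} [Field k] {A X Y : Over (Spec (CommRingCat.of k))} [GrpObj A] {a : AlgGrp.Action A X} {f : X ⟶ Y}

/-- The cartesian square of a torsor. -/
theorem isPullback_torsor (hinv : a.act ≫ f = snd A X ≫ f) (htors : IsIso (pullback.lift a.act (snd A X) hinv)) :
    IsPullback a.act (snd A X) f f :=
  IsPullback.of_iso_pullback ⟨hinv⟩ (asIso (pullback.lift a.act (snd A X) hinv)) (pullback.lift_fst _ _ _)
    (pullback.lift_snd _ _ _)

section Diff

variable (hP : IsPullback a.act (snd A X) f f) {T : Over (Spec (CommRingCat.of k))}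

/-- The difference of two points in one fibre of a torsor. -/
def tdiff (x y : T ⟶ X) (h : x ≫ f = y ≫ f) : T ⟶ A := hP.lift x y h ≫ fst A X

theorem lift_tdiff (x y : T ⟶ X) (h : x ≫ f = y ≫ f) : lift (tdiff hP x y h) y ≫ a.act = x := by
  have e : lift (tdiff hP x y h) y = hP.lift x y h := by
    apply CartesianMonoidalCategory.hom_ext
    · rw [lift_fst]; rfl
    · rw [lift_snd, hP.lift_snd]
  rw [e, hP.lift_fst]

theorem eq_tdiff (b : T ⟶ A) (x y : T ⟶ X) (h : x ≫ f = y ≫ f) (hb : lift b y ≫ a.act = x) :
    b = tdiff hP x y h := by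
  have e : lift b y = hP.lift x y h := hP.hom_ext (by rw [hb, hP.lift_fst]) (by rw [lift_snd, hP.lift_snd])
  rw [tdiff, ← e, lift_fst]

theorem comp_tdiff {T' : Over (Spec (CommRingCat.of k))} (g : T' ⟶ T) (x y : T ⟶ X) (h : x ≫ f = y ≫ f) :
    g ≫ tdiff hP x y h = tdiff hP (g ≫ x) (g ≫ y) (by rw [Category.assoc, h, Category.assoc]) := by
  apply eq_tdiff
  rw [← comp_lift, Category.assoc, lift_tdiff]

theorem lift_mul_act (b c : T ⟶ A) (y : T ⟶ X) :
    lift (b * c) y ≫ a.act = lift b (lift c y ≫ a.act) ≫ a.act := by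
  have h := congrArg (fun z => lift (lift b c) y ≫ z) a.mul_act
  simp only [lift_whiskerRight_assoc, lift_lift_associator_hom_assoc, lift_whiskerLeft_assoc] at h
  rw [Hom.mul_def]
  exact h

theorem tdiff_act (b : T ⟶ A) (x y : T ⟶ X) (h : x ≫ f = y ≫ f) (h' : (lift b x ≫ a.act) ≫ f = y ≫ f) :
    tdiff hP (lift b x ≫ a.act) y h' = b * tdiff hP x y h := by
  symm
  apply eq_tdiff
  rw [lift_mul_act, lift_tdiff]

end Diff

/-- A torsor under a smooth group is smooth. -/
theorem smooth_of_torsor (hP : IsPullback a.act (snd A X) f f) [Smooth A.hom] [Flat f.left] [Surjective f.left]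
    [QuasiCompact f.left] : Smooth f.left := by
  have hP' : IsPullback a.act.left (snd A X).left f.left f.left := hP.map (Over.forget _)
  have hs : Smooth (snd A X).left := MorphismProperty.pullback_snd _ _ ‹Smooth A.hom›
  exact MorphismProperty.of_isPullback_of_descendsAlong (P := @Smooth)
    (Q := @Surjective ⊓ @Flat ⊓ @QuasiCompact) hP'.flip ⟨⟨inferInstance, inferInstance⟩, inferInstance⟩ hs

/-- A smooth surjective family has a point over a finite Galois extension of the function field of the base. -/
theorem exists_galois_point [IsIntegral Y.left] [Smooth f.left] [Surjective f.left] :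
    ∃ (L : Type u) (_ : Field L) (_ : Algebra k L) (_ : Algebra (KF Y) L) (_ : IsScalarTower k (KF Y) L)
      (p : VecGrp.pt k L ⟶ X), FiniteDimensional (KF Y) L ∧ IsGalois (KF Y) L ∧
        p ≫ f = VecGrp.ptMap (IsScalarTower.toAlgHom k (KF Y) L) ≫ gen Y := by
  classical
  let g := Y.left.fromSpecStalk (genericPoint Y.left)
  let P := pullback f.left g
  letI : P.Over (Spec (CommRingCat.of (KF Y))) := ⟨pullback.snd f.left g⟩
  haveI hs : Smooth (pullback.snd f.left g) := MorphismProperty.pullback_snd _ _ ‹Smooth f.left›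
  haveI : Smooth (P ↘ Spec (CommRingCat.of (KF Y))) := hs
  haveI hsu : Surjective (pullback.snd f.left g) := MorphismProperty.pullback_snd _ _ ‹Surjective f.left›
  obtain ⟨z, -⟩ := hsu.surj (closedPoint (KF Y))
  obtain ⟨x, -, -, hfin, hsep⟩ := (Groth.Agent.S1550.result (KF Y) P).inter_open_nonempty Set.univ isOpen_univ ⟨z, trivial⟩
  letI := Curv2.resAlgebra (KF Y) P x
  haveI : FiniteDimensional (KF Y) (P.residueField x) := hfin
  haveI : Algebra.IsSeparable (KF Y) (P.residueField x) := hsep
  letI : Algebra k (P.residueField x) := ((algebraMap (KF Y) (P.residueField x)).comp (algebraMap k (KF Y))).toAlgebra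
  haveI : IsScalarTower k (KF Y) (P.residueField x) := IsScalarTower.of_algebraMap_eq fun _ => rfl
  obtain ⟨L, _, _, _, _, hL, hG, ⟨ψ⟩⟩ := exists_galois_closure k (KF Y) (P.residueField x)
  have key : P.fromSpecResidueField x ≫ pullback.snd f.left g =
      Spec.map (CommRingCat.ofHom (algebraMap (KF Y) (P.residueField x))) := by
    obtain ⟨ψ, hψ⟩ := Spec.map_surjective (P.fromSpecResidueField x ≫ pullback.snd f.left g)
    rw [← hψ]
    congr 1
    have h1 : ψ = (Scheme.ΓSpecIso _).inv ≫ (Spec.map ψ).appTop ≫ (Scheme.ΓSpecIso _).hom := by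
      rw [Scheme.ΓSpecIso_naturality, Iso.inv_hom_id_assoc]
    rw [h1, hψ, Scheme.Hom.comp_appTop, Category.assoc]
    have h2 : (P.fromSpecResidueField x).appTop ≫ (Scheme.ΓSpecIso _).hom =
        P.presheaf.germ ⊤ x trivial ≫ P.residue x := by
      rw [Scheme.fromSpecResidueField, Scheme.Hom.comp_appTop, Scheme.fromSpecStalk_appTop, Category.assoc,
        Category.assoc, Scheme.ΓSpecIso_naturality]
      simp
    rw [h2]
    rfl
  have hκ : Spec.map (CommRingCat.ofHom (ψ.toRingHom)) ≫
      Spec.map (CommRingCat.ofHom (algebraMap (KF Y) (P.residueField x))) =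
      Spec.map (CommRingCat.ofHom (algebraMap (KF Y) L)) := by
    rw [← Spec.map_comp]
    congr 1
    exact CommRingCat.hom_ext ψ.comp_algebraMap
  let q : Spec (CommRingCat.of L) ⟶ X.left :=
    Spec.map (CommRingCat.ofHom ψ.toRingHom) ≫ P.fromSpecResidueField x ≫ pullback.fst f.left g
  have hq : q ≫ f.left = Spec.map (CommRingCat.ofHom (algebraMap (KF Y) L)) ≫ g := by
    simp only [q, Category.assoc, pullback.condition]
    rw [reassoc_of% key, ← Category.assoc, hκ]
  let w : VecGrp.pt k L ⟶ Y := VecGrp.ptMap (IsScalarTower.toAlgHom k (KF Y) L) ≫ gen Y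
  refine ⟨L, inferInstance, inferInstance, inferInstance, inferInstance, Over.homMk q ?_, hL, hG,
    Over.OverMorphism.ext hq⟩
  rw [← Over.w f, ← Category.assoc, hq]
  exact Over.w w

end Groth.Agent.Chev
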