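import Groth.Agent.Chev.TorusExt
import Groth.Agent.Chev.SADesc
import Groth.Agent.S16117

/-!
# Morphisms from a product into a torus which are trivial on the axes
-/

set_option autoImplicit false
set_option linter.style.haveILetI false
set_option backward.isDefEq.respectTransparency false
set_option maxHeartbeats 1000000
set_option synthInstance.maxHeartbeats 400000
universe u

open CategoryTheory Limits MonoidalCategory CartesianMonoidalCategory MonObj GrpObj AlgebraicGeometry
open scoped CategoryTheory.Obj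

noncomputable section

namespace Groth.Agent.Chev

open AVDeg (bcK specMap)
open MTBridge (specGrp)

variable {K : Type u} [Field K]

/-- Two morphisms into a split torus agreeing on the pullback of units agree. -/
theorem torus_hom_ext_units [IsAlgClosed K] {T Z : Over (Spec (CommRingCat.of K))} [GrpObj T] (hT : Red.IsTorus T)
    (w w' : Z ⟶ T) (h : ∀ a : Γ(T.left, ⊤), IsUnit a → w.left.appTop a = w'.left.appTop a) : w = w' := by
  obtain ⟨r, ⟨e₁⟩⟩ := exists_split_algClosed hT
  obtain ⟨e₂⟩ := MTBridge.nonempty_DS_iso K (Fin r → ℤ)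
  let e := (Grp.forget _).mapIso (e₁ ≪≫ e₂)
  let el := e.hom.left
  haveI : IsIso el := inferInstanceAs (IsIso ((Over.forget _).map e.hom))
  rw [← cancel_mono e.hom]
  apply Over.OverMorphism.ext
  rw [Over.comp_left, Over.comp_left]
  let A := MonoidAlgebra K (Multiplicative (Fin r → ℤ))
  let S₀ := Spec (CommRingCat.of A)
  let el' : T.left ⟶ S₀ := el
  show w.left ≫ el' = w'.left ≫ el'
  apply ext_of_isAffine
  rw [Scheme.Hom.comp_appTop, Scheme.Hom.comp_appTop]
  let ψ : CommRingCat.of A ⟶ Γ(T.left, ⊤) := (Scheme.ΓSpecIso (CommRingCat.of A)).inv ≫ el'.appTop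
  have hcst : ∀ c : K, w.left.appTop (ψ (algebraMap K A c)) = w'.left.appTop (ψ (algebraMap K A c)) := by
    intro c
    have he : el' ≫ Spec.map (CommRingCat.ofHom (algebraMap K A)) = T.hom := Over.w e.hom
    have h1 : ψ (algebraMap K A c) = T.hom.appTop ((Scheme.ΓSpecIso (CommRingCat.of K)).inv c) := by
      rw [← he, Scheme.Hom.comp_appTop]
      simp only [ψ, CommRingCat.comp_apply]
      refine congrArg el'.appTop ?_
      exact (ConcreteCategory.congr_hom (Scheme.ΓSpecIso_inv_naturality (CommRingCat.ofHom (algebraMap K A))) c :)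
    have h2 := congrArg (fun v : Z.left ⟶ _ => v.appTop ((Scheme.ΓSpecIso (CommRingCat.of K)).inv c))
      ((Over.w w).trans (Over.w w').symm)
    simp only [Scheme.Hom.comp_appTop, CommRingCat.comp_apply] at h2
    rw [h1]
    exact h2
  have hh : (ψ ≫ w.left.appTop).hom = (ψ ≫ w'.left.appTop).hom := by
    refine MonoidAlgebra.ringHom_ext (fun c => ?_) (fun m => ?_)
    · exact hcst c
    · exact h _ ((Group.isUnit m).map ((ψ.hom : A →* Γ(T.left, ⊤)).comp (MonoidAlgebra.of K _)))
  have hh' : ψ ≫ w.left.appTop = ψ ≫ w'.left.appTop := CommRingCat.hom_ext hh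
  simp only [ψ, Category.assoc] at hh'
  exact (cancel_epi _).1 hh'

variable {X Y T : Over (Spec (CommRingCat.of K))} [GrpObj T]

/-- **A morphism from a product into a torus, trivial on both axes, is trivial.** -/
theorem eq_one_of_axes_algClosed [IsAlgClosed K] [IsIntegral X.left] [IsSeparated X.hom] [LocallyOfFiniteType X.hom]
    [QuasiCompact X.hom] [IsIntegral Y.left] [IsSeparated Y.hom] [LocallyOfFiniteType Y.hom] [QuasiCompact Y.hom]
    (hT : Red.IsTorus T) (x₀ : 𝟙_ _ ⟶ X) (y₀ : 𝟙_ _ ⟶ Y) (w : X ⊗ Y ⟶ T)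
    (h₁ : lift (𝟙 X) (toUnit X ≫ y₀) ≫ w = 1) (h₂ : lift (toUnit Y ≫ x₀) (𝟙 Y) ≫ w = 1) : w = 1 := by
  refine torus_hom_ext_units hT w 1 fun a ha => ?_
  obtain ⟨g, h, -, -, hf⟩ := S16117.result K X Y (w.left.appTop a) (ha.map w.left.appTop.hom)
  let c := η[T].left.appTop a
  have hone : ∀ Z : Over (Spec (CommRingCat.of K)), (1 : Z ⟶ T).left.appTop a = (toUnit Z).left.appTop c := by
    intro Z
    rw [Hom.one_def, Over.comp_left, Scheme.Hom.comp_appTop, CommRingCat.comp_apply]
  have happ : ∀ {U V W : Over (Spec (CommRingCat.of K))} (α : U ⟶ V) (β : V ⟶ W) (z : Γ(W.left, ⊤)),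
      α.left.appTop (β.left.appTop z) = (α ≫ β).left.appTop z := by
    intro U V W α β z
    rw [Over.comp_left, Scheme.Hom.comp_appTop, CommRingCat.comp_apply]
  -- restriction to the axes
  let gx := x₀.left.appTop g
  let hy := y₀.left.appTop h
  have e₁ : g * (toUnit X).left.appTop hy = (toUnit X).left.appTop c := by
    rw [← hone X, ← h₁, ← happ, hf, map_mul]
    simp only [hy, happ, lift_fst, lift_snd, Over.id_left, Scheme.Hom.id_appTop]
    rfl
  have e₂ : (toUnit Y).left.appTop gx * h = (toUnit Y).left.appTop c := by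
    rw [← hone Y, ← h₂, ← happ, hf, map_mul]
    simp only [gx, happ, lift_fst, lift_snd, Over.id_left, Scheme.Hom.id_appTop]
    rfl
  have e₀ : gx * hy = c := by
    have h3 := congrArg x₀.left.appTop e₁
    simp only [gx, hy, map_mul, happ] at h3 ⊢
    rw [← Category.assoc, show x₀ ≫ toUnit X = 𝟙 _ from toUnit_unique _ _, Category.id_comp] at h3
    rw [h3, Over.id_left, Scheme.Hom.id_appTop]
    rfl
  have hc : IsUnit c := ha.map η[T].left.appTop.hom
  have hct : IsUnit ((toUnit (X ⊗ Y)).left.appTop c) := hc.map (toUnit (X ⊗ Y)).left.appTop.hom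
  rw [hone (X ⊗ Y), ← hct.mul_left_inj]
  have p₁ := congrArg (fst X Y).left.appTop e₁
  have p₂ := congrArg (snd X Y).left.appTop e₂
  simp only [gx, hy, map_mul, happ, comp_toUnit, comp_toUnit_assoc] at p₁ p₂
  calc w.left.appTop a * (toUnit (X ⊗ Y)).left.appTop c
      = (fst X Y).left.appTop g * (snd X Y).left.appTop h *
        ((toUnit (X ⊗ Y)).left.appTop gx * (toUnit (X ⊗ Y)).left.appTop hy) := by rw [hf, ← map_mul _ gx hy, e₀]
    _ = ((fst X Y).left.appTop g * (toUnit (X ⊗ Y)).left.appTop hy) *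
        ((toUnit (X ⊗ Y)).left.appTop gx * (snd X Y).left.appTop h) := by ring
    _ = _ := by simp only [gx, hy, happ]; rw [p₁, p₂]

/-- **A morphism from a product into a torus, trivial on both axes, is trivial** (any field). -/
theorem eq_one_of_axes {k : Type u} [Field k] {X Y T : Over (Spec (CommRingCat.of k))} [GrpObj T]
    [LocallyOfFiniteType X.hom] [QuasiCompact X.hom] [IsSeparated X.hom] [GeometricallyIntegral X.hom]
    [LocallyOfFiniteType Y.hom] [QuasiCompact Y.hom] [IsSeparated Y.hom] [GeometricallyIntegral Y.hom]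
    (hT : Red.IsTorus T) (x₀ : 𝟙_ _ ⟶ X) (y₀ : 𝟙_ _ ⟶ Y) (w : X ⊗ Y ⟶ T)
    (h₁ : lift (𝟙 X) (toUnit X ≫ y₀) ≫ w = 1) (h₂ : lift (toUnit Y ≫ x₀) (𝟙 Y) ≫ w = 1) : w = 1 := by
  let L := AlgebraicClosure k
  let p := specMap k L
  let F := Over.pullback p
  let m := Functor.Monoidal.μIso F X Y
  haveI : Flat p := inferInstance
  haveI : Surjective p := ⟨fun _ => ⟨IsLocalRing.closedPoint _, Subsingleton.elim (α := PrimeSpectrum k) _ _⟩⟩
  haveI : QuasiCompact p := inferInstance
  haveI : GeometricallyIntegral (F.obj X).hom := inferInstanceAs (GeometricallyIntegral (pullback.snd X.hom p))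
  haveI : GeometricallyIntegral (F.obj Y).hom := inferInstanceAs (GeometricallyIntegral (pullback.snd Y.hom p))
  haveI : IsIntegral (F.obj X).left := GeometricallyIntegral.isIntegral_of_subsingleton (F.obj X).hom
  haveI : IsIntegral (F.obj Y).left := GeometricallyIntegral.isIntegral_of_subsingleton (F.obj Y).hom
  haveI : IsSeparated (F.obj X).hom := inferInstanceAs (IsSeparated (pullback.snd X.hom p))
  haveI : IsSeparated (F.obj Y).hom := inferInstanceAs (IsSeparated (pullback.snd Y.hom p))
  haveI : LocallyOfFiniteType (F.obj X).hom := inferInstanceAs (LocallyOfFiniteType (pullback.snd X.hom p))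
  haveI : LocallyOfFiniteType (F.obj Y).hom := inferInstanceAs (LocallyOfFiniteType (pullback.snd Y.hom p))
  haveI : QuasiCompact (F.obj X).hom := inferInstanceAs (QuasiCompact (pullback.snd X.hom p))
  haveI : QuasiCompact (F.obj Y).hom := inferInstanceAs (QuasiCompact (pullback.snd Y.hom p))
  let o := Functor.LaxMonoidal.ε F
  have hlift : ∀ {Z : Over (Spec (CommRingCat.of k))} (a : Z ⟶ X) (b : Z ⟶ Y),
      lift (F.map a) (F.map b) ≫ m.hom = F.map (lift a b) := by
    intro Z a b
    rw [← Iso.eq_comp_inv]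
    apply CartesianMonoidalCategory.hom_ext <;>
      simp [m, ← Functor.map_comp, Functor.Monoidal.μIso]
  have htu : ∀ Z : Over (Spec (CommRingCat.of k)), toUnit (F.obj Z) ≫ o = F.map (toUnit Z) := by
    intro Z
    haveI : IsIso o := inferInstance
    rw [← cancel_mono (inv o)]
    exact toUnit_unique _ _
  have h0 : m.hom ≫ F.map w = 1 := by
    refine eq_one_of_axes_algClosed (Chev.isTorus_bc (L := L) hT p) (o ≫ F.map x₀) (o ≫ F.map y₀) _ ?_ ?_
    · rw [← Category.assoc, ← F.map_id X, ← Category.assoc (toUnit _), htu, ← F.map_comp, hlift, ← F.map_comp, h₁,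
        Functor.map_one]
    · rw [← Category.assoc, ← F.map_id Y, ← Category.assoc (toUnit _), htu, ← F.map_comp, hlift, ← F.map_comp, h₂,
        Functor.map_one]
  have h1 : F.map w = F.map (1 : X ⊗ Y ⟶ T) := by
    rw [Functor.map_one, ← cancel_epi m.hom, h0, MonObj.comp_one]
  haveI : QuasiCompact (pullback.fst (X ⊗ Y).hom p) := inferInstance
  haveI : Surjective (pullback.fst (X ⊗ Y).hom p) := MorphismProperty.pullback_fst _ _ ‹_›
  apply Over.OverMorphism.ext
  rw [← cancel_epi (pullback.fst (X ⊗ Y).hom p)]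
  have h2 := congrArg (fun v => v.left ≫ pullback.fst T.hom p) h1
  simp only [F, Over.pullback_map_left, pullback.lift_fst] at h2
  exact h2

end Groth.Agent.Chev
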